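import Cfsg.Agent.BG.AppC2

/-! Bender–Glauberman, Appendix C (the statement of S1472). -/

set_option autoImplicit false
set_option linter.unusedVariables false

namespace Cfsg.Agent.BG

open Subgroup Cfsg.Agent.GT

theorem prime_dim_normed_finField {G : Type*} [Group G] [Finite G] (p q : ℕ) [Fact p.Prime]
    [Fact q.Prime] (hA : Nat.Coprime ((p ^ q - 1) / (p - 1)) (p - 1)) (F : Type*) [Field F]
    [Fintype F] (hF : Fintype.card F = p ^ q) (P U Q : Subgroup G) (f ψ : G → F)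
    (hf : Set.BijOn f (P : Set G) Set.univ) (hfadd : ∀ x ∈ P, ∀ z ∈ P, f (x * z) = f x + f z)
    (hUP : U ≤ N[P]) (hψ : ∀ u ∈ U, ψ u ≠ 0 ∧ ∀ x ∈ P, f (u * x * u⁻¹) = ψ u * f x)
    (hψmul : ∀ u ∈ U, ∀ v ∈ U, ψ (u * v) = ψ u * ψ v) (hψinj : Set.InjOn ψ (U : Set G))
    (hUcard : Nat.card U * (p - 1) = p ^ q - 1) (hQ : IsMulCommutative Q)
    (hQp : (Nat.card Q).Coprime p) (hP0Q : ∀ x ∈ P, f x ^ p = f x → x ∈ N[Q]) (y : G) (hy : y ∈ Q)
    (hP0U : ∀ x ∈ P, f x ^ p = f x → y * x * y⁻¹ ∈ N[U]) : p ≤ q := by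
  have hp : p.Prime := Fact.out
  have hq : q.Prime := Fact.out
  have : CharP F p := charP_of_card_eq_prime_pow hF
  by_contra hlt
  have hp2 : p ≠ 2 := by have := hq.two_le; omega
  have hq2 : q ≠ 2 := by
    rintro rfl
    obtain ⟨k, hk⟩ := hp.odd_of_ne_two hp2
    rw [appC_geom p 2 hp.two_le, Finset.sum_range_succ, Finset.sum_range_one] at hA
    have := Nat.eq_one_of_dvd_coprimes hA (k := 2) ⟨k + 1, by simp [hk]; ring⟩ ⟨k, by simp [hk]⟩
    omega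
  have hU : Nat.card U = (p ^ q - 1) / (p - 1) :=
    Nat.eq_div_of_mul_eq_left (by have := hp.two_le; omega) hUcard
  have h : AppCHyp p q P U Q f ψ y :=
    ⟨hq.ne_zero, hp2, hA, hF, hf, hfadd, hUP, hψ, hψmul, hψinj, hU, by
      rintro rfl
      obtain ⟨m, rfl⟩ : ∃ m, q = m + 2 := ⟨q - 2, by have := hq.two_le; omega⟩
      rw [appC_geom p _ hp.two_le, Finset.sum_range_succ', Finset.sum_range_succ, card_bot,
        pow_zero] at hU
      have := pow_pos hp.pos (m + 1)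
      omega, hQ, hQp, hP0Q, hy, hP0U⟩
  obtain ⟨a, h1, h2, h3⟩ := appC2 p q hp2 hq2 hF
  refine hlt (appC1 p q hq.ne_zero (fun c hc hc' => ?_) a h1 h2 h3)
  obtain ⟨u, hu, rfl⟩ := h.ψ_surj hc
  obtain ⟨v, hv, e⟩ := h.ψ_surj hc'
  obtain ⟨w, hw, e'⟩ := h.inv_closed hu hv (by rw [e]; ring)
  rw [← h.ψ_inv hu, ← e', add_sub_cancel_left]
  exact h.ψ_pow_n hw

end Cfsg.Agent.BG
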