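import Mathlib

/-! Bender–Glauberman, Appendix C: the finite field lemmas C.1 and C.2. -/

set_option autoImplicit false

namespace Cfsg.Agent.BG

open Finset Polynomial

theorem appC_geom (p q : ℕ) (hp : 2 ≤ p) : (p ^ q - 1) / (p - 1) = ∑ i ∈ range q, p ^ i :=
  (Nat.geomSum_eq hp q).symm

theorem appC_mul (p q : ℕ) (hp : 2 ≤ p) : (p ^ q - 1) / (p - 1) * (p - 1) = p ^ q - 1 := by
  rw [appC_geom p q hp]
  have := Nat.geomSum_eq hp q
  rw [this]
  exact Nat.div_mul_cancel (by simpa using Nat.sub_dvd_pow_sub_pow p 1 q)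

/-- Lemma C.1 -/
theorem appC1 {F : Type*} [Field F] (p q : ℕ) [Fact p.Prime] [CharP F p] (hq : q ≠ 0)
    (hinv : ∀ a : F, a ^ ((p ^ q - 1) / (p - 1)) = 1 → (2 - a) ^ ((p ^ q - 1) / (p - 1)) = 1 →
      (2 - a⁻¹) ^ ((p ^ q - 1) / (p - 1)) = 1)
    (a : F) (h1 : a ≠ 1) (ha : a ^ ((p ^ q - 1) / (p - 1)) = 1)
    (hb : (2 - a) ^ ((p ^ q - 1) / (p - 1)) = 1) : p ≤ q := by
  have hp : p.Prime := Fact.out
  set n := (p ^ q - 1) / (p - 1) with hn
  have hn' : n = ∑ i ∈ range q, p ^ i := appC_geom p q hp.two_le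
  have hn0 : n ≠ 0 := by
    rw [hn']
    exact (sum_pos (fun i _ => pow_pos hp.pos i) (by simpa using hq)).ne'
  have key : ∀ k : ℕ, ((1 - a) * (k - 1) + 1) ^ n = 1 ∧ ((1 - a) * k + 1) ^ n = 1 ∧
      ((1 - a) * (k + 1) + 1) ^ n = 1 := by
    intro k
    induction k with
    | zero => exact ⟨by simpa using ha, by simp, by refine Eq.trans ?_ hb; congr 1; push_cast; ring⟩
    | succ k ih =>
      obtain ⟨h1, h2, h3⟩ := ih
      refine ⟨by simpa using h2, by simpa using h3, ?_⟩
      have n2 : (1 - a) * k + 1 ≠ 0 := fun h => by simp [h, hn0] at h2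
      have n3 : (1 - a) * (k + 1) + 1 ≠ 0 := fun h => by simp [h, hn0] at h3
      have := hinv (((1 - a) * (k + 1) + 1) / ((1 - a) * k + 1)) (by rw [div_pow, h2, h3, div_one])
        (by
          rw [show 2 - ((1 - a) * (k + 1) + 1) / ((1 - a) * k + 1) =
            ((1 - a) * (k - 1) + 1) / ((1 - a) * k + 1) by field_simp; ring, div_pow, h1, h2, div_one])
      rw [show 2 - (((1 - a) * (k + 1) + 1) / ((1 - a) * k + 1))⁻¹ =
        ((1 - a) * (k + 1 + 1) + 1) / ((1 - a) * (k + 1) + 1) by field_simp; ring, div_pow, h3,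
        div_one] at this
      simpa using this
  let g : F[X] := ∏ i ∈ range q, (C ((1 - a) ^ p ^ i) * X + C 1)
  have hc : ∀ i, (1 - a) ^ p ^ i ≠ 0 := fun i => pow_ne_zero _ (sub_ne_zero.mpr h1.symm)
  have hg : g.natDegree = q := by
    rw [natDegree_prod]
    · rw [sum_congr rfl fun i _ => natDegree_linear (hc i)]; simp
    · intro i _ h
      have := natDegree_linear (b := 1) (hc i)
      rw [h] at this; simp at this
  have hg1 : (g - C 1).natDegree = q := by rw [natDegree_sub_C, hg]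
  have hg0 : g - C 1 ≠ 0 := fun h => by rw [h] at hg1; exact hq hg1.symm
  classical
  have := card_le_degree_of_subset_roots (p := g - C 1) (Z := (range p).image (Nat.cast : ℕ → F)) (by
    intro x hx
    obtain ⟨k, -, rfl⟩ := mem_image.mp (mem_val.mp hx)
    rw [mem_roots hg0, IsRoot, eval_sub, eval_C, eval_prod, sub_eq_zero]
    refine Eq.trans ?_ (key k).2.1
    rw [hn', ← prod_pow_eq_pow_sum]
    refine prod_congr rfl fun i _ => ?_
    rw [add_pow_char_pow, mul_pow, one_pow, ← iterateFrobenius_def (R := F) p i k, map_natCast]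
    simp)
  rwa [card_image_of_injOn (by simpa using CharP.natCast_injOn_Iio F p), card_range, hg1] at this

/-- Lemma C.2, Fourier part -/
theorem appC2_fourier {F : Type*} [Field F] [Fintype F] (h2 : (2 : F) ≠ 0) {n : ℕ} (hn : n ≠ 0)
    (U : Finset F) (hU : ∀ a, a ∈ U ↔ a ^ n = 1) (hE : ∀ a ∈ U, 2 - a ∈ U → a = 1) :
    ((U.card : ℝ) ^ 2 - Fintype.card F) ≤ Fintype.card F * √(Fintype.card F) := by
  classical
  let ψ := AddChar.FiniteField.primitiveChar_to_Complex F
  have hψ : ψ.IsPrimitive := AddChar.FiniteField.primitiveChar_to_Complex_isPrimitive F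
  let S : F → ℂ := fun t => ∑ u ∈ U, ψ (t * u)
  have h0 : ∀ u ∈ U, u ≠ 0 := fun u hu h => by simpa [h, hn] using (hU u).mp hu
  have hmul : ∀ u ∈ U, ∀ v ∈ U, u * v ∈ U := fun u hu v hv => by
    rw [hU] at *; rw [mul_pow, hu, hv, one_mul]
  have hinv : ∀ u ∈ U, u⁻¹ ∈ U := fun u hu => by rw [hU] at *; rw [inv_pow, hu, inv_one]
  have h1 : (1 : F) ∈ U := by simp [hU]
  have k1 : ∀ t, ∀ v ∈ U, S (t * v) = S t := fun t v hv =>
    sum_nbij' (fun u => v * u) (fun u => v⁻¹ * u) (fun u hu => hmul _ hv _ hu)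
      (fun u hu => hmul _ (hinv _ hv) _ hu) (fun u _ => by simp [h0 v hv])
      (fun u _ => by simp [h0 v hv]) (fun u _ => by rw [mul_assoc])
  have k2 : ∑ t, ‖S t‖ ^ 2 = Fintype.card F * U.card := by
    have : ∑ t, S t * (starRingEnd ℂ) (S t) = Fintype.card F * U.card := by
      simp only [S, map_sum, sum_mul_sum, ← AddChar.map_neg_eq_conj, ← AddChar.map_add_eq_mul,
        ← mul_neg, ← mul_add]
      rw [sum_comm, sum_congr rfl fun u hu => sum_comm]
      simp only [AddChar.sum_mulShift _ hψ, add_neg_eq_zero]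
      rw [sum_congr rfl fun u hu => (show _ = (Fintype.card F : ℂ) by simp [hu])]
      simp [mul_comm]
    simp only [Complex.mul_conj, Complex.normSq_eq_norm_sq] at this
    exact_mod_cast this
  have hU0 : (0 : ℝ) < U.card := by exact_mod_cast card_pos.mpr ⟨1, h1⟩
  have k3 : ∀ t, t ≠ 0 → ‖S t‖ ≤ √(Fintype.card F) := fun t ht => by
    apply Real.le_sqrt_of_sq_le
    have : ∑ x ∈ U.image (t * ·), ‖S x‖ ^ 2 ≤ ∑ t, ‖S t‖ ^ 2 :=
      sum_le_sum_of_subset_of_nonneg (subset_univ _) fun _ _ _ => by positivity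
    rw [k2, sum_image fun x _ y _ h => mul_left_cancel₀ ht h,
      sum_congr rfl fun u hu => by rw [k1 t u hu], sum_const, nsmul_eq_mul, mul_comm] at this
    exact le_of_mul_le_mul_right this hU0
  have k4 : ∑ t, S t * S t * S (t * -2) = Fintype.card F * U.card := by
    simp only [S, sum_mul_sum, sum_mul, mul_sum, ← AddChar.map_add_eq_mul, mul_assoc, ← mul_add]
    rw [sum_comm, sum_congr rfl fun u hu => sum_comm,
      sum_congr rfl fun u hu => sum_congr rfl fun v hv => sum_comm]
    simp only [AddChar.sum_mulShift _ hψ]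
    rw [sum_congr rfl fun u hu => (show _ = (Fintype.card F : ℂ) from ?_)]
    · simp [mul_comm]
    · have hk : ∀ x ∈ U, ∀ y ∈ U, y + x + -2 * u = 0 → x = u := fun x hx y hy e => by
        have := hE (x * u⁻¹) (hmul _ hx _ (hinv _ hu)) (by
          rw [show 2 - x * u⁻¹ = y * u⁻¹ by
            have := h0 u hu
            field_simp; linear_combination -e]
          exact hmul _ hy _ (hinv _ hu))
        rwa [mul_inv_eq_one₀ (h0 u hu)] at this
      rw [sum_eq_single_of_mem u hu fun x hx hxu => sum_eq_zero fun y hy => by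
          rw [if_neg fun e => hxu (hk x hx y hy e), Nat.cast_zero],
        sum_eq_single_of_mem u hu fun y hy hyu => by
          rw [if_neg fun e => hyu (by linear_combination e), Nat.cast_zero],
        if_pos (by ring)]
  rw [← add_sum_erase _ _ (mem_univ 0)] at k4
  have k5 : ‖∑ t ∈ univ.erase 0, S t * S t * S (t * -2)‖ ≤
      Fintype.card F * U.card * √(Fintype.card F) := by
    refine (norm_sum_le _ _).trans ?_
    rw [← k2, sum_mul]
    refine (sum_le_sum fun t ht => ?_).trans
      (sum_le_sum_of_subset_of_nonneg (subset_univ (univ.erase 0)) fun _ _ _ => by positivity)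
    rw [norm_mul, norm_mul, ← sq]
    exact mul_le_mul_of_nonneg_left (k3 _ (mul_ne_zero (ne_of_mem_erase ht) (neg_ne_zero.mpr h2)))
      (by positivity)
  rw [← eq_sub_iff_add_eq'] at k4
  rw [k4] at k5
  simp only [S, zero_mul, AddChar.map_zero_eq_one, sum_const, nsmul_eq_mul, mul_one] at k5
  have k6 : (U.card : ℝ) * U.card * U.card - Fintype.card F * U.card ≤
      Fintype.card F * U.card * √(Fintype.card F) := by
    refine le_trans ?_ k5
    rw [norm_sub_rev]
    refine (le_abs_self _).trans_eq ?_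
    rw [← Real.norm_eq_abs, ← Complex.norm_real]; simp
  refine le_of_mul_le_mul_right ?_ hU0
  nlinarith

theorem appC_card {F : Type*} [Field F] [Fintype F] [DecidableEq F] {n : ℕ}
    (hn : n ∣ Fintype.card F - 1) : (univ.filter fun a : F => a ^ n = 1).card = n := by
  have hn0 : n ≠ 0 := by
    rintro rfl
    have := Fintype.one_lt_card (α := F)
    simp at hn; omega
  have h1 : n ∣ Nat.card Fˣ := by rwa [Nat.card_units, Nat.card_eq_fintype_card]
  have h2 := IsCyclic.card_powMonoidHom_ker Fˣ n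
  rw [Nat.gcd_eq_right h1] at h2
  refine Eq.trans ?_ h2
  rw [← Nat.card_eq_finsetCard]
  refine (Nat.card_congr (Equiv.ofBijective (fun u => ⟨(u.1 : F), by
    simpa [Units.ext_iff] using MonoidHom.mem_ker.mp u.2⟩) ⟨fun u v h => ?_, ?_⟩)).symm
  · exact Subtype.ext (Units.ext (congrArg Subtype.val h))
  · rintro ⟨a, ha⟩
    have ha : a ^ n = 1 := by simpa using ha
    exact ⟨⟨Units.mk0 a fun h => by simp [h, hn0] at ha, by simpa [Units.ext_iff] using ha⟩, rfl⟩

/-- Lemma C.2, cubic case -/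
theorem appC2_three {F : Type*} [Field F] [Fintype F] (p : ℕ) [Fact p.Prime] [CharP F p]
    (hF : Fintype.card F = p ^ 3) :
    ∃ a : F, a ≠ 1 ∧ a ^ (1 + p + p ^ 2) = 1 ∧ (2 - a) ^ (1 + p + p ^ 2) = 1 := by
  have hp : p.Prime := Fact.out
  obtain ⟨c, hc⟩ : ∃ c : ZMod p, ∀ d : ZMod p, d * (d - 2) * (d - c) + (d - 1) ≠ 0 := by
    by_contra hcon
    push Not at hcon
    choose d hd using hcon
    have : Function.Injective d := fun c c' e => by
      have h1 := hd c
      have h3 := hd c'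
      rw [← e] at h3
      have h4 : d c * (d c - 2) ≠ 0 := fun h => by
        rw [h, zero_mul, zero_add, sub_eq_zero] at h1
        rw [h1] at h; norm_num at h
      exact mul_left_cancel₀ h4 (by linear_combination h3 - h1)
    obtain ⟨c, hc⟩ := Finite.injective_iff_surjective.mp this 0
    have := hd c
    simp [hc] at this
  let _ : Algebra (ZMod p) F := ZMod.algebra F p
  let g : (ZMod p)[X] := X * (X - C 2) * (X - C c) + (X - 1)
  have hd : g.natDegree = 3 := by
    simp only [g]; compute_degree!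
  have hirr : Irreducible g := by
    refine irreducible_of_degree_le_three_of_not_isRoot (by simp [hd]) fun d => ?_
    simpa [g] using hc d
  have : Fact (Irreducible g) := ⟨hirr⟩
  have : Finite (AdjoinRoot g) := by
    have := (AdjoinRoot.powerBasis hirr.ne_zero).finite
    exact Module.finite_of_finite (ZMod p)
  obtain ⟨φ⟩ : Nonempty (AdjoinRoot g →ₐ[ZMod p] F) := by
    rw [FiniteField.nonempty_algHom_iff_finrank_dvd, (AdjoinRoot.powerBasis hirr.ne_zero).finrank,
      AdjoinRoot.powerBasis_dim, hd]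
    have := Module.card_eq_pow_finrank (K := ZMod p) (V := F)
    rw [hF, ZMod.card] at this
    rw [← Nat.pow_right_injective hp.two_le this]
  let a := φ (AdjoinRoot.root g)
  let c' := algebraMap (ZMod p) F c
  have ha : a * (a - 2) * (a - c') + (a - 1) = 0 := by
    have : aeval a g = 0 := by
      rw [aeval_algHom_apply, AdjoinRoot.aeval_eq, AdjoinRoot.mk_self, map_zero]
    simpa [g, map_ofNat] using this
  have hfr : ∀ x : F, x * (x - 2) * (x - c') + (x - 1) = 0 →
      x ^ p * (x ^ p - 2) * (x ^ p - c') + (x ^ p - 1) = 0 := fun x hx => by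
    have := congrArg (frobenius F p) hx
    simp only [map_add, map_mul, map_sub, map_one, map_zero, map_ofNat] at this
    simpa only [frobenius_def, c', ← map_pow, ZMod.pow_card] using this
  have hne : a ^ p ≠ a := fun h => by
    obtain ⟨d, hd⟩ : ∃ d : ZMod p, algebraMap (ZMod p) F d = a := by
      have := (Subfield.mem_bot_iff_pow_eq_self F p).mpr h
      rwa [Subfield.bot_eq_of_zMod_algebra p] at this
    apply hc d
    apply (algebraMap (ZMod p) F).injective
    simpa [hd, map_ofNat] using ha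
  have h3 : ((a ^ p) ^ p) ^ p = a := by
    rw [← pow_mul, ← pow_mul, show p * (p * p) = p ^ 3 by ring, ← hF, FiniteField.pow_card]
  have hne2 : (a ^ p) ^ p ≠ a ^ p := fun h => hne (by rw [← h3, h, h] at hne; simp [h] at hne)
  have hne3 : (a ^ p) ^ p ≠ a := fun h => hne (by rw [h] at h3; exact h3)
  have hb := hfr _ ha
  have hd := hfr _ hb
  have e1 : ∀ x : F, x ^ (1 + p + p ^ 2) = x * x ^ p * (x ^ p) ^ p := fun x => by ring
  have e2 : (2 - a) ^ p = 2 - a ^ p := by
    simpa [frobenius_def, map_ofNat] using map_sub (frobenius F p) 2 a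
  have e3 : (2 - a ^ p) ^ p = 2 - (a ^ p) ^ p := by
    simpa [frobenius_def, map_ofNat] using map_sub (frobenius F p) 2 (a ^ p)
  refine ⟨a, fun h => hne (by simp [h]), ?_⟩
  rw [e1, e1, e2, e3]
  generalize (a ^ p) ^ p = d at *
  generalize a ^ p = b at *
  generalize a = a at *
  have s1 : a ^ 2 + a * b + b ^ 2 - (2 + c') * (a + b) + (2 * c' + 1) = 0 :=
    mul_left_cancel₀ (sub_ne_zero.mpr hne) (by linear_combination hb - ha)
  have s2 : a ^ 2 + a * d + d ^ 2 - (2 + c') * (a + d) + (2 * c' + 1) = 0 :=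
    mul_left_cancel₀ (sub_ne_zero.mpr hne3) (by linear_combination hd - ha)
  have s3 : a + b + d - (2 + c') = 0 :=
    mul_left_cancel₀ (sub_ne_zero.mpr hne2) (by linear_combination s2 - s1)
  constructor
  · linear_combination ha - a * s1 + a * b * s3
  · linear_combination -ha + (a - 2) * s1 + (2 - a) * (b - 2) * s3

/-- Lemma C.2 -/
theorem appC2 {F : Type*} [Field F] [Fintype F] (p q : ℕ) [Fact p.Prime] [Fact q.Prime]
    (hp2 : p ≠ 2) (hq2 : q ≠ 2) (hF : Fintype.card F = p ^ q) :
    ∃ a : F, a ≠ 1 ∧ a ^ ((p ^ q - 1) / (p - 1)) = 1 ∧ (2 - a) ^ ((p ^ q - 1) / (p - 1)) = 1 := by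
  have hp : p.Prime := Fact.out
  have hq : q.Prime := Fact.out
  have : CharP F p := charP_of_card_eq_prime_pow hF
  by_cases h3 : q = 3
  · subst h3
    have := appC2_three p hF
    rwa [appC_geom p 3 hp.two_le, sum_range_succ, sum_range_succ, sum_range_one, pow_zero, pow_one]
  classical
  by_contra hcon
  push Not at hcon
  obtain ⟨m, rfl⟩ : ∃ m, q = m + 5 := ⟨q - 5, by have := hq.five_le_of_ne_two_of_ne_three hq2 h3; omega⟩
  have hp3 : 3 ≤ p := by have := hp.two_le; omega
  have hn := appC_geom p (m + 5) hp.two_le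
  have hge : p ^ (m + 4) ≤ (p ^ (m + 5) - 1) / (p - 1) := by
    rw [hn, sum_range_succ]; omega
  have hdvd : (p ^ (m + 5) - 1) / (p - 1) ∣ Fintype.card F - 1 :=
    ⟨p - 1, by rw [appC_mul p _ hp.two_le, hF]⟩
  generalize (p ^ (m + 5) - 1) / (p - 1) = n at *
  have hpos : 0 < p ^ (m + 4) := pow_pos hp.pos _
  have h2 : (2 : F) ≠ 0 := fun h => hp2 ((Nat.prime_dvd_prime_iff_eq hp Nat.prime_two).mp
    ((CharP.cast_eq_zero_iff F p 2).mp (by exact_mod_cast h)))
  have := appC2_fourier h2 (n := n) (by omega) (univ.filter fun a : F => a ^ n = 1) (by simp)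
    fun a ha hb => by
      by_contra h
      exact hcon a h (by simpa using ha) (by simpa using hb)
  rw [appC_card hdvd, hF] at this
  have k1 : ((p : ℝ) ^ (m + 4)) ^ 2 ≤ n ^ 2 := by
    gcongr; exact_mod_cast hge
  have hp' : (3 : ℝ) ≤ p := by exact_mod_cast hp3
  have k2 : (p : ℝ) ^ (m + 3) - 1 ≤ √((p : ℝ) ^ (m + 5)) := by
    refine le_of_mul_le_mul_left (a := (p : ℝ) ^ (m + 5)) ?_ (by positivity)
    push_cast at this
    refine le_trans (le_of_eq ?_) ((sub_le_sub_right k1 _).trans this)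
    ring
  have hm : (1 : ℝ) ≤ p ^ m := one_le_pow₀ (by linarith)
  have k3 := (Real.le_sqrt (by
    have : (1 : ℝ) ≤ p ^ (m + 3) := one_le_pow₀ (by linarith)
    linarith) (by positivity)).mp k2
  rw [pow_add, pow_add] at k3
  generalize (p : ℝ) ^ m = M at *
  generalize (p : ℝ) = P at *
  have k4 : 3 ≤ M * P := by nlinarith
  have k5 : 0 < M * P ^ 3 := by positivity
  have k6 : 9 ≤ P ^ 2 := by nlinarith
  have k7 : M * P ^ 3 * (3 * P ^ 2) ≤ M * P ^ 3 * (M * P * P ^ 2) := by gcongr
  nlinarith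

theorem appC_norm_iff (p q : ℕ) [Fact p.Prime] (hq : q ≠ 0) (a : GaloisField p q) :
    Algebra.norm (ZMod p) a = 1 ↔ a ^ ((p ^ q - 1) / (p - 1)) = 1 := by
  have := FiniteField.algebraMap_norm_eq_pow (K := ZMod p) (x := a)
  rw [GaloisField.card p q hq, Nat.card_zmod] at this
  rw [← this, ← (algebraMap (ZMod p) (GaloisField p q)).injective.eq_iff, map_one]

end Cfsg.Agent.BG
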