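import Cfsg.Agent.GT.Rel
import Cfsg.Agent.BG.AppC1

/-! Bender–Glauberman, Appendix C: Lemma C.3. -/

set_option autoImplicit false

namespace Cfsg.Agent.BG

open Subgroup Cfsg.Agent.GT

theorem appC_periodic {A : Type*} [AddCommGroup A] (Y : ℕ → A) (p i j : ℕ)
    (hY : ∀ k, Y (k + p) = Y k)
    (h : ∀ k, Y (k + i) - Y (k + i + 2) + Y (k + i + j + 2) - Y (k + i + j + 1) + Y (k + 1) - Y k = 0) :
    p • (Y (i + j + 1) - Y (i + 1) - (Y i - Y 0)) = 0 := by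
  have k1 : ∀ c, ∑ k ∈ Finset.range p, Y (k + c) = ∑ k ∈ Finset.range p, Y k := by
    intro c
    induction c with
    | zero => rfl
    | succ c ih =>
      have e1 := Finset.sum_range_succ (fun k => Y (k + c)) p
      have e2 := Finset.sum_range_succ' (fun k => Y (k + c)) p
      rw [e1, add_comm p, hY, zero_add, add_left_inj, ih] at e2
      rw [e2]
      exact Finset.sum_congr rfl fun k _ => by rw [add_right_comm, add_assoc]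
  have k2 : ∀ k, Y (k + (i + j + 1)) - Y (k + (i + 1)) - (Y (k + i) - Y k) =
      Y (i + j + 1) - Y (i + 1) - (Y i - Y 0) := by
    intro k
    induction k with
    | zero => simp
    | succ k ih =>
      rw [← ih]
      have := h k
      simp only [show ∀ a, k + 1 + a = k + a + 1 from fun a => by ring, ← add_assoc] at this ⊢
      linear_combination (norm := abel) this
  have := Finset.sum_congr rfl fun k (_ : k ∈ Finset.range p) => k2 k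
  simp only [Finset.sum_sub_distrib, k1, Finset.sum_const, Finset.card_range] at this
  simp only [smul_sub, ← this, sub_self]

/-- the hypotheses of Appendix C -/
structure AppCHyp {G : Type*} [Group G] {F : Type*} [Field F] [Fintype F] (p q : ℕ)
    (P U Q : Subgroup G) (f ψ : G → F) (y : G) : Prop where
  hq : q ≠ 0
  hp2 : p ≠ 2
  hA : Nat.Coprime ((p ^ q - 1) / (p - 1)) (p - 1)
  hF : Fintype.card F = p ^ q
  hf : Set.BijOn f (P : Set G) Set.univ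
  hfadd : ∀ x ∈ P, ∀ z ∈ P, f (x * z) = f x + f z
  hUP : U ≤ N[P]
  hψ : ∀ u ∈ U, ψ u ≠ 0 ∧ ∀ x ∈ P, f (u * x * u⁻¹) = ψ u * f x
  hψmul : ∀ u ∈ U, ∀ v ∈ U, ψ (u * v) = ψ u * ψ v
  hψinj : Set.InjOn ψ (U : Set G)
  hUcard : Nat.card U = (p ^ q - 1) / (p - 1)
  hUne : U ≠ ⊥
  hQ : IsMulCommutative Q
  hQp : (Nat.card Q).Coprime p
  hP0Q : ∀ x ∈ P, f x ^ p = f x → x ∈ N[Q]
  hy : y ∈ Q
  hP0U : ∀ x ∈ P, f x ^ p = f x → y * x * y⁻¹ ∈ N[U]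

namespace AppCHyp

variable {G : Type*} [Group G] [Finite G] {F : Type*} [Field F] [Fintype F] {p q : ℕ}
  [hp : Fact p.Prime] [CharP F p] {P U Q : Subgroup G} {f ψ : G → F} {y : G}
  (h : AppCHyp p q P U Q f ψ y)

set_option linter.unusedSectionVars false

include h

theorem f_one : f 1 = 0 := by simpa using h.hfadd 1 P.one_mem 1 P.one_mem

theorem f_inj {x z : G} (hx : x ∈ P) (hz : z ∈ P) (e : f x = f z) : x = z := h.hf.injOn hx hz e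

theorem f_eq_zero {x : G} (hx : x ∈ P) : f x = 0 ↔ x = 1 :=
  ⟨fun e => h.f_inj hx P.one_mem (e.trans h.f_one.symm), fun e => e ▸ h.f_one⟩

theorem f_inv {x : G} (hx : x ∈ P) : f x⁻¹ = -f x := by
  have := h.hfadd x hx _ (P.inv_mem hx)
  rw [mul_inv_cancel, h.f_one] at this
  linear_combination -this

theorem f_pow {x : G} (hx : x ∈ P) (k : ℕ) : f (x ^ k) = k * f x := by
  induction k with
  | zero => simp [h.f_one]
  | succ k ih => rw [pow_succ, h.hfadd _ (P.pow_mem hx k) _ hx, ih]; push_cast; ring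

theorem f_surj (c : F) : ∃ x ∈ P, f x = c := h.hf.surjOn (Set.mem_univ c)

theorem P_pow {x : G} (hx : x ∈ P) : x ^ p = 1 := by
  rw [← h.f_eq_zero (P.pow_mem hx p), h.f_pow hx]; simp

theorem PQ_triv {x : G} (hx : x ∈ Q) (hx' : x ^ p = 1) : x = 1 := by
  rw [← orderOf_eq_one_iff]
  exact Nat.eq_one_of_dvd_coprimes h.hQp (Q.orderOf_dvd_natCard hx) (orderOf_dvd_of_pow_eq_one hx')

theorem ψ_one : ψ 1 = 1 := by
  have := h.hψmul 1 U.one_mem 1 U.one_mem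
  rw [one_mul] at this
  exact (mul_eq_left₀ (h.hψ 1 U.one_mem).1).mp this.symm

theorem ψ_pow {u : G} (hu : u ∈ U) (k : ℕ) : ψ (u ^ k) = ψ u ^ k := by
  induction k with
  | zero => simp [h.ψ_one]
  | succ k ih => rw [pow_succ, h.hψmul _ (U.pow_mem hu k) _ hu, ih, pow_succ]

theorem ψ_inv {u : G} (hu : u ∈ U) : ψ u⁻¹ = (ψ u)⁻¹ := by
  have := h.hψmul u hu _ (U.inv_mem hu)
  rw [mul_inv_cancel, h.ψ_one] at this
  exact eq_inv_of_mul_eq_one_right this.symm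

theorem U_comm {u v : G} (hu : u ∈ U) (hv : v ∈ U) : Commute u v :=
  h.hψinj (U.mul_mem hu hv) (U.mul_mem hv hu) (by rw [h.hψmul _ hu _ hv, h.hψmul _ hv _ hu, mul_comm])

theorem Q_comm {u v : G} (hu : u ∈ Q) (hv : v ∈ Q) : u * v = v * u :=
  congrArg Subtype.val (h.hQ.is_comm.comm ⟨u, hu⟩ ⟨v, hv⟩)

theorem conj_mem {u x : G} (hu : u ∈ U) (hx : x ∈ P) : u * x * u⁻¹ ∈ P :=
  (mem_normalizer_iff.mp (h.hUP hu) x).mp hx

theorem PU_triv {x : G} (hx : x ∈ P) (hu : x ∈ U) : x = 1 := by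
  obtain ⟨s, hs, e⟩ := h.f_surj 1
  have := (h.hψ x hu).2 s hs
  rw [h.hfadd _ (P.mul_mem hx hs) _ (P.inv_mem hx), h.hfadd _ hx _ hs, h.f_inv hx, e] at this
  exact h.hψinj hu U.one_mem (by rw [h.ψ_one]; linear_combination -this)

theorem ψ_pow_n {u : G} (hu : u ∈ U) : ψ u ^ ((p ^ q - 1) / (p - 1)) = 1 := by
  rw [← h.ψ_pow hu, ← h.hUcard, ← h.ψ_one]
  exact congrArg (fun x : U => ψ x) (pow_card_eq_one' (x := (⟨u, hu⟩ : U)))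

theorem ψ_surj {c : F} (hc : c ^ ((p ^ q - 1) / (p - 1)) = 1) : ∃ u ∈ U, ψ u = c := by
  classical
  have hd : (p ^ q - 1) / (p - 1) ∣ Fintype.card F - 1 :=
    ⟨p - 1, by rw [appC_mul p _ hp.out.two_le, h.hF]⟩
  have := Set.eq_of_subset_of_ncard_le (s := ψ '' U)
    (t := ((Finset.univ.filter fun a : F => a ^ ((p ^ q - 1) / (p - 1)) = 1 : Finset F) : Set F))
    (by rintro _ ⟨u, hu, rfl⟩; simpa using h.ψ_pow_n hu)
    (by rw [Set.ncard_coe_finset, appC_card hd, h.hψinj.ncard_image, ← h.hUcard]; rfl)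
  have hc' : c ∈ ψ '' U := by rw [this]; simpa using hc
  exact hc'

theorem U_eq_one {u : G} (hu : u ∈ U) (e : u ^ p = u) : u = 1 := by
  rw [← orderOf_eq_one_iff]
  refine Nat.eq_one_of_dvd_coprimes h.hA (h.hUcard ▸ U.orderOf_dvd_natCard hu)
    (orderOf_dvd_of_pow_eq_one ?_)
  rw [← mul_left_inj u, ← pow_succ, Nat.sub_add_cancel hp.out.pos, e, one_mul]

theorem split_field {c : F} (hc : c ≠ 0) : ∃ u ∈ U, ∃ k : F, k ^ p = k ∧ c = ψ u * k := by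
  have e1 : c ^ (p ^ q - 1) = 1 := by rw [← h.hF]; exact FiniteField.pow_card_sub_one_eq_one c hc
  have e2 := appC_mul p q hp.out.two_le
  have hA := h.hA
  generalize hn : (p ^ q - 1) / (p - 1) = n at *
  obtain ⟨α, β, e⟩ := Nat.isCoprime_iff_coprime.mpr hA
  obtain ⟨u, hu, e3⟩ := h.ψ_surj (c := (c ^ (p - 1)) ^ β) (by
    rw [hn, ← zpow_natCast, ← zpow_mul, mul_comm, zpow_mul, zpow_natCast, ← pow_mul, mul_comm, e2, e1,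
      one_zpow])
  refine ⟨u, hu, (c ^ n) ^ α, ?_, ?_⟩
  · rw [← zpow_natCast, ← zpow_mul, mul_comm, zpow_mul, zpow_natCast]
    congr 1
    conv_lhs => rw [← Nat.sub_add_cancel hp.out.pos, pow_succ, ← pow_mul, e2, e1, one_mul]
  · rw [e3, ← zpow_natCast, ← zpow_natCast, ← zpow_mul, ← zpow_mul, ← zpow_add₀ hc, add_comm,
      mul_comm _ α, mul_comm _ β, e, zpow_one]

/-- the subgroup corresponding to the prime field -/
def P0 : Subgroup G where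
  carrier := {x | x ∈ P ∧ f x ^ p = f x}
  one_mem' := ⟨P.one_mem, by simp [h.f_one, hp.out.ne_zero]⟩
  mul_mem' := fun {x z} hx hz => ⟨P.mul_mem hx.1 hz.1, by
    rw [h.hfadd _ hx.1 _ hz.1, add_pow_char, hx.2, hz.2]⟩
  inv_mem' := fun {x} hx => ⟨P.inv_mem hx.1, by rw [h.f_inv hx.1, neg_pow, neg_one_pow_char, hx.2]; ring⟩

theorem exists_pow {s x : G} (hs : s ∈ P) (hs' : f s ≠ 0) (hs0 : s ∈ h.P0) (hx : x ∈ h.P0) :
    ∃ k : ℕ, x = s ^ k := by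
  have : (f x / f s) ^ p = f x / f s := by rw [div_pow, hx.2, hs0.2]
  rw [← Subfield.mem_bot_iff_pow_eq_self, ← ZMod.fieldRange_castHom_eq_bot p] at this
  obtain ⟨k, hk⟩ := this
  obtain ⟨k, rfl⟩ := ZMod.natCast_zmod_surjective k
  refine ⟨k, h.f_inj hx.1 (P.pow_mem hs k) ?_⟩
  rw [map_natCast] at hk
  rw [h.f_pow hs, hk, div_mul_cancel₀ _ hs']

theorem mem_H {x : G} (hx : x ∈ P ⊔ U) : ∃ z ∈ P, ∃ u ∈ U, x = z * u :=
  (sdprod_sup h.hUP (by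
    rw [eq_bot_iff]; exact fun x hx => h.PU_triv hx.1 hx.2)).exists_mul hx

theorem step1 {x : G} (hx : x ∈ P ⊔ U) : ∃ u ∈ U, ∃ s ∈ h.P0, ∃ v ∈ U, x = u * s * v := by
  obtain ⟨z, hz, w, hw, rfl⟩ := h.mem_H hx
  by_cases h0 : f z = 0
  · exact ⟨1, U.one_mem, 1, one_mem _, w, hw, by simp [(h.f_eq_zero hz).mp h0]⟩
  obtain ⟨u, hu, k, hk, e⟩ := h.split_field h0
  obtain ⟨s, hs, rfl⟩ := h.f_surj k
  refine ⟨u, hu, s, ⟨hs, hk⟩, u⁻¹ * w, U.mul_mem (U.inv_mem hu) hw, ?_⟩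
  rw [h.f_inj hz (h.conj_mem hu hs) (e.trans ((h.hψ u hu).2 s hs).symm)]; group

theorem nf {x₁ x₂ x₃ a u v : G} (h₁ : x₁ ∈ P) (h₂ : x₂ ∈ P) (h₃ : x₃ ∈ P) (ha : a ∈ U) (hu : u ∈ U)
    (hv : v ∈ U) : x₁ * a * x₂ = u * x₃ * v ↔ a = u * v ∧ f x₁ + ψ a * f x₂ = ψ u * f x₃ := by
  have m1 := h.conj_mem ha h₂
  have m2 := h.conj_mem hu h₃
  rw [← (h.hψ a ha).2 _ h₂, ← (h.hψ u hu).2 _ h₃, ← h.hfadd _ h₁ _ m1]
  constructor
  · intro e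
    have e1 : (u * x₃ * u⁻¹)⁻¹ * (x₁ * (a * x₂ * a⁻¹)) = u * v * a⁻¹ := by
      rw [show x₁ * (a * x₂ * a⁻¹) = x₁ * a * x₂ * a⁻¹ by group, e]; group
    have e2 := h.PU_triv (P.mul_mem (P.inv_mem m2) (P.mul_mem h₁ m1))
      (e1 ▸ U.mul_mem (U.mul_mem hu hv) (U.inv_mem ha))
    rw [e2, eq_comm, mul_inv_eq_one] at e1
    rw [inv_mul_eq_one] at e2
    exact ⟨e1.symm, by rw [e2]⟩
  · rintro ⟨e1, e2⟩
    have := h.f_inj (P.mul_mem h₁ m1) m2 e2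
    rw [show x₁ * a * x₂ = x₁ * (a * x₂ * a⁻¹) * a by group, this, e1]; group

theorem frob {x₁ x₂ x₃ a u v : G} (h₁ : x₁ ∈ h.P0) (h₂ : x₂ ∈ h.P0) (h₃ : x₃ ∈ h.P0) (ha : a ∈ U)
    (hu : u ∈ U) (hv : v ∈ U) (e : x₁ * a * x₂ = u * x₃ * v) :
    x₁ * a ^ p * x₂ = u ^ p * x₃ * v ^ p := by
  rw [h.nf h₁.1 h₂.1 h₃.1 ha hu hv] at e
  rw [h.nf h₁.1 h₂.1 h₃.1 (U.pow_mem ha p) (U.pow_mem hu p) (U.pow_mem hv p), h.ψ_pow ha, h.ψ_pow hu,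
    ← h₁.2, ← h₂.2, ← h₃.2, ← mul_pow, ← mul_pow, ← add_pow_char, e.2, e.1, (h.U_comm hu hv).mul_pow]
  exact ⟨rfl, rfl⟩

theorem step2 {x₁ x₂ u : G} (h₁ : x₁ ∈ h.P0) (h₂ : x₂ ∈ h.P0) (hu : u ∈ U) (e : x₁ * u * x₂ ∈ U) :
    (x₁ = 1 ∧ x₂ = 1) ∨ (u = 1 ∧ x₁ * x₂ = 1) := by
  have k := (h.nf h₁.1 h₂.1 P.one_mem hu e U.one_mem).mp (by simp)
  have k2 := k.2
  rw [h.f_one, mul_zero] at k2
  by_cases h0 : f x₂ = 0
  · rw [h0, mul_zero, add_zero] at k2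
    exact Or.inl ⟨(h.f_eq_zero h₁.1).mp k2, (h.f_eq_zero h₂.1).mp h0⟩
  have : u = 1 := h.U_eq_one hu (h.hψinj (U.pow_mem hu p) hu (by
    have k3 := congrArg (· ^ p) k2
    simp only [add_pow_char, mul_pow, h₁.2, h₂.2, zero_pow hp.out.ne_zero] at k3
    rw [h.ψ_pow hu]
    exact mul_right_cancel₀ h0 (by linear_combination k3 - k2)))
  subst this
  refine Or.inr ⟨rfl, h.PU_triv (P.mul_mem h₁.1 h₂.1) (by simpa using e)⟩

theorem conj_U {x u : G} (hx : x ∈ h.P0) (hu : u ∈ U) : (y * x * y⁻¹) * u * (y * x * y⁻¹)⁻¹ ∈ U :=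
  (mem_normalizer_iff.mp (h.hP0U x hx.1 hx.2) u).mp hu

theorem conj_Q {x z : G} (hx : x ∈ h.P0) (hz : z ∈ Q) : x * z * x⁻¹ ∈ Q :=
  (mem_normalizer_iff.mp (h.hP0Q x hx.1 hx.2) z).mp hz

theorem P_comm {x z : G} (hx : x ∈ P) (hz : z ∈ P) : x * z = z * x :=
  h.f_inj (P.mul_mem hx hz) (P.mul_mem hz hx) (by rw [h.hfadd _ hx _ hz, h.hfadd _ hz _ hx, add_comm])

theorem mem_P {x : G} (hx : x ∈ P ⊔ U) (e : x ^ p = 1) : x ∈ P := by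
  obtain ⟨z, hz, u, hu, rfl⟩ := h.mem_H hx
  have k : ∀ k : ℕ, (z * u) ^ k * (u ^ k)⁻¹ ∈ P := by
    intro k
    induction k with
    | zero => simp
    | succ k ih =>
      rw [show (z * u) ^ (k + 1) * (u ^ (k + 1))⁻¹ = z * (u * ((z * u) ^ k * (u ^ k)⁻¹) * u⁻¹) by
        rw [pow_succ', pow_succ' u]; group]
      exact P.mul_mem hz (h.conj_mem hu ih)
  have k1 := h.PU_triv (k p) (by rw [e, one_mul]; exact U.inv_mem (U.pow_mem hu p))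
  rw [e, one_mul, inv_eq_one] at k1
  have k2 : ψ u = 1 := by
    have := h.ψ_pow hu p
    rw [k1, h.ψ_one, eq_comm, ← sub_eq_zero, ← one_pow p, ← sub_pow_char] at this
    exact sub_eq_zero.mp (pow_eq_zero_iff hp.out.ne_zero |>.mp this)
  rw [h.hψinj hu U.one_mem (k2.trans h.ψ_one.symm), mul_one]
  exact hz

theorem step3 {s x : G} (hs : s ∈ h.P0) (hs1 : s ≠ 1) (hx : x ∈ P ⊔ U)
    (hx' : (y * s * y⁻¹) * x * (y * s * y⁻¹)⁻¹ ∈ P ⊔ U) : x ∈ U := by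
  set t := y * s * y⁻¹ with ht
  let X : Subgroup G := (P ⊔ U).comap (MulAut.conj t).toMonoidHom
  have hX : ∀ x, x ∈ X ↔ t * x * t⁻¹ ∈ P ⊔ U := fun x => Iff.rfl
  have hUX : U ≤ X := fun u hu => mem_sup_right (h.conj_U hs hu)
  obtain ⟨z, hz, u, hu, rfl⟩ := h.mem_H hx
  have hzX : z ∈ X := by simpa using X.mul_mem hx' (X.inv_mem (hUX hu))
  by_cases h0 : z = 1
  · simpa [h0] using hu
  exfalso
  have h0' : f z ≠ 0 := mt (h.f_eq_zero hz).mp h0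
  have hs0 : f s ≠ 0 := mt (h.f_eq_zero hs.1).mp hs1
  have hsX : s ∈ X := by
    obtain ⟨v, hv, k, hk, e⟩ := h.split_field (div_ne_zero hs0 h0')
    rw [← Subfield.mem_bot_iff_pow_eq_self, ← ZMod.fieldRange_castHom_eq_bot p] at hk
    obtain ⟨k, rfl⟩ := hk
    obtain ⟨k, rfl⟩ := ZMod.natCast_zmod_surjective k
    rw [map_natCast] at e
    rw [h.f_inj hs.1 (h.conj_mem hv (P.pow_mem hz k)) (by
      rw [(h.hψ v hv).2 _ (P.pow_mem hz k), h.f_pow hz, ← mul_assoc, ← e, div_mul_cancel₀ _ h0'])]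
    exact X.mul_mem (X.mul_mem (hUX hv) (X.pow_mem hzX k)) (X.inv_mem (hUX hv))
  have k1 : t * s * t⁻¹ ∈ P := h.mem_P hsX (by rw [conj_pow, h.P_pow hs.1]; simp)
  have hq : t * s⁻¹ ∈ Q := by
    rw [show t * s⁻¹ = y * (s * y⁻¹ * s⁻¹) by rw [ht]; group]
    exact Q.mul_mem h.hy (h.conj_Q hs (Q.inv_mem h.hy))
  have k2 : t * s * t⁻¹ * s⁻¹ = 1 := h.PQ_triv (by
    rw [show t * s * t⁻¹ * s⁻¹ = (t * s⁻¹) * (s * (s * (s⁻¹ * (t * s⁻¹)⁻¹ * s⁻¹⁻¹) * s⁻¹) * s⁻¹) by group]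
    exact Q.mul_mem hq (h.conj_Q hs (h.conj_Q hs (h.conj_Q (inv_mem hs) (Q.inv_mem hq)))))
    (h.P_pow (P.mul_mem k1 (P.inv_mem hs.1)))
  have k3 : Commute t s := by
    rw [mul_inv_eq_one, mul_inv_eq_iff_eq_mul] at k2; exact k2
  have k4 : t * s⁻¹ = 1 := h.PQ_triv hq (by
    rw [k3.inv_right.mul_pow, inv_pow, h.P_pow hs.1, ht, conj_pow, h.P_pow hs.1]; simp)
  rw [mul_inv_eq_one] at k4
  obtain ⟨⟨v, hv⟩, hv1⟩ := ne_bot_iff_exists_ne_one.mp h.hUne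
  have := h.conj_U hs hv
  rw [← ht, k4] at this
  rcases h.step2 hs (inv_mem hs) hv this with e | e
  · exact hs1 e.1
  · exact hv1 (Subtype.ext e.1)

theorem conj_eq_one {s w : G} (hs : s ∈ h.P0) (hs1 : s ≠ 1) (hw : w ∈ U)
    (e : s * w * s⁻¹ ∈ U) : w = 1 := by
  rcases h.step2 hs (inv_mem hs) hw e with e | e
  · exact absurd e.1 hs1
  · exact e.1

theorem rel {s a b : G} (hs : s ∈ h.P0) (hs1 : f s = 1) (ha : a ∈ U) (hb : b ∈ U)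
    (e : ψ a + ψ b = 2) (t : G) (ht : t = y * s * y⁻¹) :
    t ^ 2 * ((s ^ 3)⁻¹ * (t * b * t⁻¹) * s ^ 2) * t⁻¹ *
      (s⁻¹ * (t ^ 2 * (b⁻¹ * a) * (t ^ 2)⁻¹) * s ^ 3) * t⁻¹ *
      ((s ^ 2)⁻¹ * (t ^ 3 * a⁻¹ * (t ^ 3)⁻¹) * s) = 1 := by
  have hq : ∀ k : ℕ, t ^ k * (s ^ k)⁻¹ ∈ Q := fun k => by
    rw [show t ^ k * (s ^ k)⁻¹ = y * (s ^ k * y⁻¹ * (s ^ k)⁻¹) by rw [ht, conj_pow]; group]
    exact Q.mul_mem h.hy (h.conj_Q (pow_mem hs k) (Q.inv_mem h.hy))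
  have e1 : s ^ 3 * t⁻¹ * (s ^ 2)⁻¹ = t ^ 2 * s * (t ^ 3)⁻¹ := by
    refine Eq.trans ?_ ((h.Q_comm (Q.inv_mem (hq 3)) (hq 2)).trans ?_) <;> group
  have e2 : s ^ 2 * t⁻¹ * s⁻¹ = t * s * (t ^ 2)⁻¹ := by
    refine Eq.trans ?_ ((h.Q_comm (Q.inv_mem (hq 2)) (hq 1)).trans ?_) <;> group
  have e3 : s * t ^ 2 * (s ^ 3)⁻¹ = t ^ 3 * (s ^ 2)⁻¹ * t⁻¹ := by
    refine Eq.trans ?_ ((h.Q_comm (Q.inv_mem (hq 1)) (hq 3)).trans ?_) <;> group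
  have e4 : b * s * b⁻¹ * (a * s * a⁻¹) = s ^ 2 := by
    have m1 := h.conj_mem ha hs.1
    have m2 := h.conj_mem hb hs.1
    refine h.f_inj (P.mul_mem m2 m1) (P.pow_mem hs.1 2) ?_
    rw [h.hfadd _ m2 _ m1, (h.hψ a ha).2 _ hs.1, (h.hψ b hb).2 _ hs.1, h.f_pow hs.1, hs1]
    push_cast; linear_combination e
  calc _ = s⁻¹ * (s * t ^ 2 * (s ^ 3)⁻¹) * (t * b * t⁻¹) * (s ^ 2 * t⁻¹ * s⁻¹) *
        (t ^ 2 * (b⁻¹ * a) * (t ^ 2)⁻¹) * (s ^ 3 * t⁻¹ * (s ^ 2)⁻¹) *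
        (t ^ 3 * a⁻¹ * (t ^ 3)⁻¹) * s := by group
    _ = s⁻¹ * t ^ 3 * (s ^ 2)⁻¹ * (b * s * b⁻¹ * (a * s * a⁻¹)) * (t ^ 3)⁻¹ * s := by
        rw [e1, e2, e3]; group
    _ = 1 := by rw [e4]; group

theorem last {s s₁ s₂ s₃ : G} (hs : s ∈ h.P0) (hs1 : s ≠ 1) (h₁ : s₁ ∈ h.P0) (h₂ : s₂ ∈ h.P0)
    (h₃ : s₃ ∈ h.P0) (n₁ : s₁ ≠ 1) (t : G) (ht : t = y * s * y⁻¹)
    (e : s₁ * t ^ 2 * s₃ * t⁻¹ * s₂ * t⁻¹ = 1) : s₁ * s = 1 := by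
  have hs0 : f s ≠ 0 := mt (h.f_eq_zero hs.1).mp hs1
  obtain ⟨i, rfl⟩ := h.exists_pow hs.1 hs0 hs h₁
  obtain ⟨l, rfl⟩ := h.exists_pow hs.1 hs0 hs h₂
  obtain ⟨j, rfl⟩ := h.exists_pow hs.1 hs0 hs h₃
  let Z : ℕ → Q := fun k => ⟨s ^ k * y * (s ^ k)⁻¹, h.conj_Q (pow_mem hs k) h.hy⟩
  have k1 : (Z i * (Z (i + 2))⁻¹ * Z (i + j + 2) * (Z (i + j + 1))⁻¹ * Z (i + j + l + 1) *
      (Z (i + j + l))⁻¹ : Q) * s ^ (i + j + l) = (1 : G) := by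
    rw [← e, ht]; simp only [Z, Subgroup.coe_mul, Subgroup.coe_inv, conj_pow]; group
  have k2 : s ^ (i + j + l) = 1 := h.PQ_triv (by
    rw [← eq_inv_iff_mul_eq_one, ← inv_eq_iff_eq_inv] at k1
    rw [← k1]
    exact Q.inv_mem (SetLike.coe_mem _)) (h.P_pow (P.pow_mem hs.1 _))
  have hQ := h.hQ
  have k3 : (Z (i + j + 1) * (Z (i + 1))⁻¹ * (Z i * (Z 0)⁻¹)⁻¹) ^ p = 1 := by
    open scoped IsMulCommutative in
    have := appC_periodic (fun k => Additive.ofMul (Z k)) p i j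
      (fun k => by simp [Z, pow_add, h.P_pow hs.1]) fun k => by
        simp only [sub_eq_add_neg]
        apply Additive.toMul.injective
        apply Subtype.ext
        have k4 := congrArg (fun x => s ^ k * x * (s ^ k)⁻¹) k1
        simp only [Z, Subgroup.coe_mul, Subgroup.coe_inv, pow_succ s (i + j + l), k2, mul_one,
          one_mul, inv_one] at k4
        simp only [Z, toMul_add, toMul_neg, toMul_ofMul, Subgroup.coe_mul, Subgroup.coe_inv,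
          toMul_zero, Subgroup.coe_one]
        rw [mul_inv_cancel] at k4
        rw [← k4]; group
    simp only [sub_eq_add_neg] at this
    exact this
  have k4 := h.PQ_triv (SetLike.coe_mem _) (congrArg Subtype.val k3)
  simp only [Z, Subgroup.coe_mul, Subgroup.coe_inv] at k4
  rw [mul_inv_eq_one] at k4
  have k5 : s ^ j * s * (y * (s ^ j)⁻¹ * y⁻¹) = (y * (s ^ i)⁻¹ * y⁻¹) * (s ^ i * s) := by
    calc _ = (s ^ i)⁻¹ * (s ^ (i + j + 1) * y * (s ^ (i + j + 1))⁻¹ *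
          (s ^ (i + 1) * y * (s ^ (i + 1))⁻¹)⁻¹) * (s ^ i * s) := by group
      _ = _ := by rw [k4]; group
  obtain ⟨⟨v, hv⟩, hv1⟩ := ne_bot_iff_exists_ne_one.mp h.hUne
  have m : ∀ {a u}, a ∈ h.P0 → u ∈ U → a * u * a⁻¹ ∈ P ⊔ U := fun ha hu =>
    mul_mem (mul_mem (mem_sup_left ha.1) (mem_sup_right hu)) (inv_mem (mem_sup_left ha.1))
  have k7 := h.step3 (inv_mem h₁) (by simpa using n₁) (m (mul_mem h₁ hs) hv) (by
    have := m (mul_mem h₃ hs) (h.conj_U (inv_mem h₃) hv)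
    convert this using 1
    calc _ = (y * (s ^ i)⁻¹ * y⁻¹) * (s ^ i * s) * v * ((y * (s ^ i)⁻¹ * y⁻¹) * (s ^ i * s))⁻¹ := by
          group
      _ = _ := by rw [← k5]; group)
  rcases h.step2 (mul_mem h₁ hs) (inv_mem (mul_mem h₁ hs)) hv k7 with e | e
  · exact e.1
  · exact absurd (Subtype.ext e.1) hv1

theorem step4 {s a b : G} (hs : s ∈ h.P0) (hs1 : f s = 1) (ha : a ∈ U) (hb : b ∈ U)
    (e : ψ a + ψ b = 2) (t : G) (ht : t = y * s * y⁻¹) :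
    ∃ c ∈ U, ψ (t ^ 3 * a⁻¹ * (t ^ 3)⁻¹) + ψ c = 2 := by
  have h2 : (2 : F) ≠ 0 := fun e => h.hp2 ((Nat.prime_dvd_prime_iff_eq hp.out Nat.prime_two).mp
    ((CharP.cast_eq_zero_iff F p 2).mp (by exact_mod_cast e)))
  have n1 : s ≠ 1 := fun e => by simp [e, h.f_one] at hs1
  have n2 : s ^ 2 ≠ 1 := fun e => h2 (by
    have := h.f_pow hs.1 2
    rw [e, h.f_one, hs1] at this
    exact_mod_cast (by simpa using this.symm))
  have hT : ∀ (k : ℤ) {u}, u ∈ U → t ^ k * u * (t ^ k)⁻¹ ∈ U := fun k u hu => by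
    have := h.conj_U (zpow_mem hs k) hu
    rwa [← conj_zpow, ← ht] at this
  have hT' : ∀ (k : ℕ) {u}, u ∈ U → t ^ k * u * (t ^ k)⁻¹ ∈ U := fun k u hu => by
    simpa using hT k hu
  have m : ∀ {a b u}, a ∈ h.P0 → b ∈ h.P0 → u ∈ U → a * u * b ∈ P ⊔ U := fun ha hb hu =>
    mul_mem (mul_mem (mem_sup_left ha.1) (mem_sup_right hu)) (mem_sup_left hb.1)
  have mA := hT' 3 (inv_mem ha)
  have mB := hT' 2 (mul_mem (inv_mem hb) ha)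
  have mC : t * b * t⁻¹ ∈ U := by simpa using hT' 1 hb
  have p2 := pow_mem hs 2
  have p3 := pow_mem hs 3
  obtain ⟨u₁, hu₁, s₁, hs₁, v₁, hv₁, e₁⟩ := h.step1 (m (inv_mem p2) hs mA)
  obtain ⟨u₂, hu₂, s₂, hs₂, v₂, hv₂, e₂⟩ := h.step1 (m (inv_mem hs) p3 mB)
  obtain ⟨u₃, hu₃, s₃, hs₃, v₃, hv₃, e₃⟩ := h.step1 (m (inv_mem p3) p2 mC)
  have ns₁ : s₁ ≠ 1 := by
    rintro rfl
    rcases h.step2 (inv_mem p2) hs mA (e₁ ▸ mul_mem (mul_mem hu₁ (one_mem _)) hv₁) with e | e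
    · exact n1 e.2
    · exact n1 (by rw [← inv_eq_one, ← e.2]; group)
  have ns₃ : s₃ ≠ 1 := by
    rintro rfl
    rcases h.step2 (inv_mem p3) p2 mC (e₃ ▸ mul_mem (mul_mem hu₃ (one_mem _)) hv₃) with e | e
    · exact n2 e.2
    · exact n1 (by rw [← inv_eq_one, ← e.2]; group)
  have r := h.rel hs hs1 ha hb e t ht
  have r' := h.rel hs hs1 (pow_mem ha p) (pow_mem hb p) (by
    rw [h.ψ_pow ha, h.ψ_pow hb, ← add_pow_char, e]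
    simpa [frobenius_def] using map_ofNat (frobenius F p) 2) t ht
  have f₁ := h.frob (inv_mem p2) hs hs₁ mA hu₁ hv₁ e₁
  have f₂ := h.frob (inv_mem hs) p3 hs₂ mB hu₂ hv₂ e₂
  have f₃ := h.frob (inv_mem p3) p2 hs₃ mC hu₃ hv₃ e₃
  rw [conj_pow] at f₁ f₂ f₃
  rw [(h.U_comm (inv_mem hb) ha).mul_pow] at f₂
  rw [inv_pow] at f₁ f₂
  rw [e₁, e₂, e₃] at r
  rw [f₁, f₂, f₃] at r'
  have key : ∀ u₁ v₁ u₂ v₂ u₃ v₃ : G,
      t ^ 2 * (u₃ * s₃ * v₃) * t⁻¹ * (u₂ * s₂ * v₂) * t⁻¹ * (u₁ * s₁ * v₁) = 1 →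
      (t * v₂ * t⁻¹ * u₁) * s₁ * t ^ 2 * ((t ^ 2)⁻¹ * v₁ * t ^ 2 * u₃) * s₃ * (v₃ * (t⁻¹ * u₂ * t)) =
        t * s₂⁻¹ * t := by
    intro u₁ v₁ u₂ v₂ u₃ v₃ e
    calc _ = t * s₂⁻¹ * (t ^ 2 * (u₃ * s₃ * v₃) * t⁻¹ * u₂)⁻¹ *
          (t ^ 2 * (u₃ * s₃ * v₃) * t⁻¹ * (u₂ * s₂ * v₂) * t⁻¹ * (u₁ * s₁ * v₁)) *
          (t ^ 2 * (u₃ * s₃ * v₃) * t⁻¹ * u₂) * t := by group
      _ = _ := by rw [e]; group
  have c₁ : t * v₂ * t⁻¹ ∈ U := by simpa using hT 1 hv₂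
  have c₂ : (t ^ 2)⁻¹ * v₁ * t ^ 2 ∈ U := by
    have := hT (-2) hv₁
    rwa [zpow_neg, inv_inv, zpow_ofNat] at this
  have c₃ : t⁻¹ * u₂ * t ∈ U := by simpa using hT (-1) hu₂
  have k := key _ _ _ _ _ _ r
  have k' := key _ _ _ _ _ _ r'
  have cp : ∀ (g x : G), g⁻¹ * x ^ p * g = (g⁻¹ * x * g) ^ p := fun g x => by
    simpa using (conj_pow (a := g⁻¹) (b := x) (i := p)).symm
  rw [← conj_pow, cp, cp, ← (h.U_comm c₁ hu₁).mul_pow, ← (h.U_comm c₂ hu₃).mul_pow,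
    ← (h.U_comm hv₃ c₃).mul_pow] at k'
  have w₁ := mul_mem c₁ hu₁
  have w₂ := mul_mem c₂ hu₃
  have w₃ := mul_mem hv₃ c₃
  generalize t * v₂ * t⁻¹ * u₁ = x₁ at k k' w₁
  generalize (t ^ 2)⁻¹ * v₁ * t ^ 2 * u₃ = x₂ at k k' w₂
  generalize v₃ * (t⁻¹ * u₂ * t) = x₃ at k k' w₃
  have k1 : (t ^ 2)⁻¹ * (s₁⁻¹ * ((x₁ ^ p)⁻¹ * x₁) * s₁⁻¹⁻¹) * t ^ 2 =
      x₂ ^ p * (s₃ * (x₃ ^ p * x₃⁻¹) * s₃⁻¹) * x₂⁻¹ := by
    calc _ = (x₁ ^ p * s₁ * t ^ 2)⁻¹ * (x₁ * s₁ * t ^ 2 * x₂ * s₃ * x₃) * (x₂ * s₃ * x₃)⁻¹ := by group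
      _ = _ := by rw [k, ← k']; group
  have d₁ := mul_mem (inv_mem (pow_mem w₁ p)) w₁
  have d₃ := mul_mem (pow_mem w₃ p) (inv_mem w₃)
  have k2 := h.conj_eq_one (inv_mem hs₁) (by simpa using ns₁) d₁
    (h.step3 (inv_mem p2) (by simpa using n2) (m (inv_mem hs₁) (inv_mem (inv_mem hs₁)) d₁) (by
      rw [show y * (s ^ 2)⁻¹ * y⁻¹ = (t ^ 2)⁻¹ by rw [ht, conj_pow]; group, inv_inv (t ^ 2), k1]
      exact mul_mem (mul_mem (mem_sup_right (pow_mem w₂ p)) (m hs₃ (inv_mem hs₃) d₃))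
        (mem_sup_right (inv_mem w₂))))
  rw [k2] at k1
  have k3 := h.conj_eq_one hs₃ ns₃ d₃ (by
    rw [show s₃ * (x₃ ^ p * x₃⁻¹) * s₃⁻¹ = (x₂ ^ p)⁻¹ *
      (x₂ ^ p * (s₃ * (x₃ ^ p * x₃⁻¹) * s₃⁻¹) * x₂⁻¹) * x₂ by group, ← k1]
    simpa using mul_mem (inv_mem (pow_mem w₂ p)) w₂)
  rw [k3] at k1
  have z₁ := h.U_eq_one w₁ (inv_mul_eq_one.mp k2)
  have z₃ := h.U_eq_one w₃ (mul_inv_eq_one.mp k3)
  have z₂ := h.U_eq_one w₂ (mul_inv_eq_one.mp (by simpa using k1.symm))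
  subst z₁ z₂ z₃
  have k4 := h.last hs n1 hs₁ hs₂ hs₃ ns₁ t ht (by
    rw [show s₁ * t ^ 2 * s₃ = t * s₂⁻¹ * t by simpa using k]; group)
  obtain rfl := eq_inv_of_mul_eq_one_left k4
  have k5 := ((h.nf (inv_mem p2).1 hs.1 hs₁.1 mA hu₁ hv₁).mp e₁).2
  rw [h.f_inv p2.1, h.f_inv hs.1, h.f_pow hs.1, hs1] at k5
  exact ⟨u₁, hu₁, by push_cast at k5; linear_combination k5⟩

/-- Lemma C.3 -/
theorem inv_closed {a b : G} (ha : a ∈ U) (hb : b ∈ U) (e : ψ a + ψ b = 2) :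
    ∃ c ∈ U, ψ a⁻¹ + ψ c = 2 := by
  obtain ⟨s, hs, hs1⟩ := h.f_surj 1
  have hs : s ∈ h.P0 := ⟨hs, by simp [hs1]⟩
  set t := y * s * y⁻¹ with ht
  have hT : ∀ (k : ℕ) {u}, u ∈ U → t ^ k * u * (t ^ k)⁻¹ ∈ U := fun k u hu => by
    have := h.conj_U (pow_mem hs k) hu
    rwa [← conj_pow, ← ht] at this
  have k1 : ∀ k : ℕ, ∀ a ∈ U, (∃ c ∈ U, ψ a + ψ c = 2) →
      ∃ c ∈ U, ψ (t ^ (6 * k) * a * (t ^ (6 * k))⁻¹) + ψ c = 2 := by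
    intro k a ha e
    induction k with
    | zero => simpa using e
    | succ k ih =>
      obtain ⟨c, hc, e⟩ := ih
      obtain ⟨c, hc, e⟩ := h.step4 hs hs1 (hT _ ha) hc e t ht
      have := h.step4 hs hs1 (hT _ (inv_mem (hT _ ha))) hc e t ht
      convert this using 6
      group
  obtain ⟨k, hk⟩ := hp.out.odd_of_ne_two h.hp2
  have := k1 k _ (hT 3 (inv_mem ha)) (h.step4 hs hs1 ha hb e t ht)
  have ht1 : t ^ p = 1 := by rw [ht, conj_pow, h.P_pow hs.1]; simp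
  convert this using 6
  calc _ = (t ^ p) ^ 3 * a⁻¹ * ((t ^ p) ^ 3)⁻¹ := by simp [ht1]
    _ = _ := by rw [hk]; group

end AppCHyp

end Cfsg.Agent.BG
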