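import Cfsg.Agent.GT.Fitting
import Cfsg.Agent.GT.Constt
import Cfsg.Agent.PG.Odd

/-! Definitions for the local analysis of a minimal simple group of odd order
(Bender–Glauberman §7–16), and the basic facts on maximal subgroups. -/

set_option autoImplicit false
set_option linter.unusedSectionVars false

namespace Cfsg.Agent.BG

open Subgroup Cfsg.Agent.GT

universe u

/-- standing hypothesis, as an instance argument -/
abbrev MFT (G : Type u) [Group G] : Prop := Fact (IsMinSimpleOddOrder G)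

/-- `Mσ[M]` is `M_σ` -/
scoped notation3:max "Mσ[" M "]" => Cfsg.sigmaCore M
/-- `Mα[M]` is `M_α` -/
scoped notation3:max "Mα[" M "]" => Cfsg.alphaCore M
/-- `MF[M]` is `M_F` -/
scoped notation3:max "MF[" M "]" => Cfsg.fittingHallOf M
/-- `F[M]` is the Fitting subgroup -/
scoped notation3:max "F[" M "]" => Cfsg.fittingOf M
/-- `O[π](M)` is the `π`-core -/
scoped notation3:max "O[" π "](" M ")" => Cfsg.piCoreOf π M

section Defs
variable {G : Type u} [Group G]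

/-- `M_β` -/
def betaCore (M : Subgroup G) : Subgroup G := piCoreOf (beta M) M

/-- `Mβ[M]` is `M_β` -/
scoped notation3:max "Mβ[" M "]" => betaCore M

/-- `𝓜(X) = {M}` -/
def UMax (X M : Subgroup G) : Prop :=
  IsCoatom M ∧ X ≤ M ∧ ∀ L : Subgroup G, IsCoatom L → X ≤ L → L = M

/-- `A ∈ SCN_3(p)` for the ambient group -/
def SCN3 (p : ℕ) (A : Subgroup G) : Prop :=
  ∃ P : Subgroup G, IsPiHallOf {p} P ⊤ ∧ IsSCN P A ∧ ¬ PRankLE p 2 A

/-- `O_{π(A)'}(C(A))`, the group `K` of §7 -/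
abbrev centCore (A : Subgroup G) : Subgroup G := piCoreOf (primesNotDvd (Nat.card A)) C[A]

/-- `K` is transitive on the set `S` of subgroups (by conjugation) -/
def TransOn (K : Subgroup G) (S : Set (Subgroup G)) : Prop :=
  ∀ Q₁ ∈ S, ∀ Q₂ ∈ S, ∃ k ∈ K, Q₂ = cj[k] Q₁

/-- the product `A B` is a group -/
def ProdGroup (A B : Subgroup G) : Prop := ∀ x ∈ A ⊔ B, ∃ a ∈ A, ∃ b ∈ B, x = a * b

/-- §11: exceptional maximal subgroup -/
def Exceptional (p : ℕ) (M A₀ A : Subgroup G) : Prop :=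
  p.Prime ∧ p ∉ sigma M ∧ PnElem p 2 M A ∧ PnElem p 1 A A₀ ∧ N[A₀] ≤ M

/-- §12: `E` is a Hall `σ(M)'`-subgroup of `M` with Hall `τ_i(M)`-subgroups `E_i`, `E₂E₁` a group. -/
def SigmaCompl (M E E₁ E₂ E₃ : Subgroup G) : Prop :=
  IsPiHallOf (sigma M)ᶜ E M ∧ IsPiHallOf (tau1 M) E₁ E ∧ IsPiHallOf (tau2 M) E₂ E ∧
    IsPiHallOf (tau3 M) E₃ E ∧ ProdGroup E₂ E₁

/-- §14: `K` a Hall `κ(M)`-subgroup, `U` a Hall `(σ(M) ∪ κ(M))'`-subgroup, `UK` a group. -/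
def KappaCompl (M U K : Subgroup G) : Prop :=
  IsPiHallOf (kappa M) K M ∧ IsPiHallOf (sigma M ∪ kappa M)ᶜ U M ∧ ProdGroup U K

/-- `M ∈ 𝓜_F` -/
def IsMF (M : Subgroup G) : Prop := IsCoatom M ∧ IsPiSubgroup (kappa M)ᶜ M
/-- `M ∈ 𝓜_P` -/
def IsMP (M : Subgroup G) : Prop := IsCoatom M ∧ ¬ IsPiSubgroup (kappa M)ᶜ M
/-- `M ∈ 𝓜_{P1}` -/
def IsMP1 (M : Subgroup G) : Prop := IsMP M ∧ IsPiSubgroup (sigma M ∪ kappa M) M
/-- `M ∈ 𝓜_{P2}` -/
def IsMP2 (M : Subgroup G) : Prop := IsMP M ∧ ¬ IsPiSubgroup (sigma M ∪ kappa M) M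

/-- `M ∈ 𝓜_σ(x)` -/
def SigMax (x : G) (M : Subgroup G) : Prop := IsCoatom M ∧ x ∈ sigmaCore M

/-- `ℓ_σ(x) = 1` -/
def Ell1 (x : G) : Prop := x ≠ 1 ∧ ∃ M : Subgroup G, SigMax x M

/-- `|𝓜_σ(x)| > 1` -/
def SigMany (x : G) : Prop := ∃ M L : Subgroup G, SigMax x M ∧ SigMax x L ∧ M ≠ L

open scoped Classical in
/-- `N(x)` of Theorem 14.4 (`1` if `|𝓜_σ(x)| ≤ 1`) -/
noncomputable def sigN (x : G) : Subgroup G :=
  if SigMany x then
    (if h : ∃ N : Subgroup G, IsCoatom N ∧ C1[x] ≤ N then h.choose else ⊤)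
  else ⊥

/-- `R(x)` of Theorem 14.4 -/
noncomputable def sigR (x : G) : Subgroup G := sigmaCore (sigN x) ⊓ C1[x]

/-- `M~`: the union of the cosets `x R(x)`, `x ∈ M_σ^#` -/
def sigCover (M : Subgroup G) : Set G := {g | ∃ x ∈ sigmaCore M, x ≠ 1 ∧ ∃ r ∈ sigR x, g = x * r}

/-- `W ∖ (W₁ ∪ W₂)` for `W = W₁ W₂` -/
def cycTI (W₁ W₂ : Subgroup G) : Set G := {x | x ∈ W₁ ⊔ W₂ ∧ x ∉ W₁ ∧ x ∉ W₂}

/-! ### the five types (§16) -/

/-- `M` is of type `F` with complement `U` -/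
def OfTypeF (M U : Subgroup G) : Prop :=
  (fittingHallOf M ≠ ⊥ ∧ U ≠ ⊥ ∧ Sdprod (fittingHallOf M) U M) ∧
  (∃ U₁ : Subgroup G, U₁ ≤ U ∧ U ≤ N[U₁] ∧ IsMulCommutative U₁ ∧
    ∀ x ∈ fittingHallOf M, x ≠ 1 → U ⊓ C1[x] ≤ U₁) ∧
  (∃ U₀ : Subgroup G, U₀ ≤ U ∧ Monoid.exponent U₀ = Monoid.exponent U ∧
    Frob (fittingHallOf M) U₀ (fittingHallOf M ⊔ U₀))

/-- type I -/
def OfTypeI (M U : Subgroup G) : Prop :=
  OfTypeF M U ∧
  (NormedTI (sharp (fittingHallOf M)) ⊤ M ∨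
   (IsMulCommutative (fittingHallOf M) ∧ RankLE 2 (fittingHallOf M) ∧
      ¬ RankLE 1 (fittingHallOf M)) ∨
   ((∀ p : ℕ, p.Prime → p ∣ Nat.card (fittingHallOf M) → Monoid.exponent U ∣ p - 1) ∧
     ∃ p : ℕ, p.Prime ∧ p ∣ Nat.card (fittingHallOf M) ∧
       IsCyclic (piCoreOf {p}ᶜ (fittingHallOf M))))

/-- common part of types II, III, IV -/
def OfTypeII_IV (M W₁ U W₂ : Subgroup G) : Prop :=
  IsTypePWith M W₁ U W₂ ∧ U ≠ ⊥ ∧ (Nat.card W₁).Prime ∧ NormedTI (sharp (fittingOf M)) ⊤ M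

/-- type II -/
def OfTypeII (M W₁ U W₂ : Subgroup G) : Prop :=
  OfTypeII_IV M W₁ U W₂ ∧ IsMulCommutative U ∧ ¬ N[U] ≤ M ∧ OfTypeF ⁅M, M⁆ U ∧
    fittingHallOf ⁅M, M⁆ = fittingHallOf M

/-- type III -/
def OfTypeIII (M W₁ U W₂ : Subgroup G) : Prop :=
  OfTypeII_IV M W₁ U W₂ ∧ IsMulCommutative U ∧ N[U] ≤ M

/-- type IV -/
def OfTypeIV (M W₁ U W₂ : Subgroup G) : Prop :=
  OfTypeII_IV M W₁ U W₂ ∧ ¬ IsMulCommutative U ∧ N[U] ≤ M

/-- type V -/
def OfTypeV (M W₁ U W₂ : Subgroup G) : Prop :=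
  IsTypePWith M W₁ U W₂ ∧ U = ⊥ ∧
  (NormedTI (sharp (fittingHallOf M)) ⊤ M ∨
   (∃ p : ℕ, p.Prime ∧ p ∣ Nat.card (fittingHallOf M) ∧ Nat.card W₁ ∣ p - 1 ∧
      IsCyclic (piCoreOf {p}ᶜ (fittingHallOf M))) ∨
   (∃ p : ℕ, p.Prime ∧ p ∣ Nat.card (fittingHallOf M) ∧
      Nat.card (piCoreOf {p} (fittingHallOf M)) = p ^ 3 ∧ Nat.card W₁ ∣ p + 1 ∧
      IsCyclic (piCoreOf {p}ᶜ (fittingHallOf M))))

/-- the specification of type `i` -/
def FTtypeSpec (i : ℕ) (M : Subgroup G) : Prop :=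
  match i with
  | 1 => ∃ U, OfTypeI M U
  | 2 => ∃ W₁ U W₂, OfTypeII M W₁ U W₂
  | 3 => ∃ W₁ U W₂, OfTypeIII M W₁ U W₂
  | 4 => ∃ W₁ U W₂, OfTypeIV M W₁ U W₂
  | 5 => ∃ W₁ U W₂, OfTypeV M W₁ U W₂
  | _ => False

open scoped Classical in
/-- the type of a maximal subgroup, in `{1, …, 5}` -/
noncomputable def FTtype (M : Subgroup G) : ℕ :=
  if IsPiSubgroup (kappa M)ᶜ M then 1 else
  if sigmaCore M ≠ ⁅M, M⁆ then 2 else
  if fittingHallOf M = sigmaCore M then 5 else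
  if ⁅⁅M, M⁆, ⁅M, M⁆⁆ ≤ fittingHallOf M then 3 else 4

/-- `M_s` -/
noncomputable def FTcore (M : Subgroup G) : Subgroup G :=
  if FTtype M ≤ 2 then fittingHallOf M else ⁅M, M⁆

/-- `M` for type I, `M'` otherwise -/
noncomputable def FTder (M : Subgroup G) : Subgroup G := if FTtype M = 1 then M else ⁅M, M⁆

/-- `A₁(M)` -/
def FTsupp1 (M : Subgroup G) : Set G := sharp (FTcore M)

/-- `A(M)` -/
def FTsupp (M : Subgroup G) : Set G :=
  {a | a ∈ FTder M ∧ a ≠ 1 ∧ ∃ x ∈ FTcore M, x ≠ 1 ∧ a ∈ C1[x]}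

/-- `A₀(M)` -/
def FTsupp0 (M : Subgroup G) : Set G :=
  FTsupp M ∪ {x | x ∈ M ∧ ¬ PiNat (piOf (Nat.card (FTder M))) (orderOf x) ∧
    ¬ PiNat (piOf (Nat.card (FTder M)))ᶜ (orderOf x)}

open scoped Classical in
/-- `R_M(x)` -/
noncomputable def FTsignalizer (M : Subgroup G) (x : G) : Subgroup G :=
  if C1[x] ≤ M then ⊥ else fittingHallOf (sigN x) ⊓ C1[x]

/-- `A~(M, A)` -/
def FTDadeSupp (M : Subgroup G) (A : Set G) : Set G :=
  {g | ∃ a ∈ A, ∃ r ∈ FTsignalizer M a, ∃ y : G, g = y * (a * r) * y⁻¹}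

/-- `L` supports `M` -/
def FTsupports (M L : Subgroup G) : Prop := ∃ x ∈ FTsupp M, ¬ C1[x] ≤ M ∧ C1[x] ≤ L

end Defs

/-! ### basic facts -/

section Basic
variable {G : Type u} [Group G] {A H K L M U V X P : Subgroup G} {p : ℕ} {g x : G}

theorem sigmaCore_eq (M : Subgroup G) : Mσ[M] = O[sigma M](M) := rfl
theorem alphaCore_eq (M : Subgroup G) : Mα[M] = O[alpha M](M) := rfl
theorem betaCore_eq (M : Subgroup G) : Mβ[M] = O[beta M](M) := rfl

theorem sigmaCore_le (M : Subgroup G) : Mσ[M] ≤ M := piCoreOf_le _ M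
theorem alphaCore_le (M : Subgroup G) : Mα[M] ≤ M := piCoreOf_le _ M
theorem betaCore_le (M : Subgroup G) : Mβ[M] ≤ M := piCoreOf_le _ M
theorem le_norm_sigmaCore (M : Subgroup G) : M ≤ N[Mσ[M]] := self_le_norm_piCoreOf _ M
theorem le_norm_alphaCore (M : Subgroup G) : M ≤ N[Mα[M]] := self_le_norm_piCoreOf _ M
theorem le_norm_betaCore (M : Subgroup G) : M ≤ N[Mβ[M]] := self_le_norm_piCoreOf _ M
theorem sigmaCore_isPi [Finite G] (M : Subgroup G) : IsPiSubgroup (sigma M) Mσ[M] :=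
  piCoreOf_isPi _ M
theorem alphaCore_isPi [Finite G] (M : Subgroup G) : IsPiSubgroup (alpha M) Mα[M] :=
  piCoreOf_isPi _ M
theorem betaCore_isPi [Finite G] (M : Subgroup G) : IsPiSubgroup (beta M) Mβ[M] :=
  piCoreOf_isPi _ M

theorem UMax.coatom (h : UMax X M) : IsCoatom M := h.1
theorem UMax.le (h : UMax X M) : X ≤ M := h.2.1
theorem UMax.eq (h : UMax X M) (hL : IsCoatom L) (hX : X ≤ L) : L = M := h.2.2 L hL hX
theorem UMax.uniq (h : UMax X M) : InUniqueMaximal X :=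
  ⟨M, ⟨h.1, h.2.1⟩, fun L hL => h.2.2 L hL.1 hL.2⟩

theorem uniq_iff : InUniqueMaximal X ↔ ∃ M, UMax X M :=
  ⟨fun ⟨M, h1, h2⟩ => ⟨M, h1.1, h1.2, fun L hL hX => h2 L ⟨hL, hX⟩⟩, fun ⟨_, h⟩ => h.uniq⟩

theorem _root_.Cfsg.InUniqueMaximal.exists (h : InUniqueMaximal X) : ∃ M, UMax X M := uniq_iff.1 h

theorem _root_.Cfsg.InUniqueMaximal.umax (h : InUniqueMaximal X) (hM : IsCoatom M) (hX : X ≤ M) :
    UMax X M := by
  obtain ⟨L, hL⟩ := h.exists
  rwa [hL.eq hM hX]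

theorem _root_.Cfsg.InUniqueMaximal.eq (h : InUniqueMaximal X) (hM : IsCoatom M) (hX : X ≤ M)
    (hL : IsCoatom L) (hX' : X ≤ L) : L = M := (h.umax hM hX).eq hL hX'

theorem UMax.ne_top (h : UMax X M) : X ≠ ⊤ := ne_top_of_le_ne_top h.1.1 h.le

theorem _root_.Cfsg.InUniqueMaximal.ne_top (h : InUniqueMaximal X) : X ≠ ⊤ :=
  let ⟨_, h⟩ := h.exists; h.ne_top

theorem mmax_max (hM : IsCoatom M) (hH : H ≠ ⊤) (h : M ≤ H) : H = M :=
  (hM.le_iff.1 h).resolve_left hH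

theorem eq_mmax (hM : IsCoatom M) (hL : IsCoatom L) (h : M ≤ L) : M = L :=
  (mmax_max hM hL.1 h).symm

theorem sub_mmax_proper (hM : IsCoatom M) (h : H ≤ M) : H ≠ ⊤ := ne_top_of_le_ne_top hM.1 h

theorem umax_self (hM : IsCoatom M) : UMax M M :=
  ⟨hM, le_rfl, fun _ hL h => (eq_mmax hM hL h).symm⟩

theorem UMax.conj (h : UMax X M) (g : G) : UMax (cj[g] X) (cj[g] M) :=
  ⟨isCoatom_conj g h.1, conj_mono g h.le, fun L hL hX => by
    rw [← h.eq (isCoatom_conj g⁻¹ hL) (conj_le_iff.1 hX), conj_inv_conj]⟩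

theorem umax_conj_iff : UMax (cj[g] X) (cj[g] M) ↔ UMax X M :=
  ⟨fun h => by simpa using h.conj g⁻¹, fun h => h.conj g⟩

theorem _root_.Cfsg.InUniqueMaximal.conj (h : InUniqueMaximal X) (g : G) :
    InUniqueMaximal (cj[g] X) := let ⟨_, h⟩ := h.exists; (h.conj g).uniq

theorem uniq_conj_iff : InUniqueMaximal (cj[g] X) ↔ InUniqueMaximal X :=
  ⟨fun h => by simpa using h.conj g⁻¹, fun h => h.conj g⟩

theorem UMax.conj_eq (h : UMax X M) (hg : g ∈ N[X]) : cj[g] M = M :=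
  h.eq (isCoatom_conj g h.1) (by rw [← conj_eq_self hg]; exact conj_mono g h.le)

theorem not_umax_iff (hM : IsCoatom M) (hX : X ≤ M) :
    ¬ UMax X M ↔ ∃ L, IsCoatom L ∧ X ≤ L ∧ L ≠ M := by
  simp only [UMax, hM, hX, true_and, not_forall]
  exact ⟨fun ⟨L, h1, h2, h3⟩ => ⟨L, h1, h2, h3⟩, fun ⟨L, h1, h2, h3⟩ => ⟨L, h1, h2, h3⟩⟩

variable [Finite G]

theorem mmax_exists (h : H ≠ ⊤) : ∃ M : Subgroup G, IsCoatom M ∧ H ≤ M := exists_coatom_ge h

theorem UMax.le_of_le (h : UMax X M) (hX : X ≤ H) (hH : H ≠ ⊤) : H ≤ M := by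
  obtain ⟨L, hL, hHL⟩ := mmax_exists hH
  exact h.eq hL (hX.trans hHL) ▸ hHL

theorem UMax.mono (h : UMax X M) (hX : X ≤ H) (hH : H ≠ ⊤) : UMax H M :=
  ⟨h.1, h.le_of_le hX hH, fun _ hL hHL => h.eq hL (hX.trans hHL)⟩

theorem UMax.mono' (h : UMax X M) (hX : X ≤ H) (hH : H ≤ M) : UMax H M :=
  h.mono hX (sub_mmax_proper h.1 hH)

theorem _root_.Cfsg.InUniqueMaximal.mono (h : InUniqueMaximal X) (hX : X ≤ H) (hH : H ≠ ⊤) :
    InUniqueMaximal H := let ⟨_, h⟩ := h.exists; (h.mono hX hH).uniq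

theorem umax_of_forall (hX : X ≠ ⊤) (h : ∀ L, IsCoatom L → X ≤ L → L = M) : UMax X M := by
  obtain ⟨L, hL, hXL⟩ := mmax_exists hX
  obtain rfl := h L hL hXL
  exact ⟨hL, hXL, h⟩

/-! ### the prime sets -/

theorem mem_sigma_iff : p ∈ sigma M ↔
    p.Prime ∧ p ∣ Nat.card M ∧ ∃ P, IsPiHallOf {p} P M ∧ N[P] ≤ M := by
  refine and_congr_right fun hp => and_congr_right fun _ => ⟨fun ⟨P, h⟩ => ⟨_, syl_of_sylow hp P, h⟩,
    fun ⟨P, hP, h⟩ => ?_⟩
  obtain ⟨Q, rfl⟩ := exists_sylow_of_syl hp hP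
  exact ⟨Q, h⟩

omit [Finite G] in
theorem sigma_prime (h : p ∈ sigma M) : p.Prime := h.1
omit [Finite G] in
theorem sigma_dvd (h : p ∈ sigma M) : p ∣ Nat.card M := h.2.1
omit [Finite G] in
theorem alpha_prime (h : p ∈ alpha M) : p.Prime := h.1
omit [Finite G] in
theorem beta_prime (h : p ∈ beta M) : p.Prime := h.1.1
omit [Finite G] in
theorem tau1_prime (h : p ∈ tau1 M) : p.Prime := h.1
omit [Finite G] in
theorem tau2_prime (h : p ∈ tau2 M) : p.Prime := h.1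
omit [Finite G] in
theorem tau3_prime (h : p ∈ tau3 M) : p.Prime := h.1
omit [Finite G] in
theorem kappa_prime (h : p ∈ kappa M) : p.Prime := h.1
omit [Finite G] in
theorem tau1_not_sigma (h : p ∈ tau1 M) : p ∉ sigma M := h.2.1
omit [Finite G] in
theorem tau2_not_sigma (h : p ∈ tau2 M) : p ∉ sigma M := h.2.1
omit [Finite G] in
theorem tau3_not_sigma (h : p ∈ tau3 M) : p ∉ sigma M := h.2.1
omit [Finite G] in
theorem kappa_not_sigma (h : p ∈ kappa M) : p ∉ sigma M := h.2.2.1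
omit [Finite G] in
theorem beta_sub_alpha (M : Subgroup G) : beta M ⊆ alpha M := fun _ h => h.1
omit [Finite G] in
theorem beta_ideal (h : p ∈ beta M) : IsIdealPrime p G := h.2
omit [Finite G] in
theorem mem_alpha_iff (hp : p.Prime) : p ∈ alpha M ↔ ¬ PRankLE p 2 M := and_iff_right hp
omit [Finite G] in
theorem pRankLE_of_not_alpha (hp : p.Prime) (h : p ∉ alpha M) : PRankLE p 2 M :=
  not_not.1 fun h' => h ⟨hp, h'⟩

/-- `norm_sigma_Sylow` -/
theorem norm_sigma_Sylow (h : p ∈ sigma M) (hP : IsPiHallOf {p} P M) : N[P] ≤ M := by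
  obtain ⟨hp, -, Q, hQ, hn⟩ := mem_sigma_iff.1 h
  obtain ⟨g, hg, rfl⟩ := syl_exists_conj hp hQ hP
  rw [← conj_normalizer]
  exact conj_le_of_mem hg hn

theorem mem_sigma_of_syl (hp : p.Prime) (hd : p ∣ Nat.card M) (hP : IsPiHallOf {p} P M)
    (hn : N[P] ≤ M) : p ∈ sigma M := mem_sigma_iff.2 ⟨hp, hd, P, hP, hn⟩

theorem not_norm_le_of_not_sigma (hp : p.Prime) (hd : p ∣ Nat.card M) (h : p ∉ sigma M)
    (hP : IsPiHallOf {p} P M) : ¬ N[P] ≤ M := fun hn => h (mem_sigma_of_syl hp hd hP hn)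

/-- `sigma_Sylow_G` -/
theorem sigma_Sylow_G (h : p ∈ sigma M) (hP : IsPiHallOf {p} P M) : IsPiHallOf {p} P ⊤ :=
  syl_top_of_norm_le h.1 hP (norm_sigma_Sylow h hP)

theorem sigma_conj (g : G) (M : Subgroup G) : sigma (cj[g] M) = sigma M := by
  have key : ∀ (g : G) (M : Subgroup G) (p : ℕ), p ∈ sigma M → p ∈ sigma (cj[g] M) := by
    intro g M p h
    obtain ⟨hp, hd, Q, hQ, hn⟩ := mem_sigma_iff.1 h
    refine mem_sigma_of_syl hp (by rwa [card_conj]) (hQ.conj g) ?_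
    rw [← conj_normalizer]; exact conj_mono g hn
  ext p
  exact ⟨fun h => by simpa using key g⁻¹ _ p h, key g M p⟩

omit [Finite G] in
theorem alpha_conj (g : G) (M : Subgroup G) : alpha (cj[g] M) = alpha M := by
  ext p; simp only [alpha, Set.mem_ofPred_eq, pRankLE_conj_iff]

omit [Finite G] in
theorem beta_conj (g : G) (M : Subgroup G) : beta (cj[g] M) = beta M := by
  ext p; simp only [beta, Set.mem_ofPred_eq, alpha_conj]

theorem tau1_conj (g : G) (M : Subgroup G) : tau1 (cj[g] M) = tau1 M := by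
  ext p
  simp only [tau1, Set.mem_ofPred_eq, sigma_conj, pRankLE_conj_iff, ← conj_commutator, card_conj]

theorem tau2_conj (g : G) (M : Subgroup G) : tau2 (cj[g] M) = tau2 M := by
  ext p; simp only [tau2, Set.mem_ofPred_eq, sigma_conj, pRankLE_conj_iff]

theorem tau3_conj (g : G) (M : Subgroup G) : tau3 (cj[g] M) = tau3 M := by
  ext p
  simp only [tau3, Set.mem_ofPred_eq, sigma_conj, pRankLE_conj_iff, ← conj_commutator, card_conj]

theorem conj_sigmaCore (g : G) (M : Subgroup G) : cj[g] Mσ[M] = Mσ[cj[g] M] := by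
  rw [sigmaCore_eq, sigmaCore_eq, conj_piCoreOf, sigma_conj]

omit [Finite G] in
theorem conj_alphaCore (g : G) (M : Subgroup G) : cj[g] Mα[M] = Mα[cj[g] M] := by
  rw [alphaCore_eq, alphaCore_eq, conj_piCoreOf, alpha_conj]

omit [Finite G] in
theorem conj_betaCore (g : G) (M : Subgroup G) : cj[g] Mβ[M] = Mβ[cj[g] M] := by
  rw [betaCore_eq, betaCore_eq, conj_piCoreOf, beta_conj]

omit [Finite G] in
theorem betaCore_le_alphaCore (M : Subgroup G) : Mβ[M] ≤ Mα[M] :=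
  piCoreOf_mono fun _ _ h => h.1

/-- ideal primes through math-comp's `narrow` -/
theorem isIdealPrime_iff (hp : p.Prime) :
    IsIdealPrime p G ↔ ∀ P : Subgroup G, IsPiHallOf {p} P ⊤ → ¬ Narrow p P := by
  have := Fact.mk hp
  constructor
  · rintro ⟨-, hr, h⟩ P hP hn
    obtain ⟨S, rfl⟩ := exists_sylow_of_syl_top hp hP
    obtain ⟨A, hA, hm⟩ := hn (fun h' => hr ((PG.pRankLE_sylow_iff S).1 h'))
    obtain ⟨B, hB, he, hlt⟩ := h S A hA.le hA.elem hA.card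
    exact hlt.ne' (hm.eq hB he hlt.le)
  · intro h
    refine ⟨hp, fun hr => ?_, fun P A hA he hc => ?_⟩
    · obtain ⟨P, hP⟩ := exists_syl hp (⊤ : Subgroup G)
      exact h P hP fun h' => absurd (PG.pRankLE_subgroup hr P) h'
    · by_contra hc'
      refine h P (syl_top_of_sylow hp P) fun _ => ⟨A, ⟨hA, he, hc⟩, hA, he, fun B hB hBe hAB => ?_⟩
      by_contra hne
      exact hc' ⟨B, hB, hBe, lt_of_le_of_ne hAB (Ne.symm hne)⟩

theorem isIdealPrime_iff_of_syl (hp : p.Prime) (hP : IsPiHallOf {p} P ⊤) :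
    IsIdealPrime p G ↔ ¬ Narrow p P := by
  rw [isIdealPrime_iff hp]
  refine ⟨fun h => h P hP, fun h Q hQ hn => h ?_⟩
  obtain ⟨g, -, rfl⟩ := syl_exists_conj hp hQ hP
  exact hn.conj g

omit [Finite G] in
theorem ProdGroup.of_norm (h : A ≤ N[H] ∨ H ≤ N[A]) : ProdGroup A H :=
  fun _ hx => (mem_sup_of_norm_or h).1 hx

omit [Finite G] in
theorem mem_cycTI {W₁ W₂ : Subgroup G} : x ∈ cycTI W₁ W₂ ↔ x ∈ W₁ ⊔ W₂ ∧ x ∉ W₁ ∧ x ∉ W₂ :=
  Iff.rfl

omit [Finite G] in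
theorem cycTI_eq (W₁ W₂ : Subgroup G) :
    cycTI W₁ W₂ = (↑(W₁ ⊔ W₂) : Set G) \ (↑W₁ ∪ ↑W₂) := by
  ext x; simp [cycTI]

omit [Finite G] in
theorem cycTI_comm (W₁ W₂ : Subgroup G) : cycTI W₁ W₂ = cycTI W₂ W₁ := by
  ext x; simp only [mem_cycTI, sup_comm W₁]; tauto

omit [Finite G] in
theorem FTtype_range (M : Subgroup G) : 1 ≤ FTtype M ∧ FTtype M ≤ 5 := by
  unfold FTtype; split_ifs <;> omega

end Basic

section MFT
variable {G : Type u} [Group G] [Finite G] [hG : MFT G] {A H K L M U V X P : Subgroup G} {p : ℕ}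
  {g x : G}

omit [Finite G] in
theorem mFT_odd_top : Odd (Nat.card G) := hG.out.1
omit [Finite G] in
theorem mFT_odd (H : Subgroup G) : Odd (Nat.card H) := odd_card_subgroup mFT_odd_top H
omit [Finite G] in
theorem mFT_simple : IsSimpleGroup G := hG.out.2.1
omit [Finite G] in
theorem mFT_nonAbelian : ¬ IsMulCommutative G := hG.out.2.2.1
omit [Finite G] in
theorem mFT_sol (h : H ≠ ⊤) : Group.IsSolvable H := hG.out.2.2.2 H h
omit [Finite G] in
theorem mmax_sol (h : IsCoatom M) : Group.IsSolvable M := mFT_sol h.1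
omit [Finite G] in
theorem sub_mmax_sol (h : IsCoatom M) (hH : H ≤ M) : Group.IsSolvable H :=
  mFT_sol (sub_mmax_proper h hH)

omit [Finite G] in
theorem mFT_normal (H : Subgroup G) (h : H.Normal) : H = ⊥ ∨ H = ⊤ :=
  haveI := mFT_simple (G := G); h.eq_bot_or_eq_top

omit [Finite G] in
theorem mFT_bot_ne_top : (⊥ : Subgroup G) ≠ ⊤ :=
  haveI := mFT_simple (G := G); bot_ne_top

omit [Finite G] in
theorem mFT_nonSolvable : ¬ Group.IsSolvable G := by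
  intro h
  have := mFT_simple (G := G)
  exact mFT_nonAbelian ⟨⟨IsSimpleGroup.comm_iff_isSolvable.2 h⟩⟩

omit [Finite G] in
theorem mFT_sol_proper (h : Group.IsSolvable H) : H ≠ ⊤ := by
  rintro rfl
  exact mFT_nonSolvable (isSolvable_top_iff.1 h)

omit [Finite G] in
theorem mFT_nil_proper (h : Group.IsNilpotent H) : H ≠ ⊤ :=
  mFT_sol_proper (haveI := h; inferInstance)

omit [Finite G] in
theorem mFT_comm_proper (h : IsMulCommutative H) : H ≠ ⊤ := by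
  rintro rfl
  exact mFT_nonAbelian (isMulCommutative_top_iff.1 h)

theorem mFT_pgroup_proper (hp : p.Prime) (h : IsPGroup p H) : H ≠ ⊤ :=
  mFT_sol_proper (solvable_of_isPGroup hp h)

omit [Finite G] in
theorem mFT_norm_proper (h1 : H ≠ ⊥) (h2 : H ≠ ⊤) : N[H] ≠ ⊤ := fun h =>
  (mFT_normal H (normal_iff_top_le_norm.2 h.ge)).elim h1 h2

omit [Finite G] in
theorem mFT_center : center G = ⊥ :=
  (mFT_normal _ inferInstance).resolve_right fun h =>
    mFT_nonAbelian ⟨⟨fun a b => (mem_center_iff.1 (h ▸ mem_top b) a)⟩⟩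

omit [Finite G] in
theorem mFT_cent_proper (h1 : H ≠ ⊥) : C[H] ≠ ⊤ := fun h => by
  have : H ≤ C[(⊤ : Subgroup G)] := le_cent_symm h.ge
  rw [cent_top, mFT_center] at this
  exact h1 (le_bot_iff.1 this)

omit [Finite G] in
theorem mFT_cent1_proper (h : x ≠ 1) : C1[x] ≠ ⊤ := by
  rw [← cent_zpowers]; exact mFT_cent_proper (zpowers_ne_bot.2 h)

theorem mFT_norm_pgroup_proper (hp : p.Prime) (h : IsPGroup p H) (h1 : H ≠ ⊥) : N[H] ≠ ⊤ :=
  mFT_norm_proper h1 (mFT_pgroup_proper hp h)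

omit [Finite G] in
theorem mFT_commutator_top : ⁅(⊤ : Subgroup G), (⊤ : Subgroup G)⁆ = ⊤ :=
  (mFT_normal _ inferInstance).resolve_left fun h =>
    mFT_comm_proper (comm_iff_le_cent.2 (le_cent_iff_commutator_eq_bot.2 h)) rfl

omit [Finite G] in
theorem mFT_prime_ne_two (hd : p ∣ Nat.card H) : p ≠ 2 := PG.ne_two_of_odd_of_dvd (mFT_odd H) hd

omit [Finite G] in
theorem mFT_prime_odd (hd : p ∣ Nat.card H) : Odd p := (mFT_odd H).of_dvd_nat hd

theorem mFT_pgroup_ne_two (hp : p.Prime) (h : IsPGroup p H) (h1 : H ≠ ⊥) : p ≠ 2 :=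
  mFT_prime_ne_two (prime_dvd_card_of_isPGroup hp h h1)

omit [Finite G] in
theorem mFT_odd_im {Q : Type*} [Group Q] {D : Subgroup G} (f : D →* Q) (H : Subgroup G) :
    Odd (Nat.card (im f H)) := odd_im (mFT_odd H)

theorem any_mmax : ∃ M : Subgroup G, IsCoatom M := (mmax_exists mFT_bot_ne_top).imp fun _ h => h.1

omit [Finite G] in
/-- `mmax_norm` -/
theorem mmax_norm (hM : IsCoatom M) (h1 : X ≠ ⊥) (h2 : X ≠ ⊤) (h : M ≤ N[X]) : N[X] = M :=
  mmax_max hM (mFT_norm_proper h1 h2) h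

omit [Finite G] in
/-- `mmax_normal` -/
theorem mmax_normal (hM : IsCoatom M) (hX : X ≤ M) (h : M ≤ N[X]) (h1 : X ≠ ⊥) : N[X] = M :=
  mmax_norm hM h1 (sub_mmax_proper hM hX) h

omit [Finite G] in
theorem mmax_normal_cent_le (hM : IsCoatom M) (hX : X ≤ M) (h : M ≤ N[X]) (h1 : X ≠ ⊥) :
    C[X] ≤ M := mmax_normal hM hX h h1 ▸ cent_le_norm X

theorem mmax_neq1 (hM : IsCoatom M) : M ≠ ⊥ := by
  rintro rfl
  obtain ⟨X, -, hX⟩ := exists_le_card_prime (mFT_bot_ne_top (G := G)).symm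
  exact ne_bot_of_card_prime hX (mmax_max hM
    (mFT_comm_proper (isMulCommutative_of_isCyclic (isCyclic_of_card_prime hX))) bot_le)

/-- `norm_mmax` -/
theorem norm_mmax (hM : IsCoatom M) : N[M] = M := mmax_normal hM le_rfl le_normalizer (mmax_neq1 hM)

theorem mem_of_conj_mmax_eq (hM : IsCoatom M) (h : cj[g] M = M) : g ∈ M :=
  norm_mmax hM ▸ conj_eq_self_iff.1 h

theorem conj_mmax_eq_iff (hM : IsCoatom M) : cj[g] M = M ↔ g ∈ M :=
  ⟨mem_of_conj_mmax_eq hM, conj_eq_self_of_mem⟩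

/-- `uniq_mmax_norm_sub` -/
theorem UMax.norm_le (h : UMax X M) : N[X] ≤ M := fun _ hg => mem_of_conj_mmax_eq h.1 (h.conj_eq hg)

theorem UMax.cent_le (h : UMax X M) : C[X] ≤ M := (cent_le_norm X).trans h.norm_le

/-- if `𝓜(X) = {M}` and `X ≤ M^g` then `g ∈ M` -/
theorem UMax.mem_of_le_conj (h : UMax X M) (hg : X ≤ cj[g] M) : g ∈ M :=
  mem_of_conj_mmax_eq h.1 (h.eq (isCoatom_conj g h.1) hg)

theorem UMax.ne_bot (h : UMax X M) : X ≠ ⊥ := by
  rintro rfl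
  exact h.1.1 (eq_top_iff.2 (norm_bot (G := G) ▸ h.norm_le))

theorem _root_.Cfsg.InUniqueMaximal.ne_bot (h : InUniqueMaximal X) : X ≠ ⊥ :=
  let ⟨_, h⟩ := h.exists; h.ne_bot

theorem mmax_set_norm (hM : IsCoatom M) {S : Set G} (hS : S ⊆ M) (hx : x ∈ S) (hx1 : x ≠ 1)
    (h : ∀ a ∈ S, ∀ m ∈ M, m * a * m⁻¹ ∈ S) : Subgroup.normalizer S = M := by
  have hMS : M ≤ Subgroup.normalizer S := fun m hm =>
    mem_set_normalizer_iff_of_forall (fun a ha => h a ha m hm) (fun a ha => h a ha _ (M.inv_mem hm))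
  have key : Subgroup.normalizer S ≤ N[closure S] := by
    rw [le_norm_iff]
    intro a ha y hy
    have : cj[a] (closure S) ≤ closure S := by
      rw [MonoidHom.map_closure, closure_le]
      rintro _ ⟨s, hs, rfl⟩
      exact subset_closure ((mem_set_normalizer_iff.1 ha s).1 hs)
    exact this (conj_mem_conj.2 hy)
  have h2 : N[closure S] = M := mmax_normal hM ((closure_le _).2 hS) (hMS.trans key)
    (ne_bot_of_mem (subset_closure hx) hx1)
  exact le_antisymm (h2 ▸ key) hMS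

theorem mFT_rank1_cyclic (hp : p.Prime) (h : IsPGroup p P) (hr : PRankLE p 1 P) : IsCyclic P := by
  have := Fact.mk hp
  by_cases h1 : P = ⊥
  · subst h1; infer_instance
  exact PG.isCyclic_of_pRankLE_one (mFT_pgroup_ne_two hp h h1) h hr

/-- `κ(M)` in math-comp's form -/
theorem mem_kappa_iff : p ∈ kappa M ↔
    (p ∈ tau1 M ∨ p ∈ tau3 M) ∧ ∃ P, PnElem p 1 M P ∧ Mσ[M] ⊓ C[P] ≠ ⊥ := by
  constructor
  · rintro ⟨hp, hd, hs, h⟩
    have := Fact.mk hp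
    obtain ⟨S⟩ : Nonempty (Sylow p M) := inferInstance
    obtain ⟨hc, x, hx, hx1, y, hy, hy1, e⟩ := h S
    have hr : PRankLE p 1 M :=
      (PG.pRankLE_sylow_iff S).1 (PG.pRankLE_one_of_isCyclic hp hc)
    refine ⟨?_, ?_⟩
    · by_cases h' : p ∣ Nat.card ↥⁅M, M⁆
      · exact Or.inr ⟨hp, hs, h', hr⟩
      · exact Or.inl ⟨hp, hs, hd, h', hr⟩
    · have hxp : IsPGroup p (zpowers (x : G)) := by
        have := (S.isPGroup'.to_le (zpowers_le.2 hx)).map M.subtype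
        rwa [MonoidHom.map_zpowers] at this
      have hx1' : (x : G) ≠ 1 := fun h => hx1 (Subtype.ext h)
      obtain ⟨P, hP⟩ := exists_pnElem_one hp
        (prime_dvd_card_of_isPGroup hp hxp (zpowers_ne_bot.2 hx1'))
      refine ⟨P, hP.mono (zpowers_le.2 x.2), ne_bot_of_mem (x := y) ⟨hy, ?_⟩ hy1⟩
      refine cent_anti hP.le ?_
      rw [cent_zpowers, mem_cent1]; exact e.symm
  · rintro ⟨h, P, hP, hc⟩
    have h' : p.Prime ∧ p ∉ sigma M ∧ PRankLE p 1 M :=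
      h.elim (fun h => ⟨h.1, h.2.1, h.2.2.2.2⟩) (fun h => ⟨h.1, h.2.1, h.2.2.2⟩)
    obtain ⟨hp, hs, hr⟩ := h'
    have := Fact.mk hp
    refine ⟨hp, hP.dvd_card, hs, fun S => ⟨?_, ?_⟩⟩
    · have hS := syl_of_sylow hp S
      have := mFT_rank1_cyclic hp (syl_isPGroup hp hS) (pRankLE_of_le hr hS.le)
      exact (isCyclic_map_iff M.subtype_injective).1 this
    · obtain ⟨g, hg, hle⟩ := syl_exists_conj_le hp (syl_of_sylow hp S) hP.isPGroup hP.le
      obtain ⟨x, hx, hx1⟩ := exists_ne_one_of_ne_bot (hP.ne_bot hp)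
      obtain ⟨y, hy, hy1⟩ := exists_ne_one_of_ne_bot hc
      obtain ⟨z, hz, e⟩ := hle (conj_mem_conj.2 hx)
      have e' : (z : G) = g * x * g⁻¹ := e
      refine ⟨z, hz, fun h => hx1 ?_, g * y * g⁻¹,
        conj_mem_of_le_norm (le_norm_sigmaCore M) hg hy.1, fun h => hy1 (by simpa using h), ?_⟩
      · rw [h] at e'; simpa using e'.symm
      · rw [e']
        have := mem_centralizer_iff.1 hy.2 x hx
        calc g * x * g⁻¹ * (g * y * g⁻¹) = g * (x * y) * g⁻¹ := by group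
          _ = g * (y * x) * g⁻¹ := by rw [this]
          _ = _ := by group

theorem kappa_conj (g : G) (M : Subgroup G) : kappa (cj[g] M) = kappa M := by
  have key : ∀ (g : G) (M : Subgroup G) (p : ℕ), p ∈ kappa M → p ∈ kappa (cj[g] M) := by
    intro g M p h
    obtain ⟨h1, P, hP, hc⟩ := mem_kappa_iff.1 h
    refine mem_kappa_iff.2 ⟨by rwa [tau1_conj, tau3_conj], _, hP.conj g, ?_⟩
    rwa [← conj_sigmaCore, ← conj_centralizer, ← conj_inf, Ne, conj_eq_bot_iff]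
  ext p
  exact ⟨fun h => by simpa using key g⁻¹ _ p h, key g M p⟩

end MFT

end Cfsg.Agent.BG
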