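import Cfsg.Agent.BG.S03g

/-! B&G 3.6: the final contradiction. -/

set_option autoImplicit false
set_option linter.unusedSectionVars false

namespace Cfsg.Agent.BG

open Subgroup Cfsg.Agent.GT
open scoped commutatorElement

universe u

variable {G : Type u} [Group G] [Finite G] {A B H K L M P Q R V X Y : Subgroup G} {p q n : ℕ}

theorem ncard_conj_orbit (X Y : Subgroup G) :
    {Z | ∃ g ∈ X, Z = cj[g] Y}.ncard = N[Y].relIndex X := by
  let _ : MulAction X (Subgroup G) :=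
    { smul := fun g H => cj[(g : G)] H
      one_smul := fun H => one_conj H
      mul_smul := fun a b H => mul_conj a.1 b.1 H }
  have h1 : {Z | ∃ g ∈ X, Z = cj[g] Y} = MulAction.orbit X Y :=
    Set.ext fun Z => ⟨fun ⟨g, hg, e⟩ => ⟨⟨g, hg⟩, e.symm⟩, fun ⟨g, e⟩ => ⟨g, g.2, e.symm⟩⟩
  have h2 : MulAction.stabilizer X Y = N[Y].subgroupOf X :=
    Subgroup.ext fun g => conj_eq_self_iff
  rw [h1, relIndex, ← h2, MulAction.index_stabilizer]

theorem exists_norm_map (hV : IsMulCommutative V) (hR : R ≤ N[V]) : ∃ ν : G → G,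
    (∀ v ∈ V, ∀ w ∈ V, ν (v * w) = ν v * ν w) ∧ (∀ v ∈ V, ν v ∈ V ⊓ C[R]) ∧
    (∀ v ∈ V, ∀ X : Subgroup G, (∀ x ∈ R, x * v * x⁻¹ ∈ X) → ν v ∈ X) ∧
    ∀ v ∈ V, ∀ X : Subgroup G, (∀ x ∈ R, x ≠ 1 → x * v * x⁻¹ ∈ X) → v⁻¹ * ν v ∈ X := by
  classical
  have := Fintype.ofFinite R
  let σ : R →* Module.End ℤ (AbV V) := (conjEnd V).comp (inclusion hR)
  have hσ : ∀ (x : R) v, (σ x v).val = x * v.val * (x : G)⁻¹ := fun _ _ => rfl
  have hs : ∀ (X : Subgroup G) (s : Finset R) (v : AbV V), (∀ x ∈ s, (σ x v).val ∈ X) →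
      (∑ x ∈ s, σ x v).val ∈ X := fun X s v h =>
    Finset.sum_induction _ (fun w : AbV V => w.val ∈ X) (fun a b ha hb => mul_mem ha hb)
      (one_mem X) h
  refine ⟨fun v => if h : v ∈ V then (∑ x, σ x (AbV.mk v h)).val else 1, fun v hv w hw => ?_,
    fun v hv => ?_, fun v hv X h => ?_, fun v hv X h => ?_⟩
  · simp only [dif_pos hv, dif_pos hw, dif_pos (mul_mem hv hw)]
    rw [← AbV.val_add, ← Finset.sum_add_distrib]
    exact congrArg _ (Finset.sum_congr rfl fun x _ => map_add (σ x) (AbV.mk v hv) (AbV.mk w hw))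
  · simp only [dif_pos hv]
    refine ⟨AbV.val_mem _, fun y hy => ?_⟩
    rw [← mul_inv_eq_iff_eq_mul, ← hσ ⟨y, hy⟩, map_sum,
      ← Equiv.sum_comp (Equiv.mulLeft ⟨y, hy⟩) fun x => σ x (AbV.mk v hv)]
    simp only [Equiv.coe_mulLeft, map_mul, Module.End.mul_apply]
  · simp only [dif_pos hv]
    exact hs X _ _ fun x _ => h x x.2
  · simp only [dif_pos hv]
    rw [← Finset.add_sum_erase _ _ (Finset.mem_univ 1), map_one, AbV.val_add, Module.End.one_apply,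
      AbV.val_mk, inv_mul_cancel_left]
    exact hs X _ _ fun x hx => h x x.2 fun e => (Finset.mem_erase.1 hx).1 (Subtype.ext e)

theorem plength1_final (hp : p.Prime) (hq : q.Prime) (hV : IsElementaryAbelian p V)
    (hK : IsElementaryAbelian q K) (hP : IsPGroup p P) (hR : (Nat.card R).Prime)
    (hKV : K ≤ N[V]) (hAV : P ⊔ R ≤ N[V]) (hAK : P ⊔ R ≤ N[K]) (hRP : R ≤ N[P])
    (ho : Odd (Nat.card ↥(P ⊔ R))) (oK : Odd (Nat.card K)) (pK : ¬ p ∣ Nat.card K)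
    (pR : ¬ p ∣ Nat.card R) (cKR : (Nat.card K).Coprime (Nat.card R))
    (hf : K ⊓ C[V] = ⊥) (hVK : V ⊓ C[K] = ⊥) (hD : Nat.card ↥(V ⊓ C[R]) = p)
    (hK1 : Nat.card K = q * Nat.card ↥⁅K, R⁆) (hP1 : ¬ P ≤ N[⁅K, R⁆]) (h3 : q ^ 3 ∣ Nat.card K) :
    P ≤ C[V] := by
  have := Fact.mk hp
  have hRV := le_sup_right.trans hAV
  have hRK := le_sup_right.trans hAK
  have oR := odd_card_of_le ho le_sup_right
  have hc : (Nat.card V).Coprime (Nat.card K) := (PG.coprime_card_of_coprime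
    (isPGroup_of_elementary hV) (Nat.coprime_comm.1 (hp.coprime_iff_not_dvd.2 pK))).symm
  have hKc : ∀ {B}, B ≤ K → K ≤ C[B] := fun h =>
    (isMulCommutative_iff_le_cent.1 hK.1).trans (cent_anti h)
  have hKW : ∀ {B}, B ≤ K → K ≤ N[V ⊓ C[B]] := fun h =>
    le_norm_inf hKV (le_norm_cent (le_norm_of_cent (hKc h)))
  set K1 := ⁅K, R⁆ with hK1d
  have hK1K : K1 ≤ K := commutator_le_of_le_norm_left hRK
  let Hy : Subgroup G → Prop := fun B => B ≤ K ∧ Nat.card K = q * Nat.card B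
  have hcj : ∀ g ∈ P ⊔ R, ∀ B, Hy B → Hy (cj[g] B) := fun g hg B hB =>
    ⟨conj_eq_self (hAK hg) ▸ conj_mono g hB.1, by rw [card_conj, hB.2]⟩
  have hcW : ∀ g ∈ P ⊔ R, ∀ B : Subgroup G, V ⊓ C[cj[g] B] = cj[g] (V ⊓ C[B]) := fun g hg B => by
    rw [conj_inf, conj_eq_self (hAV hg), conj_centralizer]
  have hsup : ∀ B C, Hy B → Hy C → B ≠ C → B ⊔ C = K := fun B C hB hC h =>
    PG.sup_eq_of_card_eq_mul hq hB.1 hB.2 hC.1 fun hle => h (eq_of_le_of_card_ge hle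
      (Nat.eq_of_mul_eq_mul_left hq.pos (hB.2.symm.trans hC.2)).le).symm
  have gen : ∀ X, (∀ B, Hy B → V ⊓ C[B] ≠ ⊥ → V ⊓ C[B] ≤ X) → V ≤ X := fun X h =>
    coprime_elemAb_gen_cent hq hK hKV hc fun B hB hd => by
      by_cases h0 : V ⊓ C[B] = ⊥
      · exact h0 ▸ bot_le
      refine h B ⟨hB, ?_⟩ h0
      have := Fact.mk hq
      exact Nat.dvd_antisymm hd (PG.mul_card_dvd_card_of_lt (isPGroup_of_elementary hK)
        (hB.lt_of_ne fun e => h0 (e ▸ hVK)))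
  have hW : ∀ B C, Hy B → Hy C → B ≠ C → V ⊓ C[C] ≤ ⁅V, B⁆ := fun B C hB hC h => by
    rw [← coprime_commutator_sup_cent (.inr (solvable_of_comm (comm_of_le hK.1 hB.1)))
      (hB.1.trans (hKW hC.1)) (coprime_card_of_le hc inf_le_left hB.1), inf_assoc, ← cent_sup,
      hsup C B hC hB h.symm, hVK, sup_bot_eq]
    exact commutator_mono inf_le_left le_rfl
  have hI : ∀ B, Hy B → ⁅V, B⁆ ⊓ C[B] = ⊥ := fun B hB =>
    coprime_comm_commutator_inf_cent hV.1 (hB.1.trans hKV) (coprime_card_of_le hc le_rfl hB.1)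
  obtain ⟨ν, n1, n2, n3, n4⟩ := exists_norm_map hV.1 hRV
  have hν : ∀ B, Hy B → ¬ R ≤ N[B] → ∀ v ∈ V ⊓ C[B], ν v ∈ ⁅V, B⁆ → v = 1 := fun B hB hn v hv h => by
    have := n4 v hv.1 ⁅V, B⁆ fun x hx h1 => hW B _ hB (hcj x (mem_sup_right hx) B hB)
      (fun e => hn (by
        rw [eq_zpowers_of_card_prime hR hx h1, zpowers_le]; exact conj_eq_self_iff.1 e.symm))
      (by rw [hcW x (mem_sup_right hx)]; exact conj_mem_conj.2 hv)
    rw [mul_mem_cancel_right h, inv_mem_iff] at this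
    exact mem_bot.1 ((hI B hB).le ⟨this, hv.2⟩)
  have hD1 := ne_bot_of_card_prime (hD ▸ hp)
  have key : ∀ B, Hy B → V ⊓ C[B] ≠ ⊥ → B ≠ K1 → ¬ V ⊓ C[R] ≤ ⁅V, B⁆ ∧
      ∀ C, Hy C → (∀ x ∈ R, C ≠ cj[x] B) → V ⊓ C[R] ≤ ⁅V, C⁆ := fun B hB h0 h1 => by
    by_cases hn : R ≤ N[B]
    · have : V ⊓ C[R] ≤ C[B] := (le_or_inf_eq_bot_of_card_prime (hD ▸ hp) _).resolve_right
        fun h => h0 (le_bot_iff.1 (hVK.le.trans' (le_inf inf_le_left (le_cent_symm ?_))))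
      · exact ⟨fun h => hD1 (le_bot_iff.1 ((le_inf h this).trans (hI B hB).le)), fun C hC h =>
          (le_inf inf_le_left this).trans (hW C B hC hB (one_conj B ▸ h 1 (one_mem _)))⟩
      · rw [← hsup B K1 hB ⟨hK1K, hK1⟩ h1]
        exact sup_le (le_cent_symm inf_le_right) (cent1_aux _ rfl hp
          ⟨comm_of_le hV.1 inf_le_left, fun x hx => hV.2 x hx.1⟩ hRK cKR oK oR hR (hKW hB.1)
          (le_norm_inf hRV (le_norm_cent hn)) pK pR (by rwa [inf_right_comm]))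
    · obtain ⟨v, hv, hv1⟩ := exists_ne_one_of_ne_bot h0
      refine ⟨fun h => hv1 (hν B hB hn v hv (h (n2 v hv.1))), fun C hC h => ?_⟩
      rw [eq_zpowers_of_card_prime (hD ▸ hp) (n2 v hv.1)
        fun e => hv1 (hν B hB hn v hv (e ▸ one_mem _)), zpowers_le]
      exact n3 v hv.1 _ fun x hx => hW C _ hC (hcj x (mem_sup_right hx) B hB) (h x hx)
        (by rw [hcW x (mem_sup_right hx)]; exact conj_mem_conj.2 hv)
  have orb : ∀ B C, Hy B → V ⊓ C[B] ≠ ⊥ → B ≠ K1 → Hy C → V ⊓ C[C] ≠ ⊥ → C ≠ K1 →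
      ∃ x ∈ R, C = cj[x] B := fun B C b1 b2 b3 c1 c2 c3 => by
    by_contra! h
    exact (key C c1 c2 c3).1 ((key B b1 b2 b3).2 C c1 h)
  have hreg : ∀ B, Hy B → V ⊓ C[B] ≠ ⊥ → B ≠ K1 → ¬ R ≤ N[B] := fun B b1 b2 b3 hn => by
    have h1 : B ⊓ K1 = ⊥ := le_bot_iff.1 (hf.le.trans' (le_inf (inf_le_left.trans b1.1)
      (le_cent_symm (gen _ fun C c1 c2 => inf_le_right.trans (cent_anti ?_)))))
    · have h2 := card_sup_of_inf_eq_bot (.inl (b1.1.trans (le_norm_of_cent (hKc hK1K)))) h1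
      rw [hsup B K1 b1 ⟨hK1K, hK1⟩ b3, b1.2, mul_comm q, mul_right_inj' (card_pos' B).ne'] at h2
      rw [hK1, ← h2, ← sq, Nat.pow_dvd_pow_iff_le_right hq.one_lt] at h3
      omega
    · by_cases c3 : C = K1
      · exact c3 ▸ inf_le_right
      · obtain ⟨x, hx, rfl⟩ := orb B C b1 b2 b3 c1 c2 c3
        rw [conj_eq_self (hn hx)]
        exact inf_le_left
  have hRo : ∀ B, Hy B → V ⊓ C[B] ≠ ⊥ → B ≠ K1 →
      {Z | ∃ g ∈ R, Z = cj[g] B}.ncard = Nat.card R := fun B b1 b2 b3 => by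
    rw [ncard_conj_orbit, ← card_inf_mul_relIndex N[B] R, inf_comm,
      (le_or_inf_eq_bot_of_card_prime hR _).resolve_left (hreg B b1 b2 b3), card_bot, one_mul]
  have hRK1 : R ≤ N[K1] := normalizer_commutator_ge_right K R
  have hno : V ⊓ C[K1] = ⊥ := by
    by_contra h0
    obtain ⟨y, hy, hy1⟩ := SetLike.not_le_iff_exists.1 hP1
    have hy' : y ∈ P ⊔ R := mem_sup_left hy
    have b1 := hcj y hy' K1 ⟨hK1K, hK1⟩
    have b2 : V ⊓ C[cj[y] K1] ≠ ⊥ := by rwa [hcW y hy', Ne, conj_eq_bot_iff]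
    have b3 : cj[y] K1 ≠ K1 := fun e => hy1 (conj_eq_self_iff.1 e)
    have : {Z | ∃ g ∈ P ⊔ R, Z = cj[g] K1} = insert K1 {Z | ∃ g ∈ R, Z = cj[g] cj[y] K1} := by
      ext Z
      constructor
      · rintro ⟨g, hg, rfl⟩
        by_cases c3 : cj[g] K1 = K1
        · exact .inl c3
        · exact .inr (orb _ _ b1 b2 b3 (hcj g hg K1 ⟨hK1K, hK1⟩)
            (by rwa [hcW g hg, Ne, conj_eq_bot_iff]) c3)
      · rintro (rfl | ⟨g, hg, rfl⟩)
        · exact ⟨1, one_mem _, (one_conj _).symm⟩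
        · exact ⟨g * y, mul_mem (mem_sup_right hg) hy', (mul_conj _ _ _).symm⟩
    have h1 := congrArg Set.ncard this
    have h2 : K1 ∉ {Z | ∃ g ∈ R, Z = cj[g] cj[y] K1} := fun ⟨g, hg, e⟩ => b3 (by
      rw [eq_comm, conj_eq_iff, conj_eq_self (hRK1 (inv_mem hg))] at e; exact e)
    rw [ncard_conj_orbit, Set.ncard_insert_of_notMem h2, hRo _ b1 b2 b3] at h1
    exact Nat.not_odd_iff_even.2 oR.add_one (h1 ▸ ho.of_dvd_nat (relIndex_dvd_card' _ _))
  refine le_cent_symm (gen _ fun B b1 b2 => le_cent_symm ?_)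
  have hne : ∀ {C}, V ⊓ C[C] ≠ ⊥ → C ≠ K1 := fun h e => h (e ▸ hno)
  have : {Z | ∃ g ∈ P ⊔ R, Z = cj[g] B} = {Z | ∃ g ∈ R, Z = cj[g] B} := by
    ext Z
    refine ⟨?_, fun ⟨g, hg, e⟩ => ⟨g, mem_sup_right hg, e⟩⟩
    rintro ⟨g, hg, rfl⟩
    have c2 : V ⊓ C[cj[g] B] ≠ ⊥ := by rwa [hcW g hg, Ne, conj_eq_bot_iff]
    exact orb _ _ b1 b2 (hne b2) (hcj g hg B b1) c2 (hne c2)
  have h1 := congrArg Set.ncard this
  rw [ncard_conj_orbit, hRo _ b1 b2 (hne b2), ← inf_relIndex_right] at h1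
  have h2 := relIndex_dvd_relIndex_of_norm_or (H := N[B] ⊓ (P ⊔ R)) (K := P) inf_le_right
    le_sup_left (.inl (inf_le_right.trans (sup_le (le_norm_self le_rfl) hRP)))
  have hPB : P ≤ N[B] := (by_contra fun h => pR (h1 ▸ (PG.dvd_relIndex_of_not_le hP h).trans h2) :
    P ≤ N[B] ⊓ (P ⊔ R)).trans inf_le_left
  refine PG.le_cent_of_card_le_p hP ((isPGroup_of_elementary hV).to_le inf_le_left)
    (le_norm_inf (le_sup_left.trans hAV) (le_norm_cent hPB)) ?_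
  have := PG.card_le_mul_of_hom (R := V ⊓ C[B]) (K := ⊥) ν (fun x hx y hy => n1 x hx.1 y hy.1)
    (fun x (hx : x ∈ V ⊓ C[B]) => n2 x hx.1)
    fun x hx e => mem_bot.2 (hν B b1 (hreg B b1 b2 (hne b2)) x hx (e ▸ one_mem _))
  rwa [card_bot, one_mul, hD] at this

theorem card_eq_of_isCyclic_of_pow (hp : p.Prime) (hc : IsCyclic X) (he : ∀ x ∈ X, x ^ p = 1)
    (h : X ≠ ⊥) : Nat.card X = p := by
  obtain ⟨x, rfl⟩ := PG.isCyclic_iff_exists.1 hc
  exact PG.card_zpowers_eq_prime hp (he x (mem_zpowers x)) fun e => h (zpowers_eq_bot.2 e)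

theorem plength1_middle (hp : p.Prime) (hV : IsElementaryAbelian p V) (hP : IsPGroup p P)
    (hR : (Nat.card R).Prime) (hKV : K ≤ N[V]) (hAV : P ⊔ R ≤ N[V]) (hAK : P ⊔ R ≤ N[K])
    (hRP : R ≤ N[P]) (ho : Odd (Nat.card ↥(P ⊔ R))) (oK : Odd (Nat.card K))
    (pK : ¬ p ∣ Nat.card K) (pR : ¬ p ∣ Nat.card R) (cKR : (Nat.card K).Coprime (Nat.card R))
    (hf : K ⊓ C[V] = ⊥) (hVK : V ⊓ C[K] = ⊥) (hD : Nat.card ↥(V ⊓ C[R]) = p)
    (hPR : P ⊓ C[R] = ⊥) (hs : Group.IsSolvable K) (hZ : IsZGroup ↥(K ⊓ C[R]))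
    (hmin : ∀ X, X < K → P ⊔ R ≤ N[X] → X ≤ C[P]) (hne : ¬ K ≤ C[P]) : P ≤ C[V] := by
  have := Fact.mk hp
  have hPK := le_sup_left.trans hAK
  have hRK := le_sup_right.trans hAK
  have cKP : (Nat.card K).Coprime (Nat.card P) :=
    PG.coprime_card_of_coprime hP (Nat.coprime_comm.1 (hp.coprime_iff_not_dvd.2 pK))
  have cKA : (Nat.card K).Coprime (Nat.card ↥(P ⊔ R)) :=
    (cKP.mul_right cKR).coprime_dvd_right (card_sup_dvd (.inr hRP))
  obtain ⟨q, hq, hKq⟩ := exists_isPGroup_of_min_action (.inl hs) hAK cKA hmin hne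
  have := Fact.mk hq
  have hK0 : K ≠ ⊥ := fun h => hne (h ▸ bot_le)
  have hqK := prime_dvd_card_of_isPGroup hq hKq hK0
  obtain ⟨-, h2, -, -, h4, h5⟩ := special_of_min_action hq hKq hAK hPK
    (sup_le (le_norm_self le_rfl) hRP) (cKP.coprime_dvd_left hqK).symm hmin hne
  replace h5 := h5 (PG.ne_two_of_odd_of_dvd oK hqK)
  have hK' : K ≤ K ⊔ (P ⊔ R) := le_sup_left
  have hP' : P ≤ K ⊔ (P ⊔ R) := le_sup_left.trans le_sup_right
  have hR' : R ≤ K ⊔ (P ⊔ R) := le_sup_right.trans le_sup_right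
  obtain ⟨Q, _, _, f, -, hk⟩ := exists_quo' (K ⊔ (P ⊔ R)) ⁅K, K⁆ ((der1_le K).trans hK')
    (sup_le (self_le_norm_der1 K) (le_norm_commutator hAK hAK))
  have w := semiregular_Wielandt (M := im f K) (im_norm hRP)
    (semiregular_im (semiregular_of_prime hR hPR) hRP hP' hR')
    (by rw [← im_sup hP' hR']; exact im_norm hAK) (by rw [← im_sup hP' hR']; exact coprime_im cKA)
    (solvable_im hs)
  have w1 : im f K ⊓ C[im f P] = ⊥ := by
    rw [← im_inf_cent_of_coprime' hK' hP' hPK (.inl hs) cKP, h2, ← hk, im_kr]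
  rw [w1, le_bot_iff.1 ((inf_le_inf_left _ (cent_anti le_sup_left)).trans w1.le), card_bot, one_pow,
    one_mul, mul_one, ← im_inf_cent_of_coprime' hK' hR' hRK (.inl hs) cKR,
    card_im_of_inf_eq_bot hR' (by
      rw [hk]; exact GT.inf_eq_bot_of_coprime (coprime_card_of_le cKR.symm le_rfl (der1_le K)))] at w
  have hC : ¬ K ⊓ C[R] ≤ ⁅K, K⁆ := fun h => by
    rw [im_eq_bot_of_le (h.trans hk.ge), card_bot, one_pow, card_eq_one, im_eq_bot_iff hK', hk] at w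
    exact (commutator_lt_of_solvable hs hK0).not_ge w
  have hCq : Nat.card ↥(K ⊓ C[R]) = q := card_eq_of_isCyclic_of_pow hq
    (zgroup_cyclic hZ hq le_rfl (hKq.to_le inf_le_left)) (fun x hx => h5 x hx.1)
    fun h => hC (h ▸ bot_le)
  have hCK := (le_or_inf_eq_bot_of_card_prime (hCq ▸ hq) _).resolve_left hC
  rw [card_im_of_inf_eq_bot (inf_le_left.trans hK') (hk ▸ hCK), hCq] at w
  have hc : Nat.card K = Nat.card ↥⁅K, K⁆ * q ^ Nat.card R := by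
    rw [card_eq_card_kr_mul (f := f) hK' (hk ▸ der1_le K), hk, w]
  have r3 : 3 ≤ Nat.card R := by
    have := hR.two_le
    have := (odd_card_of_le ho le_sup_right).ne_two_of_dvd_nat dvd_rfl
    omega
  have hK1K : ⁅K, R⁆ ≤ K := commutator_le_of_le_norm_left hRK
  have hKK1 : K ≤ N[⁅K, R⁆] := normalizer_commutator_ge_left K R
  have hRK1 : R ≤ N[⁅K, R⁆] := normalizer_commutator_ge_right K R
  have a1 : ⁅K, R⁆ ⊓ C[R] = ⊥ := le_bot_iff.1 (hCK.le.trans' (le_inf (inf_le_inf_right _ hK1K)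
    (coprime_commutator_inf_cent_le hRK cKR)))
  have a2 : Nat.card K = q * Nat.card ↥⁅K, R⁆ := by
    rw [mul_comm, ← hCq, ← card_sup_of_inf_eq_bot (.inr (inf_le_left.trans hKK1))
      (by rw [← inf_assoc, inf_eq_left.2 hK1K, a1]), coprime_commutator_sup_cent (.inl hs) hRK cKR]
  have a3 : ⁅K, R⁆ ≤ C[⁅K, R⁆] := le_cent_iff_commutator_eq_bot.2 (le_bot_iff.1 (hf.le.trans'
    (le_inf ((der1_le _).trans hK1K) ((wielandt_elem hp hV hRK1 (semiregular_of_prime hR a1)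
      (sup_le (hK1K.trans hKV) (le_sup_right.trans hAV))
      fun h => pK (h.trans (card_dvd_of_le hK1K))).2 hD.le))))
  have big : ∀ X : Subgroup G, X ≤ ⁅K, K⁆ → Nat.card K ≠ q ^ 2 * Nat.card X ∧
      Nat.card K ≠ q * Nat.card X := fun X hX => by
    have h1 := card_le_of_le hX
    have h2 := Nat.pow_le_pow_right hq.pos r3
    have h3 := card_pos' X
    have h4 := hq.one_lt
    have h5 : q ^ 3 * Nat.card X ≤ Nat.card K := by rw [hc, mul_comm]; gcongr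
    constructor <;> intro h <;> rw [h, Nat.mul_le_mul_right_iff h3] at h5
    · exact absurd ((Nat.pow_le_pow_iff_right h4).1 h5) (by omega)
    · exact absurd ((Nat.pow_le_pow_iff_right h4).1 (h5.trans (pow_one q).ge)) (by omega)
  have a4 : ¬ P ≤ N[⁅K, R⁆] := fun h => (big _ ((le_inf hK1K (hmin _
    (PG.lt_of_card_eq_mul hq hK1K a2) (sup_le h hRK1))).trans h2.le)).2 a2
  have hab : IsMulCommutative K := by
    by_contra hab
    obtain ⟨y, hy, hy1⟩ := SetLike.not_le_iff_exists.1 a4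
    have b1 : cj[y] ⁅K, R⁆ ≤ K := (conj_mono y hK1K).trans (conj_eq_self (hPK hy)).le
    have b2 := PG.sup_eq_of_card_eq_mul hq hK1K a2 b1 fun h => hy1 (mem_normalizer_of_conj_le h)
    have b3 := card_sup_mul_card_inf' (b1.trans hKK1)
    rw [b2, card_conj] at b3
    refine (big (⁅K, R⁆ ⊓ cj[y] ⁅K, R⁆) ((le_inf (inf_le_left.trans hK1K) ?_).trans (h4 hab).le)).1
      (Nat.eq_of_mul_eq_mul_left (card_pos' K) ?_)
    · conv_rhs => rw [← b2, cent_sup]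
      exact inf_le_inf a3 (conj_le_cent_conj_iff.2 a3)
    · rw [mul_left_comm, b3, a2]; ring
  exact plength1_final hp hq hV ⟨hab, h5⟩ hP hR hKV hAV hAK hRP ho oK pK pR cKR hf hVK hD a2 a4
    (hc ▸ (pow_dvd_pow q r3).mul_left _)

end Cfsg.Agent.BG
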