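import Cfsg.Agent.BG.S03d
import Cfsg.Agent.BG.S03h

/-! Bender–Glauberman §2–3 (group forms). No minimal-counterexample hypothesis here.
Wielandt's formula, 3.3, 3.5, 3.7 and 3.10 are in `BG/S03c`, 2.7 in `S03d`, 2.5 in `S03f`,
3.4 and 3.8 in `S03g`. -/

set_option autoImplicit false
set_option linter.unusedSectionVars false
set_option linter.unusedVariables false

namespace Cfsg.Agent.BG

open Subgroup Cfsg.Agent.GT

universe u

variable {G : Type u} [Group G] [Finite G] {H K L M P Q R R₀ V : Subgroup G} {p q n : ℕ}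

theorem plength1_aux (hp : p.Prime) (n : ℕ) : ∀ {G : Type u} [Group G] [Finite G]
    {H R R₀ : Subgroup G}, Nat.card H + Nat.card R = n → R ≤ N[H] →
    (Nat.card H).Coprime (Nat.card R) → Group.IsSolvable H → Odd (Nat.card H) → Odd (Nat.card R) →
    R₀ ≤ R → (Nat.card R₀).Prime → IsZGroup ↥(H ⊓ C[R₀]) → PLengthLE p 1 ↥⁅H, R⁆ := by
  induction n using Nat.strong_induction_on with | _ n ih => ?_
  intro G _ _ H R R₀ hn hRH hc hs oH oR hR₀ hr hZ
  have := Fact.mk hp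
  have sub : ∀ H₁ R₁ : Subgroup G, H₁ ≤ H → R₁ ≤ R → R₀ ≤ R₁ → R₁ ≤ N[H₁] →
      Nat.card H₁ + Nat.card R₁ < n → PLengthLE p 1 ↥⁅H₁, R₁⁆ := fun H₁ R₁ h1 h2 h3 h4 h5 =>
    ih _ h5 rfl h4 (coprime_card_of_le hc h1 h2) (solv_of_le hs h1) (odd_card_of_le oH h1)
      (odd_card_of_le oR h2) h3 hr (isZGroup_of_le hZ (inf_le_inf_right _ h1))
  have hHR := commutator_le_of_le_norm_left hRH
  by_cases e : ⁅H, R⁆ = H
  swap
  · rw [← coprime_commutator_commutator (.inl hs) hRH hc]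
    exact sub _ _ hHR le_rfl hR₀ (normalizer_commutator_ge_right H R)
      (hn ▸ Nat.add_lt_add_right (card_lt_of_lt (hHR.lt_of_ne e)) _)
  rw [e]
  by_contra hl
  have hLH : H ⊔ R ≤ N[H] := sup_le (le_norm_self le_rfl) hRH
  have hH' : H ≤ H ⊔ R := le_sup_left
  have hR' : R ≤ H ⊔ R := le_sup_right
  have quo : ∀ X, X ≠ ⊥ → X ≤ H → H ⊔ R ≤ N[X] → ∃ (Q : Type u) (_ : Group Q) (_ : Finite Q)
      (f : ↥(H ⊔ R) →* Q), kr f = X ∧ PLengthLE p 1 (im f H) := fun X h0 hX hN => by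
    obtain ⟨Q, _, _, f, -, hk⟩ := exists_quo' (H ⊔ R) X (hX.trans hH') hN
    have h1 : ∀ Y, Y ≤ R → Nat.card (im f Y) = Nat.card Y := fun Y hY =>
      card_im_of_inf_eq_bot (hY.trans hR')
        (hk ▸ GT.inf_eq_bot_of_coprime (coprime_card_of_le hc hX hY).symm)
    refine ⟨Q, _, ‹_›, f, hk, ?_⟩
    rw [(congrArg (im f) e).symm.trans (im_commutator hH' hR')]
    refine ih _ ?_ rfl (im_norm hRH) (coprime_im hc) (solvable_im hs) (odd_im oH) (odd_im oR)
      (im_mono hR₀) (by rwa [h1 _ hR₀]) ?_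
    · rw [h1 _ le_rfl, ← hn]
      exact Nat.add_lt_add_right (card_im_lt hH' (by rwa [hk, inf_eq_right.2 hX])) _
    · rw [← im_inf_cent_of_coprime' hH' (hR₀.trans hR') (hR₀.trans hRH) (.inl hs)
        (coprime_card_of_le hc le_rfl hR₀)]
      exact zgroup_im hZ
  have hO : piCoreOf {p}ᶜ H = ⊥ := by_contra fun h => by
    obtain ⟨Q, _, _, f, hk, h1⟩ := quo _ h (piCoreOf_le _ _) (le_norm_piCoreOf hLH)
    exact hl ((p'quo_plength1 hp hH' (hk ▸ (piCoreOf_isPi _ _).inf_right)).1 h1)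
  set V := piCoreOf {p} H with hVd
  have hVH : V ≤ H := piCoreOf_le _ _
  have hLV : H ⊔ R ≤ N[V] := le_norm_piCoreOf hLH
  have hHV := hH'.trans hLV
  have hVp : IsPGroup p V := piCoreOf_isPGroup hp H
  have hVπ : IsPiSubgroup {p} V := piCoreOf_isPi _ _
  have hCV : H ⊓ C[V] ≤ V := inf_cent_piCoreOf_le hs hO
  have hp'V : ∀ Y, Y ≤ H → IsPiSubgroup {p}ᶜ Y → Y ≤ C[V] → Y = ⊥ := fun Y h1 h2 h3 =>
    (hVπ.of_le ((le_inf h1 h3).trans hCV)).eq_bot h2
  have hV : IsElementaryAbelian p V := (PG.phi_eq_bot_iff hVp).1 (by_contra fun h => by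
    obtain ⟨Q, _, _, f, hk, h1⟩ := quo _ h ((PG.phi_le _).trans hVH) (PG.le_norm_phi hLV)
    refine hl ((pquo_plength1 hp hH' (hk ▸ hVp.to_le (inf_le_right.trans (PG.phi_le _))) ?_).1 h1)
    have hX := pre_le_of_le_im hH' (hk ▸ (PG.phi_le _).trans hVH) (piCoreOf_le {p}ᶜ (im f H))
    obtain ⟨Y, hY⟩ := exists_hall {p}ᶜ (solv_of_le hs hX)
    have h2 := hY.im (f := f) pre_le
    rw [im_pre_of_le' (piCoreOf_le _ _)] at h2
    have h3 := h2.eq_self (piCoreOf_isPi _ _)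
    have h4 : im f V ≤ C[im f Y] := le_cent_symm
      (h3.le.trans (piCoreOf_compl_le_cent.trans (cent_anti (im_piCoreOf_le hH'))))
    rw [im_le_cent_iff (hVH.trans hH') (hY.le.trans pre_le), hk] at h4
    rw [← h3, hp'V Y (hY.le.trans hX) hY.isPi (PG.le_cent_of_commutator_le_phi hVp
      ((hY.le.trans hX).trans hHV) ((isPiSubgroup_single_compl_iff_coprime hp).1 hY.isPi) h4),
      im_bot])
  have hVc : V ≤ C[V] := isMulCommutative_iff_le_cent.1 hV.1
  obtain ⟨Q, _, _, f, -, hk⟩ := exists_quo' (H ⊔ R) V (hVH.trans hH') hLV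
  have hF : fittingOf (im f H) ≤ piCoreOf {p}ᶜ (im f H) :=
    fittingOf_le_piCoreOf (by rw [compl_compl]; exact piCoreOf_im_eq_bot hH' hk)
  have hUH := pre_le_of_le_im hH' (hk ▸ hVH) (fittingOf_le (im f H))
  have hLU : H ⊔ R ≤ N[pre f (fittingOf (im f H))] :=
    dom_le_norm_pre (le_norm_fittingOf (im_norm hLH))
  obtain ⟨K, hK, hRK⟩ := coprime_exists_hall {p}ᶜ (solv_of_le hs hUH) (hR'.trans hLU)
    (coprime_card_of_le hc hUH le_rfl)
  have hKH := hK.le.trans hUH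
  have hKF : im f K = fittingOf (im f H) := by
    have h2 := hK.im (f := f) pre_le
    rw [im_pre_of_le' (fittingOf_le _)] at h2
    exact h2.eq_self ((piCoreOf_isPi _ _).of_le hF)
  have hU : pre f (fittingOf (im f H)) = K ⊔ V := by rw [← hKF, pre_im (hKH.trans hH'), hk]
  rw [hU] at hK hUH hLU
  have hVK0 : V ⊓ K = ⊥ := hVπ.inf_eq_bot hK.isPi
  have pK := (isPiSubgroup_single_compl_iff hp).1 hK.isPi
  have hKV := hKH.trans hHV
  set N := H ⊓ N[K] with hN
  have hKN : K ≤ N := le_inf hKH le_normalizer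
  have hVN : V ⊔ N = H := by
    rw [← hall_frattini hK (solv_of_le hs hUH) hUH (hH'.trans hLU), ← hN, sup_comm K, sup_assoc,
      sup_eq_right.2 hKN]
  have hRN : R ≤ N[N] := le_norm_inf hRH (le_norm_norm hRK)
  obtain ⟨P, hP, hRP⟩ := coprime_exists_syl hp (.inl (solv_of_le hs inf_le_left)) hRN
    (coprime_card_of_le hc inf_le_left le_rfl)
  have hPp := syl_isPGroup hp hP
  have hPH := hP.le.trans inf_le_left
  have hPK := hP.le.trans inf_le_right
  have F1 : ∀ X, X ≤ H → X ≤ C[K] → X ≤ K ⊔ V := fun X h1 h2 => by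
    rw [← hU, ← im_le_iff (h1.trans hH')]
    exact le_fittingOf_of_le_cent (solvable_im hs) (im_mono h1) (hKF ▸ im_cent h2)
  have hPU : ¬ P ≤ K ⊔ V := fun h => hl ((plength1_pcore_Sylow hp hO).2 (syl_mk hp hVH hVp
    fun h1 => syl_not_dvd hp hP (h1.trans (by
      rw [show V.relIndex H = V.relIndex N by
        rw [← relIndex_sup_of_le_norm (H := N) (inf_le_left.trans hHV), sup_comm, hVN]]
      exact relIndex_dvd_of_le_left _ ((isPiHallOf_sup_right (.inl hKV) hK.isPi hVπ).le_of_normal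
        (hUH.trans hHV) h hP.isPi)))))
  have hne : ¬ K ≤ C[P] := fun h => hPU (F1 P hPH (le_cent_symm h))
  have hf : K ⊓ C[V] = ⊥ := hp'V _ (inf_le_left.trans hKH) hK.isPi.inf_left inf_le_right
  have hVK : V ⊓ C[K] = ⊥ := by_contra fun h => by
    have nrm : ∀ X, X ≤ V → N ⊔ R ≤ N[X] → H ⊔ R ≤ N[X] := fun X h1 h2 => by
      rw [← hVN, sup_assoc]
      exact sup_le (le_norm_of_cent (hVc.trans (cent_anti h1))) h2
    have n1 : N ⊔ R ≤ N[V] := (sup_le_sup_right inf_le_left _).trans hLV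
    have n2 : N ⊔ R ≤ N[K] := sup_le inf_le_right hRK
    have h1 := commutator_le_of_le_norm_left hKV
    obtain ⟨Q₁, _, _, f₁, k1, l1⟩ := quo _ h (inf_le_left.trans hVH)
      (nrm _ inf_le_left (le_norm_inf n1 (le_norm_cent n2)))
    obtain ⟨Q₂, _, _, f₂, k2, l2⟩ := quo ⁅V, K⁆ (fun h2 => hne (by
      rw [← le_cent_iff_commutator_eq_bot'] at h2
      rw [← inf_eq_left.2 h2, hf]; exact bot_le)) (h1.trans hVH)
      (nrm _ h1 (le_norm_commutator n1 n2))
    refine hl (quo2_plength1 hp hH' hH' (le_bot_iff.1 ((coprime_comm_commutator_inf_cent hV.1 hKV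
      (hVπ.coprime hK.isPi)).le.trans' ?_)) l1 l2)
    rw [k1, k2]
    exact le_inf inf_le_right (inf_le_left.trans (inf_le_right.trans inf_le_right))
  have hVP : V ⊓ P = ⊥ := le_bot_iff.1
    ((inf_le_inf_left _ hPK).trans ((inf_norm_eq_inf_cent hKV hVK0).trans hVK).le)
  have hKR₀ : ¬ K ≤ C[R₀] := fun h => by
    obtain ⟨φ⟩ := nonempty_equiv_im (f := f) (hKH.trans hH') (by rw [hk, inf_comm, hVK0])
    have h1 : IsCyclic K := nil_Zgroup_cyclic (isZGroup_of_le hZ (le_inf hKH h))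
      (isNilpotent_of_equiv φ.symm (hKF ▸ fittingOf_nilpotent _))
    refine hPU (hPH.trans ?_)
    rw [← e]
    conv_lhs => rw [← hVN]
    exact PG.commutator_sup_le (hVH.trans (hH'.trans hLU)) (inf_le_left.trans (hH'.trans hLU))
      ((commutator_le_of_le_norm_left (hR'.trans hLV)).trans le_sup_right)
      (F1 _ ((commutator_le_of_le_norm_left hRN).trans inf_le_left)
        (PG.commutator_le_cent_of_isCyclic h1 inf_le_right hRK))
  have pR : ¬ p ∣ Nat.card R := not_dvd_of_coprime hc hp ((prime_dvd_card_of_isPGroup hp hPp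
    fun h => hPU (h ▸ bot_le)).trans (card_dvd_of_le hPH))
  have pR₀ : ¬ p ∣ Nat.card R₀ := fun h => pR (h.trans (card_dvd_of_le hR₀))
  have hR₀V := hR₀.trans (hR'.trans hLV)
  have hD : Nat.card ↥(V ⊓ C[R₀]) = p := card_eq_of_isCyclic_of_pow hp
    (zgroup_cyclic hZ hp (inf_le_inf_right _ hVH) (hVp.to_le inf_le_left))
    (fun x hx => hV.2 x hx.1) fun h => hKR₀ (le_cent_iff_commutator_eq_bot.2 (le_bot_iff.1
      (hf.le.trans' (le_inf (commutator_le_of_le_norm_left (hR₀.trans hRK))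
        (cent1_aux _ rfl hp hV (hR₀.trans hRK) (coprime_card_of_le hc hKH hR₀)
          (odd_card_of_le oH hKH) (odd_card_of_le oR hR₀) hr hKV hR₀V pK pR₀ h)))))
  have hPR : P ⊓ C[R₀] = ⊥ := by_contra fun h => by
    obtain ⟨X, hX, hXp⟩ := exists_le_card_eq_prime hp
      (prime_dvd_card_of_isPGroup hp (hPp.to_le inf_le_left) h)
    have h1 := PG.eq_of_isCyclic_of_card_eq hp (zgroup_cyclic hZ hp (K := (V ⊔ P) ⊓ C[R₀])
      (inf_le_inf_right _ (sup_le hVH hPH))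
      (((hVπ.sup hP.isPi (.inr (hPH.trans hHV))).isPGroup hp).to_le inf_le_left))
      (inf_le_inf_right _ le_sup_left) (hX.trans (inf_le_inf_right _ le_sup_right)) hD hXp
    exact ne_bot_of_card_prime (hXp ▸ hp)
      (le_bot_iff.1 ((le_inf (h1.ge.trans inf_le_left) (hX.trans inf_le_left)).trans hVP.le))
  have hPP : P ≤ ⁅P, R₀⁆ := by
    have := coprime_commutator_sup_cent (.inl (solv_of_le hs hPH)) (hR₀.trans hRP)
      (coprime_card_of_le hc hPH hR₀)
    rw [hPR, sup_bot_eq] at this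
    exact this.ge
  have L3 : ∀ X, X ≤ K → P ≤ N[X] → R₀ ≤ N[X] →
      Nat.card ↥(V ⊔ (X ⊔ P)) + Nat.card R₀ < n → X ≤ C[P] := fun X h1 h2 h3 h4 => by
    have a1 : V ⊔ (X ⊔ P) ≤ H := sup_le hVH (sup_le (h1.trans hKH) hPH)
    have a2 : R₀ ≤ N[V ⊔ (X ⊔ P)] := le_norm_sup hR₀V (le_norm_sup h3 (hR₀.trans hRP))
    have a3 := sub _ _ a1 hR₀ le_rfl a2 h4
    have a4 := (commutator_le_of_le_norm_left a2).trans a1
    have a5 := normalizer_commutator_ge_left (V ⊔ (X ⊔ P)) R₀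
    have a6 := (piCoreOf_le {p}ᶜ _).trans a4
    rw [plength1_pcore_Sylow hp (hp'V _ a6 (piCoreOf_isPi _ _) (le_cent_of_norm_of_coprime
      (a6.trans hHV) (le_sup_left.trans (le_norm_piCoreOf a5))
      ((piCoreOf_isPi _ _).coprime' hVπ)))] at a3
    have a7 := a3.le_of_normal (self_le_norm_piCoreOf _ _)
      (hPP.trans (commutator_mono (le_sup_right.trans le_sup_right) le_rfl)) hP.isPi
    rw [le_cent_iff_commutator_eq_bot]
    exact ((piCoreOf_isPi _ _).of_le ((commutator_mono le_rfl a7).trans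
      (commutator_le_of_le_norm_right ((le_sup_left.trans le_sup_right).trans
        (le_norm_piCoreOf a5))))).eq_bot (hK.isPi.of_le ((commutator_le_of_le_norm_left h2).trans h1))
  obtain rfl : R₀ = R := eq_of_le_of_card_ge hR₀ (by_contra fun h => hne
    (L3 K le_rfl hPK (hR₀.trans hRK) (by
      have := card_le_of_le (sup_le hVH (sup_le hKH hPH))
      omega)))
  refine hPU ((le_inf hPH (plength1_middle hp hV hPp hr hKV ((sup_le_sup_right hPH _).trans hLV)
    (sup_le hPK hRK) hRP (((odd_card_of_le oH hPH).mul oR).of_dvd_nat (card_sup_dvd (.inr hRP)))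
    (odd_card_of_le oH hKH) pK pR (coprime_card_of_le hc hKH le_rfl) hf hVK hD hPR
    (solv_of_le hs hKH) (isZGroup_of_le hZ (inf_le_inf_right _ hKH)) (fun X h1 h2 => ?_) hne)).trans
    (hCV.trans le_sup_right))
  have hPX := le_sup_left.trans h2
  refine L3 X h1.le hPX (le_sup_right.trans h2) (hn ▸ Nat.add_lt_add_right (card_lt_of_lt
    ((sup_le hVH (sup_le (h1.le.trans hKH) hPH)).lt_of_ne fun h => ?_)) _)
  have a1 := ((card_dvd_of_le (hKH.trans h.ge)).trans (card_sup_dvd (.inr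
    ((sup_le (h1.le.trans hKH) hPH).trans hHV)))).trans
    (Nat.mul_dvd_mul_left _ (card_sup_dvd (.inr hPX)))
  exact (card_lt_of_lt h1).not_ge (Nat.le_of_dvd (card_pos' X)
    ((hK.isPi.coprime' hP.isPi).dvd_of_dvd_mul_right
      ((hK.isPi.coprime' hVπ).dvd_of_dvd_mul_left a1)))

/-- 3.6 -/
theorem odd_sdprod_Zgroup_cent_prime_plength1 (hp : p.Prime) (hs : Group.IsSolvable L)
    (ho : Odd (Nat.card L)) (h : Sdprod H R L) (hc : (Nat.card H).Coprime (Nat.card R))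
    (hR₀ : R₀ ≤ R) (hR₀p : (Nat.card R₀).Prime) (hZ : IsZGroup ↥(H ⊓ C[R₀])) :
    PLengthLE p 1 ↥⁅H, R⁆ :=
  plength1_aux hp _ rfl h.right_norm hc (solv_of_le hs h.left_le) (odd_card_of_le ho h.left_le)
    (odd_card_of_le ho h.right_le) hR₀ hR₀p hZ

end Cfsg.Agent.BG
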