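import Mathlib

/-! A group `R` acting semiregularly on a group `K` permutes the non-principal central primitive
idempotents of `F[K]` semiregularly (Brauer's permutation lemma in coprime characteristic). -/

set_option autoImplicit false
set_option linter.unusedSectionVars false

namespace Cfsg.Agent.BG

open MulAction Module MonoidAlgebra

section count
variable {F : Type*} [Field F] {R : Type*} [Group R]

theorem finrank_fixed_eq_card_orbits {Z Y : Type*} [AddCommGroup Z] [Module F Z] [Finite Y]
    [MulAction R Y] (α : R → Z → Z) (Φ : Z ≃ₗ[F] (Y → F))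
    (h : ∀ r c y, Φ (α r c) (r • y) = Φ c y) (S : Submodule F Z)
    (hS : ∀ c, c ∈ S ↔ ∀ r, α r c = c) : finrank F S = Nat.card (orbitRel.Quotient R Y) := by
  let ψ : (orbitRel.Quotient R Y → F) →ₗ[F] Z :=
    Φ.symm.toLinearMap ∘ₗ LinearMap.funLeft F F (Quotient.mk (orbitRel R Y))
  have hψ : Function.Injective ψ :=
    Φ.symm.injective.comp (LinearMap.funLeft_injective_of_surjective _ _ _ Quotient.mk_surjective)
  have hr : LinearMap.range ψ = S := by
    ext c
    rw [hS]
    constructor
    · rintro ⟨g, rfl⟩ r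
      apply Φ.injective
      funext y
      rw [← smul_inv_smul r y, h]
      simp only [ψ, LinearMap.comp_apply, LinearEquiv.coe_coe, LinearEquiv.apply_symm_apply,
        LinearMap.funLeft_apply]
      congr 1
      exact Quotient.sound ⟨r⁻¹, by simp⟩
    · intro hc
      refine ⟨fun q => Φ c q.out, Φ.injective ?_⟩
      funext y
      simp only [ψ, LinearMap.comp_apply, LinearEquiv.coe_coe, LinearEquiv.apply_symm_apply,
        LinearMap.funLeft_apply]
      obtain ⟨r, hr⟩ : (Quotient.mk (orbitRel R Y) y).out ∈ orbit R y := Quotient.mk_out (s := orbitRel R Y) y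
      rw [← hr, ← h r c y, hc]
  have := Fintype.ofFinite (orbitRel.Quotient R Y)
  rw [← hr, LinearMap.finrank_range_of_inj hψ, finrank_fintype_fun_eq_card,
    Nat.card_eq_fintype_card]

theorem sum_card_fixedBy [Fintype R] (Y : Type*) [Finite Y] [MulAction R Y] :
    ∑ r : R, Nat.card (fixedBy Y r) = Nat.card (orbitRel.Quotient R Y) * Fintype.card R := by
  classical
  have := Fintype.ofFinite (orbitRel.Quotient R Y)
  have (r : R) := Fintype.ofFinite (fixedBy Y r)
  simp only [Nat.card_eq_fintype_card]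
  exact sum_card_fixedBy_eq_card_orbits_mul_card_group R Y

theorem eq_of_smul_eq_of_card_orbits [Finite R] {X Y : Type*} [Finite X] [Finite Y]
    [MulAction R X] [MulAction R Y] (h1 : Nat.card X = Nat.card Y)
    (h2 : Nat.card (orbitRel.Quotient R X) = Nat.card (orbitRel.Quotient R Y))
    (hY : ∀ r : R, r ≠ 1 → Nat.card (fixedBy Y r) ≤ 1) {x0 : X} (hx : ∀ r : R, r • x0 = x0)
    {r : R} (hr : r ≠ 1) {x : X} (h : r • x = x) : x = x0 := by
  classical
  have := Fintype.ofFinite R
  have hX := sum_card_fixedBy (R := R) X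
  rw [h2, ← sum_card_fixedBy (R := R) Y] at hX
  have hle : ∀ s ∈ (Finset.univ : Finset R), Nat.card (fixedBy Y s) ≤ Nat.card (fixedBy X s) := by
    intro s _
    by_cases hs : s = 1
    · subst hs
      simp [h1]
    · refine (hY s hs).trans ?_
      have : Nonempty (fixedBy X s) := ⟨⟨x0, hx s⟩⟩
      exact Nat.card_pos
  have h3 := (Finset.sum_eq_sum_iff_of_le hle).1 hX.symm r (Finset.mem_univ r)
  have h4 : Nat.card (fixedBy X r) ≤ 1 := h3 ▸ hY r hr
  have := Finite.card_le_one_iff_subsingleton.1 h4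
  exact congrArg Subtype.val (Subsingleton.elim (⟨x, h⟩ : fixedBy X r) ⟨x0, hx r⟩)

end count

section center
variable (F : Type*) [Field F] (K : Type*) [Group K] [Finite K]

theorem mem_center_monoidAlgebra {c : MonoidAlgebra F K} :
    c ∈ Subalgebra.center F (MonoidAlgebra F K) ↔
      ∀ g h : K, c.coeff (g * h * g⁻¹) = c.coeff h := by
  rw [Subalgebra.mem_center_iff]
  constructor
  · intro hc g h
    have := congrArg (fun a : MonoidAlgebra F K => a.coeff (g * h)) (hc (single g 1))
    simpa using this.symm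
  · intro hc b
    induction b using MonoidAlgebra.induction_on with
    | of m =>
      ext h
      have := hc m (m⁻¹ * h)
      simp only [mul_inv_cancel_left] at this
      simp [this]
    | add x y hx hy => rw [add_mul, mul_add, hx, hy]
    | smul r x hx => rw [smul_mul_assoc, mul_smul_comm, hx]

/-- The centre of the group algebra as the space of class functions. -/
noncomputable def centerEquivClasses :
    Subalgebra.center F (MonoidAlgebra F K) ≃ₗ[F] (ConjClasses K → F) :=
  LinearEquiv.ofBijective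
    { toFun := fun c y => c.1.coeff y.out
      map_add' := fun _ _ => rfl
      map_smul' := fun _ _ => rfl } ⟨by
    intro c d h
    ext k
    have h1 := congrFun h (ConjClasses.mk k)
    obtain ⟨g, hg⟩ := isConj_iff.1 (Quotient.mk_out (s := IsConj.setoid K) k)
    rw [← hg, (mem_center_monoidAlgebra F K).1 c.2, (mem_center_monoidAlgebra F K).1 d.2]
    exact h1, by
    intro f
    refine ⟨⟨.ofCoeff (Finsupp.equivFunOnFinite.symm fun k => f (ConjClasses.mk k)), ?_⟩, ?_⟩
    · rw [mem_center_monoidAlgebra]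
      intro g h
      change f _ = f _
      congr 1
      exact ConjClasses.mk_eq_mk_iff_isConj.2 (isConj_iff.2 ⟨g, rfl⟩).symm
    · funext y
      change f (ConjClasses.mk y.out) = f y
      congr 1
      exact Quotient.out_eq y⟩

theorem centerEquivClasses_mk (c : Subalgebra.center F (MonoidAlgebra F K)) (k : K) :
    centerEquivClasses F K c (ConjClasses.mk k) = c.1.coeff k := by
  obtain ⟨g, hg⟩ := isConj_iff.1 (Quotient.mk_out (s := IsConj.setoid K) k)
  conv_rhs => rw [← hg, (mem_center_monoidAlgebra F K).1 c.2]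
  rfl

theorem center_eq_zero_of_nilpotent (hK : (Nat.card K : F) ≠ 0)
    {c : Subalgebra.center F (MonoidAlgebra F K)} (hc : IsNilpotent c) : c = 0 := by
  have : NeZero (Nat.card K : F) := ⟨hK⟩
  obtain ⟨e, he, h⟩ := IsSemisimpleRing.ideal_eq_span_idempotent
    (Ideal.span {(c : MonoidAlgebra F K)})
  obtain ⟨a, ha⟩ := Submodule.mem_span_singleton.1
    (show e ∈ Ideal.span {(c : MonoidAlgebra F K)} from h ▸ Ideal.subset_span rfl)
  have h1 : IsNilpotent e := by
    rw [← ha, smul_eq_mul]
    exact Commute.isNilpotent_mul_left (Subalgebra.mem_center_iff.1 c.2 a)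
      (hc.map (Subalgebra.val _))
  have h2 : e = 0 := he.eq_zero_of_isNilpotent h1
  have h3 : (c : MonoidAlgebra F K) ∈ Ideal.span {e} := h ▸ Ideal.subset_span rfl
  rw [h2] at h3
  simpa using h3

theorem ev_bijective [IsAlgClosed F] {Z : Type*} [CommRing Z] [Algebra F Z] [Module.Finite F Z]
    (h : ∀ c : Z, IsNilpotent c → c = 0) :
    Function.Bijective (LinearMap.pi fun χ : Z →ₐ[F] F => χ.toLinearMap) := by
  have hi : Function.Injective (LinearMap.pi fun χ : Z →ₐ[F] F => χ.toLinearMap) := by
    rw [injective_iff_map_eq_zero]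
    intro c hc
    have := IsArtinianRing.of_finite F Z
    apply h
    obtain ⟨n, hn⟩ := IsArtinianRing.isNilpotent_jacobson_bot (R := Z)
    refine ⟨n, ?_⟩
    have h1 : c ∈ Ideal.jacobson (⊥ : Ideal Z) := by
      rw [Ideal.jacobson, Ideal.mem_sInf]
      rintro m ⟨-, hm⟩
      let _ := Ideal.Quotient.field m
      let l : (Z ⧸ m) →ₐ[F] F := IsAlgClosed.lift
      have h2 := congrFun hc (l.comp (Ideal.Quotient.mkₐ F m))
      exact Ideal.Quotient.eq_zero_iff_mem.1 (l.injective (h2.trans (map_zero l).symm))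
    have h2 := Ideal.pow_mem_pow h1 n
    rwa [hn] at h2
  have := Fintype.ofFinite (Z →ₐ[F] F)
  refine ⟨hi, (LinearMap.injective_iff_surjective_of_finrank_eq_finrank ?_).1 hi⟩
  refine le_antisymm (LinearMap.finrank_le_finrank_of_injective hi) ?_
  rw [finrank_fintype_fun_eq_card, ← Nat.card_eq_fintype_card]
  exact card_algHom_le_finrank F Z F

end center

theorem exists_conj_of_reg {K : Type*} [Group K] [Finite K] (σ : MulAut K)
    (h : ∀ k, σ k = k → k = 1) {k : K} (hk : IsConj k (σ k)) : k = 1 := by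
  obtain ⟨y, hy⟩ := isConj_iff.1 hk
  have hb : Function.Injective fun w : K => w * (σ w)⁻¹ := fun a b hab => by
    have h1 : σ (b⁻¹ * a) = b⁻¹ * a := by
      have h2 : a * (σ a)⁻¹ = b * (σ b)⁻¹ := hab
      rw [map_mul, map_inv]
      calc (σ b)⁻¹ * σ a = b⁻¹ * (b * (σ b)⁻¹) * σ a := by group
        _ = b⁻¹ * a := by rw [← h2]; group
    exact (inv_mul_eq_one.1 (h _ h1)).symm
  obtain ⟨w, hw⟩ := Finite.surjective_of_injective hb y⁻¹
  have hw' : w * (σ w)⁻¹ = y⁻¹ := hw
  have h1 : σ (w⁻¹ * k * w) = w⁻¹ * k * w := by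
    rw [map_mul, map_mul, map_inv, ← hy]
    have : σ w = y * w := by
      rw [← inv_inv y, ← hw']; group
    rw [this]; group
  have h2 := h _ h1
  calc k = w * (w⁻¹ * k * w) * w⁻¹ := by group
    _ = 1 := by rw [h2]; group

theorem exists_frob_idem (F : Type*) [Field F] [IsAlgClosed F] {K R : Type*} [Group K] [Fintype K]
    [Group R] [Fintype R] (φ : R →* MulAut K) (hreg : ∀ r, r ≠ 1 → ∀ k, φ r k = k → k = 1)
    (hK : (Nat.card K : F) ≠ 0) :
    ∃ ε : MonoidAlgebra F K, (∀ a, a * ε = ε * a) ∧ ε * ε = ε ∧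
      (∀ r, r ≠ 1 → ε * domCongr F F (φ r) ε = 0) ∧
      ∑ r, domCongr F F (φ r) ε = 1 - (Nat.card K : F)⁻¹ • ∑ k : K, single k 1 := by
  classical
  set Z := Subalgebra.center F (MonoidAlgebra F K)
  have hmem : ∀ (r : R) (c : Z), domCongr F F (φ r) c.1 ∈ Z := fun r c => by
    rw [Subalgebra.mem_center_iff]
    intro b
    obtain ⟨b, rfl⟩ := (domCongr F F (φ r)).surjective b
    rw [← map_mul, ← map_mul, Subalgebra.mem_center_iff.1 c.2]
  let α : R → Z →ₐ[F] Z := fun r =>
    ((domCongr F F (φ r)).toAlgHom.comp Z.val).codRestrict Z (hmem r)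
  have hα : ∀ r (c : Z) k, (α r c).1.coeff k = c.1.coeff (φ r⁻¹ k) := fun r c k => by
    change (domCongr F F (φ r) c.1).coeff k = _
    rw [coeff_domCongr, map_inv]; rfl
  have hα1 : ∀ c, α 1 c = c := fun c => by
    ext k; rw [hα]; simp
  have hαm : ∀ r s c, α (r * s) c = α r (α s c) := fun r s c => by
    ext k; simp [hα]
  let _ : MulAction R (ConjClasses K) :=
    { smul := fun r => ConjClasses.map (φ r).toMonoidHom
      one_smul := fun y => by
        obtain ⟨k, rfl⟩ := ConjClasses.mk_surjective y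
        change ConjClasses.mk (φ 1 k) = _
        simp
      mul_smul := fun r s y => by
        obtain ⟨k, rfl⟩ := ConjClasses.mk_surjective y
        change ConjClasses.mk (φ (r * s) k) = ConjClasses.mk (φ r (φ s k))
        simp }
  have hsmulC : ∀ (r : R) (k : K), r • ConjClasses.mk k = ConjClasses.mk (φ r k) := fun _ _ => rfl
  let _ : MulAction R (Z →ₐ[F] F) :=
    { smul := fun r χ => χ.comp (α r⁻¹)
      one_smul := fun χ => AlgHom.ext fun c => by
        change χ (α 1⁻¹ c) = _
        rw [inv_one, hα1]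
      mul_smul := fun r s χ => AlgHom.ext fun c => by
        change χ (α (r * s)⁻¹ c) = χ (α s⁻¹ (α r⁻¹ c))
        rw [mul_inv_rev, hαm] }
  have hsmulX : ∀ (r : R) (χ : Z →ₐ[F] F) c, (r • χ) c = χ (α r⁻¹ c) := fun _ _ _ => rfl
  let ev : Z ≃ₗ[F] ((Z →ₐ[F] F) → F) :=
    LinearEquiv.ofBijective _ (ev_bijective F fun c => center_eq_zero_of_nilpotent F K hK)
  have hev : ∀ c χ, ev c χ = χ c := fun _ _ => rfl
  let S : Submodule F Z :=
    { carrier := {c | ∀ r, α r c = c}
      add_mem' := fun ha hb r => by rw [map_add, ha r, hb r]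
      zero_mem' := fun r => map_zero _
      smul_mem' := fun a c hc r => by rw [map_smul, hc r] }
  have o1 := finrank_fixed_eq_card_orbits (fun r c => α r c) ev
    (fun r c χ => by rw [hev, hev, hsmulX, ← hαm, inv_mul_cancel, hα1]) S fun _ => Iff.rfl
  have o2 := finrank_fixed_eq_card_orbits (fun r c => α r c) (centerEquivClasses F K)
    (fun r c y => by
      obtain ⟨k, rfl⟩ := ConjClasses.mk_surjective y
      rw [hsmulC, centerEquivClasses_mk, centerEquivClasses_mk, hα]
      simp) S fun _ => Iff.rfl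
  have := Fintype.ofFinite (Z →ₐ[F] F)
  have := Fintype.ofFinite (ConjClasses K)
  have o3 : Nat.card (Z →ₐ[F] F) = Nat.card (ConjClasses K) := by
    have h1 := ev.finrank_eq
    have h2 := (centerEquivClasses F K).finrank_eq
    rw [finrank_fintype_fun_eq_card] at h1 h2
    rw [Nat.card_eq_fintype_card, Nat.card_eq_fintype_card, ← h1, ← h2]
  let aug : MonoidAlgebra F K →ₐ[F] F := lift F F K 1
  let x0 : Z →ₐ[F] F := aug.comp Z.val
  have haug : ∀ (e : K ≃* K) a, aug (domCongr F F e a) = aug a := fun e a => by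
    induction a using MonoidAlgebra.induction_on with
    | of m => simp [aug]
    | add x y hx hy => rw [map_add, map_add, map_add, hx, hy]
    | smul r x hx => rw [map_smul, map_smul, map_smul, hx]
  have hx0 : ∀ r : R, r • x0 = x0 := fun r => AlgHom.ext fun c => haug _ _
  have hfree : ∀ r : R, r ≠ 1 → ∀ χ : Z →ₐ[F] F, r • χ = χ → χ = x0 := fun r hr χ h =>
    eq_of_smul_eq_of_card_orbits o3 (o1.symm.trans o2) (fun s hs => by
      rw [Finite.card_le_one_iff_subsingleton]
      have : ∀ y : fixedBy (ConjClasses K) s, y.1 = ConjClasses.mk 1 := by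
        rintro ⟨y, hy⟩
        obtain ⟨k, rfl⟩ := ConjClasses.mk_surjective y
        rw [mem_fixedBy, hsmulC, ConjClasses.mk_eq_mk_iff_isConj] at hy
        exact congrArg ConjClasses.mk (exists_conj_of_reg (φ s) (hreg s hs) hy.symm)
      exact ⟨fun a b => Subtype.ext ((this a).trans (this b).symm)⟩) hx0 hr h
  set e0 : MonoidAlgebra F K := (Nat.card K : F)⁻¹ • ∑ k : K, single k 1 with he0
  have he0a : ∀ a, a * e0 = aug a • e0 := fun a => by
    induction a using MonoidAlgebra.induction_on with
    | of m =>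
      simp only [he0, aug, of_apply, lift_single, MonoidHom.one_apply, smul_eq_mul, mul_one,
        one_smul, mul_smul_comm, Finset.mul_sum, single_mul_single]
      congr 1
      exact Fintype.sum_equiv (Equiv.mulLeft m) _ _ fun _ => rfl
    | add x y hx hy => rw [add_mul, map_add, add_smul, hx, hy]
    | smul r x hx => rw [smul_mul_assoc, hx, map_smul, smul_smul, smul_eq_mul]
  have he0Z : e0 ∈ Z := by
    rw [mem_center_monoidAlgebra]
    intro g h
    simp [he0, coeff_sum, Finsupp.single_apply]
  have he01 : aug e0 = 1 := by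
    have hK' : (Fintype.card K : F) ≠ 0 := by rwa [← Nat.card_eq_fintype_card]
    simp [he0, aug, hK']
  have hχ0 : ∀ χ : Z →ₐ[F] F, χ ≠ x0 → χ ⟨e0, he0Z⟩ = 0 := fun χ hχ => by
    by_contra h
    refine hχ (AlgHom.ext fun c => mul_right_cancel₀ h ?_)
    rw [← map_mul, ← smul_eq_mul (x0 c), ← map_smul]
    exact congrArg χ (Subtype.ext (he0a c.1))
  let J : (Z →ₐ[F] F) → Prop := fun χ =>
    χ ≠ x0 ∧ (Quotient.mk (orbitRel R (Z →ₐ[F] F)) χ).out = χ
  let ε : Z := ev.symm fun χ => if J χ then 1 else 0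
  have hε : ∀ χ : Z →ₐ[F] F, χ ε = if J χ then 1 else 0 := fun χ => by
    rw [← hev, LinearEquiv.apply_symm_apply]
  have hJ : ∀ (χ : Z →ₐ[F] F) (r s : R), J (r • χ) → J (s • χ) → r = s := fun χ r s h1 h2 => by
    have h3 : r • χ = s • χ := by
      rw [← h1.2, ← h2.2]
      congr 1
      exact Quotient.sound ⟨r * s⁻¹, by simp [mul_smul]⟩
    by_contra h4
    refine h2.1 (hfree (r * s⁻¹) (fun h => h4 (mul_inv_eq_one.1 h)) _ ?_)
    rw [mul_smul, inv_smul_smul, h3]
  refine ⟨ε.1, Subalgebra.mem_center_iff.1 ε.2, ?_, fun r hr => ?_, ?_⟩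
  · refine congrArg Subtype.val (show ε * ε = ε from ev.injective ?_)
    funext χ
    rw [hev, hev, map_mul, hε]
    split_ifs <;> simp
  · refine congrArg Subtype.val (show ε * α r ε = 0 from ev.injective ?_)
    funext χ
    rw [hev, hev, map_zero, map_mul, ← inv_inv r, ← hsmulX, hε, hε]
    split_ifs with h1 h2
    · exact absurd (hJ χ 1 r⁻¹ (by rwa [one_smul]) h2) fun h => hr (inv_eq_one.1 h.symm)
    all_goals simp
  · have : ∑ r, α r ε = 1 - ⟨e0, he0Z⟩ := by
      apply ev.injective
      funext χ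
      rw [hev, hev, map_sum, map_sub, map_one]
      simp only [fun r => show χ (α r ε) = if J (r⁻¹ • χ) then 1 else 0 by
        rw [← hε, hsmulX, inv_inv]]
      by_cases hχ : χ = x0
      · subst hχ
        rw [Finset.sum_eq_zero fun r _ => if_neg fun h => h.1 (hx0 _)]
        exact (sub_eq_zero.2 he01.symm).symm
      · obtain ⟨s, hs⟩ : (Quotient.mk (orbitRel R _) χ).out ∈ orbit R χ :=
          Quotient.mk_out (s := orbitRel R _) χ
        have hs' : J (s • χ) := ⟨fun h => hχ (by rw [← inv_smul_smul s χ, h, hx0]), by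
          have : (Quotient.mk (orbitRel R _) (s • χ)) = Quotient.mk (orbitRel R _) χ :=
            Quotient.sound ⟨s, rfl⟩
          rw [this]
          exact hs.symm⟩
        rw [hχ0 χ hχ, sub_zero, Finset.sum_eq_single s⁻¹ (fun r _ hr => if_neg fun h =>
          hr (by rw [← hJ χ _ _ h hs', inv_inv])) (by simp), inv_inv, if_pos hs']
    have h2 := congrArg Subtype.val this
    rw [AddSubmonoidClass.coe_finsetSum] at h2
    exact h2

end Cfsg.Agent.BG
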