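import Cfsg.Agent.BG.S03a
import Cfsg.Agent.GT.CoprimeGen

/-! Wielandt's fixed point formula for representations, and the passage from elementary abelian
sections to representations over an algebraically closed field. -/

set_option autoImplicit false
set_option linter.unusedSectionVars false

namespace Cfsg.Agent.BG

open Module MonoidAlgebra Subgroup Cfsg.Agent.GT
open scoped commutatorElement TensorProduct

universe u

theorem wielandt_abstract (F : Type*) [Field F] [IsAlgClosed F] {E : Type*} [AddCommGroup E]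
    [Module F E] [FiniteDimensional F E] {K R : Type*} [Group K] [Finite K] [Group R] [Finite R]
    (φ : R →* MulAut K) (hreg : ∀ r, r ≠ 1 → ∀ k, φ r k = k → k = 1)
    (hK : (Nat.card K : F) ≠ 0) (a : Representation F K E) (b : Representation F R E)
    (hab : ∀ r k, b r * a k = a (φ r k) * b r) :
    finrank F E + Nat.card R * finrank F ↥(a.invariants ⊓ b.invariants) =
      Nat.card R * finrank F b.invariants + finrank F a.invariants ∧
    (finrank F b.invariants ≤ 1 → ∀ k k', a k * a k' = a k' * a k) := by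
  classical
  have := Fintype.ofFinite K
  have := Fintype.ofFinite R
  obtain ⟨ε, hc, hid, hz, hs⟩ := exists_frob_idem F φ hreg hK
  let Λ : MonoidAlgebra F K →ₐ[F] End F E := lift F _ K a
  have hΛ : ∀ k, Λ (single k 1) = a k := fun k => by simp [Λ]
  have hb : ∀ r y, b r * Λ y = Λ (domCongr F F (φ r) y) * b r := fun r y => by
    induction y using MonoidAlgebra.induction_on with
    | of m => simp [hΛ, hab]
    | add x y hx hy => simp only [map_add, mul_add, add_mul, hx, hy]
    | smul c x hx => simp only [map_smul, mul_smul_comm, smul_mul_assoc, hx]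
  set e := Λ ε with he
  set e0 : End F E := (Nat.card K : F)⁻¹ • ∑ k : K, a k with he0
  have hbb : ∀ r v, b r (b r⁻¹ v) = v := fun r v => by
    rw [← End.mul_apply, ← map_mul, mul_inv_cancel, map_one, End.one_apply]
  have h1 : ∀ t, t ≠ 1 → ∀ v, e (b t (e v)) = 0 := fun t ht v => by
    rw [← End.mul_apply, ← End.mul_apply, mul_assoc, he, hb, ← mul_assoc, ← map_mul, hz t ht]
    simp
  have hee : ∀ v, e (e v) = e v := fun v => by rw [← End.mul_apply, he, ← map_mul, hid]
  have h3 : ∀ v, ∑ r, b r (e (b r⁻¹ v)) + e0 v = v := fun v => by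
    have := congrArg (fun y => Λ y v) hs
    simp only [map_sum, map_sub, map_one, map_smul, hΛ, LinearMap.sum_apply, LinearMap.sub_apply,
      End.one_apply] at this
    rw [← eq_sub_iff_add_eq, ← this]
    refine Finset.sum_congr rfl fun r _ => ?_
    rw [← End.mul_apply, he, hb, End.mul_apply, hbb]
  have hai : ∀ r v, v ∈ a.invariants → b r v ∈ a.invariants := fun r v hv k => by
    obtain ⟨k, rfl⟩ := (φ r).surjective k
    rw [← End.mul_apply, ← hab, End.mul_apply, hv]
  have h0 : ∀ v, v ∈ a.invariants → e0 v = v := fun v hv => by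
    simp only [he0, LinearMap.smul_apply, LinearMap.sum_apply, show ∀ k, a k v = v from hv,
      Finset.sum_const,
      Finset.card_univ, ← Nat.card_eq_fintype_card, ← Nat.cast_smul_eq_nsmul F, smul_smul,
      inv_mul_cancel₀ hK, one_smul]
  have h0i : ∀ v, e0 v ∈ a.invariants := fun v k => by
    simp only [he0, LinearMap.smul_apply, LinearMap.sum_apply, map_smul, map_sum,
      ← End.mul_apply, ← map_mul]
    congr 1
    exact Fintype.sum_equiv (Equiv.mulLeft k) _ _ fun _ => rfl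
  have h0b : ∀ r v, b r (e0 v) = e0 (b r v) := fun r v => by
    simp only [he0, LinearMap.smul_apply, LinearMap.sum_apply, map_smul, map_sum,
      ← End.mul_apply, hab]
    congr 1
    exact Fintype.sum_equiv (φ r).toEquiv _ _ fun _ => rfl
  have hsum : ∀ (w : R → E) r, e (b r⁻¹ (∑ s, b s (e (w s)))) = e (w r) := fun w r => by
    rw [map_sum, map_sum, Finset.sum_eq_single r (fun s _ hs => by
      rw [← End.mul_apply (b _), ← map_mul, h1 _ fun h => hs (inv_mul_eq_one.1 h).symm]) (by simp),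
      ← End.mul_apply (b _), ← map_mul, inv_mul_cancel, map_one, End.one_apply, hee]
  have h2 : ∀ v, v ∈ a.invariants → e v = 0 := fun v hv => by
    have h4 := h3 v
    rw [h0 v hv, add_eq_right] at h4
    have := hsum (fun r => b r⁻¹ v) 1
    rw [h4] at this
    simpa using this.symm
  let U := LinearMap.range e
  let Ψ : ((R → U) × a.invariants) →ₗ[F] E :=
    (∑ r : R, b r ∘ₗ U.subtype ∘ₗ LinearMap.proj r).coprod a.invariants.subtype
  have hΨ : ∀ w u, Ψ (w, u) = ∑ r, b r (w r) + u := fun w u => by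
    simp [Ψ, LinearMap.sum_apply]
  have hΨi : ∀ w u, Ψ (w, u) = 0 → w = 0 ∧ u = 0 := fun w u h => by
    choose w' hw' using fun r => (w r).2
    have : w = 0 := funext fun r => Subtype.ext (by
      have := congrArg (fun v => e (b r⁻¹ v)) h
      simp only [hΨ, map_add, map_zero, h2 _ (hai _ _ u.2), add_zero, ← hw', hsum] at this
      rw [← hw', this]; rfl)
    subst this
    refine ⟨rfl, Subtype.ext ?_⟩
    simpa [hΨ] using h
  have hΨs : Function.Surjective Ψ := fun v =>
    ⟨(fun r => ⟨e (b r⁻¹ v), _, rfl⟩, ⟨e0 v, h0i v⟩), by rw [hΨ]; exact h3 v⟩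
  have d1 := (LinearEquiv.ofBijective Ψ ⟨(injective_iff_map_eq_zero _).2 fun x hx =>
    Prod.ext (hΨi x.1 x.2 hx).1 (hΨi x.1 x.2 hx).2, hΨs⟩).finrank_eq
  let Θ : (U × ↥(a.invariants ⊓ b.invariants)) →ₗ[F] E :=
    Ψ ∘ₗ (LinearMap.pi fun _ : R => LinearMap.id).prodMap (Submodule.inclusion inf_le_left)
  have hΘ : ∀ w u, Θ (w, u) = ∑ r, b r w + u := fun w u => hΨ _ _
  have hΘi : Function.Injective Θ := (injective_iff_map_eq_zero _).2 fun x hx => by
    obtain ⟨h1, h2⟩ := hΨi _ _ hx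
    exact Prod.ext (congrFun h1 1) (Subtype.ext (congrArg (fun y : a.invariants => y.1) h2))
  have hΘr : LinearMap.range Θ = b.invariants := by
    apply le_antisymm
    · rintro _ ⟨⟨w, u⟩, rfl⟩ s
      rw [hΘ, map_add, u.2.2 s, map_sum]
      simp only [← End.mul_apply, ← map_mul]
      congr 1
      exact Fintype.sum_equiv (Equiv.mulLeft s) _ _ fun _ => rfl
    · intro v hv
      refine ⟨(⟨e v, _, rfl⟩, ⟨e0 v, h0i v, fun r => by rw [h0b, hv]⟩), ?_⟩
      rw [hΘ]
      simpa only [show ∀ r, b r v = v from hv] using h3 v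
  have d2 := LinearMap.finrank_range_of_inj hΘi
  rw [hΘr] at d2
  rw [finrank_prod, finrank_pi_fintype, Finset.sum_const, Finset.card_univ,
    ← Nat.card_eq_fintype_card, smul_eq_mul] at d1
  rw [finrank_prod] at d2
  refine ⟨by rw [← d1, d2]; ring, fun hle k k' => ?_⟩
  obtain ⟨u0, hu0⟩ := finrank_le_one_iff.1 (show finrank F U ≤ 1 by omega)
  have hU : ∀ k (w : U), a k w ∈ U := fun k ⟨x, w, hw⟩ => ⟨a k w, by
    change _ = a k x
    rw [← End.mul_apply, he, ← hΛ, ← map_mul, ← hc, map_mul, End.mul_apply, ← he, hw]⟩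
  choose c hcc using fun k => hu0 ⟨a k u0, hU k u0⟩
  have hcc' : ∀ k, a k u0 = c k • u0 := fun k => (congrArg Subtype.val (hcc k)).symm
  ext v
  obtain ⟨⟨w, u⟩, rfl⟩ := hΨs v
  simp only [hΨ, End.mul_apply, map_add, map_sum, show ∀ k, a k u = u from u.2]
  congr 1
  refine Finset.sum_congr rfl fun r _ => ?_
  obtain ⟨k, rfl⟩ := (φ r).surjective k
  obtain ⟨k', rfl⟩ := (φ r).surjective k'
  obtain ⟨d, hd⟩ := hu0 (w r)
  simp only [← End.mul_apply (a _) (b _), ← hab]
  simp only [End.mul_apply, ← End.mul_apply (a _) (b _), ← hab, ← hd, Submodule.coe_smul,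
    map_smul, hcc', smul_smul]
  rw [mul_right_comm]

section RepOn

variable {G : Type u} [Group G] {F : Type*} [Field F] {E : Type*} [AddCommGroup E] [Module F E]
  {L K R X Y Z : Subgroup G} {ρ : G → End F E}

/-- `ρ` restricts to a representation of `L`. -/
structure RepOn (L : Subgroup G) (ρ : G → End F E) : Prop where
  one : ρ 1 = 1
  mul : ∀ x ∈ L, ∀ y ∈ L, ρ (x * y) = ρ x * ρ y

/-- the vectors fixed by `X` -/
def fixSp (ρ : G → End F E) (X : Subgroup G) : Submodule F E where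
  carrier := {v | ∀ x ∈ X, ρ x v = v}
  add_mem' ha hb x hx := by rw [map_add, ha x hx, hb x hx]
  zero_mem' x _ := map_zero _
  smul_mem' c v hv x hx := by rw [map_smul, hv x hx]

theorem mem_fixSp {v : E} : v ∈ fixSp ρ X ↔ ∀ x ∈ X, ρ x v = v := Iff.rfl

theorem RepOn.mono (h : RepOn L ρ) (hX : X ≤ L) : RepOn X ρ :=
  ⟨h.one, fun x hx y hy => h.mul x (hX hx) y (hX hy)⟩

/-- the homomorphism given by `RepOn` -/
def RepOn.hom (h : RepOn L ρ) : L →* End F E where
  toFun x := ρ x
  map_one' := h.one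
  map_mul' x y := h.mul x x.2 y y.2

theorem RepOn.mul_inv (h : RepOn L ρ) {x : G} (hx : x ∈ L) : ρ x * ρ x⁻¹ = 1 := by
  rw [← h.mul x hx _ (inv_mem hx), mul_inv_cancel, h.one]

theorem RepOn.inv_mul (h : RepOn L ρ) {x : G} (hx : x ∈ L) : ρ x⁻¹ * ρ x = 1 := by
  rw [← h.mul _ (inv_mem hx) x hx, inv_mul_cancel, h.one]

theorem RepOn.pow (h : RepOn L ρ) {x : G} (hx : x ∈ L) (n : ℕ) : ρ (x ^ n) = ρ x ^ n :=
  map_pow h.hom ⟨x, hx⟩ n

/-- the stabiliser of a vector -/
def RepOn.stab (h : RepOn L ρ) (v : E) : Subgroup G where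
  carrier := {x | x ∈ L ∧ ρ x v = v}
  one_mem' := ⟨one_mem _, by rw [h.one]; rfl⟩
  mul_mem' ha hb := ⟨mul_mem ha.1 hb.1, by rw [h.mul _ ha.1 _ hb.1, End.mul_apply, hb.2, ha.2]⟩
  inv_mem' {x} hx := ⟨inv_mem hx.1, by
    conv_lhs => rw [← hx.2, ← End.mul_apply, h.inv_mul hx.1]
    rfl⟩

theorem RepOn.mem_fixSp_iff (h : RepOn L ρ) (hX : X ≤ L) {v : E} : v ∈ fixSp ρ X ↔ X ≤ h.stab v :=
  ⟨fun hv x hx => ⟨hX hx, hv x hx⟩, fun hv x hx => (hv hx).2⟩

theorem RepOn.fixSp_sup (h : RepOn (X ⊔ Y) ρ) : fixSp ρ (X ⊔ Y) = fixSp ρ X ⊓ fixSp ρ Y := by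
  ext v
  rw [Submodule.mem_inf, h.mem_fixSp_iff le_rfl, h.mem_fixSp_iff le_sup_left,
    h.mem_fixSp_iff le_sup_right, sup_le_iff]

theorem RepOn.mem_fixSp_zpowers {x : G} (h : RepOn (zpowers x) ρ) {v : E} :
    v ∈ fixSp ρ (zpowers x) ↔ ρ x v = v := by
  rw [h.mem_fixSp_iff le_rfl, zpowers_le]
  exact ⟨fun h => h.2, fun h => ⟨mem_zpowers x, h⟩⟩

theorem RepOn.wielandt_ker [Finite G] [IsAlgClosed F] [FiniteDimensional F E]
    (h : RepOn (K ⊔ R) ρ) (hn : R ≤ N[K]) (hZ : K ⊔ R ≤ N[Z]) (hρ : ∀ z ∈ Z, ρ z = 1)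
    (hreg : ∀ r ∈ R, r ≠ 1 → ∀ k ∈ K, ⁅r, k⁆ ∈ Z → k ∈ Z) (hK : (Nat.card K : F) ≠ 0) :
    finrank F E + Nat.card R * finrank F (fixSp ρ (K ⊔ R)) =
      Nat.card R * finrank F (fixSp ρ R) + finrank F (fixSp ρ K) ∧
    (finrank F (fixSp ρ R) ≤ 1 → ∀ k ∈ K, ∀ k' ∈ K, ρ k * ρ k' = ρ k' * ρ k) := by
  have hN : (Z.subgroupOf K).Normal := normal_subgroupOf (le_sup_left.trans hZ)
  let ψ : R →* MulAut K := K.normalizerMonoidHom.comp (inclusion hn)
  have hψ : ∀ (r : R) (k : K), (ψ r k : G) = r * k * (r : G)⁻¹ := fun _ _ => rfl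
  have he : ∀ r : R, (Z.subgroupOf K).map (ψ r : K →* K) = Z.subgroupOf K := fun r => by
    refine eq_of_le_of_card_ge ?_ (card_map_of_injective (ψ r).injective).ge
    rintro _ ⟨k, hk, rfl⟩
    exact conj_mem_of_le_norm (le_sup_right.trans hZ) r.2 hk
  let φ : R →* MulAut (K ⧸ Z.subgroupOf K) := MonoidHom.mk'
    (fun r => QuotientGroup.congr _ _ (ψ r) (he r)) fun r s => by
      ext ⟨k⟩
      change ((ψ (r * s) k : K) : K ⧸ Z.subgroupOf K) = ((ψ r (ψ s k) : K) : K ⧸ Z.subgroupOf K)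
      rw [map_mul]; rfl
  have hφ : ∀ (r : R) (k : K), φ r k = (ψ r k : K) := fun _ _ => rfl
  let a : Representation F (K ⧸ Z.subgroupOf K) E :=
    QuotientGroup.lift _ (h.mono le_sup_left).hom fun z hz => hρ _ hz
  have ha : ∀ k : K, a k = ρ k := fun _ => rfl
  have hai : a.invariants = fixSp ρ K := by
    ext v
    exact ⟨fun hv x hx => hv (⟨x, hx⟩ : K), by rintro hv ⟨k⟩; exact hv k k.2⟩
  have hbi : Representation.invariants (h.mono le_sup_right).hom = fixSp ρ R := by
    ext v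
    exact ⟨fun hv x hx => hv ⟨x, hx⟩, fun hv k => hv k k.2⟩
  have := wielandt_abstract F φ (by
      rintro r hr ⟨k⟩ hk
      refine (QuotientGroup.eq_one_iff k).2 (hreg r r.2 (fun h => hr (Subtype.ext h)) k k.2 ?_)
      exact QuotientGroup.eq_iff_div_mem.1 hk |> fun h => by
        simpa [mem_subgroupOf, div_eq_mul_inv, hψ, commutatorElement_def] using h)
    (fun h0 => hK (by
      rw [card_eq_card_quotient_mul_card_subgroup (Z.subgroupOf K), Nat.cast_mul, h0, zero_mul]))
    a (h.mono le_sup_right).hom <| by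
      rintro r ⟨k⟩
      change ρ r * ρ k = ρ (r * k * (r : G)⁻¹) * ρ r
      have hr : (r : G) ∈ K ⊔ R := mem_sup_right r.2
      have hk : (k : G) ∈ K ⊔ R := mem_sup_left k.2
      rw [← h.mul _ hr _ hk, ← h.mul _ (mul_mem (mul_mem hr hk) (inv_mem hr)) _ hr,
        inv_mul_cancel_right]
  rw [hai, hbi, ← h.fixSp_sup] at this
  exact ⟨this.1, fun h1 k hk k' hk' => this.2 h1 (⟨k, hk⟩ : K) (⟨k', hk'⟩ : K)⟩

theorem RepOn.wielandt [Finite G] [IsAlgClosed F] [FiniteDimensional F E]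
    (h : RepOn (K ⊔ R) ρ) (hn : R ≤ N[K]) (hreg : Semiregular K R) (hK : (Nat.card K : F) ≠ 0) :
    finrank F E + Nat.card R * finrank F (fixSp ρ (K ⊔ R)) =
      Nat.card R * finrank F (fixSp ρ R) + finrank F (fixSp ρ K) ∧
    (finrank F (fixSp ρ R) ≤ 1 → ∀ k ∈ K, ∀ k' ∈ K, ρ k * ρ k' = ρ k' * ρ k) :=
  h.wielandt_ker (Z := ⊥) hn (by rw [norm_bot]; exact le_top)
    (fun z hz => by rw [mem_bot.1 hz, h.one])
    (fun r hr h1 k hk hc => mem_bot.2 (semiregular_iff.1 hreg r hr h1 k hk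
      (commutatorElement_eq_one_iff_mul_comm.1 (mem_bot.1 hc)).symm)) hK

end RepOn

theorem finrank_fixed_baseChange {k : Type*} [Field k] (F : Type*) [Field F] [Algebra k F]
    {V : Type*} [AddCommGroup V] [Module k V] {ι : Type*} [Finite ι] (f : ι → End k V)
    (S : Submodule k V) (hS : ∀ v, v ∈ S ↔ ∀ i, f i v = v) (T : Submodule F (F ⊗[k] V))
    (hT : ∀ w, w ∈ T ↔ ∀ i, (f i).baseChange F w = w) : finrank F T = finrank k S := by
  classical
  have := Fintype.ofFinite ι
  let Φ : V →ₗ[k] (ι → V) := LinearMap.pi fun i => f i - 1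
  have h1 : S = LinearMap.ker Φ := by
    ext v
    simp [hS, Φ, funext_iff, sub_eq_zero]
  have h2 : T = LinearMap.ker (TensorProduct.AlgebraTensorModule.lTensor F F Φ) := by
    ext w
    rw [hT, LinearMap.mem_ker, ← (TensorProduct.piRight k F F fun _ : ι => V).map_eq_zero_iff,
      funext_iff]
    refine forall_congr' fun i => ?_
    have : TensorProduct.piRight k F F (fun _ : ι => V)
        (TensorProduct.AlgebraTensorModule.lTensor F F Φ w) i = (f i).baseChange F w - w := by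
      induction w using TensorProduct.induction_on with
      | zero => simp
      | tmul a v => simp [Φ, TensorProduct.tmul_sub]
      | add x y hx hy => simp only [map_add, Pi.add_apply, hx, hy]; abel
    rw [this, Pi.zero_apply, sub_eq_zero]
  rw [h1, h2, ← (LinearMap.tensorKerEquiv F F Φ).finrank_eq, finrank_baseChange]

/-- An elementary abelian `p`-subgroup as a module over an algebraically closed field. -/
theorem exists_rep_of_elemAb {G : Type u} [Group G] [Finite G] {V : Subgroup G} {p : ℕ}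
    (hp : p.Prime) (hV : IsElementaryAbelian p V) :
    ∃ (F : Type) (_ : Field F) (_ : IsAlgClosed F) (_ : CharP F p) (E : Type u)
      (_ : AddCommGroup E) (_ : Module F E) (_ : FiniteDimensional F E) (ρ : G → End F E),
      RepOn N[V] ρ ∧ Nat.card V = p ^ finrank F E ∧
      ∀ X, X ≤ N[V] → Nat.card ↥(V ⊓ C[X]) = p ^ finrank F (fixSp ρ X) := by
  classical
  have := Fact.mk hp
  have := hV.1
  have hp0 : ∀ v : AbV V, p • v = 0 := fun v =>
    AbV.val_injective (by rw [AbV.val_nsmul, hV.2 _ v.val_mem, AbV.val_zero])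
  obtain ⟨_⟩ : Nonempty (Module (ZMod p) (AbV V)) := ⟨AddCommGroup.zmodModule hp0⟩
  have : Module.Finite (ZMod p) (AbV V) := Module.Finite.of_finite
  let F := AlgebraicClosure (ZMod p)
  let σ : G → End (ZMod p) (AbV V) := fun x =>
    if hx : x ∈ N[V] then (conjEnd V ⟨x, hx⟩).toAddMonoidHom.toZModLinearMap p else LinearMap.id
  have hσ : ∀ x (hx : x ∈ N[V]) v, σ x v = conjEnd V ⟨x, hx⟩ v := fun x hx v => by
    simp only [σ, dif_pos hx]; rfl
  refine ⟨F, inferInstance, inferInstance, inferInstance, F ⊗[ZMod p] AbV V, inferInstance,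
    inferInstance, inferInstance, fun x => (σ x).baseChange F, ⟨?_, fun x hx y hy => ?_⟩, ?_,
    fun X hX => ?_⟩
  · have : σ 1 = 1 := LinearMap.ext fun v => by
      rw [hσ 1 (one_mem _)]; exact AbV.val_injective (by simp)
    rw [this, LinearMap.baseChange_one]
  · rw [← LinearMap.baseChange_mul]
    congr 1
    refine LinearMap.ext fun v => ?_
    rw [End.mul_apply, hσ _ (mul_mem hx hy), hσ _ hx, hσ _ hy]
    exact AbV.val_injective (by simp [mul_assoc])
  · rw [finrank_baseChange, ← AbV.card_eq, natCard_eq_pow_finrank (K := ZMod p), Nat.card_zmod]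
  · rw [finrank_fixed_baseChange F (fun x : X => σ x) (fixSp σ X)
      (fun v => ⟨fun h x => h x x.2, fun h x hx => h ⟨x, hx⟩⟩)
      (fixSp (fun x => (σ x).baseChange F) X)
      (fun v => ⟨fun h x => h x x.2, fun h x hx => h ⟨x, hx⟩⟩)]
    refine Eq.trans ?_ ((natCard_eq_pow_finrank (K := ZMod p)).trans (by rw [Nat.card_zmod]))
    have key : ∀ v : AbV V, v ∈ fixSp σ X ↔ v.val ∈ C[X] := fun v => by
      rw [mem_fixSp, mem_cent_iff_le_cent1]
      refine forall₂_congr fun x hx => ?_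
      rw [hσ x (hX hx), conjEnd_apply_eq_iff, mem_cent1_comm]
    exact Nat.card_congr ⟨fun x => ⟨AbV.mk x x.2.1, (key _).2 x.2.2⟩,
      fun v => ⟨v.1.val, v.1.val_mem, (key _).1 v.2⟩, fun _ => rfl, fun _ => rfl⟩

end Cfsg.Agent.BG
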