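import Cfsg.Agent.BG.S03b
import Cfsg.Agent.PG.Rank2
import Cfsg.Agent.GT.PLength

/-! Wielandt's formula, B&G 3.3, 3.5, 3.7, 3.10. -/

set_option autoImplicit false
set_option linter.unusedSectionVars false

namespace Cfsg.Agent.BG

open Module Subgroup Cfsg.Agent.GT
open scoped commutatorElement

universe u

variable {G : Type u} [Group G] [Finite G] {H K L M P Q R R₀ V X : Subgroup G} {p q n : ℕ}

theorem semiregular_coprime (h : Semiregular K R) (hn : R ≤ N[K]) :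
    (Nat.card K).Coprime (Nat.card R) := by
  refine coprime_of_forall_prime fun p hp h1 h2 => ?_
  have := Fact.mk hp
  obtain ⟨X, hX, hc⟩ := exists_le_card_eq_prime hp h2
  exact PG.inf_cent_ne_bot_of_dvd (isPGroup_of_card_eq_prime hc) (hX.trans hn) h1
    (h.inf_cent hX (ne_bot_of_card_prime (hc ▸ hp)))

theorem semiregular_im {G' : Type*} [Group G'] {D : Subgroup G} {f : D →* G'}
    (h : Semiregular K R) (hn : R ≤ N[K]) (hK : K ≤ D) (hR : R ≤ D) :
    Semiregular (im f K) (im f R) := by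
  intro y hy h1
  obtain ⟨x, hx, hxR, rfl⟩ := mem_im.1 hy
  have : x ≠ 1 := by rintro rfl; exact h1 (map_one f)
  rw [← im_inf_cent1_of_coprime hK hx (hn hxR) (Nat.Coprime.coprime_dvd_right
    (orderOf_dvd_card_of_mem hxR) ((semiregular_coprime h hn).coprime_dvd_left
      (card_dvd_of_le inf_le_left))), h x hxR this, im_bot]

theorem card_cast_ne_zero {F : Type*} [Field F] [CharP F p] (h : ¬ p ∣ n) : (n : F) ≠ 0 :=
  fun h0 => h ((CharP.cast_eq_zero_iff F p n).1 h0)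

theorem le_cent_of_card_inf (h : Nat.card ↥(V ⊓ C[X]) = Nat.card V) : X ≤ C[V] :=
  le_cent_symm (inf_eq_left.1 (eq_of_le_of_card_ge inf_le_left h.ge))

theorem wielandt_elem (hp : p.Prime) (hV : IsElementaryAbelian p V) (hn : R ≤ N[K])
    (hreg : Semiregular K R) (hL : K ⊔ R ≤ N[V]) (hK : ¬ p ∣ Nat.card K) :
    Nat.card ↥(V ⊓ C[K ⊔ R]) ^ Nat.card R * Nat.card V =
      Nat.card ↥(V ⊓ C[R]) ^ Nat.card R * Nat.card ↥(V ⊓ C[K]) ∧
    (Nat.card ↥(V ⊓ C[R]) ≤ p → ⁅K, K⁆ ≤ C[V]) := by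
  obtain ⟨F, _, _, _, E, _, _, _, ρ, hρ, h1, h2⟩ := exists_rep_of_elemAb hp hV
  have hKV := le_sup_left.trans hL
  obtain ⟨w1, w2⟩ := (hρ.mono hL).wielandt hn hreg (card_cast_ne_zero hK)
  rw [h1, h2 _ hL, h2 _ hKV, h2 _ (le_sup_right.trans hL)]
  refine ⟨by rw [← pow_mul, ← pow_mul, ← pow_add, ← pow_add, add_comm, mul_comm, w1, mul_comm],
    fun h => le_cent_of_card_inf ?_⟩
  have h3 := w2 ((Nat.pow_le_pow_iff_right hp.one_lt).1 (h.trans (pow_one p).ge))
  have : fixSp ρ ⁅K, K⁆ = ⊤ := eq_top_iff.2 fun v _ => by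
    rw [hρ.mem_fixSp_iff ((der1_le K).trans hKV), commutator_le]
    intro x hx y hy
    have hx' := hKV hx
    have hy' := hKV hy
    refine ⟨(der1_le _) (commutator_mem_commutator hx' hy'), ?_⟩
    rw [commutatorElement_def, hρ.mul _ (mul_mem (mul_mem hx' hy') (inv_mem hx')) _ (inv_mem hy'),
      hρ.mul _ (mul_mem hx' hy') _ (inv_mem hx'), hρ.mul _ hx' _ hy', h3 x hx y hy,
      mul_assoc (ρ y), hρ.mul_inv hx', mul_one, hρ.mul_inv hy', End.one_apply]
  rw [h1, h2 _ ((der1_le K).trans hKV), this, finrank_top]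

/-- 3.3 -/
theorem semiregular_cent_compl (hp : p.Prime) (hV : IsElementaryAbelian p V) (hn : R ≤ N[K])
    (hreg : Semiregular K R) (hL : K ⊔ R ≤ N[V]) (hK : ¬ p ∣ Nat.card K) (hC : V ⊓ C[R] = ⊥) :
    K ≤ C[V] := by
  have h := (wielandt_elem hp hV hn hreg hL hK).1
  rw [hC, le_bot_iff.1 ((inf_le_inf_left V (cent_anti le_sup_right)).trans hC.le), card_bot,
    one_pow, one_mul, one_mul] at h
  exact le_cent_of_card_inf h.symm

/-- The inductive step for a coprime action on a solvable group. -/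
theorem exists_coprime_step (hn : L ≤ N[M]) (hc : (Nat.card M).Coprime (Nat.card L))
    (hs : Group.IsSolvable M) (hM : M ≠ ⊥) :
    ∃ (V : Subgroup G) (p : ℕ) (Q : Type u) (_ : Group Q) (_ : Finite Q) (f : ↥(M ⊔ L) →* Q),
      V ≤ M ∧ p.Prime ∧ IsElementaryAbelian p V ∧ L ≤ N[V] ∧ ¬ p ∣ Nat.card L ∧
      Nat.card (im f M) < Nat.card M ∧ Nat.card M = Nat.card V * Nat.card (im f M) ∧
      (∀ X, X ≤ L → Nat.card (im f X) = Nat.card X) ∧
      (∀ X, X ≤ L → im f (M ⊓ C[X]) = im f M ⊓ C[im f X]) ∧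
      (∀ X, X ≤ L → Nat.card ↥(M ⊓ C[X]) =
        Nat.card ↥(V ⊓ C[X]) * Nat.card ↥(im f M ⊓ C[im f X])) ∧
      ∀ X, X ≤ L → X ≤ C[V] → im f X ≤ C[im f M] → X ≤ C[M] := by
  obtain ⟨V, p, hVM, hV, hp, he⟩ := exists_minNormal_elementary hM
    (sup_le (le_norm_self le_rfl) hn) hs
  obtain ⟨Q, _, _, f, -, hk⟩ := exists_quo' (M ⊔ L) V (hVM.trans le_sup_left) hV.norm
  have h1 : ∀ X, X ≤ L → im f (M ⊓ C[X]) = im f M ⊓ C[im f X] := fun X hX =>
    im_inf_cent_of_coprime' le_sup_left (hX.trans le_sup_right) (hX.trans hn) (.inl hs)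
      (coprime_card_of_le hc le_rfl hX)
  refine ⟨V, p, Q, _, ‹_›, f, hVM, hp, he, le_sup_right.trans hV.norm,
    not_dvd_of_coprime hc hp ((prime_dvd_card_of_isPGroup hp (isPGroup_of_elementary he)
      hV.ne_bot).trans (card_dvd_of_le hVM)),
    card_im_lt le_sup_left (by rw [hk, inf_eq_right.2 hVM]; exact hV.ne_bot),
    by rw [card_eq_card_kr_mul (f := f) le_sup_left (hk ▸ hVM), hk], fun X hX => ?_, h1,
    fun X hX => ?_, fun X hX h2 h3 => ?_⟩
  · rw [card_im_of_inf_eq_bot (hX.trans le_sup_right)]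
    rw [hk, inf_comm]
    exact GT.inf_eq_bot_of_coprime (coprime_card_of_le hc hVM hX)
  · rw [card_eq_card_inf_kr_mul (f := f) (inf_le_left.trans le_sup_left), h1 X hX, hk,
      inf_right_comm, inf_eq_right.2 hVM]
  · rw [le_cent_comm, im_le_cent_iff le_sup_left (hX.trans le_sup_right), hk] at h3
    exact le_cent_symm (le_cent_of_commutator_le_of_coprime h3 (le_cent_symm h2)
      (coprime_card_of_le hc hVM hX))

theorem wielandt_aux (n : ℕ) : ∀ {G : Type u} [Group G] [Finite G] {K R M : Subgroup G},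
    Nat.card M = n → R ≤ N[K] → Semiregular K R → K ⊔ R ≤ N[M] →
    (Nat.card M).Coprime (Nat.card ↥(K ⊔ R)) → Group.IsSolvable M →
    Nat.card ↥(M ⊓ C[K ⊔ R]) ^ Nat.card R * Nat.card M =
      Nat.card ↥(M ⊓ C[R]) ^ Nat.card R * Nat.card ↥(M ⊓ C[K]) ∧
    (IsCyclic ↥(M ⊓ C[R]) → ⁅K, K⁆ ≤ C[M]) := by
  induction n using Nat.strong_induction_on with | _ n ih => ?_
  intro G _ _ K R M hM hn hreg hL hc hs
  by_cases h0 : M = ⊥
  · subst h0; simp [cent_bot]
  obtain ⟨V, p, Q, _, _, f, hVM, hp, he, hV, hpL, h1, h2, h3, h4, h5, h6⟩ :=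
    exists_coprime_step hL hc hs h0
  have hK : K ≤ M ⊔ (K ⊔ R) := le_sup_left.trans le_sup_right
  have hR : R ≤ M ⊔ (K ⊔ R) := le_sup_right.trans le_sup_right
  obtain ⟨a1, a2⟩ := wielandt_elem hp he hn hreg hV
    fun h => hpL (h.trans (card_dvd_of_le le_sup_left))
  obtain ⟨b1, b2⟩ := ih _ (h1.trans_eq hM) (K := im f K) (R := im f R) (M := im f M) rfl
    (im_norm hn) (semiregular_im hreg hn hK hR) (by rw [← im_sup hK hR]; exact im_norm hL)
    (by rw [← im_sup hK hR]; exact coprime_im hc) (solvable_im hs)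
  refine ⟨?_, fun hcy => h6 _ ((der1_le K).trans le_sup_left) (a2 ?_) ?_⟩
  · rw [h3 R le_sup_right, ← im_sup hK hR] at b1
    rw [h5 _ le_rfl, h5 _ le_sup_left, h5 _ le_sup_right, h2, mul_pow, mul_pow, mul_mul_mul_comm,
      a1, b1]
    ring
  · obtain ⟨g, hg⟩ := PG.isCyclic_iff_exists.1 (cyc_of_le hcy (inf_le_inf_right C[R] hVM))
    rw [← hg, Nat.card_zpowers]
    exact Nat.le_of_dvd hp.pos (orderOf_dvd_of_pow_eq_one
      (he.2 g (hg.le.trans inf_le_left (mem_zpowers g))))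
  · rw [im_commutator hK hK]
    exact b2 (by rw [← h4 R le_sup_right]; exact cyclic_im hcy)

theorem semiregular_Wielandt (hn : R ≤ N[K]) (hreg : Semiregular K R) (hL : K ⊔ R ≤ N[M])
    (hc : (Nat.card M).Coprime (Nat.card ↥(K ⊔ R))) (hs : Group.IsSolvable M) :
    Nat.card ↥(M ⊓ C[K ⊔ R]) ^ Nat.card R * Nat.card M =
      Nat.card ↥(M ⊓ C[R]) ^ Nat.card R * Nat.card ↥(M ⊓ C[K]) :=
  (wielandt_aux _ rfl hn hreg hL hc hs).1

theorem semiregular_cent_cyclic (hn : R ≤ N[K]) (hreg : Semiregular K R) (hL : K ⊔ R ≤ N[M])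
    (hc : (Nat.card M).Coprime (Nat.card ↥(K ⊔ R))) (hs : Group.IsSolvable M)
    (h : IsCyclic ↥(M ⊓ C[R])) : ⁅K, K⁆ ≤ C[M] :=
  (wielandt_aux _ rfl hn hreg hL hc hs).2 h

/-- Wielandt's fixed point formula for Frobenius groups (Peterfalvi 9.1, contains B&G 3.3) -/
theorem Frobenius_Wielandt_fixpoint (hF : Frob K R L) (hn : L ≤ N[M])
    (hc : (Nat.card M).Coprime (Nat.card L)) (hs : Group.IsSolvable M) :
    Nat.card ↥(M ⊓ C[L]) ^ Nat.card R * Nat.card M =
      Nat.card ↥(M ⊓ C[R]) ^ Nat.card R * Nat.card ↥(M ⊓ C[K]) ∧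
    (M ⊓ C[R] = ⊥ → K ≤ C[M]) ∧
    (M ⊓ C[K] = ⊥ → Nat.card M = Nat.card ↥(M ⊓ C[R]) ^ Nat.card R) := by
  obtain rfl := hF.sdprod.sup_eq
  have h := semiregular_Wielandt hF.sdprod.right_norm hF.reg hn hc hs
  refine ⟨h, fun hC => ?_, fun hC => ?_⟩
  · rw [hC, le_bot_iff.1 ((inf_le_inf_left M (cent_anti le_sup_right)).trans hC.le), card_bot,
      one_pow, one_mul, one_mul] at h
    exact le_cent_of_card_inf h.symm
  · rwa [hC, le_bot_iff.1 ((inf_le_inf_left M (cent_anti le_sup_left)).trans hC.le), card_bot,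
      one_pow, one_mul, mul_one] at h

/-- 3.3 for an elementary abelian `V` whose order is only coprime to the kernel -/
theorem Frobenius_cent_compl (hF : Frob K R L) (hp : p.Prime) (hV : IsElementaryAbelian p V)
    (hn : L ≤ N[V]) (hK : IsPiSubgroup {p}ᶜ K) (hC : V ⊓ C[R] = ⊥) : K ≤ C[V] :=
  semiregular_cent_compl hp hV hF.sdprod.right_norm hF.reg (hF.sdprod.sup_eq ▸ hn)
    ((isPiSubgroup_single_compl_iff hp).1 hK) hC

/-- 3.5 -/
theorem Frobenius_prime_cent_prime (h : Sdprod K R L) (hs : Group.IsSolvable L)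
    (hR : (Nat.card R).Prime) (hK : K ⊓ C[R] = ⊥) (hn : L ≤ N[V])
    (hcV : (Nat.card V).Coprime (Nat.card L)) (hV : Group.IsSolvable V)
    (hC : (Nat.card ↥(V ⊓ C[R])).Prime) : ⁅K, K⁆ ≤ C[V] := by
  obtain rfl := h.sup_eq
  exact semiregular_cent_cyclic h.right_norm (semiregular_of_prime hR hK) hn hcV hV
    (isCyclic_of_card_prime hC)

theorem minNormal_le_cent_of_piNat (hp : p.Prime) (h : MinNormal M L) (hM : IsPGroup p M)
    (hK : K ≤ N[M]) (hn : L ≤ N[K]) (hi : PiNat {p} (C[M].relIndex K)) : K ≤ C[M] := by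
  have := Fact.mk hp
  exact le_cent_symm (h.le_of_inf_ne_bot (le_norm_cent hn)
    (PG.inf_cent_ne_bot_of_piNat_relIndex hM h.ne_bot hK hi))

theorem semiregular_sol_nil (hn : R ≤ N[K]) (hs : Group.IsSolvable K) (hR : R ≠ ⊥)
    (hreg : Semiregular K R) : Group.IsNilpotent K := by
  have hL : K ⊔ R ≤ N[K] := sup_le (le_norm_self le_rfl) hn
  refine nilpotent_of_le_fittingOf (le_fittingOf_of_chief_stab hs le_sup_left hL
    fun U V hUV _ hU => ?_)
  obtain ⟨Q, _, _, f, -, hk⟩ := exists_quo' (K ⊔ R) V (hUV.lt.le.trans hUV.le) hUV.norm_bot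
  have hM := hUV.minNormal_im le_rfl hk
  obtain ⟨p, hp, he⟩ := hM.elementary (solvable_im (solv_of_le hs hU))
  rw [← hk, ← im_le_cent_iff hUV.le le_sup_left, le_cent_comm]
  have hreg' := semiregular_im (f := f) hreg hn le_sup_left le_sup_right
  have hR' : im f R ≠ ⊥ := fun h => hR (by
    rw [im_eq_bot_iff le_sup_right, hk] at h
    exact le_bot_iff.1 ((le_inf (h.trans (hUV.lt.le.trans hU)) le_rfl).trans hreg.inf_eq_bot.le))
  refine minNormal_le_cent_of_piNat hp hM (isPGroup_of_elementary he)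
    ((im_mono le_sup_left).trans hM.norm) (im_norm hL)
    (piNat_relIndex_of_forall_syl_le fun q hq hqp S hS => ?_)
  obtain ⟨T, hT, hRT⟩ := coprime_exists_syl hq (.inl (solvable_im hs)) (im_norm hn)
    (semiregular_coprime hreg' (im_norm hn))
  have h1 : T ≤ C[im f U] := semiregular_cent_compl hp he hRT (hreg'.mono hT.le le_rfl)
    ((sup_le (hT.le.trans (im_mono le_sup_left)) (im_mono le_sup_right)).trans hM.norm)
    (fun h => hqp (Set.mem_singleton_iff.1 (hT.isPi p hp h)).symm)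
    (le_bot_iff.1 ((inf_le_inf_right _ (im_mono hU)).trans (hreg'.inf_cent le_rfl hR').le))
  obtain ⟨g, hg, rfl⟩ := syl_exists_conj hq hT hS
  rw [← conj_eq_self (norm_le_norm_cent _ (hM.norm (im_mono le_sup_left hg)))]
  exact conj_mono g h1

theorem prime_regular_sol_nil (hn : R ≤ N[K]) (hs : Group.IsSolvable K) (hR : (Nat.card R).Prime)
    (hK : K ⊓ C[R] = ⊥) : Group.IsNilpotent K :=
  semiregular_sol_nil hn hs (ne_bot_of_card_prime hR) (semiregular_of_prime hR hK)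

/-- 3.7 -/
theorem prime_Frobenius_sol_kernel_nil (h : Sdprod K R L) (hs : Group.IsSolvable L)
    (hR : (Nat.card R).Prime) (hK : K ⊓ C[R] = ⊥) : Group.IsNilpotent K :=
  prime_regular_sol_nil h.right_norm (solv_of_le hs h.left_le) hR hK

theorem Frobenius_sol_kernel_nil (h : Frob K R L) (hs : Group.IsSolvable K) :
    Group.IsNilpotent K := by
  obtain ⟨X, hX, hp⟩ := exists_le_card_prime h.compl_ne_bot
  exact prime_regular_sol_nil (hX.trans h.sdprod.right_norm) hs hp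
    (h.reg.inf_cent hX (ne_bot_of_card_prime hp))

/-- 3.10 -/
theorem Frobenius_primact (hF : Frob K R L) (hs : Group.IsSolvable L) (hn : L ≤ N[M])
    (hc : (Nat.card M).Coprime (Nat.card L)) (hM : Group.IsSolvable M) (hM1 : M ≠ ⊥)
    (hp : Semiprime M R) (hK : M ⊓ C[K] = ⊥) :
    (Nat.card R).Prime ∧ Nat.card M = Nat.card ↥(M ⊓ C[R]) ^ Nat.card R ∧
    (IsCyclic ↥(M ⊓ C[R]) → ⁅K, K⁆ ≤ C[M]) := by
  have h1 := (Frobenius_Wielandt_fixpoint hF hn hc hM).2.2 hK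
  obtain rfl := hF.sdprod.sup_eq
  refine ⟨?_, h1, semiregular_cent_cyclic hF.sdprod.right_norm hF.reg hn hc hM⟩
  obtain ⟨X, hX, hXp⟩ := exists_le_card_prime hF.compl_ne_bot
  have hX1 := ne_bot_of_card_prime hXp
  have h2 := (Frobenius_Wielandt_fixpoint (hF.subr hX hX1) ((sup_le_sup_left hX K).trans hn)
    (coprime_card_of_le hc le_rfl (sup_le_sup_left hX K)) hM).2.2 hK
  rw [hp.inf_cent hX hX1, h1] at h2
  rwa [Nat.pow_right_injective ?_ h2]
  by_contra h3
  rw [show Nat.card ↥(M ⊓ C[R]) = 1 by have := card_pos' (M ⊓ C[R]); omega, one_pow] at h1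
  exact hM1 (card_eq_one.1 h1)

end Cfsg.Agent.BG
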