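import Cfsg.Agent.BG.S03c

/-! B&G 2.7 -/

set_option autoImplicit false
set_option linter.unusedSectionVars false

namespace Cfsg.Agent.BG

open Subgroup Cfsg.Agent.GT

universe u

variable {G : Type u} [Group G] [Finite G] {P Q : Subgroup G} {p q : ℕ}

theorem conj_pow_eq_pow {b x : G} {r : ℕ} (h : b * x * b⁻¹ = x ^ r) (k : ℕ) :
    b ^ k * x * (b ^ k)⁻¹ = x ^ r ^ k := by
  induction k with
  | zero => simp
  | succ k ih =>
    rw [pow_succ' b, mul_inv_rev, pow_succ', pow_mul, ← h, conj_pow, ← ih]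
    group

/-- 2.7 -/
theorem regular_abelem2_on_abelem2 (hp : p.Prime) (hq : q.Prime) (hP : PnElem p 2 ⊤ P)
    (hQ : PnElem q 2 ⊤ Q) (hn : Q ≤ N[P]) (hC : Q ⊓ C[P] = ⊥) :
    q ∣ p - 1 ∧ ∃ a ∈ Q, a ≠ 1 ∧ ∃ r : ℕ, (∀ x ∈ P, a * x * a⁻¹ = x ^ r) ∧
      r ^ q ≡ 1 [MOD p] ∧ ¬ r ≡ 1 [MOD p] := by
  have := Fact.mk hp
  have := Fact.mk hq
  have hpq : p ≠ q := by
    rintro rfl
    have := PG.card_le_mul_card_inf_cent_of_card_sq hQ.isPGroup hn hP.card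
    rw [hC, card_bot, hQ.card] at this
    have := hp.one_lt
    nlinarith
  have hc : (Nat.card P).Coprime (Nat.card Q) := by
    rw [hP.card, hQ.card]
    exact Nat.coprime_pow_primes _ _ hp hq hpq
  have hnc : ¬ IsCyclic Q := fun h => by
    obtain ⟨g, hg⟩ := PG.isCyclic_iff_exists.1 h
    have h1 := orderOf_dvd_of_pow_eq_one (hQ.elem.2 g (hg.le (mem_zpowers g)))
    rw [← Nat.card_zpowers, hg, hQ.card] at h1
    have := Nat.le_of_dvd hq.pos h1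
    have := hq.one_lt
    nlinarith
  -- a non-trivial element of `Q` fixing a vector outside `X`
  have key : ∀ X, ¬ P ≤ X → ∃ b ∈ Q, b ≠ 1 ∧ ∃ x ∈ P, x ∉ X ∧ P ⊓ C1[b] = zpowers x := by
    intro X hX
    obtain ⟨b, hb, hb1, h⟩ := coprime_abelian_exists_cent1 hQ.comm hnc hn hc hX
    obtain ⟨x, hx, hxX⟩ := SetLike.not_le_iff_exists.1 h
    refine ⟨b, hb, hb1, x, hx.1, hxX, ?_⟩
    have h1 := PG.card_zpowers_eq_prime hp (hP.elem.2 x hx.1) (by rintro rfl; exact hxX (one_mem _))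
    refine (PG.eq_or_eq_of_card_eq_mul hp (zpowers_le.2 hx) inf_le_left
      (by rw [hP.card, h1, sq])).resolve_right fun h2 => hb1 ?_
    exact mem_bot.1 (hC ▸ ⟨hb, mem_cent_iff_le_cent1.2 (inf_eq_left.1 h2)⟩)
  have hP1 : ¬ P ≤ ⊥ := fun h => hP.ne_bot hp (le_bot_iff.1 h)
  obtain ⟨b, hb, hb1, x, hx, hx1, hbx⟩ := key ⊥ hP1
  have hxp := PG.card_zpowers_eq_prime hp (hP.elem.2 x hx) (by rintro rfl; exact hx1 (one_mem _))
  have hPx : Nat.card P = p * Nat.card (zpowers x) := by rw [hP.card, hxp, sq]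
  obtain ⟨c, hc', hc1, y, hy, hyx, hcy⟩ :=
    key (zpowers x) (PG.lt_of_card_eq_mul hp (zpowers_le.2 hx) hPx).not_ge
  have hPxy := PG.eq_sup_zpowers_of_card_eq_mul hp (zpowers_le.2 hx) hPx hy hyx
  have hN : ∀ a ∈ Q, ∀ d ∈ Q, a ∈ N[P ⊓ C1[d]] := fun a ha d hd =>
    le_norm_inf hn (le_norm_cent1 (hQ.le_cent.trans (cent_le_cent1 hd))) ha
  obtain ⟨r, hr⟩ := PG.exists_conj_eq_pow (hcy ▸ hN b hb c hc')
  obtain ⟨s, hs⟩ := PG.exists_conj_eq_pow (hbx ▸ hN c hc' b hb)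
  have hbx' : b * x * b⁻¹ = x := by
    rw [← mem_cent1.1 (hbx.ge (mem_zpowers x)).2, mul_inv_cancel_right]
  have hcy' : c * y * c⁻¹ = y := by
    rw [← mem_cent1.1 (hcy.ge (mem_zpowers y)).2, mul_inv_cancel_right]
  have ox : orderOf x = p := by rw [← Nat.card_zpowers, hxp]
  have oy : orderOf y = p :=
    PG.orderOf_eq_prime' hp (hP.elem.2 y hy) (by rintro rfl; exact hyx (one_mem _))
  have gen : ∀ a : G, ∀ t : ℕ, a * x * a⁻¹ = x ^ t → a * y * a⁻¹ = y ^ t →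
      ∀ z ∈ P, a * z * a⁻¹ = z ^ t := fun a t h1 h2 z hz => by
    rw [hPxy, mem_sup_of_le_norm (le_norm_of_cent ((zpowers_le.2 hx).trans
      (hP.le_cent.trans (cent_anti (zpowers_le.2 hy)))))] at hz
    obtain ⟨_, ⟨i, rfl⟩, _, ⟨j, rfl⟩, rfl⟩ := hz
    have hxy : Commute x y := PG.commute_of_comm hP.comm hx hy
    rw [(hxy.zpow_zpow i j).mul_pow, ← zpow_natCast, ← zpow_natCast, ← zpow_mul, ← zpow_mul,
      mul_comm i, mul_comm j, zpow_mul, zpow_mul, zpow_natCast, zpow_natCast, ← h1, ← h2,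
      conj_zpow, conj_zpow]
    group
  have prim : ∀ {a z : G} {t : ℕ}, a ∈ Q → a ≠ 1 → orderOf z = p → a * z * a⁻¹ = z ^ t →
      (a * z * a⁻¹ = z → ∀ w ∈ P, a * w * a⁻¹ = w ^ 1) →
      t ^ q ≡ 1 [MOD p] ∧ ¬ t ≡ 1 [MOD p] := fun {a z t} ha ha1 hz h1 h2 => by
    refine ⟨?_, fun h => ha1 (mem_bot.1 (hC ▸ ⟨ha, fun w hw => ?_⟩))⟩
    · have := conj_pow_eq_pow h1 q
      rw [hQ.elem.2 a ha, one_mul, inv_one, mul_one] at this
      rw [← hz, ← pow_eq_pow_iff_modEq, ← this, pow_one]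
    · rw [← hz, ← pow_eq_pow_iff_modEq, pow_one] at h
      have := h2 (h1.trans h) w hw
      rw [pow_one, mul_inv_eq_iff_eq_mul] at this
      exact this.symm
  obtain ⟨r1, r2⟩ := prim hb hb1 oy hr fun h => gen b 1 (by simpa using hbx') (by simpa using h)
  obtain ⟨s1, s2⟩ := prim hc' hc1 ox hs fun h => gen c 1 (by simpa using h) (by simpa using hcy')
  have zr : (r : ZMod p) ^ q = 1 := by
    rw [← Nat.cast_pow, ← Nat.cast_one, ZMod.natCast_eq_natCast_iff]; exact r1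
  have zs : orderOf (s : ZMod p) = q := orderOf_eq_prime
    (by rw [← Nat.cast_pow, ← Nat.cast_one, ZMod.natCast_eq_natCast_iff]; exact s1)
    (by rw [← Nat.cast_one, Ne, ZMod.natCast_eq_natCast_iff]; exact s2)
  obtain ⟨k, -, hk⟩ := (zs ▸ IsPrimitiveRoot.orderOf (s : ZMod p)).eq_pow_of_pow_eq_one zr
  rw [← Nat.cast_pow, ZMod.natCast_eq_natCast_iff] at hk
  have hy' : b * c ^ k * y * (b * c ^ k)⁻¹ = y ^ r := by
    have := conj_pow_eq_pow (hcy'.trans (pow_one y).symm) k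
    rw [one_pow, pow_one] at this
    rw [← hr, mul_inv_rev]
    conv_rhs => rw [← this]
    group
  refine ⟨zs ▸ ZMod.orderOf_dvd_card_sub_one fun h => ?_, b * c ^ k, mul_mem hb (pow_mem hc' k),
    fun h => r2 ?_, r, gen _ r ?_ hy', r1, r2⟩
  · rw [h, orderOf_zero] at zs
    exact hq.ne_zero zs.symm
  · rw [h, one_mul, inv_one, mul_one] at hy'
    rw [← oy, ← pow_eq_pow_iff_modEq, ← hy', pow_one]
  · have := conj_pow_eq_pow hs k
    rw [← ox, ← pow_eq_pow_iff_modEq] at hk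
    rw [← hbx', conj_pow, ← hk, ← this, hbx']
    group

end Cfsg.Agent.BG
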