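import Cfsg.Agent.BG.S03c

/-! B&G 2.5: linear algebra preliminaries. -/

set_option autoImplicit false
set_option linter.unusedSectionVars false

namespace Cfsg.Agent.BG

open Module Finset Polynomial

section lin

variable {F : Type*} [Field F] {W : Type*} [AddCommGroup W] [Module F W] {h : ℕ}

theorem eigen_span [IsAlgClosed F] [FiniteDimensional F W] (T : End F W) (hT : T ^ h = 1)
    (hh : (h : F) ≠ 0) : ⨆ μ, T.eigenspace μ = ⊤ :=
  (End.isSemisimple_of_squarefree_aeval_eq_zero
    (separable_X_pow_sub_C 1 hh one_ne_zero).squarefree (by simp [hT])).iSup_eigenspace_eq_top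

theorem eigen_ind [IsAlgClosed F] [FiniteDimensional F W] (T : End F W) (hT : T ^ h = 1)
    (hh : (h : F) ≠ 0) (C : Submodule F W) (hC : ∀ v ∈ C, T v ∈ C) (S : Submodule F W)
    (hS : ∀ μ : F, ∀ v ∈ C, T v = μ • v → v ∈ S) : C ≤ S := by
  have h1 : (T.restrict hC) ^ h = 1 := by
    ext v
    rw [End.pow_restrict, LinearMap.coe_restrict_apply, hT]
    rfl
  have : (⊤ : Submodule F C) ≤ S.comap C.subtype := by
    rw [← eigen_span _ h1 hh, iSup_le_iff]
    intro μ v hv
    exact hS μ v v.2 (congrArg Subtype.val (End.mem_eigenspace_iff.1 hv))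
  exact fun v hv => this (Submodule.mem_top (x := ⟨v, hv⟩))

theorem pow_eq_one_of_eigen {T : End F W} (hT : T ^ h = 1) {μ : F} {v : W} (hv : v ≠ 0)
    (h1 : T v = μ • v) : μ ^ h = 1 := by
  have := End.HasEigenvector.pow_apply ⟨End.mem_eigenspace_iff.2 h1, hv⟩ h
  rw [hT, End.one_apply] at this
  exact smul_left_injective F hv (by simpa using this.symm)

theorem finrank_fixed_of_basis {ι : Type*} [Fintype ι] [DecidableEq F] (b : Basis ι F W)
    (T : End F W) (c : ι → F) (hb : ∀ i, T (b i) = c i • b i) (S : Submodule F W)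
    (hS : ∀ v, v ∈ S ↔ T v = v) : finrank F S = #{i | c i = 1} := by
  have h1 : ∀ v i, b.repr (T v) i = c i * b.repr v i := fun v i => by
    have : (b.coord i) ∘ₗ T = c i • b.coord i := b.ext fun j => by
      classical
      by_cases hij : j = i <;> simp [hb, Finsupp.single_apply, hij]
    exact LinearMap.congr_fun this v
  have h2 : S = Submodule.span F (Set.range (b ∘ (↑) : {i // c i = 1} → W)) := by
    ext v
    rw [hS, Set.range_comp, Basis.mem_span_image, Subtype.range_coe_subtype, ← b.repr.injective.eq_iff,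
      Finsupp.ext_iff]
    refine forall_congr' fun i => ?_
    rw [h1, mem_coe, Finsupp.mem_support_iff, Set.mem_ofPred_eq, ← sub_eq_zero, ← sub_one_mul,
      mul_eq_zero, sub_eq_zero, or_iff_not_imp_right]
  rw [h2, finrank_span_eq_card (b.linearIndependent.comp _ Subtype.val_injective),
    Fintype.card_subtype]

theorem exists_eigenbasis {W : Type*} [AddCommGroup W] [Module F W] [IsAlgClosed F]
    [FiniteDimensional F W] (T : End F W) (hT : T ^ h = 1) (hh : (h : F) ≠ 0) :
    ∃ (b : Basis (Fin (finrank F W)) F W) (c : Fin (finrank F W) → F),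
      ∀ i, T (b i) = c i • b i := by
  have hs : ⊤ ≤ Submodule.span F {v | ∃ μ : F, T v = μ • v} :=
    eigen_ind T hT hh ⊤ (fun _ _ => trivial) _ fun μ v _ hv => Submodule.subset_span ⟨μ, hv⟩
  let b := Basis.ofSpan hs
  have := FiniteDimensional.fintypeBasisIndex b
  let e := (b.indexEquiv (finBasis F W))
  choose c hc using fun i => Basis.ofSpan_subset hs ⟨e.symm i, rfl⟩
  exact ⟨b.reindex e, c, fun i => by rw [Basis.reindex_apply]; exact hc i⟩

end lin

theorem sum_sq_arith {α : Type*} (S : Finset α) (n : α → ℕ) {h d : ℕ} (hh : #S = h)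
    (hd : ∑ a ∈ S, n a = d) (e : d ^ 2 + h = h * ∑ a ∈ S, n a ^ 2 + 1) :
    (h ∣ d + 1 ∨ h ∣ d - 1) ∧ ((∃ a ∈ S, n a = 0) → d + 1 = h ∨ d ≤ 1) := by
  have h0 : 0 < h := Nat.pos_of_ne_zero fun h0 => by
    subst h0
    rw [card_eq_zero.1 hh] at hd
    subst hd
    simp at e
  obtain ⟨q, s, hs, hqs⟩ : ∃ q s, s < h ∧ d = h * q + s :=
    ⟨d / h, d % h, Nat.mod_lt _ h0, (Nat.div_add_mod d h).symm⟩
  set T : ℤ := ∑ a ∈ S, (((n a : ℤ) - q) ^ 2 - (n a - q)) with hT
  have hp : ∀ a ∈ S, (0 : ℤ) ≤ ((n a : ℤ) - q) ^ 2 - (n a - q) := fun a _ => by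
    generalize (n a : ℤ) - q = m
    rcases le_or_gt m 0 with h | h <;> nlinarith
  have T0 : 0 ≤ T := sum_nonneg hp
  have e1 : T = ∑ a ∈ S, (n a : ℤ) ^ 2 - (2 * q + 1) * d + h * (q ^ 2 + q) := by
    rw [hT, ← hd, ← hh, Nat.cast_sum, mul_sum, ← sum_sub_distrib, ← nsmul_eq_mul, ← sum_const,
      ← sum_add_distrib]
    exact sum_congr rfl fun a _ => by ring
  have e2 : (h : ℤ) * T = (s - 1) * (s - h + 1) := by
    have e' : (d : ℤ) ^ 2 + h = h * ∑ a ∈ S, (n a : ℤ) ^ 2 + 1 := by exact_mod_cast e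
    have : (d : ℤ) = h * q + s := by exact_mod_cast hqs
    rw [e1]
    linear_combination -e' + (d + s - h * q - h) * this
  have h0' : (0 : ℤ) < h := by exact_mod_cast h0
  have hs' : (s : ℤ) + 1 ≤ h := by exact_mod_cast hs
  have s0 : (0 : ℤ) ≤ s := Nat.cast_nonneg s
  have T1 : T = 0 := by
    by_contra h1
    have : 1 ≤ T := by omega
    rcases Nat.eq_zero_or_pos s with rfl | h2
    · simp only [Nat.cast_zero] at e2; nlinarith
    · have : (1 : ℤ) ≤ s := by exact_mod_cast h2
      nlinarith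
  rw [T1, mul_zero, eq_comm, mul_eq_zero] at e2
  refine ⟨?_, fun ⟨a, ha, h1⟩ => ?_⟩
  · rcases e2 with e2 | e2
    · exact .inr ⟨q, by omega⟩
    · exact .inl ⟨q + 1, by rw [mul_add]; omega⟩
  · have := (sum_eq_zero_iff_of_nonneg hp).1 T1 a ha
    rw [h1] at this
    have : q = 0 := by
      have h2 : (0 : ℤ) ≤ q := Nat.cast_nonneg q
      have : (q : ℤ) = 0 := by simp only [Nat.cast_zero] at this; nlinarith
      exact_mod_cast this
    subst this
    omega

/-- The dimension of the centraliser of an endomorphism of finite order. -/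
theorem centraliser_arith {F : Type*} [Field F] [IsAlgClosed F] {E : Type*} [AddCommGroup E]
    [Module F E] [FiniteDimensional F E] {h : ℕ} (X X' : End F E) (hX : X ^ h = 1)
    (hX' : X' * X = 1) (hh : (h : F) ≠ 0) (S : Submodule F (End F E))
    (hS : ∀ T, T ∈ S ↔ X * T * X' = T) (e : finrank F E ^ 2 + h = h * finrank F S + 1) :
    (h ∣ finrank F E + 1 ∨ h ∣ finrank F E - 1) ∧
      ((∀ v, X v = v → v = 0) → finrank F E + 1 = h ∨ finrank F E ≤ 1) := by
  classical
  have : NeZero (h : F) := ⟨hh⟩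
  have h0 : 0 < h := Nat.pos_of_ne_zero fun h0 => hh (by rw [h0, Nat.cast_zero])
  obtain ⟨ω, hω⟩ := HasEnoughRootsOfUnity.exists_primitiveRoot F h
  obtain ⟨b, c, hb⟩ := exists_eigenbasis X hX hh
  have hc : ∀ i, c i ∈ nthRootsFinset h (1 : F) := fun i =>
    (mem_nthRootsFinset h0 1).2 (pow_eq_one_of_eigen hX (b.ne_zero i) (hb i))
  have hc0 : ∀ i, c i ≠ 0 := fun i h1 => by
    have := (mem_nthRootsFinset h0 1).1 (hc i)
    rw [h1, zero_pow h0.ne'] at this
    exact zero_ne_one this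
  have hb' : ∀ i, X' (b i) = (c i)⁻¹ • b i := fun i => by
    rw [eq_inv_smul_iff₀ (hc0 i), ← map_smul, ← hb, ← End.mul_apply, hX', End.one_apply]
  have h1 := finrank_fixed_of_basis b.end (LinearMap.mulLeftRight F (X, X'))
    (fun ij => c ij.1 * (c ij.2)⁻¹) (fun ij => b.ext fun k => by
      rw [LinearMap.mulLeftRight_apply, End.mul_apply, End.mul_apply, hb', map_smul, map_smul,
        LinearMap.smul_apply, Basis.end_apply_apply]
      split_ifs with h2
      · rw [hb, h2, smul_smul, mul_comm]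
      · simp) S hS
  have h2 := sum_sq_arith (nthRootsFinset h (1 : F)) (fun a => #{i | c i = a})
    hω.card_nthRootsFinset (d := finrank F E)
    (by rw [← card_eq_sum_card_fiberwise fun i _ => hc i]; simp) (by
      rw [e, h1, card_eq_sum_card_fiberwise (f := fun ij => c ij.1) fun ij _ => hc ij.1]
      congr 2
      refine sum_congr rfl fun a _ => ?_
      rw [sq, ← card_product]
      congr 1
      ext ⟨i, j⟩
      simp only [mem_filter, mem_univ, true_and, mem_product, mul_inv_eq_one₀ (hc0 j)]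
      exact ⟨fun h => ⟨h.2, h.1 ▸ h.2⟩, fun h => ⟨h.1.trans h.2.symm, h.1⟩⟩)
  refine ⟨h2.1, fun h3 => h2.2 ⟨1, one_mem_nthRootsFinset h0, ?_⟩⟩
  rw [card_eq_zero, filter_eq_empty_iff]
  exact fun i _ hi => b.ne_zero i (h3 _ (by rw [hb, hi, one_smul]))

end Cfsg.Agent.BG
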