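import Cfsg.Agent.BG.S03e

/-! B&G 2.5 -/

set_option autoImplicit false
set_option linter.unusedSectionVars false

namespace Cfsg.Agent.BG

open Module Subgroup Cfsg.Agent.GT
open scoped commutatorElement

universe u

variable {G : Type u} [Group G] [Finite G] {F : Type*} [Field F] [IsAlgClosed F] {E : Type*}
  [AddCommGroup E] [Module F E] [FiniteDimensional F E] {H P Z : Subgroup G} {ρ : G → End F E}
  {x : G} {p n : ℕ}

theorem extraspecial_irr [Nontrivial E] (hρ : RepOn (P ⊔ zpowers x) ρ)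
    (irr : ∀ S : Submodule F E, (∀ t ∈ P, ∀ v ∈ S, ρ t v ∈ S) → (∀ v ∈ S, ρ x v ∈ S) →
      S = ⊥ ∨ S = ⊤)
    (hx : x ∈ N[P]) (hZ : Z = P ⊓ C[P]) (hZx : Z ≤ C1[x]) (hP' : ⁅P, P⁆ ≤ Z)
    (hf : ∀ z ∈ Z, ρ z = 1 → z = 1)
    (hreg : ∀ r ∈ zpowers x, r ≠ 1 → ∀ k ∈ P, ⁅r, k⁆ ∈ Z → k ∈ Z)
    (hP : (Nat.card P : F) ≠ 0) (hh : (orderOf x : F) ≠ 0) :
    finrank F E ^ 2 * Nat.card Z = Nat.card P ∧
    (orderOf x ∣ finrank F E + 1 ∨ orderOf x ∣ finrank F E - 1) ∧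
    ((∀ v, ρ x v = v → v = 0) → finrank F E + 1 = orderOf x ∨ finrank F E ≤ 1) := by
  classical
  have := Fintype.ofFinite G
  have hPL : ∀ {t}, t ∈ P → t ∈ P ⊔ zpowers x := fun h => mem_sup_left h
  have hxL : x ∈ P ⊔ zpowers x := mem_sup_right (mem_zpowers x)
  have hZP : Z ≤ P := hZ ▸ inf_le_left
  have hZc : P ≤ C[Z] := le_cent_symm (hZ ▸ inf_le_right)
  have hinj : ∀ (f : End F E) (μ : F), (∀ t ∈ P, ρ t * f = f * ρ t) → ρ x * f = μ • (f * ρ x) →
      μ ≠ 0 → f ≠ 0 → IsUnit f := fun f μ h1 h2 hμ h3 => by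
    rw [LinearMap.isUnit_iff_ker_eq_bot]
    refine (irr _ (fun t ht v hv => ?_) fun v hv => ?_).resolve_right
      fun h => h3 (LinearMap.ker_eq_top.1 h)
    · rw [LinearMap.mem_ker, ← End.mul_apply, ← h1 t ht, End.mul_apply, hv, map_zero]
    · have := LinearMap.congr_fun h2 v
      rw [End.mul_apply, hv, map_zero, LinearMap.smul_apply, eq_comm, smul_eq_zero] at this
      exact this.resolve_left hμ
  have schur : ∀ f : End F E, (∀ t ∈ P, ρ t * f = f * ρ t) → ρ x * f = f * ρ x →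
      ∃ c : F, f = c • 1 := fun f h1 h2 => by
    obtain ⟨c, hc⟩ := End.exists_eigenvalue f
    refine ⟨c, sub_eq_zero.1 (by_contra fun h => ?_)⟩
    have := hinj (f - c • 1) 1 (fun t ht => by simp [mul_sub, sub_mul, h1 t ht])
      (by simp [mul_sub, sub_mul, h2]) one_ne_zero h
    rw [LinearMap.isUnit_iff_ker_eq_bot] at this
    exact hc (End.eigenspace_def.trans this)
  have hsc : ∀ z ∈ Z, ∃ c : F, ρ z = c • 1 := fun z hz => schur _
    (fun t ht => by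
      rw [← hρ.mul _ (hPL ht) _ (hPL (hZP hz)), ← hρ.mul _ (hPL (hZP hz)) _ (hPL ht), hZc ht z hz])
    (by rw [← hρ.mul _ hxL _ (hPL (hZP hz)), ← hρ.mul _ (hPL (hZP hz)) _ hxL, mem_cent1.1 (hZx hz)])
  have hcm : ∀ {s t}, s ∈ P → t ∈ P → ⁅s, t⁆ ∈ Z := fun hs ht =>
    hP' (commutator_mem_commutator hs ht)
  have hsum : ∀ (φ : P → G), (∀ t, φ t ∈ Z) → (∀ s t, φ (s * t) = φ s * φ t) → (∃ t, φ t ≠ 1) →
      ∑ t, ρ (φ t) = 0 := fun φ h1 h2 ⟨t0, h3⟩ => by
    obtain ⟨c, hc⟩ := hsc _ (h1 t0)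
    have : ∑ t, ρ (φ t) = c • ∑ t, ρ (φ t) := by
      rw [Finset.smul_sum, ← Equiv.sum_comp (Equiv.mulLeft t0) fun t => ρ (φ t)]
      refine Finset.sum_congr rfl fun t _ => ?_
      rw [Equiv.coe_mulLeft, h2, hρ.mul _ (hPL (hZP (h1 _))) _ (hPL (hZP (h1 _))), hc,
        smul_one_mul]
    rw [← sub_eq_zero, ← one_smul F (∑ t, ρ (φ t)), smul_smul, ← sub_smul, smul_eq_zero, mul_one,
      sub_eq_zero] at this
    exact this.resolve_left fun h => h3 (hf _ (h1 _) (by rw [hc, ← h, one_smul]))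
  have hB : ∀ s ∈ P, s ∉ Z → ∑ t : P, ρ ⁅(t : G), s⁆ = 0 := fun s hs hsZ =>
    hsum (fun t => ⁅(t : G), s⁆) (fun t => hcm t.2 hs) (fun a b => PG.commutator_hom_left
      (fun y hy => hcm hy hs) hZc (isMulCommutative_iff_le_cent.2 (hZP.trans hZc)) a a.2 b b.2)
      (by
        by_contra! h
        exact hsZ (hZ ▸ ⟨hs, fun t ht => commutatorElement_eq_one_iff_mul_comm.1 (h ⟨t, ht⟩)⟩))
  let σ : G → End F (End F E) := fun g => LinearMap.mulLeftRight F (ρ g, ρ g⁻¹)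
  have hσa : ∀ g T, σ g T = ρ g * T * ρ g⁻¹ := fun _ _ => rfl
  have hσ : RepOn (P ⊔ zpowers x) σ := ⟨LinearMap.ext fun T => by simp [hσa, hρ.one],
    fun a ha b hb => LinearMap.ext fun T => by
      simp only [End.mul_apply, hσa, mul_inv_rev, hρ.mul _ ha _ hb,
        hρ.mul _ (inv_mem hb) _ (inv_mem ha), mul_assoc]⟩
  have hσZ : ∀ z ∈ Z, σ z = 1 := fun z hz => LinearMap.ext fun T => by
    obtain ⟨c, hc⟩ := hsc z hz
    have := hρ.mul_inv (hPL (hZP hz))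
    rw [hσa, End.one_apply]
    rw [hc, smul_one_mul] at this ⊢
    rw [smul_mul_assoc, ← mul_smul_comm, this, mul_one]
  have hfix : ∀ g ∈ P ⊔ zpowers x, ∀ T, σ g T = T ↔ ρ g * T = T * ρ g := fun g hg T => by
    rw [hσa]
    exact ⟨fun h => by rw [← h, mul_assoc _ _ (ρ g), hρ.inv_mul hg, mul_one, h],
      fun h => by rw [h, mul_assoc, hρ.mul_inv hg, mul_one]⟩
  have hC : ∀ T, T ∈ fixSp σ P ↔ ∀ t ∈ P, ρ t * T = T * ρ t := fun T =>
    forall₂_congr fun t ht => hfix t (hPL ht) T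
  let A : End F (End F E) := ∑ s : P, σ s
  have hA : ∀ T, A T = ∑ s : P, σ s T := fun T => LinearMap.sum_apply _ _ _
  have hAC : ∀ T, A T ∈ fixSp σ P := fun T t ht => by
    rw [hA, map_sum, ← Equiv.sum_comp (Equiv.mulLeft ⟨t, ht⟩) fun s : P => σ s T]
    exact Finset.sum_congr rfl fun s _ => by
      rw [← End.mul_apply, ← hσ.mul _ (hPL ht) _ (hPL s.2)]; rfl
  have hZ0 : (Nat.card Z : F) ≠ 0 := fun h => hP (by
    rw [← card_mul_relIndex hZP, Nat.cast_mul, h, zero_mul])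
  have hexp : ∀ T, T = ((Nat.card P : F) * Nat.card Z)⁻¹ • ∑ t : P, ρ t * A (ρ (t : G)⁻¹ * T) :=
    fun T => by
    rw [eq_inv_smul_iff₀ (mul_ne_zero hP hZ0)]
    simp only [hA, Finset.mul_sum]
    rw [Finset.sum_comm]
    have : ∀ s : P, ∑ t : P, ρ t * σ s (ρ (t : G)⁻¹ * T) =
        if (s : G) ∈ Z then (Nat.card P : F) • T else 0 := fun s => by
      have : ∀ t : P, ρ t * σ s (ρ (t : G)⁻¹ * T) = ρ ⁅(t : G), (s : G)⁆ * σ s T := fun t => by
        have h1 := hPL t.2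
        have h2 := hPL s.2
        simp only [hσa, ← mul_assoc]
        rw [← hρ.mul _ h1 _ h2, ← hρ.mul _ (mul_mem h1 h2) _ (inv_mem h1),
          ← hρ.mul _ (hPL (hZP (hcm t.2 s.2))) _ h2, commutatorElement_def, inv_mul_cancel_right]
      simp only [this, ← Finset.sum_mul]
      split_ifs with h
      · simp only [fun t : P => commutatorElement_eq_one_iff_mul_comm.2 (hZc t.2 s h).symm,
          hρ.one, hσZ s h, End.one_apply, Finset.sum_const, Finset.card_univ,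
          ← Nat.card_eq_fintype_card, ← Nat.cast_smul_eq_nsmul F, smul_one_mul]
      · rw [hB s s.2 h, zero_mul]
    simp only [this]
    rw [← Finset.sum_filter, Finset.sum_const, ← Nat.cast_smul_eq_nsmul F, smul_smul, mul_comm,
      ← card_subgroupOf hZP, Nat.card_eq_fintype_card (α := Z.subgroupOf P), Fintype.card_subtype]
    rfl
  have : NeZero (orderOf x : F) := ⟨hh⟩
  have h0 : NeZero (orderOf x) := ⟨(orderOf_pos x).ne'⟩
  obtain ⟨ω, hω⟩ := HasEnoughRootsOfUnity.exists_primitiveRoot F (orderOf x)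
  have hω0 : ω ≠ 0 := hω.ne_zero h0.1
  have euclid : ∀ n a b : ℕ, a + b = n → ∀ f g : End F E, (∀ t ∈ P, ρ t * f = f * ρ t) →
      (∀ t ∈ P, ρ t * g = g * ρ t) → ρ x * f = ω ^ a • (f * ρ x) → ρ x * g = ω ^ b • (g * ρ x) →
      f * g = g * f := fun n => by
    induction n using Nat.strong_induction_on with | _ n ih => ?_
    intro a b hab f g hf hg ha hb
    wlog hle : b ≤ a generalizing a b f g
    · exact (this b a (by omega) g f hg hf hb ha (by omega)).symm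
    rcases Nat.eq_zero_or_pos b with rfl | hb0
    · obtain ⟨c, rfl⟩ := schur g hg (by simpa using hb)
      simp
    by_cases hg0 : g = 0
    · simp [hg0]
    obtain ⟨u, rfl⟩ := hinj g _ hg hb (pow_ne_zero _ hω0) hg0
    obtain ⟨a, rfl⟩ := Nat.exists_eq_add_of_le hle
    have := ih _ (by omega) a b rfl (f * ↑u⁻¹) u (fun t ht => by
      rw [← mul_assoc, Units.mul_inv_eq_iff_eq_mul, hf t ht, mul_assoc, mul_assoc,
        hg t ht, Units.inv_mul_cancel_left]) hg (by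
      rw [← mul_assoc, Units.mul_inv_eq_iff_eq_mul, ha, smul_mul_assoc, mul_assoc, mul_assoc, hb,
        mul_smul_comm, mul_smul_comm, Units.inv_mul_cancel_left, smul_smul, pow_add, mul_comm]) hb
    rw [Units.inv_mul_cancel_right] at this
    conv_lhs => rw [this, ← mul_assoc, Units.inv_mul_cancel_right]
  have hσh : σ x ^ orderOf x = 1 := by rw [← hσ.pow hxL, pow_orderOf_eq_one, hσ.one]
  have hxC : ∀ f ∈ fixSp σ P, σ x f ∈ fixSp σ P := fun f hf t ht => by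
    have h1 := conj_mem_of_le_norm' (zpowers_le.2 hx) (mem_zpowers x) ht
    rw [← End.mul_apply, ← hσ.mul _ (hPL ht) _ hxL, show t * x = x * (x⁻¹ * t * x) by group,
      hσ.mul _ hxL _ (hPL h1), End.mul_apply, hf _ h1]
  have heig : ∀ (f : End F E) (μ : F), σ x f = μ • f → f ≠ 0 →
      ∃ a, ρ x * f = ω ^ a • (f * ρ x) := fun f μ h1 h2 => by
    obtain ⟨a, -, rfl⟩ := hω.eq_pow_of_pow_eq_one (pow_eq_one_of_eigen hσh h2 h1)
    exact ⟨a, by rw [← smul_mul_assoc, ← h1, hσa, mul_assoc _ _ (ρ x), hρ.inv_mul hxL, mul_one]⟩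
  have hcomm : ∀ f ∈ fixSp σ P, ∀ g ∈ fixSp σ P, f * g = g * f := by
    have key : ∀ f : End F E, (∀ (μ : F), ∀ g ∈ fixSp σ P, σ x g = μ • g → f * g = g * f) →
        ∀ g ∈ fixSp σ P, f * g = g * f := fun f h g hg =>
      (LinearMap.mem_eqLocus.1 (eigen_ind _ hσh hh _ hxC
        (LinearMap.eqLocus (LinearMap.mulLeft F f) (LinearMap.mulRight F f)) h hg) :)
    refine fun f hf => key f fun μ g hg h1 => (key g (fun ν f hf h2 => ?_) f hf).symm
    by_cases hf0 : f = 0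
    · simp [hf0]
    by_cases hg0 : g = 0
    · simp [hg0]
    obtain ⟨a, ha⟩ := heig f ν h2 hf0
    obtain ⟨b, hb⟩ := heig g μ h1 hg0
    exact euclid _ b a rfl g f ((hC g).1 hg) ((hC f).1 hf) hb ha
  have hC1 : fixSp σ P = F ∙ 1 := by
    refine le_antisymm (fun f hf => ?_) ((Submodule.span_singleton_le_iff_mem _ _).2
      ((hC 1).2 fun t _ => by simp))
    obtain ⟨c, rfl⟩ := schur f ((hC f).1 hf) (by
      rw [hexp (ρ x), smul_mul_assoc, mul_smul_comm, Finset.sum_mul, Finset.mul_sum]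
      refine congrArg _ (Finset.sum_congr rfl fun t _ => ?_)
      rw [mul_assoc, ← hcomm f hf _ (hAC _), ← mul_assoc, (hC f).1 hf t t.2, mul_assoc])
    exact Submodule.smul_mem _ _ (Submodule.mem_span_singleton_self _)
  have hCL : fixSp σ (P ⊔ zpowers x) = F ∙ 1 := by
    rw [hσ.fixSp_sup, hC1, inf_eq_left, Submodule.span_singleton_le_iff_mem]
    exact fun g hg => (hfix g (mem_sup_right hg) 1).2 (by simp)
  have hW := (hσ.wielandt_ker (zpowers_le.2 hx) (le_norm_of_cent (sup_le hZc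
    (zpowers_le.2 (mem_cent_iff_le_cent1.2 hZx)))) hσZ hreg hP).1
  rw [hC1, hCL, finrank_span_singleton one_ne_zero, mul_one, finrank_linearMap, ← sq,
    Nat.card_zpowers] at hW
  refine ⟨?_, centraliser_arith (ρ x) (ρ x⁻¹) (by rw [← hρ.pow hxL, pow_orderOf_eq_one, hρ.one])
    (hρ.inv_mul hxL) hh _ (fun T => (hσ.mono le_sup_right).mem_fixSp_zpowers) hW⟩
  have := Fintype.ofFinite (P ⧸ Z.subgroupOf P)
  let b : P ⧸ Z.subgroupOf P → End F E := fun q => ρ q.out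
  have hli : LinearIndependent F b := Fintype.linearIndependent_iff.2 fun a ha q => by
    have h1 := congrArg (fun T => A (ρ (q.out : G)⁻¹ * T)) ha
    simp only [Finset.mul_sum, map_sum, mul_smul_comm, map_smul, mul_zero, map_zero, b] at h1
    rw [Finset.sum_eq_single q (fun r _ hr => ?_) (by simp), hρ.inv_mul (hPL q.out.2), hA] at h1
    · simp only [fun s : P => (hfix s (hPL s.2) 1).2 (by simp), Finset.sum_const, Finset.card_univ,
        ← Nat.card_eq_fintype_card, ← Nat.cast_smul_eq_nsmul F, smul_smul, smul_eq_zero,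
        one_ne_zero, or_false, mul_eq_zero, hP] at h1
      exact h1
    · have h2 : (q.out : G)⁻¹ * r.out ∈ P := mul_mem (inv_mem q.out.2) r.out.2
      rw [← hρ.mul _ (hPL (inv_mem q.out.2)) _ (hPL r.out.2), hA]
      have : ∀ s : P, σ s (ρ ((q.out : G)⁻¹ * r.out)) =
          ρ ⁅(s : G), (q.out : G)⁻¹ * r.out⁆ * ρ ((q.out : G)⁻¹ * r.out) := fun s => by
        rw [hσa, ← hρ.mul _ (hPL s.2) _ (hPL h2), ← hρ.mul _ (hPL (mul_mem s.2 h2)) _
          (hPL (inv_mem s.2)), ← hρ.mul _ (hPL (hZP (hcm s.2 h2))) _ (hPL h2),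
          commutatorElement_def, inv_mul_cancel_right]
      simp only [this, ← Finset.sum_mul]
      rw [hB _ h2 fun h => hr ?_, zero_mul, smul_zero]
      rw [← QuotientGroup.out_eq' r, ← QuotientGroup.out_eq' q]
      exact (QuotientGroup.eq.2 (mem_subgroupOf.2 h)).symm
  have hsp : ⊤ ≤ Submodule.span F (Set.range b) := fun T _ => by
    rw [hexp T]
    refine Submodule.smul_mem _ _ (Submodule.sum_mem _ fun t _ => ?_)
    obtain ⟨c, hc⟩ := Submodule.mem_span_singleton.1 (hC1 ▸ hAC (ρ (t : G)⁻¹ * T))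
    obtain ⟨z, hz⟩ := QuotientGroup.mk_out_eq_mul (Z.subgroupOf P) t
    obtain ⟨d, hd⟩ := hsc _ (inv_mem z.2)
    have : ρ t = d • b t := by
      have h1 : (t : G) = (Quotient.out (t : P ⧸ Z.subgroupOf P) : P) * ((z : P) : G)⁻¹ := by
        rw [hz, coe_mul, mul_inv_cancel_right]
      rw [h1, hρ.mul _ (hPL (SetLike.coe_mem _)) _ (hPL (inv_mem z.1.2))]
      exact (congrArg _ hd).trans (by rw [mul_smul_comm, mul_one])
    rw [← hc, mul_smul_comm, mul_one, this]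
    exact Submodule.smul_mem _ _ (Submodule.smul_mem _ _ (Submodule.subset_span ⟨_, rfl⟩))
  rw [sq, ← finrank_linearMap, finrank_eq_nat_card_basis (Basis.mk hli hsp), ← card_subgroupOf hZP,
    ← card_eq_card_quotient_mul_card_subgroup]

theorem extraspecial_rep (hρ : RepOn (P ⊔ H) ρ) (hp : p.Prime) (hZ : Nat.card ↥(P ⊓ C[P]) = p)
    (hP' : ⁅P, P⁆ ≤ P ⊓ C[P]) (hn : H ≤ N[P]) (hH : IsCyclic H) (hco : (Nat.card H).Coprime p)
    (hreg : ∀ x ∈ H, x ≠ 1 → P ⊓ C1[x] = P ⊓ C[P]) (hP : (Nat.card P : F) ≠ 0)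
    (hh : (Nat.card H : F) ≠ 0) {z : G} (hz : z ∈ P ⊓ C[P]) (hz1 : ρ z ≠ 1) :
    ∃ d, d ^ 2 * p = Nat.card P ∧ (Nat.card H ∣ d + 1 ∨ Nat.card H ∣ d - 1) ∧
      (fixSp ρ H = ⊥ → d + 1 = Nat.card H ∨ d ≤ 1) := by
  classical
  obtain ⟨x, rfl⟩ := PG.isCyclic_iff_exists.1 hH
  rw [Nat.card_zpowers] at *
  have hZH : ∀ r ∈ zpowers x, P ⊓ C[P] ≤ C1[r] := fun r hr => by
    by_cases h : r = 1
    · rw [h, cent1_one]; exact le_top
    · exact hreg r hr h ▸ inf_le_right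
  have hzL : z ∈ P ⊔ zpowers x := mem_sup_left hz.1
  have hzc : ∀ g ∈ P ⊔ zpowers x, g * z = z * g := fun g hg => mem_cent1.1
    (sup_le (mem_cent_iff_le_cent1.1 hz.2) (fun r hr => mem_cent1_comm.1 (hZH r hr hz)) hg)
  obtain ⟨μ, v, hv0, hv, hμ⟩ : ∃ (μ : F) (v : E), v ≠ 0 ∧ ρ z v = μ • v ∧ μ ≠ 1 := by
    by_contra! h
    refine hz1 (LinearMap.ext fun v => eigen_ind (ρ z) (h := Nat.card P)
      (by rw [← hρ.pow hzL, PG.pow_card_eq_one_of_mem hz.1, hρ.one]) hP ⊤ (fun _ _ => trivial)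
      (LinearMap.eqLocus (ρ z) 1) (fun μ v _ hv => ?_) (Submodule.mem_top (x := v)))
    by_cases h0 : v = 0
    · rw [h0]; exact zero_mem _
    · rw [LinearMap.mem_eqLocus, hv, h μ v h0 hv, one_smul, End.one_apply]
  obtain ⟨V, ⟨hV0, hVμ, hV⟩, hmin⟩ := exists_minimal_of_wellFoundedLT (fun S : Submodule F E =>
    S ≠ ⊥ ∧ S ≤ (ρ z).eigenspace μ ∧ ∀ g ∈ P ⊔ zpowers x, ∀ v ∈ S, ρ g v ∈ S)
    ⟨_, (Submodule.ne_bot_iff _).2 ⟨v, End.mem_eigenspace_iff.2 hv, hv0⟩, le_rfl,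
      fun g hg w hw => End.mem_eigenspace_iff.2 (by
        rw [← End.mul_apply, ← hρ.mul _ hzL _ hg, ← hzc g hg, hρ.mul _ hg _ hzL, End.mul_apply,
          End.mem_eigenspace_iff.1 hw, map_smul])⟩
  have : Nontrivial V := Submodule.nontrivial_iff_ne_bot.2 hV0
  let σ : G → End F V := fun g => if hg : g ∈ P ⊔ zpowers x then (ρ g).restrict (hV g hg) else 1
  have hσa : ∀ g ∈ P ⊔ zpowers x, ∀ w : V, (σ g w : E) = ρ g w := fun g hg w => by
    simp only [σ, dif_pos hg]; rfl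
  have hσ : RepOn (P ⊔ zpowers x) σ := ⟨by ext w; rw [hσa _ (one_mem _), hρ.one]; rfl,
    fun a ha b hb => by
      ext w
      rw [hσa _ (mul_mem ha hb), End.mul_apply, hσa _ ha, hσa _ hb, hρ.mul _ ha _ hb,
        End.mul_apply]⟩
  have hxL : x ∈ P ⊔ zpowers x := mem_sup_right (mem_zpowers x)
  have key := extraspecial_irr hσ (fun S h1 h2 => ?_) (hn (mem_zpowers x)) rfl
    (hZH x (mem_zpowers x)) hP' (fun y hy h1 => ?_) (fun r hr h1 k hk hc => ?_) hP hh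
  · refine ⟨_, hZ ▸ key.1, key.2.1, fun h => key.2.2 fun w hw => Subtype.ext ?_⟩
    rw [Subtype.ext_iff, hσa _ hxL, ← (hρ.mono le_sup_right).mem_fixSp_zpowers, h] at hw
    exact hw
  · by_cases h0 : S = ⊥
    · exact .inl h0
    refine .inr (eq_top_iff.2 fun w _ => ?_)
    have : V ≤ S.map V.subtype := hmin ⟨fun h => h0 (Submodule.map_injective_of_injective
      V.injective_subtype (h.trans (Submodule.map_bot _).symm)), (Submodule.map_subtype_le _ _).trans hVμ, ?_⟩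
      (Submodule.map_subtype_le _ _)
    · obtain ⟨w', hw', h⟩ := this w.2
      rwa [← Subtype.ext h]
    rintro g hg _ ⟨w, hw, rfl⟩
    refine ⟨σ g w, ?_, hσa g hg w⟩
    obtain ⟨t, ht, n, rfl⟩ := (PG.mem_sup_zpowers_nat (hn (mem_zpowers x))).1 hg
    rw [hσ.mul _ (mem_sup_left ht) _ (pow_mem hxL n), hσ.pow hxL]
    exact h1 t ht _ (End.pow_apply_mem_of_forall_mem n h2 w hw)
  · by_contra h2
    obtain ⟨k, rfl⟩ := PG.exists_nat_pow_of_mem_zpowers
      (eq_zpowers_of_card_prime (hZ ▸ hp) hy h2 ▸ hz)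
    obtain ⟨w, hw⟩ := exists_ne (0 : V)
    have h3 := End.mem_eigenspace_iff.1 (hVμ w.2)
    rw [← hσa _ hzL, hσ.pow (mem_sup_left hy.1), h1, one_pow, End.one_apply] at h3
    exact hμ (smul_left_injective F (Subtype.coe_ne_coe.2 hw) (by simpa using h3.symm))
  · have h2 : ⁅r ^ p, k⁆ = 1 := by
      rw [PG.commutator_pow_left (mem_cent1.1 (hZH r hr hc)).symm, ← hZ,
        PG.pow_card_eq_one_of_mem hc]
    rw [← hreg _ (pow_mem hr p) fun h => h1 (orderOf_eq_one_iff.1 (Nat.eq_one_of_dvd_coprimes hco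
      (orderOf_dvd_of_mem_zpowers hr) (orderOf_dvd_of_pow_eq_one h)))]
    exact ⟨hk, mem_cent1.2 (commutatorElement_eq_one_iff_mul_comm.1 h2).symm⟩

/-- 2.5, divisibility part: `P` extraspecial of order `p^(2n+1)`, `H` cyclic acting coprimely,
`C_P(x) = Z(P)` for `x ∈ H^#`. -/
theorem extraspecial_prime_sdprod_cycle (hp : p.Prime) (hP : IsPGroup p P)
    (hZ : Nat.card ↥(P ⊓ C[P]) = p) (hP' : ⁅P, P⁆ = P ⊓ C[P]) (hc : Nat.card P = p ^ (2 * n + 1))
    (hn : H ≤ N[P]) (hH : IsCyclic H) (hco : (Nat.card H).Coprime p)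
    (hreg : ∀ x ∈ H, x ≠ 1 → P ⊓ C1[x] = P ⊓ C[P]) :
    Nat.card H ∣ p ^ n + 1 ∨ Nat.card H ∣ p ^ n - 1 := by
  classical
  obtain ⟨z, hz, hz1⟩ := exists_ne_one_of_ne_bot (ne_bot_of_card_prime (hZ ▸ hp))
  obtain ⟨d, h1, h2, -⟩ := extraspecial_rep (F := ℂ) (E := G → ℂ)
    (ρ := fun g => LinearMap.funLeft ℂ ℂ (· * g))
    ⟨by ext; simp, fun a _ b _ => by ext; simp [LinearMap.funLeft, mul_assoc]⟩ hp hZ hP'.le hn hH hco hreg
    (Nat.cast_ne_zero.2 (card_pos' P).ne') (Nat.cast_ne_zero.2 (card_pos' H).ne') hz fun h => by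
      have := congrFun (LinearMap.congr_fun h (Pi.single 1 1)) 1
      simp [hz1] at this
  rw [hc, pow_succ _ (2 * n), mul_left_inj' hp.ne_zero, mul_comm, pow_mul] at h1
  rwa [← Nat.pow_left_injective two_ne_zero h1]

end Cfsg.Agent.BG
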