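import Cfsg.Agent.BG.S03f

/-! B&G 3.4 and 3.8 -/

set_option autoImplicit false
set_option linter.unusedSectionVars false

namespace Cfsg.Agent.BG

open Module Subgroup Cfsg.Agent.GT
open scoped commutatorElement

universe u

variable {G : Type u} [Group G] [Finite G] {A B H K L M P Q R V X : Subgroup G} {p q n : ℕ}

theorem exists_isPGroup_of_min_action (hs : Group.IsSolvable K ∨ Group.IsSolvable A)
    (hA : A ≤ N[K]) (hc : (Nat.card K).Coprime (Nat.card A))
    (hmin : ∀ X, X < K → A ≤ N[X] → X ≤ B) (hne : ¬ K ≤ B) : ∃ q, q.Prime ∧ IsPGroup q K := by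
  by_contra! h
  refine hne (le_of_forall_syl_le fun q hq _ => ?_)
  obtain ⟨S, hS, hAS⟩ := coprime_exists_syl hq hs hA hc
  exact ⟨S, hS, hmin S (hS.le.lt_of_ne fun e => h q hq (e ▸ syl_isPGroup hq hS)) hAS⟩

theorem special_of_min_action (hq : q.Prime) (hK : IsPGroup q K) (hA : A ≤ N[K]) (hB : B ≤ N[K])
    (hAB : A ≤ N[B]) (hc : (Nat.card B).Coprime q) (hmin : ∀ X, X < K → A ≤ N[X] → X ≤ C[B])
    (hne : ¬ K ≤ C[B]) :
    ⁅K, B⁆ = K ∧ K ⊓ C[B] = ⁅K, K⁆ ∧ PG.phi K = ⁅K, K⁆ ∧ ⁅K, K⁆ ≤ C[K] ∧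
      (¬ IsMulCommutative K → K ⊓ C[K] = ⁅K, K⁆) ∧ (q ≠ 2 → ∀ x ∈ K, x ^ q = 1) := by
  have := Fact.mk hq
  have hc' := (PG.coprime_card_of_coprime hK hc).symm
  have h1 : ⁅K, B⁆ = K := by_contra fun h => hne (coprime_le_cent_of_commutator_le_cent hB hc'
    (hmin _ ((commutator_le_of_le_norm_left hB).lt_of_ne h) (le_norm_commutator hA hAB)))
  have h2 : K ⊓ C[B] ≤ ⁅K, K⁆ := by
    have := coprime_commutator_inf_cent_le hB hc'
    rwa [h1] at this
  have h3 : PG.phi K ≤ K ⊓ C[B] := le_inf (PG.phi_le K)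
    (hmin _ (PG.phi_lt fun h => hne (h ▸ bot_le)) (PG.le_norm_phi hA))
  have h4 := PG.commutator_le_phi hK
  have h5 : ⁅K, K⁆ ≤ C[K] := le_cent_symm (h1.ge.trans (commutator_le_cent_of_norm_of_cent
    (self_le_norm_der1 K) (le_cent_symm (h4.trans (h3.trans inf_le_right)))))
  refine ⟨h1, h2.antisymm (h4.trans h3), (h3.trans h2).antisymm h4, h5, fun h => le_antisymm
    ((le_inf inf_le_left (hmin _ (inf_le_left.lt_of_ne fun e => h
      (isMulCommutative_iff_le_cent.2 (inf_eq_left.1 e))) (le_norm_inf hA (le_norm_cent hA)))).trans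
      h2) (le_inf (der1_le K) h5), fun hq2 x hx => ?_⟩
  refine PG.forall_pow_omegaOne_of_class_two hq hq2 h5 x ((by_contra fun h => hne (le_cent_symm
    (PG.le_cent_of_le_cent_omegaOne hq2 hK hB hc (le_cent_symm (hmin _
      ((omegaOne_le' q K).lt_of_ne h) (hA.trans (norm_le_norm_omegaOne q K)))))) :
    omegaOne q K = K).ge hx)

theorem cent1_aux (n : ℕ) : ∀ {G : Type u} [Group G] [Finite G] {K R V : Subgroup G} {p : ℕ},
    Nat.card K = n → p.Prime → IsElementaryAbelian p V → R ≤ N[K] →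
    (Nat.card K).Coprime (Nat.card R) → Odd (Nat.card K) → Odd (Nat.card R) → (Nat.card R).Prime →
    K ≤ N[V] → R ≤ N[V] → ¬ p ∣ Nat.card K → ¬ p ∣ Nat.card R → V ⊓ C[R] = ⊥ →
    ⁅K, R⁆ ≤ C[V] := by
  induction n using Nat.strong_induction_on with | _ n ih => ?_
  intro G _ _ K R V p hK hp hV hn hc oK oR hR hKV hRV pK pR hC
  have := Fact.mk hp
  have hRs := solvable_of_comm (isMulCommutative_of_isCyclic (isCyclic_of_card_prime hR))
  have hVc : ∀ {X : Subgroup G}, ¬ p ∣ Nat.card X → (Nat.card V).Coprime (Nat.card X) := fun h =>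
    (PG.coprime_card_of_coprime (isPGroup_of_elementary hV)
      ((Nat.coprime_comm.1 (hp.coprime_iff_not_dvd.2 h)))).symm
  have quo : ∀ W, W ≤ V → K ≤ N[W] → R ≤ N[W] → K ⊓ C[W] ≠ ⊥ → ⁅K, R⁆ ≤ C[W] := by
    intro W hW hKW hRW hne
    have hK' : K ≤ W ⊔ (K ⊔ R) := le_sup_left.trans le_sup_right
    have hR' : R ≤ W ⊔ (K ⊔ R) := le_sup_right.trans le_sup_right
    obtain ⟨Q, _, _, f, -, hk⟩ := exists_quo' (W ⊔ (K ⊔ R)) (K ⊓ C[W]) (inf_le_left.trans hK')
      (sup_le (le_norm_of_cent (le_cent_symm inf_le_right)) (le_norm_inf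
        (sup_le (le_norm_self le_rfl) hn) (le_norm_cent (sup_le hKW hRW))))
    have hcR : Nat.card (im f R) = Nat.card R := card_im_of_inf_eq_bot hR' (by
      rw [hk]; exact GT.inf_eq_bot_of_coprime (coprime_card_of_le hc.symm le_rfl inf_le_left))
    have := ih _ (hK ▸ card_im_lt hK' (by rwa [hk, ← inf_assoc, inf_idem])) (K := im f K)
      (R := im f R) (V := im f W) rfl hp (PG.elemAb_im ⟨comm_of_le hV.1 hW, fun x hx => hV.2 x (hW hx)⟩)
      (im_norm hn) (coprime_im hc) (odd_im oK) (odd_im oR) (hcR ▸ hR) (im_norm hKW) (im_norm hRW)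
      (fun h => pK (h.trans card_im_dvd)) (hcR ▸ pR) (by
        rw [← im_inf_cent_of_coprime' le_sup_left hR' hRW (.inr hRs)
          (coprime_card_of_le (hVc pR) hW le_rfl),
          le_bot_iff.1 ((inf_le_inf_right _ hW).trans hC.le), im_bot])
    have hKR := commutator_le_of_le_norm_left hn
    rw [← im_commutator hK' hR', im_le_cent_iff (hKR.trans hK') le_sup_left, hk] at this
    rw [le_cent_iff_commutator_eq_bot]
    exact eq_bot_of_le_of_coprime (this.trans inf_le_left)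
      ((commutator_le_of_le_norm_right (hKR.trans hKW)).trans hW) (hVc pK).symm
  by_cases hf : K ⊓ C[V] ≠ ⊥
  · exact quo V le_rfl hKV hRV hf
  rw [not_not] at hf
  by_cases hne : K ≤ C[R]
  · rw [le_cent_iff_commutator_eq_bot.1 hne]; exact bot_le
  have hmin : ∀ X, X < K → R ≤ N[X] → X ≤ C[R] := fun X hX hRX => by
    have := ih _ (hK ▸ card_lt_of_lt hX) rfl hp hV hRX (coprime_card_of_le hc hX.le le_rfl)
      (odd_card_of_le oK hX.le) oR hR (hX.le.trans hKV) hRV
      (fun h => pK (h.trans (card_dvd_of_le hX.le))) pR hC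
    exact le_cent_iff_commutator_eq_bot.2 (le_bot_iff.1
      ((le_inf ((commutator_le_of_le_norm_left hRX).trans hX.le) this).trans hf.le))
  obtain ⟨q, hq, hKq⟩ := exists_isPGroup_of_min_action (.inr hRs) hn hc hmin hne
  have hqK := prime_dvd_card_of_isPGroup hq hKq fun h => hne (h ▸ bot_le)
  have hRq := (hc.coprime_dvd_left hqK).symm
  obtain ⟨h1, h2, -, h3, h4, h5⟩ :=
    special_of_min_action hq hKq hn hn (le_norm_self le_rfl) hRq hmin hne
  rw [h1]
  by_cases hab : IsMulCommutative K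
  · exact semiregular_cent_compl hp hV hn (semiregular_of_prime hR (h2.trans
      (le_cent_iff_commutator_eq_bot.1 (isMulCommutative_iff_le_cent.1 hab)))) (sup_le hKV hRV) pK hC
  have hZR : K ⊓ C[K] ≤ C[R] := ((h4 hab).trans h2.symm).le.trans inf_le_right
  by_cases hcy : IsCyclic ↥(K ⊓ C[K])
  swap
  · refine h1 ▸ le_cent_symm (coprime_abelian_gen_cent1 (isMulCommutative_inf_cent K) hcy
      (inf_le_left.trans hKV) (coprime_card_of_le (hVc pK) le_rfl inf_le_left) fun z hz h1 =>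
      le_cent_symm (quo _ inf_le_left
        (le_norm_inf hKV (le_norm_cent1 (mem_cent_iff_le_cent1.1 hz.2)))
        (le_norm_inf hRV (le_norm_cent1 (mem_cent_iff_le_cent1.1 (hZR hz))))
        (ne_bot_of_mem ⟨hz.1, mem_cent_iff_le_cent1.2 inf_le_right⟩ h1)))
  exfalso
  obtain ⟨z, hz⟩ := PG.isCyclic_iff_exists.1 hcy
  have hzZ := hz.le (mem_zpowers z)
  have hz1 : z ≠ 1 := fun h => center_ne_bot_of_nilpotent (nilpotent_of_isPGroup hq hKq)
    (fun h => hne (h ▸ bot_le)) (by rw [← hz, h, zpowers_one_eq_bot])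
  have hZ : Nat.card ↥(K ⊓ C[K]) = q :=
    hz ▸ PG.card_zpowers_eq_prime hq (h5 (PG.ne_two_of_odd_of_dvd oK hqK) z hzZ.1) hz1
  obtain ⟨F, _, _, _, E, _, _, _, ρ, hρ, e1, e2⟩ := exists_rep_of_elemAb hp hV
  have hzV := zpowers_le.2 (hKV hzZ.1)
  obtain ⟨d, d1, -, d2⟩ := extraspecial_rep (hρ.mono (sup_le hKV hRV)) hq hZ (h4 hab).ge hn
    (isCyclic_of_card_prime hR) hRq (fun x hx h1 => by
      rw [← cent_eq_cent1_of_card_prime hR hx h1, h2, h4 hab]) (card_cast_ne_zero pK)
    (card_cast_ne_zero pR) hzZ fun h => hz1 (mem_bot.1 (hf.le ⟨hzZ.1, zpowers_le.1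
      (le_cent_of_card_inf (by
        rw [e1, e2 _ hzV, (eq_top_iff (a := fixSp ρ (zpowers z))).2 fun v _ => (hρ.mono hzV).mem_fixSp_zpowers.2
          (by rw [h]; rfl), finrank_top]))⟩))
  have e3 := e2 R hRV
  rw [hC, card_bot, eq_comm, Nat.pow_eq_one, or_iff_right hp.ne_one,
    Submodule.finrank_eq_zero] at e3
  have od : Odd d := by
    rw [← d1] at oK
    exact (Nat.odd_pow_iff two_ne_zero).1 (Nat.odd_mul.1 oK).1
  rcases d2 e3 with h | h
  · rw [← h] at oR
    exact Nat.not_odd_iff_even.2 od.add_one oR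
  · obtain rfl : d = 1 := by have := od.pos; omega
    exact hab (isMulCommutative_iff_le_cent.2 (inf_eq_left.1 (eq_of_le_of_card_ge inf_le_left
      (by rw [hZ, ← d1, one_pow, one_mul]))))

theorem cent1_aux' (n : ℕ) : ∀ {G : Type u} [Group G] [Finite G] {K R V : Subgroup G},
    Nat.card V = n → R ≤ N[K] → (Nat.card K).Coprime (Nat.card R) → Odd (Nat.card K) →
    Odd (Nat.card R) → (Nat.card R).Prime → K ⊔ R ≤ N[V] →
    (Nat.card V).Coprime (Nat.card ↥(K ⊔ R)) → Group.IsSolvable V → V ⊓ C[R] = ⊥ →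
    ⁅K, R⁆ ≤ C[V] := by
  induction n using Nat.strong_induction_on with | _ n ih => ?_
  intro G _ _ K R M hM hn hc oK oR hR hL hcM hs hC
  by_cases h0 : M = ⊥
  · subst h0; simp [cent_bot]
  obtain ⟨V, p, Q, _, _, f, hVM, hp, he, hV, hpL, h1, -, h3, h4, -, h6⟩ :=
    exists_coprime_step hL hcM hs h0
  have hK : K ≤ M ⊔ (K ⊔ R) := le_sup_left.trans le_sup_right
  have hR' : R ≤ M ⊔ (K ⊔ R) := le_sup_right.trans le_sup_right
  refine h6 _ ((commutator_le_of_le_norm_left hn).trans le_sup_left) (cent1_aux _ rfl hp he hn hc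
    oK oR hR (le_sup_left.trans hV) (le_sup_right.trans hV)
    (fun h => hpL (h.trans (card_dvd_of_le le_sup_left)))
    (fun h => hpL (h.trans (card_dvd_of_le le_sup_right)))
    (le_bot_iff.1 ((inf_le_inf_right _ hVM).trans hC.le))) ?_
  rw [im_commutator hK hR']
  exact ih _ (h1.trans_eq hM) rfl (im_norm hn) (coprime_im hc) (odd_im oK) (odd_im oR)
    (by rwa [h3 R le_sup_right]) (by rw [← im_sup hK hR']; exact im_norm hL)
    (by rw [← im_sup hK hR']; exact coprime_im hcM) (solvable_im hs)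
    (by rw [← h4 R le_sup_right, hC, im_bot])

/-- 3.4 -/
theorem odd_prime_sdprod_cent1 (h : Sdprod K R L) (hs : Group.IsSolvable L)
    (ho : Odd (Nat.card L)) (hc : (Nat.card K).Coprime (Nat.card R)) (hR : (Nat.card R).Prime)
    (hn : L ≤ N[V]) (hcV : (Nat.card V).Coprime (Nat.card L)) (hV : Group.IsSolvable V)
    (hC : V ⊓ C[R] = ⊥) : ⁅R, K⁆ ≤ C[V] := by
  obtain rfl := h.sup_eq
  rw [commutator_comm]
  exact cent1_aux' _ rfl h.right_norm hc (odd_card_of_le ho le_sup_left)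
    (odd_card_of_le ho le_sup_right) hR hn hcV hV hC

/-- 3.4 for an irreducible module in arbitrary characteristic prime to `|R|`. -/
theorem odd_prime_cent1_minNormal (hp : p.Prime) (hM : MinNormal M (K ⊔ R))
    (hMp : IsElementaryAbelian p M) (hn : R ≤ N[K]) (hs : Group.IsSolvable K)
    (hc : (Nat.card K).Coprime (Nat.card R)) (oK : Odd (Nat.card K)) (oR : Odd (Nat.card R))
    (hR : (Nat.card R).Prime) (pR : ¬ p ∣ Nat.card R) (hC : M ⊓ C[R] = ⊥) : ⁅K, R⁆ ≤ C[M] := by
  obtain ⟨H, hH, hRH⟩ := coprime_exists_hall {p}ᶜ hs hn hc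
  have hKM := le_sup_left.trans hM.norm
  have h1 := cent1_aux _ rfl hp hMp hRH (coprime_card_of_le hc hH.le le_rfl)
    (odd_card_of_le oK hH.le) oR hR (hH.le.trans hKM) (le_sup_right.trans hM.norm)
    ((isPiSubgroup_single_compl_iff hp).1 hH.isPi) pR hC
  have hKR := commutator_le_of_le_norm_left hn
  obtain ⟨Q, _, _, f, -, hk⟩ := exists_quo' (K ⊔ R) (K ⊓ C[M]) (inf_le_left.trans le_sup_left)
    (le_norm_inf (sup_le (le_norm_self le_rfl) hn) (le_norm_cent hM.norm))
  have h2 := coprime_commutator_le_piCoreOf (solvable_im hs) (im_norm hn) (coprime_im hc)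
    (hH.im (f := f) le_sup_left) (by
      rw [im_le_cent_iff (hH.le.trans le_sup_left) le_sup_right, hk]
      exact le_inf ((commutator_le_of_le_norm_left hRH).trans hH.le) h1)
  rw [← im_commutator le_sup_left le_sup_right] at h2
  have h3 := (isPiSubgroup_im_iff (hKR.trans le_sup_left)).1 ((piCoreOf_isPi _ _).of_le h2)
  rw [hk, ← inf_relIndex_right, inf_right_comm, inf_eq_right.2 hKR, inf_comm,
    inf_relIndex_right] at h3
  exact minNormal_le_cent_of_piNat hp hM (isPGroup_of_elementary hMp) (hKR.trans hKM)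
    (sup_le (normalizer_commutator_ge_left K R) (normalizer_commutator_ge_right K R)) h3

theorem odd_prime_commg_sub_Fitting (hn : R ≤ N[K]) (hs : Group.IsSolvable K)
    (hc : (Nat.card K).Coprime (Nat.card R)) (oK : Odd (Nat.card K)) (oR : Odd (Nat.card R))
    (hR : (Nat.card R).Prime) (hF : fittingOf K ⊓ C[R] = ⊥) : ⁅K, R⁆ ≤ fittingOf K := by
  have hKR := commutator_le_of_le_norm_left hn
  have hL : K ⊔ R ≤ N[K] := sup_le (le_norm_self le_rfl) hn
  rw [fittingOf_eq_inf_of_normal le_sup_left hL]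
  refine le_inf (le_fittingOf_of_chief_stab (solv_of_le hs hKR) (hKR.trans le_sup_left)
    (sup_le (normalizer_commutator_ge_left K R) (normalizer_commutator_ge_right K R))
    fun U V hUV hUF hU => ?_) hKR
  have hUK := hU.trans hKR
  obtain ⟨Q, _, _, f, -, hk⟩ := exists_quo' (K ⊔ R) V (hUV.lt.le.trans hUV.le) hUV.norm_bot
  have hM := hUV.minNormal_im le_rfl hk
  obtain ⟨p, hp, he⟩ := hM.elementary (solvable_im (solv_of_le hs hUK))
  have hcR : Nat.card (im f R) = Nat.card R := card_im_of_inf_eq_bot le_sup_right (by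
    rw [hk]; exact GT.inf_eq_bot_of_coprime (coprime_card_of_le hc.symm le_rfl (hUV.lt.le.trans hUK)))
  rw [← hk, ← im_le_cent_iff hUV.le (hKR.trans le_sup_left), le_cent_comm,
    im_commutator le_sup_left le_sup_right]
  rw [im_sup le_sup_left le_sup_right] at hM
  refine odd_prime_cent1_minNormal hp hM he (im_norm hn) (solvable_im hs) (coprime_im hc)
    (odd_im oK) (odd_im oR) (hcR ▸ hR) (not_dvd_of_coprime (coprime_im hc) hp
      ((prime_dvd_card_of_isPGroup hp (isPGroup_of_elementary he) hM.ne_bot).trans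
        (card_dvd_of_le (im_mono hUK)))) ?_
  rw [← im_inf_cent_of_coprime' hUV.le le_sup_right (le_sup_right.trans hUV.norm_top)
    (.inl (solv_of_le hs hUK)) (coprime_card_of_le hc hUK le_rfl), le_bot_iff.1
    ((inf_le_inf_right _ ((le_inf hUF hUK).trans
      (fittingOf_eq_inf_of_normal le_sup_left hL).ge)).trans hF.le), im_bot]

/-- 3.8 -/
theorem odd_sdprod_primact_commg_sub_Fitting (h : Sdprod K R L) (ho : Odd (Nat.card L))
    (hs : Group.IsSolvable L) (hc : (Nat.card K).Coprime (Nat.card R)) (hp : Semiprime K R)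
    (hF : fittingOf K ⊓ C[R] = ⊥) : ⁅K, R⁆ ≤ fittingOf K := by
  by_cases h0 : R = ⊥
  · rw [h0, commutator_bot_right]; exact bot_le
  obtain ⟨X, hX, hXp⟩ := exists_le_card_prime h0
  have hsK := solv_of_le hs h.left_le
  have h1 := hp.inf_cent hX (ne_bot_of_card_prime hXp)
  have hXK := hX.trans h.right_norm
  have hcX := coprime_card_of_le hc le_rfl hX
  have h2 := odd_prime_commg_sub_Fitting hXK hsK hcX (odd_card_of_le ho h.left_le)
    (odd_card_of_le ho (hX.trans h.right_le)) hXp (le_bot_iff.1 (hF.le.trans' (le_inf inf_le_left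
      ((inf_le_inf_right _ (fittingOf_le K)).trans (h1.le.trans inf_le_right)))))
  refine (commutator_le_of_forall_mul_cent fun x hx => ?_).trans
    (commutator_le_of_le_norm_left (le_norm_fittingOf h.right_norm))
  obtain ⟨n, hn, c, hc', e⟩ := coprime_exists_mul (.inl hsK) hXK hcX hx
  exact ⟨n, h2 hn, c, (h1.le hc').2, e⟩

end Cfsg.Agent.BG
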