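import Cfsg.Agent.BG.Defs
import Cfsg.Agent.GT.ThompsonBender

set_option autoImplicit false
set_option linter.unusedSectionVars false
set_option linter.unusedVariables false

namespace Cfsg.Agent.BG

open Subgroup Cfsg.Agent.GT

universe u

variable {G : Type u} [Group G] [Finite G] [MFT G]
variable {A A₀ B D E E₁ E₂ E₃ H K L M Ms N P Q R S U V W W₁ W₂ X Y : Subgroup G} {p q r : ℕ}
  {g x y : G} {π : Set ℕ}

omit [MFT G] in
theorem isSubnormal_of_nilpotent (hP : Group.IsNilpotent P) (hA : A ≤ P) :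
    (A.subgroupOf P).IsSubnormal := by
  induction hk : Nat.card P - Nat.card A using Nat.strong_induction_on generalizing A with
  | _ n ih =>
  rcases hA.lt_or_eq with h | rfl
  · have h1 := GT.lt_inf_norm_of_nilpotent hP h
    refine IsSubnormal.step _ ((P ⊓ N[A]).subgroupOf P) (subgroupOf_mono _ h1.le)
      (ih _ ?_ inf_le_left rfl) (normal_subgroupOf ?_)
    · have := card_lt_of_lt h1
      have := card_le_of_le (inf_le_left : P ⊓ N[A] ≤ P)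
      omega
    · rw [← subgroupOf_norm hA]; exact subgroupOf_mono _ inf_le_right
  · rw [subgroupOf_self]; exact IsSubnormal.top

omit [MFT G] [Finite G] in
theorem isSubnormal_of_norm (hA : P ≤ N[A]) : (A.subgroupOf P).IsSubnormal :=
  (normal_subgroupOf hA).isSubnormal

omit [MFT G] [Finite G] in
theorem subnormal_induction (hAP : A ≤ P) (h : (A.subgroupOf P).IsSubnormal)
    (Φ : Subgroup G → Prop) (h0 : Φ A)
    (step : ∀ B C : Subgroup G, A ≤ B → B ≤ C → C ≤ P → C ≤ N[B] → Φ B → Φ C) : Φ P := by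
  suffices key : ∀ X : Subgroup P, X.IsSubnormal → A ≤ X.map P.subtype → Φ (X.map P.subtype) → Φ P by
    refine key _ h ?_ ?_ <;> rw [subgroupOf_map_subtype, inf_eq_left.2 hAP]
    exact h0
  intro X hX
  induction hX with
  | top => rw [map_subtype_top]; exact fun _ h => h
  | step X Y hle _ hn ih =>
    intro h1 h2
    refine ih (h1.trans (map_mono hle)) (step _ _ h1 (map_mono hle) (map_subtype_le _) ?_ h2)
    exact map_le_norm_map ((normal_subgroupOf_iff_le_normalizer hle).1 hn) _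

omit [MFT G] in
theorem conj_mem_maxInv (hQ : Q ∈ maxInvSubgroups ⊤ A π) (hg : g ∈ N[A]) :
    cj[g] Q ∈ maxInvSubgroups ⊤ A π := maxInv_conj hQ mem_norm_top hg

omit [MFT G] in
theorem exists_maxInv_ge (hQ : IsPiSubgroup π Q) (hA : A ≤ N[Q]) :
    ∃ R ∈ maxInvSubgroups ⊤ A π, Q ≤ R := exists_maxInv le_top hQ hA

omit [MFT G] [Finite G] in
theorem transHyp_le (hA : TransitivityHypothesis A) (hX : X ≠ ⊤) (hAX : A ≤ X) (hY : Y ≤ X)
    (hπ : IsPiSubgroup (primesNotDvd (Nat.card A)) Y) (hn : A ≤ N[Y]) :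
    Y ≤ O[primesNotDvd (Nat.card A)](X) :=
  hA.2.2 X hX hAX ▸ le_sSup ⟨hY, hπ, hn⟩

omit [MFT G] in
theorem transHyp_mk (h1 : A ≠ ⊥) (h2 : A ≠ ⊤) (h : ∀ X Y : Subgroup G, X ≠ ⊤ → A ≤ X → Y ≤ X →
      IsPiSubgroup (primesNotDvd (Nat.card A)) Y → A ≤ N[Y] → Y ≤ O[primesNotDvd (Nat.card A)](X)) :
    TransitivityHypothesis A :=
  ⟨h1, h2, fun X hX hAX => le_antisymm (sSup_le fun Y hY => h X Y hX hAX hY.1 hY.2.1 hY.2.2)
    (le_sSup ⟨piCoreOf_le _ _, piCoreOf_isPi _ _, le_norm_piCoreOf (le_norm_self hAX)⟩)⟩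

theorem le_centCore (hA : TransitivityHypothesis A) (hY : Y ≤ C[A])
    (hπ : IsPiSubgroup (primesNotDvd (Nat.card A)) Y) : Y ≤ centCore A := by
  have h1 := transHyp_le hA (mFT_norm_proper hA.1 hA.2.1) le_normalizer
    (hY.trans (cent_le_norm _)) hπ (le_norm_of_cent (le_cent_symm hY))
  exact (le_inf h1 hY).trans (piCoreOf_inf_le (cent_le_norm _))

theorem centCore_inf_cent (hA : TransitivityHypothesis A) (hB : A ≤ B) :
    centCore A ⊓ C[B] = O[primesNotDvd (Nat.card A)](C[B]) :=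
  le_antisymm (piCoreOf_inf_le (cent_anti hB))
    (le_inf (le_centCore hA ((piCoreOf_le _ _).trans (cent_anti hB)) (piCoreOf_isPi _ _))
      (piCoreOf_le _ _))

omit [MFT G] in
theorem isPi_primesNotDvd_of_isPGroup {n : ℕ} (hq : q.Prime) (hqA : ¬ q ∣ n) (hQ : IsPGroup q Q) :
    IsPiSubgroup (primesNotDvd n) Q := isPi_of_isPGroup_mem hq hQ ⟨hq, hqA⟩

/-- 7.1 -/
theorem normed_constrained_meet_trans (hA : TransitivityHypothesis A) (hq : q.Prime)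
    (hqA : ¬ q ∣ Nat.card A) {Q₁ Q₂ : Subgroup G} (hAH : A ≤ H) (hH : H ≠ ⊤)
    (h₁ : Q₁ ∈ maxInvSubgroups ⊤ A {q}) (h₂ : Q₂ ∈ maxInvSubgroups ⊤ A {q})
    (hH₁ : H ⊓ Q₁ ≠ ⊥) (hH₂ : H ⊓ Q₂ ≠ ⊥) : ∃ k ∈ centCore A, Q₂ = cj[k] Q₁ := by
  induction hk : Nat.card G - Nat.card ↥(Q₁ ⊓ Q₂) using Nat.strong_induction_on
    generalizing Q₁ Q₂ H with | _ n ih =>
  by_cases h12 : Q₁ ≤ Q₂
  · exact ⟨1, one_mem _, by rw [one_conj, maxInv_eq_of_le h₁ h₂ h12]⟩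
  by_cases h21 : Q₂ ≤ Q₁
  · exact ⟨1, one_mem _, by rw [one_conj, maxInv_eq_of_le h₂ h₁ h21]⟩
  have hq₁ := (maxInv_isPi h₁).isPGroup hq
  have hq₂ := (maxInv_isPi h₂).isPGroup hq
  have hDA : A ≤ N[Q₁ ⊓ Q₂] := le_norm_inf (maxInv_norm h₁) (maxInv_norm h₂)
  obtain ⟨X, hX, hAX, hXD, hX₁, hX₂⟩ : ∃ X : Subgroup G, X ≠ ⊤ ∧ A ≤ X ∧ X ≤ N[Q₁ ⊓ Q₂] ∧
      Q₁ ⊓ Q₂ < X ⊓ Q₁ ∧ Q₁ ⊓ Q₂ < X ⊓ Q₂ := by
    by_cases hD : Q₁ ⊓ Q₂ = ⊥
    · exact ⟨H, hH, hAH, hD ▸ le_norm_of_normal, hD ▸ bot_lt_iff_ne_bot.2 hH₁, hD ▸ bot_lt_iff_ne_bot.2 hH₂⟩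
    · exact ⟨_, mFT_norm_pgroup_proper hq (hq₁.to_le inf_le_left) hD, hDA, le_rfl,
        inf_comm Q₁ _ ▸ lt_inf_norm_of_isPGroup hq hq₁ (inf_lt_left.2 h12),
        (lt_inf_norm_of_isPGroup hq hq₂ (inf_lt_right.2 h21)).trans_eq (inf_comm _ _)⟩
  have IH : ∀ R₁ ∈ maxInvSubgroups ⊤ A {q}, ∀ R₂ ∈ maxInvSubgroups ⊤ A {q}, ∀ Y, Q₁ ⊓ Q₂ < Y →
      Y ≤ X → Y ≤ R₁ → Y ≤ R₂ → ∃ k ∈ centCore A, R₂ = cj[k] R₁ := fun R₁ h1 R₂ h2 Y hY hYX a b => by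
    refine ih _ ?_ hAX hX h1 h2 (ne_bot_of_le hY.ne_bot (le_inf hYX a))
      (ne_bot_of_le hY.ne_bot (le_inf hYX b)) rfl
    have := card_lt_of_lt (hY.trans_le (le_inf a b))
    have := card_le_card_group (R₁ ⊓ R₂)
    omega
  set L := O[primesNotDvd (Nat.card A)](X)
  have hY : ∀ Q ∈ maxInvSubgroups ⊤ A {q}, X ⊓ Q ≤ L ∧ IsPGroup q ↥(X ⊓ Q) ∧ A ≤ N[X ⊓ Q] := by
    intro Q hQ
    have h1 := ((maxInv_isPi hQ).isPGroup hq).to_le (inf_le_right : X ⊓ Q ≤ Q)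
    have h2 := le_norm_inf (le_norm_self hAX) (maxInv_norm hQ)
    exact ⟨transHyp_le hA hX hAX inf_le_left (isPi_primesNotDvd_of_isPGroup hq hqA h1) h2, h1, h2⟩
  have hs : Group.IsSolvable L ∨ Group.IsSolvable A := Or.inr (mFT_sol hA.2.1)
  have hL : A ≤ N[L] := le_norm_piCoreOf (le_norm_self hAX)
  have hLπ := piCoreOf_isPi (primesNotDvd (Nat.card A)) X
  have hc := isPiSubgroup_primesNotDvd_iff.1 hLπ
  obtain ⟨S, hS, hAS, hYS⟩ := coprime_exists_syl_ge hq hs hL hc (hY _ h₁).1 (hY _ h₁).2.1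
    (hY _ h₁).2.2
  obtain ⟨c, hc, hYc⟩ := coprime_syl_le_conj hq hs hL hc hS hAS (hY _ h₂).1 (hY _ h₂).2.1
    (hY _ h₂).2.2
  obtain ⟨Q₃, h₃, hQ₃⟩ := exists_maxInv_ge hS.isPi hAS
  obtain ⟨k₁, hk₁, e₁⟩ := IH Q₁ h₁ Q₃ h₃ _ hX₁ inf_le_left inf_le_right (hYS.trans hQ₃)
  obtain ⟨k₂, hk₂, e₂⟩ := IH (cj[c] Q₃) (conj_mem_maxInv h₃ (cent_le_norm _ hc.2)) Q₂ h₂ _ hX₂
    inf_le_left (hYc.trans (conj_mono c hQ₃)) inf_le_right
  have hcK : c ∈ centCore A := le_centCore hA inf_le_right hLπ.inf_left hc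
  exact ⟨k₂ * c * k₁, mul_mem (mul_mem hk₂ hcK) hk₁, by rw [mul_conj, mul_conj, ← e₁, ← e₂]⟩

omit [MFT G] in
theorem coprime_of_maxInv (hq : q.Prime) (hqA : ¬ q ∣ Nat.card A)
    (h : Q ∈ maxInvSubgroups ⊤ A {q}) (hB : B ≤ A) : (Nat.card Q).Coprime (Nat.card B) :=
  coprime_card_of_le (isPiSubgroup_primesNotDvd_iff.1
    (isPi_primesNotDvd_of_isPGroup hq hqA ((maxInv_isPi h).isPGroup hq))) le_rfl hB

/-- 7.2 -/
theorem normed_constrained_rank3_trans (hA : TransitivityHypothesis A) (hq : q.Prime)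
    (hqA : ¬ q ∣ Nat.card A) (hZ : ¬ RankLE 2 ↥(A ⊓ C[A])) :
    TransOn (centCore A) (maxInvSubgroups ⊤ A {q}) := by
  intro Q₁ h₁ Q₂ h₂
  by_cases e₁ : Q₁ = ⊥
  · exact ⟨1, one_mem _, by rw [one_conj, maxInv_eq_of_le h₁ h₂ (e₁ ▸ bot_le)]⟩
  by_cases e₂ : Q₂ = ⊥
  · exact ⟨1, one_mem _, by rw [one_conj, maxInv_eq_of_le h₂ h₁ (e₂ ▸ bot_le)]⟩
  obtain ⟨p, B, hp, hB, hBe, hBc⟩ := PG.not_rankLE_iff.1 hZ
  have hBA := hB.trans inf_le_left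
  obtain ⟨B₁, hB₁, hB₁'⟩ : ∃ B₁, PnElem p 2 B B₁ ∧ ¬ Q₁ ⊓ C[B₁] ≤ ⊥ := by
    by_contra hc
    push Not at hc
    exact e₁ (le_bot_iff.1 (coprime_pnElem_gen_cent (K := A) hp ⟨hBA, hBe, hBc⟩
      (hBA.trans (maxInv_norm h₁)) (coprime_of_maxInv hq hqA h₁ hBA) hc))
  obtain ⟨u, hu, hu1, hu₂⟩ := coprime_abelian_exists_cent1_ne_bot hB₁.comm
    (PG.not_isCyclic_of_elemAb_sq hp hB₁.elem hB₁.card) ((hB₁.le.trans hBA).trans (maxInv_norm h₂))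
    (coprime_of_maxInv hq hqA h₂ (hB₁.le.trans hBA)) e₂
  refine normed_constrained_meet_trans hA hq hqA (mem_cent_iff_le_cent1.1 (hB (hB₁.le hu)).2)
    (mFT_cent1_proper hu1) h₁ h₂ (fun h => hB₁' ?_) (inf_comm Q₂ _ ▸ hu₂)
  rw [← h, inf_comm]; exact inf_le_inf_right _ (cent_le_cent1 hu)

/-- 7.3 -/
theorem normed_constrained_rank2_trans (hA : TransitivityHypothesis A) (hq : q.Prime)
    (hqA : ¬ q ∣ Nat.card A) (hqC : q ∣ Nat.card C[A]) (hZ : ¬ RankLE 1 ↥(A ⊓ C[A])) :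
    TransOn (centCore A) (maxInvSubgroups ⊤ A {q}) := by
  obtain ⟨p, B, hp, hB, hBe, hBc⟩ := PG.not_rankLE_iff.1 hZ
  have hBA := hB.trans inf_le_left
  obtain ⟨R₀, hR₀⟩ := exists_syl hq C[A]
  have hR₀1 := (syl_ne_bot_iff hq hR₀).2 hqC
  obtain ⟨R, hR, hR₀R⟩ := exists_maxInv_ge hR₀.isPi (le_norm_of_cent (le_cent_symm hR₀.le))
  have key : ∀ Q ∈ maxInvSubgroups ⊤ A {q}, ∃ k ∈ centCore A, Q = cj[k] R := by
    intro Q hQ
    have hQ1 : Q ≠ ⊥ := fun e =>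
      hR₀1 (le_bot_iff.1 (hR₀R.trans ((maxInv_eq_of_le hQ hR (e ▸ bot_le)).trans e).le))
    obtain ⟨u, hu, hu1, hu₂⟩ := coprime_abelian_exists_cent1_ne_bot hBe.1
      (PG.not_isCyclic_of_elemAb_sq hp hBe hBc) (hBA.trans (maxInv_norm hQ))
      (coprime_of_maxInv hq hqA hQ hBA) hQ1
    exact normed_constrained_meet_trans hA hq hqA (mem_cent_iff_le_cent1.1 (hB hu).2)
      (mFT_cent1_proper hu1) hR hQ
      (ne_bot_of_le hR₀1 (le_inf (hR₀.le.trans (cent_le_cent1 (hBA hu))) hR₀R)) (inf_comm Q _ ▸ hu₂)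
  intro Q₁ h₁ Q₂ h₂
  obtain ⟨k₁, hk₁, rfl⟩ := key _ h₁
  obtain ⟨k₂, hk₂, rfl⟩ := key _ h₂
  exact ⟨k₂ * k₁⁻¹, mul_mem hk₂ (inv_mem hk₁), by rw [mul_conj, inv_conj_conj]⟩

/-- 7.4 -/
theorem normed_trans_superset (hA : TransitivityHypothesis A) (hq : q.Prime)
    (hqA : ¬ q ∣ Nat.card A) (hP : P ≠ ⊤) (hPπ : IsPiSubgroup (piOf (Nat.card A)) P) (hAP : A ≤ P)
    (hsn : (A.subgroupOf P).IsSubnormal)
    (htr : TransOn (centCore A) (maxInvSubgroups ⊤ A {q})) :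
    centCore A ⊓ C[P] = O[primesNotDvd (Nat.card A)](C[P]) ∧
    TransOn O[primesNotDvd (Nat.card A)](C[P]) (maxInvSubgroups ⊤ P {q}) ∧
    maxInvSubgroups ⊤ P {q} ⊆ maxInvSubgroups ⊤ A {q} ∧
    ∀ Q ∈ maxInvSubgroups ⊤ P {q}, P ⊓ ⁅N[P], N[P]⁆ ≤ ⁅N[Q], N[Q]⁆ ∧
      N[P] = O[primesNotDvd (Nat.card A)](C[P]) ⊔ (N[P] ⊓ N[Q]) := by
  have hcop : ∀ X Y : Subgroup G, Y ≤ P →
      (Nat.card O[primesNotDvd (Nat.card A)](X)).Coprime (Nat.card Y) := fun X Y hY =>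
    (piCoreOf_isPi _ _).piNat.coprime_of_disjoint (hPπ.of_le hY).piNat fun r _ h h' => h.2 h'.2
  have key : TransOn O[primesNotDvd (Nat.card A)](C[P]) (maxInvSubgroups ⊤ P {q}) ∧
      maxInvSubgroups ⊤ P {q} ⊆ maxInvSubgroups ⊤ A {q} := by
    refine subnormal_induction hAP hsn (fun B => TransOn O[primesNotDvd (Nat.card A)](C[B])
      (maxInvSubgroups ⊤ B {q}) ∧ maxInvSubgroups ⊤ B {q} ⊆ maxInvSubgroups ⊤ A {q})
      ⟨htr, subset_rfl⟩ fun B D hAB hBD hDP hn ⟨ht, hsub⟩ => ?_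
    have hs : ∀ X : Subgroup G, Group.IsSolvable X ∨ Group.IsSolvable D := fun _ =>
      Or.inr (mFT_sol (ne_top_of_le_ne_top hP hDP))
    have hDK : D ≤ N[O[primesNotDvd (Nat.card A)](C[B])] := le_norm_piCoreOf (le_norm_cent hn)
    have hsub' : maxInvSubgroups ⊤ D {q} ⊆ maxInvSubgroups ⊤ B {q} := by
      intro Q₁ h₁
      by_cases e : Q₁ = ⊥
      · obtain ⟨Q₀, h₀, -⟩ := exists_maxInv_ge (A := B) (π := {q}) isPiSubgroup_bot le_norm_of_normal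
        obtain ⟨g, hg, hgD⟩ := coprime_exists_norm_conj (X := Q₀) (hs _) hDK (hcop _ _ hDP)
          fun a ha => ht _ h₀ _ (conj_mem_maxInv h₀ (hn ha))
        rw [← maxInv_eq h₁ le_top (isPiSubgroup_cj.2 (maxInv_isPi h₀)) hgD (e ▸ bot_le)]
        exact conj_mem_maxInv h₀ (cent_le_norm _ (piCoreOf_le _ _ hg))
      obtain ⟨Q₂, h₂, h12⟩ := exists_maxInv_ge (maxInv_isPi h₁) (hBD.trans (maxInv_norm h₁))
      rcases h12.lt_or_eq with hlt | rfl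
      swap; · exact h₂
      exfalso
      have hq₁ := (maxInv_isPi h₁).isPGroup hq
      have hq₂ := (maxInv_isPi h₂).isPGroup hq
      have hY := lt_inf_norm_of_isPGroup hq hq₂ hlt
      have hA₁ := (hAB.trans hBD).trans (maxInv_norm h₁)
      have hYL := transHyp_le hA (mFT_norm_pgroup_proper hq hq₁ e) hA₁
        (inf_le_right : Q₂ ⊓ N[Q₁] ≤ _)
        (isPi_primesNotDvd_of_isPGroup hq hqA (hq₂.to_le inf_le_left))
        (le_norm_inf (hAB.trans (maxInv_norm h₂)) (le_norm_norm hA₁))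
      obtain ⟨T, hT, hDT, hQT⟩ := coprime_exists_syl_ge hq (hs _)
        (le_norm_piCoreOf (le_norm_self (maxInv_norm h₁))) (hcop _ _ hDP) (hY.le.trans hYL) hq₁
        (maxInv_norm h₁)
      obtain rfl := maxInv_eq h₁ le_top hT.isPi hDT hQT
      exact hY.ne' (syl_eq_of_le hq hT (hq₂.to_le inf_le_left) hYL hY.le)
    refine ⟨fun Q₁ h₁ Q₂ h₂ => ?_, hsub'.trans hsub⟩
    obtain ⟨k, hk, rfl⟩ := ht _ (hsub' h₁) _ (hsub' h₂)
    obtain ⟨c, hc, e⟩ := coprime_exists_cent_conj (hs _) hDK (hcop _ _ hDP) hk (maxInv_norm h₁)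
      (maxInv_norm h₂)
    exact ⟨c, piCoreOf_inf_le (cent_anti hBD) hc, e⟩
  refine ⟨centCore_inf_cent hA hAP, key.1, key.2, fun Q hQ => ?_⟩
  have hKN : O[primesNotDvd (Nat.card A)](C[P]) ≤ N[P] := (piCoreOf_le _ _).trans (cent_le_norm _)
  have hN : O[primesNotDvd (Nat.card A)](C[P]) ⊔ (N[P] ⊓ N[Q]) = N[P] := by
    refine le_antisymm (sup_le hKN inf_le_left) fun g hg => ?_
    obtain ⟨k, hk, e⟩ := key.1 _ hQ _ (conj_mem_maxInv hQ hg)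
    rw [← mul_inv_cancel_left k g]
    exact mul_mem_sup hk (mem_inf.2 ⟨mul_mem (inv_mem (hKN hk)) hg,
      conj_eq_self_iff.1 (by rw [mul_conj, e, inv_conj_conj])⟩)
  refine ⟨?_, hN.symm⟩
  rw [pprod_focal_coprime hN (inf_le_left.trans (le_norm_piCoreOf (norm_le_norm_cent P)))
    (le_inf le_normalizer (maxInv_norm hQ)) (hcop _ _ le_rfl)]
  exact inf_le_right.trans (commutator_mono inf_le_right inf_le_right)

omit [MFT G] in
theorem primesNotDvd_iff_of_isPGroup (hp : p.Prime) (hA : IsPGroup p A) (h1 : A ≠ ⊥)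
    (r : ℕ) (hr : r.Prime) : r ∈ primesNotDvd (Nat.card A) ↔ r ∈ ({p}ᶜ : Set ℕ) :=
  ⟨fun h (e : r = p) => h.2 (e ▸ prime_dvd_card_of_isPGroup hp hA h1),
    fun h => ⟨hr, fun hd => h (isPi_of_isPGroup hp hA r hr hd)⟩⟩

omit [MFT G] in
theorem centCore_of_isPGroup (hp : p.Prime) (hA : IsPGroup p A) (h1 : A ≠ ⊥) :
    centCore A = O[{p}ᶜ](C[A]) := piCoreOf_congr (primesNotDvd_iff_of_isPGroup hp hA h1)

/-- the Thompson–Bender theorem gives Hypothesis 7.1 -/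
theorem transHyp_of_forall_mem (hp : p.Prime) (hA : IsPGroup p A) (h1 : A ≠ ⊥)
    (h : ∀ x ∈ C[A], x ^ p = 1 → x ∈ A) : TransitivityHypothesis A := by
  refine transHyp_mk h1 (mFT_pgroup_proper hp hA) fun X Y hX hAX hY hπ hn => ?_
  rw [piCoreOf_congr (primesNotDvd_iff_of_isPGroup hp hA h1)]
  exact thompson_bender hp (mFT_pgroup_ne_two hp hA h1) (pConstr_of_solvable (mFT_sol hX)) hA hAX
    (fun x hx => h x hx.2)
    ((isPiSubgroup_congr (primesNotDvd_iff_of_isPGroup hp hA h1)).1 hπ) hY hn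

/-- 7.5(a), without the `p`-length hypothesis -/
theorem pmaxElem_normed_constrained (hp : p.Prime) (hA1 : A ≠ ⊥) (hA : PmaxElem p ⊤ A) :
    TransitivityHypothesis A :=
  transHyp_of_forall_mem hp (PG.elemAb_isPGroup hA.elem) hA1 fun x hx hxp =>
    PG.mem_of_maximal_elemAb hA.elem le_top hA.2.2 (mem_top x) hx hxp

/-- 7.5(a) -/
theorem plength_1_normed_constrained (hp : p.Prime) (hA1 : A ≠ ⊥) (hA : PmaxElem p ⊤ A)
    (h : ∀ H : Subgroup G, H ≠ ⊤ → PLengthLE p 1 H) : TransitivityHypothesis A :=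
  pmaxElem_normed_constrained hp hA1 hA

omit [MFT G] in
theorem SCN_mem_of_piNat (hp : p.Prime) (hP : IsPiHallOf {p} P ⊤) (hA : IsSCN P A)
    (hx : x ∈ C[A]) (h : PiNat {p} (orderOf x)) : x ∈ A :=
  (hA.syl_inf_cent hp hP).mem_of_normal (inf_le_right.trans (cent_le_norm _)) ⟨mem_top _, hx⟩ h

/-- 7.5(b) -/
theorem SCN_normed_constrained (hp : p.Prime) (hP : IsPiHallOf {p} P ⊤) (hA : IsSCN P A)
    (hr : ¬ PRankLE p 1 A) : TransitivityHypothesis A :=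
  transHyp_of_forall_mem hp ((syl_isPGroup hp hP).to_le hA.le)
    (fun e => hr (e ▸ PG.pRankLE_bot hp.pos)) fun x hx hxp =>
    SCN_mem_of_piNat hp hP hA hx ((piNat_single_self hp).of_dvd (orderOf_dvd_of_pow_eq_one hxp))

/-- 7.6 -/
theorem Thompson_transitivity (hp : p.Prime) (hA : SCN3 p A) (hq : q.Prime) (hqp : q ≠ p) :
    TransOn O[{p}ᶜ](C[A]) (maxInvSubgroups ⊤ A {q}) := by
  obtain ⟨P, hP, hA, hr⟩ := hA
  have hAp := (syl_isPGroup hp hP).to_le hA.le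
  have h1 : A ≠ ⊥ := fun e => hr (e ▸ PG.pRankLE_bot hp.pos)
  exact fun Q₁ h₁ Q₂ h₂ => thompson_transitivity hp hq hqp
    (fun T hT hT1 => pConstr_of_solvable (mFT_sol (mFT_norm_pgroup_proper hp hT hT1)))
    (fun h => absurd h (mFT_pgroup_ne_two hp hAp h1)) hAp hA.comm hr
    (fun x hx => SCN_mem_of_piNat hp hP hA hx) h₁ h₂

end Cfsg.Agent.BG
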