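import Cfsg.Agent.BG.S07
import Cfsg.Agent.GT.Puig

set_option autoImplicit false
set_option linter.unusedSectionVars false
set_option linter.unusedVariables false

namespace Cfsg.Agent.BG

open Subgroup Cfsg.Agent.GT

universe u

variable {G : Type u} [Group G] [Finite G] [MFT G]
variable {A A₀ B D E E₁ E₂ E₃ H K L M Ms N P Q R S U V W W₁ W₂ X Y : Subgroup G} {p q r : ℕ}
  {g x y : G} {π : Set ℕ}

theorem s8_normed_trivial (hM : IsCoatom M) (hA : TransitivityHypothesis A) (hAF : A ≤ F[M])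
    (hπ : IsPiSubgroup (piOf (Nat.card A)) F[M]) (hK : centCore A = ⊥)
    (hZ : ¬ RankLE 2 ↥(A ⊓ C[A])) (hY : IsPiSubgroup (primesNotDvd (Nat.card A)) Y)
    (hn : A ≤ N[Y]) : Y = ⊥ := by
  by_contra hY1
  have hYt : Y ≠ ⊤ := by
    rintro rfl
    obtain ⟨r, hr, hd⟩ := exists_prime_dvd_card hA.1
    exact (hY r hr (hd.trans (card_dvd_of_le le_top))).2 hd
  obtain ⟨q, hq, hq1⟩ := exists_piCoreOf_single_ne_bot (mFT_sol hYt) hY1
  have hqA : ¬ q ∣ Nat.card A := (hY q hq ((prime_dvd_card_of_isPGroup hq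
    (piCoreOf_isPGroup hq Y) hq1).trans (card_dvd_of_le (piCoreOf_le _ _)))).2
  have ht := normed_constrained_rank3_trans hA hq hqA hZ
  have hsub := (normed_trans_superset hA hq hqA (sub_mmax_proper hM (fittingOf_le M)) hπ hAF
    (isSubnormal_of_nilpotent (fittingOf_nilpotent M) hAF) ht).2.2.1
  have huniq : ∀ Q₁ ∈ maxInvSubgroups ⊤ A {q}, ∀ Q₂ ∈ maxInvSubgroups ⊤ A {q}, Q₂ = Q₁ := by
    intro Q₁ h₁ Q₂ h₂
    obtain ⟨k, hk, e⟩ := ht _ h₁ _ h₂
    rw [hK, mem_bot] at hk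
    rw [e, hk, one_conj]
  obtain ⟨Q, hQ, hQ'⟩ := exists_maxInv_ge (piCoreOf_isPi {q} Y) (le_norm_piCoreOf hn)
  obtain ⟨Q', hQF, -⟩ := exists_maxInv_ge (A := F[M]) (π := {q}) isPiSubgroup_bot le_norm_of_normal
  obtain rfl := huniq _ hQ _ (hsub hQF)
  have hMQ : M ≤ N[Q'] := le_norm_iff_conj.2 fun m hm =>
    huniq _ hQ _ (hsub (conj_mem_maxInv hQF (self_le_norm_fittingOf M hm)))
  have hQq := (maxInv_isPi hQ).isPGroup hq
  have hQ1 := ne_bot_of_le hq1 hQ'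
  have hQM : Q' ≤ M := mmax_norm hM hQ1 (mFT_pgroup_proper hq hQq) hMQ ▸ le_normalizer
  exact hqA (hπ q hq ((prime_dvd_card_of_isPGroup hq hQq hQ1).trans
    (card_dvd_of_le (le_fittingOf hQM hMQ (nilpotent_of_isPGroup hq hQq))))).2

/-- 8.1(a) -/
theorem non_pcore_Fitting_Uniqueness (hM : IsCoatom M) (hp : p.Prime) (hF : ¬ IsPGroup p F[M])
    (hA : PmaxElem p F[M] A₀) (hr : ¬ PRankLE p 2 A₀) : InUniqueMaximal (F[M] ⊓ C[A₀]) := by
  set A := F[M] ⊓ C[A₀] with hAdef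
  have hnil := fittingOf_nilpotent M
  have hAF : A ≤ F[M] := inf_le_left
  have hAM : A ≤ M := hAF.trans (fittingOf_le M)
  have hA₀ : A₀ ≤ A := le_inf hA.le (PG.elemAb_le_cent hA.elem)
  have hA₀p := PG.elemAb_isPGroup hA.elem
  have hA₀1 : A₀ ≠ ⊥ := fun e => hr (e ▸ PG.pRankLE_bot hp.pos)
  have hpF : p ∣ Nat.card F[M] :=
    (prime_dvd_card_of_isPGroup hp hA₀p hA₀1).trans (card_dvd_of_le hA.le)
  -- the groups `Z_q`
  obtain ⟨Z, hZ⟩ : ∃ Z : ℕ → Subgroup G, ∀ q, q.Prime → q ∣ Nat.card F[M] →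
      Z q ≠ ⊥ ∧ Z q ≤ A ∧ Z q ≤ O[{q}](M) ∧ C[Z q] ≤ M := by
    refine ⟨fun q => O[{q}](M) ⊓ C[F[M]], fun q hq hd => ?_⟩
    have h1 : O[{q}](M) ⊓ C[F[M]] ≠ ⊥ := inf_cent_ne_bot_of_nilpotent hnil
      (piCoreOf_single_le_fittingOf hq) ((fittingOf_le M).trans (self_le_norm_piCoreOf _ _))
      (piCoreOf_single_fittingOf (H := M) hq ▸ piCoreOf_ne_bot_of_nil hnil hq rfl hd)
    exact ⟨h1, inf_le_inf (piCoreOf_single_le_fittingOf hq) (cent_anti hA.le), inf_le_left,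
      mmax_normal_cent_le hM (inf_le_left.trans (piCoreOf_le _ _))
        (le_norm_inf (self_le_norm_piCoreOf _ _) (le_norm_cent (self_le_norm_fittingOf M))) h1⟩
  have hZq : ∀ q, q.Prime → q ∣ Nat.card F[M] → IsPGroup q (Z q) := fun q hq hd =>
    (piCoreOf_isPGroup hq M).to_le (hZ q hq hd).2.2.1
  have hπ : IsPiSubgroup (piOf (Nat.card A)) F[M] := fun q hq hd => ⟨hq,
    (prime_dvd_card_of_isPGroup hq (hZq q hq hd) (hZ q hq hd).1).trans
      (card_dvd_of_le (hZ q hq hd).2.1)⟩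
  have hother : ∀ q, q.Prime → ∃ r, r.Prime ∧ r ∣ Nat.card F[M] ∧ r ≠ q := by
    intro q hq
    by_cases e : p = q
    · subst e
      by_contra hc
      push Not at hc
      exact hF ((isPiSubgroup_single_iff hp).1 hc)
    · exact ⟨p, hp, hpF, e⟩
  have h1 : ∀ X, X ≠ ⊤ → A ≤ X → ∀ q, q.Prime → q ∣ Nat.card F[M] →
      O[{q}ᶜ](M) ⊓ X ≤ O[{q}ᶜ](X) := fun X hX hAX q hq hd =>
    ((le_inf inf_le_left (le_inf inf_le_right (inf_le_left.trans
      (piCoreOf_compl_le_cent.trans (cent_anti (hZ q hq hd).2.2.1))))).trans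
      (piCoreOf_inf_le (inf_le_right.trans (hZ q hq hd).2.2.2))).trans
      (piCoreOf_compl_cent_le hq (mFT_sol hX) ((hZ q hq hd).2.1.trans hAX) (hZq q hq hd))
  have hZX : ∀ X, X ≠ ⊤ → A ≤ X → ∀ q r, q.Prime → q ∣ Nat.card F[M] → r.Prime →
      r ∣ Nat.card F[M] → r ≠ q → Z r ≤ O[{q}ᶜ](X) := fun X hX hAX q r hq hd hr hrd hrq =>
    (le_inf ((hZ r hr hrd).2.2.1.trans (piCoreOf_single_le hrq))
      ((hZ r hr hrd).2.1.trans hAX)).trans (h1 X hX hAX q hq hd)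
  have hFp' : O[{p}ᶜ](F[M]) ≤ A := le_inf (piCoreOf_le _ _) (le_cent_symm
    (nil_le_cent_piCoreOf hnil hA.le (by rw [compl_compl]; exact isPi_of_isPGroup hp hA₀p)))
  have hC : ∀ Y, Y ≤ C[A] → IsPiSubgroup (primesNotDvd (Nat.card A)) Y → Y = ⊥ := by
    intro Y hY hYπ
    have hYM : Y ≤ M := (hY.trans (cent_anti (hZ p hp hpF).2.1)).trans (hZ p hp hpF).2.2.2
    have hYp : IsPiSubgroup {p}ᶜ Y := fun r hr hd (e : r = p) => (hYπ r hr hd).2 (e ▸ (hπ p hp hpF).2)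
    have h2 : Y ≤ C[O[{p}](F[M])] := coprime_odd_faithful_cent_abelem hp (mFT_prime_ne_two hpF)
      (piCoreOf_isPGroup hp _) hA.elem (nil_le_piCoreOf hnil hA.le (isPi_of_isPGroup hp hA₀p))
      (hYM.trans (le_norm_piCoreOf (self_le_norm_fittingOf M))) hYp
      fun x hx _ => le_cent_symm hY ⟨piCoreOf_le _ _ hx.1, hx.2⟩
    have h3 : Y ≤ C[F[M]] := by
      rw [← nil_piCoreOf_sup_compl hnil {p}, cent_sup]
      exact le_inf h2 (hY.trans (cent_anti hFp'))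
    exact eq_bot_of_le_of_coprime (le_fittingOf_of_le_cent (mmax_sol hM) hYM h3) le_rfl
      (hπ.piNat.coprime_of_disjoint hYπ.piNat fun r _ h h' => h'.2 h.2)
  have hcA : TransitivityHypothesis A := by
    refine transHyp_mk (ne_bot_of_le hA₀1 hA₀) (sub_mmax_proper hM hAM) fun X Y hX hAX hY hYπ hn => ?_
    have h2 : ∀ q, q.Prime → q ∣ Nat.card F[M] → Y ≤ O[{q}ᶜ](X) := by
      intro q hq hd
      obtain ⟨r, hr, hrd, hrq⟩ := hother q hq
      have hZA := (hZ r hr hrd).2.1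
      have h3 : Y ⊓ C[Z r] = ⊥ := by
        refine hC _ (le_cent_iff_commutator_eq_bot.2 ?_) hYπ.inf_left
        refine eq_bot_of_le_of_coprime (H := F[M]) (K := Y) ?_ ?_
          (hπ.piNat.coprime_of_disjoint hYπ.piNat fun r _ h h' => h'.2 h.2)
        · exact (commutator_mono (inf_le_right.trans (hZ r hr hrd).2.2.2) hAF).trans
            (commutator_le_of_le_norm_right (self_le_norm_fittingOf M))
        · exact (commutator_mono inf_le_left le_rfl).trans (commutator_le_of_le_norm_left hn)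
      have h4 := coprime_commutator_sup_cent (Or.inr (solvable_of_isPGroup hr (hZq r hr hrd)))
        (hZA.trans hn) (coprime_card_of_le (isPiSubgroup_primesNotDvd_iff.1 hYπ) le_rfl hZA)
      rw [h3, sup_bot_eq] at h4
      rw [← h4]
      exact (commutator_mono hY (hZX X hX hAX q r hq hd hr hrd hrq)).trans
        (commutator_le_of_le_norm_right (self_le_norm_piCoreOf _ _))
    have h3 : Y ≤ X ⊓ ⨅ q ∈ piOf (Nat.card A), O[{q}ᶜ](X) :=
      le_inf hY (le_iInf₂ fun q hq => h2 q hq.1 (hq.2.trans (card_dvd_of_le hAF)))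
    refine h3.trans (le_piCoreOf inf_le_left (le_norm_iff.2 fun a ha x hx => ?_) fun r hr hd => ?_)
    · refine mem_inf.2 ⟨conj_mem_of_le_norm le_normalizer ha hx.1, ?_⟩
      have := (mem_inf.1 hx).2
      simp only [Subgroup.mem_iInf] at this ⊢
      exact fun q hq => conj_mem_of_le_norm (self_le_norm_piCoreOf _ _) ha (this q hq)
    · exact ⟨hr, fun h => piCoreOf_isPi {r}ᶜ X r hr (hd.trans (card_dvd_of_le
        (inf_le_right.trans (iInf₂_le r ⟨hr, h⟩)))) rfl⟩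
  have htriv : ∀ Y, IsPiSubgroup (primesNotDvd (Nat.card A)) Y → A ≤ N[Y] → Y = ⊥ := fun Y =>
    s8_normed_trivial hM hcA hAF hπ (hC _ (piCoreOf_le _ _) (piCoreOf_isPi _ _))
      (PG.not_rankLE_of_not_pRankLE hp (PG.not_pRankLE_of_le hr
        (le_inf hA₀ (le_cent_symm inf_le_right))))
  refine UMax.uniq (M := M) ⟨hM, hAM, fun H hH hAH => ?_⟩
  obtain ⟨hZ1, hZA, hZO, hZC⟩ := hZ p hp hpF
  have hZL : Z p ≤ C[O[{p}ᶜ](H)] := by
    refine coprime_le_cent_of_le_cent_fittingOf (sub_mmax_sol hH (piCoreOf_le _ _))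
      (le_norm_piCoreOf (le_norm_self (hZA.trans hAH)))
      ((piCoreOf_isPi _ _).coprime' (isPi_of_isPGroup hp (hZq p hp hpF)))
      (fittingOf_le_cent_of_forall fun r hr => ?_)
    by_cases e : r = p
    · rw [e, piCoreOf_eq_bot (piCoreOf_isPi _ _), cent_bot]; exact le_top
    rw [piCoreOf_piCoreOf_of_mem (π := {p}ᶜ) e]
    by_cases hd : r ∣ Nat.card F[M]
    · exact (hZX H hH.1 hAH r p hr hd hp hpF (Ne.symm e)).trans piCoreOf_compl_le_cent
    · rw [htriv _ ((piCoreOf_isPi {r} H).single_mono ⟨hr, fun h => hd (h.trans (card_dvd_of_le hAF))⟩)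
        (le_norm_piCoreOf (le_norm_self hAH)), cent_bot]
      exact le_top
  obtain ⟨r, hr, hrd, hrp⟩ := hother p hp
  have hZr := hZX H hH.1 hAH p r hp hpF hr hrd hrp
  have hDM : O[{p}](H) ≤ M :=
    (piCoreOf_le_cent_compl.trans (cent_anti hZr)).trans (hZ r hr hrd).2.2.2
  have hD1 : O[{p}](H) ≠ ⊥ := fun e => by
    have h2 : F[H] ≤ O[{p}ᶜ](H) := fittingOf_le_piCoreOf (by rwa [compl_compl])
    have h3 := le_piCoreOf_of_le_fittingOf (le_fittingOf_of_le_cent (mmax_sol hH) (hZA.trans hAH)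
      (hZL.trans (cent_anti h2))) (isPi_of_isPGroup hp (hZq p hp hpF))
    exact hZ1 (le_bot_iff.1 (e ▸ h3))
  have hDC := mmax_normal_cent_le hH (piCoreOf_le {p} H) (self_le_norm_piCoreOf _ _) hD1
  have hDL : O[{p}](H) ≤ C[O[{p}ᶜ](M)] := by
    refine coprime_le_cent_of_le_cent_fittingOf (sub_mmax_sol hM (piCoreOf_le _ _))
      (le_norm_piCoreOf (le_norm_self hDM)) ((piCoreOf_isPi _ _).coprime' (piCoreOf_isPi _ _)) ?_
    rw [fittingOf_piCoreOf]
    exact piCoreOf_le_cent_compl.trans (cent_anti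
      ((le_inf piCoreOf_fittingOf_le (hFp'.trans hAH)).trans (h1 H hH.1 hAH p hp hpF)))
  have e : O[{p}ᶜ](H) = O[{p}ᶜ](M) := le_antisymm
    (((le_inf le_rfl (le_inf ((le_cent_symm hZL).trans hZC) piCoreOf_compl_le_cent)).trans
      (piCoreOf_inf_le (inf_le_right.trans hDC))).trans
      (piCoreOf_compl_cent_le hp (mmax_sol hM) hDM (piCoreOf_isPGroup hp H)))
    ((le_inf le_rfl ((le_cent_symm hDL).trans hDC)).trans (h1 H hH.1 hAH p hp hpF))
  have hL1 := ne_bot_of_le (hZ r hr hrd).1 hZr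
  rw [← mmax_normal hH (piCoreOf_le {p}ᶜ H) (self_le_norm_piCoreOf _ _) hL1, e,
    mmax_normal hM (piCoreOf_le {p}ᶜ M) (self_le_norm_piCoreOf _ _) (e ▸ hL1)]

theorem mmax_norm_zPuig (hM : IsCoatom M) (hp : p.Prime) (hP : IsPiHallOf {p} P M) (h1 : P ≠ ⊥)
    (h : O[{p}ᶜ](M) = ⊥) : N[zPuigOf P] = M :=
  mmax_normal hM ((zPuigOf_le P).trans hP.le) (Puig_center_normal hp (mFT_odd M) (mmax_sol hM) hP h)
    (zPuigOf_ne_bot hp (syl_isPGroup hp hP) h1)

/-- 8.1(b) -/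
theorem SCN_Fitting_Uniqueness (hM : IsCoatom M) (hp : p.Prime) (hF : IsPGroup p F[M])
    (hP : IsPiHallOf {p} P M) (hr : ¬ PRankLE p 2 F[M]) (hA : IsSCN P A) (hA3 : ¬ PRankLE p 2 A) :
    IsPiHallOf {p} P ⊤ ∧ A ≤ F[M] ∧ InUniqueMaximal A := by
  have hA1 : A ≠ ⊥ := fun e => hA3 (e ▸ PG.pRankLE_bot hp.pos)
  have hF1 : F[M] ≠ ⊥ := fun e => hr (e ▸ PG.pRankLE_bot hp.pos)
  have hAp := (syl_isPGroup hp hP).to_le hA.le
  have hAM := hA.le.trans hP.le
  have hO : O[{p}ᶜ](M) = ⊥ := by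
    by_contra h
    refine fittingOf_ne_bot (sub_mmax_sol hM (piCoreOf_le _ _)) h ?_
    rw [fittingOf_piCoreOf, piCoreOf_compl_eq_bot (isPi_of_isPGroup hp hF)]
  have hsyl : ∀ R, IsPiHallOf {p} R M → R ≠ ⊥ → IsPiHallOf {p} R ⊤ := fun R hR h1 =>
    syl_top_of_norm_le hp hR (mmax_norm_zPuig hM hp hR h1 hO ▸ norm_le_norm_zPuigOf R)
  have hPG := hsyl P hP (ne_bot_of_le hA1 hA.le)
  have hAF : A ≤ F[M] := by
    have := odd_p_abelian_constrained hp (mFT_odd M) (mmax_sol hM) hP hA.le hA.comm hA.norm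
    rw [piCore2Of_of_eq_bot hO] at this
    exact this.trans (piCoreOf_single_le_fittingOf hp)
  refine ⟨hPG, hAF, ?_⟩
  have hCM : C[A] ≤ M := by
    have h1 : F[M] ⊓ C[F[M]] ≤ A := hA.le_of_le_cent (inf_le_left.trans
      (le_syl_of_norm hp hP hF (fittingOf_le M) (hP.le.trans (self_le_norm_fittingOf M))))
      (inf_le_right.trans (cent_anti hAF))
    exact (cent_anti h1).trans (mmax_normal_cent_le hM (inf_le_left.trans (fittingOf_le M))
      (le_norm_inf (self_le_norm_fittingOf M) (le_norm_cent (self_le_norm_fittingOf M)))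
      (center_ne_bot_of_nilpotent (fittingOf_nilpotent M) hF1))
  have hcA := SCN_normed_constrained hp hPG hA fun h => hA3 (PG.pRankLE_mono hp.pos h one_le_two)
  have htriv : ∀ H, A ≤ H → O[{p}ᶜ](H) = ⊥ := fun H hAH =>
    s8_normed_trivial hM hcA hAF
      (isPi_of_isPGroup_mem hp hF ⟨hp, prime_dvd_card_of_isPGroup hp hAp hA1⟩)
      (by rw [centCore_of_isPGroup hp hAp hA1, ← inf_eq_right.2 hCM]
          exact piCoreOf_compl_cent_eq_bot hp (mmax_sol hM) hAM hAp hO)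
      (PG.not_rankLE_of_not_pRankLE hp (PG.not_pRankLE_of_le hA3 (le_inf le_rfl hA.le_cent)))
      ((isPiSubgroup_congr (primesNotDvd_iff_of_isPGroup hp hAp hA1)).2 (piCoreOf_isPi _ _))
      (le_norm_piCoreOf (le_norm_self hAH))
  suffices key : ∀ R : Subgroup G, IsPGroup p R → A ≤ R → R ≤ M → ∀ H, IsCoatom H → R ≤ H → H = M from
    UMax.uniq ⟨hM, hAM, key A hAp le_rfl hAM⟩
  intro R
  induction hk : Nat.card G - Nat.card R using Nat.strong_induction_on generalizing R with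
  | _ n ih =>
  intro hR hAR hRM H hH hRH
  have IH : ∀ R' : Subgroup G, R < R' → IsPGroup p R' → R' ≤ M → ∀ H, IsCoatom H → R' ≤ H → H = M :=
    fun R' hlt h1 h2 => ih _ (by
      have := card_lt_of_lt hlt
      have := card_le_card_group R'
      omega) R' rfl h1 (hAR.trans hlt.le) h2
  have hR1 := ne_bot_of_le hA1 hAR
  obtain ⟨S, hS, hRS⟩ := exists_syl_ge hp hR (le_inf hRH hRM)
  rcases hRS.lt_or_eq with hlt | rfl
  · exact IH S hlt (syl_isPGroup hp hS) (hS.le.trans inf_le_right) H hH (hS.le.trans inf_le_left)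
  obtain ⟨T, hT, hRT⟩ := exists_syl_ge hp hR hRM
  rcases hRT.lt_or_eq with hlt | rfl
  · exfalso
    have h1 := lt_inf_norm_of_isPGroup hp (syl_isPGroup hp hT) hlt
    have h1p := (syl_isPGroup hp hT).to_le (inf_le_left : T ⊓ N[R] ≤ T)
    obtain ⟨L, hL, hNL⟩ := mmax_exists (mFT_norm_pgroup_proper hp hR hR1)
    obtain rfl := IH _ h1 h1p (inf_le_left.trans hT.le) L hL (inf_le_right.trans hNL)
    have h2 := syl_of_norm_le hp hS hRH (inf_le_inf_left _ hNL)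
    have h3 : N[R] ≤ H := mmax_norm_zPuig hH hp h2 hR1 (htriv H (hAR.trans hRH)) ▸
      norm_le_norm_zPuigOf R
    exact h1.ne' (syl_eq_of_le hp h2 h1p (inf_le_right.trans h3) h1.le)
  · rw [← mmax_norm_zPuig hM hp hT hR1 hO,
      mmax_norm_zPuig hH hp ((hsyl R hT hR1).of_le hRH le_top) hR1 (htriv H (hAR.trans hRH))]

theorem Fitting_Uniqueness (hM : IsCoatom M) (hr : ¬ RankLE 2 F[M]) : InUniqueMaximal F[M] := by
  obtain ⟨p, hp, hr⟩ := PG.not_rankLE_iff'.1 hr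
  haveI := Fact.mk hp
  have hF := sub_mmax_proper hM (fittingOf_le M)
  by_cases h : IsPGroup p F[M]
  · obtain ⟨P, hP, hFP⟩ := exists_syl_ge hp h (fittingOf_le M)
    obtain ⟨A, hA, hA3⟩ := PG.exists_isSCN_three
      (mFT_pgroup_ne_two hp h fun e => hr (e ▸ PG.pRankLE_bot hp.pos)) (syl_isPGroup hp hP)
      (PG.not_pRankLE_of_le hr hFP)
    obtain ⟨-, h1, h2⟩ := SCN_Fitting_Uniqueness hM hp h hP hr hA hA3
    exact h2.mono h1 hF
  · obtain ⟨E, hE, he, hc⟩ := PG.not_pRankLE_iff.1 hr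
    obtain ⟨A, hEA, h1, h2, h3⟩ := PG.exists_maximal_elemAb he hE
    exact (non_pcore_Fitting_Uniqueness hM hp h ⟨h1, h2, h3⟩
      (PG.not_pRankLE_of_elemAb' hp he hEA hc.ge)).mono inf_le_left hF

end Cfsg.Agent.BG
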