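import Cfsg.Agent.BG.S08
import Cfsg.Agent.PG.Narrow

set_option autoImplicit false
set_option linter.unusedSectionVars false
set_option linter.unusedVariables false

namespace Cfsg.Agent.BG

open Subgroup Cfsg.Agent.GT

universe u

variable {G : Type u} [Group G] [Finite G] [MFT G]
variable {A A₀ B D E E₁ E₂ E₃ H K L M Ms N P Q R S U V W W₁ W₂ X Y : Subgroup G} {p q r : ℕ}
  {g x y : G} {π : Set ℕ}

omit [MFT G] in
/-- a `p'`-subgroup normalized by a Sylow `p`-subgroup of a solvable group lies in `O_{p'}` -/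
theorem le_piCoreOf_of_syl_norm (hp : p.Prime) (hs : Group.IsSolvable M) (hP : IsPiHallOf {p} P M)
    (hK : K ≤ M) (hKp : IsPiSubgroup {p}ᶜ K) (hn : P ≤ N[K]) : K ≤ O[{p}ᶜ](M) := by
  obtain ⟨Q, _, _, f, hk, -, h1, h2⟩ := PG.exists_quo_piCoreOf_compl {p} hs
  have h3 : O[{p}](im f M) ≤ im f P := piCoreOf_le_hall (hP.im le_rfl)
  have h4 : im f K ≤ C[O[{p}](im f M)] := le_cent_of_norm_of_coprime
    ((im_mono hK).trans (self_le_norm_piCoreOf _ _)) (h3.trans (im_norm hn))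
    (hKp.im.coprime' (piCoreOf_isPi _ _))
  rw [← hk, ← im_eq_bot_iff hK]
  exact ((piCoreOf_isPi _ _).of_le ((le_inf (im_mono hK) h4).trans h2)).eq_bot hKp.im

/-- 9.1(b) -/
theorem noncyclic_normed_sub_Uniqueness (hM : IsCoatom M) (hp : p.Prime) (hB : B ≤ M)
    (hBe : IsElementaryAbelian p B) (hc : ¬ IsCyclic B)
    (h : ∀ Y : Subgroup G, IsPiSubgroup {p}ᶜ Y → B ≤ N[Y] → Y ≤ M) : InUniqueMaximal B := by
  have hB1 : B ≠ ⊥ := fun e => hc (e ▸ inferInstance)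
  have hNP : ∀ P, IsPiHallOf {p} P M → B ≤ P → N[P] ≤ M := by
    intro P hP hBP
    by_cases hO : O[{p}ᶜ](M) = ⊥
    · exact mmax_norm_zPuig hM hp hP (ne_bot_of_le hB1 hBP) hO ▸ norm_le_norm_zPuigOf P
    rw [← mmax_normal hM (piCoreOf_le _ _) (self_le_norm_piCoreOf _ _) hO]
    intro x hx
    have h1 : P ≤ N[cj[x] O[{p}ᶜ](M)] := by
      rw [← conj_eq_self hx]
      exact conj_le_norm_conj_iff.2 (hP.le.trans (self_le_norm_piCoreOf _ _))
    have h2 := isPiSubgroup_cj (g := x).2 (piCoreOf_isPi {p}ᶜ M)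
    exact mem_normalizer_of_conj_le
      (le_piCoreOf_of_syl_norm hp (mmax_sol hM) hP (h _ h2 (hBP.trans h1)) h2 h1)
  suffices key : ∀ R : Subgroup G, IsPGroup p R → B ≤ R → R ≤ M → ∀ H, IsCoatom H → R ≤ H → H = M from
    UMax.uniq ⟨hM, hB, key B (PG.elemAb_isPGroup hBe) le_rfl hB⟩
  intro R
  induction hk : Nat.card G - Nat.card R using Nat.strong_induction_on generalizing R with
  | _ n ih =>
  intro hR hBR hRM H hH hRH
  have IH : ∀ R' : Subgroup G, R < R' → IsPGroup p R' → R' ≤ M → ∀ H, IsCoatom H → R' ≤ H → H = M :=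
    fun R' hlt h1 h2 => ih _ (by
      have := card_lt_of_lt hlt
      have := card_le_card_group R'
      omega) R' rfl h1 (hBR.trans hlt.le) h2
  have hR1 := ne_bot_of_le hB1 hBR
  obtain ⟨S, hS, hRS⟩ := exists_syl_ge hp hR (le_inf hRH hRM)
  rcases hRS.lt_or_eq with hlt | rfl
  · exact IH S hlt (syl_isPGroup hp hS) (hS.le.trans inf_le_right) H hH (hS.le.trans inf_le_left)
  have hNR : N[R] ≤ M := by
    obtain ⟨T, hT, hRT⟩ := exists_syl_ge hp hR hRM
    rcases hRT.lt_or_eq with hlt | rfl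
    · obtain ⟨L, hL, hNL⟩ := mmax_exists (mFT_norm_pgroup_proper hp hR hR1)
      exact IH _ (lt_inf_norm_of_isPGroup hp (syl_isPGroup hp hT) hlt)
        ((syl_isPGroup hp hT).to_le inf_le_left) (inf_le_left.trans hT.le) L hL
        (inf_le_right.trans hNL) ▸ hNL
    · exact hNP R hT hBR
  have hRsyl := syl_of_norm_le hp hS hRH (inf_le_inf_left _ hNR)
  have hO : O[{p}ᶜ](H) ≤ M :=
    h _ (piCoreOf_isPi _ _) (le_norm_piCoreOf (le_norm_self (hBR.trans hRH)))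
  have hF : F[H] ≤ O[{p}ᶜ](H) ⊔ R := (fittingOf_le_sup_piCoreOf {p}).trans
    (sup_le ((piCoreOf_le_hall hRsyl).trans le_sup_right) le_sup_left)
  by_cases hr : RankLE 2 F[H]
  · have h1 := (PG.commutator_le_fittingOf_of_rank_two (mmax_sol hH) (mFT_odd H) hr).trans hF
    have h2 : O[{p}ᶜ](H) ⊔ R ≤ H := sup_le (piCoreOf_le _ _) hRH
    refine eq_mmax hH hM ?_
    rw [← frattini_arg hp (hRsyl.of_le le_sup_right h2) h2 (le_norm_of_commutator_le_of_le h2 h1)]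
    exact sup_le (sup_le hO hRM) (inf_le_right.trans hNR)
  · exact (Fitting_Uniqueness hH hr).eq hM (hF.trans (sup_le hO hRM)) hH (fittingOf_le H)

/-- 9.1(a) -/
theorem noncyclic_cent1_sub_Uniqueness (hM : IsCoatom M) (hp : p.Prime) (hB : B ≤ M)
    (hBe : IsElementaryAbelian p B) (hc : ¬ IsCyclic B) (h : ∀ b ∈ B, b ≠ 1 → C1[b] ≤ M) :
    InUniqueMaximal B :=
  noncyclic_normed_sub_Uniqueness hM hp hB hBe hc fun Y hY hn =>
    coprime_abelian_gen_cent1 hBe.1 hc hn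
      (hY.coprime' (isPi_of_isPGroup hp (PG.elemAb_isPGroup hBe)))
      fun b hb h1 => inf_le_right.trans (h b hb h1)

/-- 9.2 -/
theorem cent_uniq_Uniqueness (hL : InUniqueMaximal L) (hK : K ≤ C[L]) (hr : ¬ RankLE 1 K) :
    InUniqueMaximal K := by
  obtain ⟨M, hM⟩ := hL.exists
  obtain ⟨p, B, hp, hB, he, hc⟩ := PG.not_rankLE_iff.1 hr
  exact (noncyclic_cent1_sub_Uniqueness hM.coatom hp ((hB.trans hK).trans hM.cent_le) he
    (PG.not_isCyclic_of_elemAb_sq hp he hc) fun b hb h1 =>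
      hM.le_of_le (mem_cent_iff_le_cent1.1 (hK (hB hb))) (mFT_cent1_proper h1)).mono hB
    (ne_top_of_le_ne_top (mFT_cent_proper hL.ne_bot) hK)

omit [MFT G] in
theorem s9_rank_cent (hp : p.Prime) (hE : IsElementaryAbelian p E) (hc : Nat.card E = p ^ 3)
    (hn : E ≤ N[D]) (hD : Nat.card D = p ^ 2) : ¬ RankLE 1 ↥(E ⊓ C[D]) := by
  haveI := Fact.mk hp
  refine PG.not_rankLE_of_not_pRankLE hp
    (PG.not_pRankLE_of_elemAb' hp (PG.elemAb_of_le hE inf_le_left) le_rfl ?_)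
  have := PG.card_le_mul_card_inf_cent_of_card_sq (PG.elemAb_isPGroup hE) hn hD
  rw [hc, pow_succ'] at this
  exact Nat.le_of_mul_le_mul_left this hp.pos

/-- 9.3 -/
theorem any_cent_rank3_Uniqueness (hp : p.Prime) (hAc : IsMulCommutative A) (hAp : IsPGroup p A)
    (hA3 : ¬ PRankLE p 2 A) (hA : InUniqueMaximal A) (hB : IsPGroup p B) (hc : ¬ IsCyclic B)
    (hB3 : ¬ PRankLE p 2 C[B]) : InUniqueMaximal B := by
  haveI := Fact.mk hp
  obtain ⟨P, hP, hAP⟩ := exists_syl_ge hp hAp le_top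
  obtain ⟨E, hE, he, hEc⟩ := PG.not_pRankLE_iff.1 hA3
  obtain ⟨C, hC, hCe, hCc⟩ := PG.not_pRankLE_iff.1 hB3
  obtain ⟨g, -, hg⟩ := syl_exists_conj_le hp hP (PG.elemAb_isPGroup hCe) le_top
  obtain ⟨D, hD, hn, hDe, hDc⟩ := PG.exists_normal_elemAb_sq' (mFT_pgroup_ne_two hp hAp hA.ne_bot)
    (syl_isPGroup hp hP) (PG.not_isCyclic_of_not_pRankLE hp one_le_two (PG.not_pRankLE_of_le hA3 hAP))
  have h1 : InUniqueMaximal (E ⊓ C[D]) := cent_uniq_Uniqueness hA
    ((inf_le_left.trans hE).trans (comm_iff_le_cent.1 hAc))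
    (s9_rank_cent hp he hEc ((hE.trans hAP).trans hn) hDc)
  have h2 : InUniqueMaximal D := cent_uniq_Uniqueness h1 (le_cent_symm inf_le_right)
    (PG.not_rankLE_of_not_pRankLE hp (PG.not_pRankLE_of_elemAb' hp hDe le_rfl hDc.ge))
  have h3 : InUniqueMaximal (cj[g] C ⊓ C[D]) := cent_uniq_Uniqueness h2 inf_le_right
    (s9_rank_cent hp (PG.elemAb_conj_iff.2 hCe) (by rw [card_conj, hCc]) (hg.trans hn) hDc)
  refine uniq_conj_iff (g := g).1 (cent_uniq_Uniqueness h3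
    ((conj_le_cent_conj_iff.2 (le_cent_symm hC)).trans (cent_anti inf_le_left)) ?_)
  rw [GT.rankLE_conj_iff]
  exact fun h => hc (mFT_rank1_cyclic hp hB (h p hp))

/-- 9.4 -/
theorem any_rank3_Fitting_Uniqueness (hM : IsCoatom M) (hp : p.Prime) (hF : ¬ PRankLE p 2 F[M])
    (hP : IsPGroup p P) (hr : ¬ PRankLE p 2 P) : InUniqueMaximal P := by
  haveI := Fact.mk hp
  obtain ⟨B, hB, he, hc⟩ := PG.not_pRankLE_iff.1 hr
  have hB3 := PG.not_pRankLE_of_elemAb' hp he le_rfl hc.ge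
  suffices ∃ A : Subgroup G, IsMulCommutative A ∧ IsPGroup p A ∧ ¬ PRankLE p 2 A ∧
      InUniqueMaximal A by
    obtain ⟨A, h1, h2, h3, h4⟩ := this
    exact (any_cent_rank3_Uniqueness hp h1 h2 h3 h4 (PG.elemAb_isPGroup he)
      (PG.not_isCyclic_of_not_pRankLE hp one_le_two hB3)
      (PG.not_pRankLE_of_le hB3 (PG.elemAb_le_cent he))).mono hB (mFT_pgroup_proper hp hP)
  by_cases h : IsPGroup p F[M]
  · obtain ⟨S, hS, hFS⟩ := exists_syl_ge hp h (fittingOf_le M)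
    obtain ⟨A, hA, hA3⟩ := PG.exists_isSCN_three
      (mFT_pgroup_ne_two hp h fun e => hF (e ▸ PG.pRankLE_bot hp.pos)) (syl_isPGroup hp hS)
      (PG.not_pRankLE_of_le hF hFS)
    exact ⟨A, hA.comm, (syl_isPGroup hp hS).to_le hA.le, hA3,
      (SCN_Fitting_Uniqueness hM hp h hS hF hA hA3).2.2⟩
  · obtain ⟨E, hE, he, hc⟩ := PG.not_pRankLE_iff.1 hF
    obtain ⟨A, hEA, h1, h2, h3⟩ := PG.exists_maximal_elemAb he hE
    have hA3 := PG.not_pRankLE_of_elemAb' hp he hEA hc.ge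
    exact ⟨A, h2.1, PG.elemAb_isPGroup h2, hA3, cent_uniq_Uniqueness
      (non_pcore_Fitting_Uniqueness hM hp h ⟨h1, h2, h3⟩ hA3) (le_cent_symm inf_le_right)
      (PG.not_rankLE_of_not_pRankLE hp fun h => hA3 (PG.pRankLE_mono hp.pos h one_le_two))⟩

theorem s9_umax_pcore (hM : IsCoatom M) (hq : q.Prime) (hF : ¬ PRankLE q 2 F[M]) :
    UMax O[{q}](M) M := by
  haveI := Fact.mk hq
  exact (any_rank3_Fitting_Uniqueness hM hq hF (piCoreOf_isPGroup hq M) fun h => hF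
    ((PG.pRankLE_iff_of_isPiHallOf (syl_piCoreOf_fittingOf hq) rfl).1 h)).umax hM (piCoreOf_le _ _)

/-- 9.5 -/
theorem SCN_3_Uniqueness (hp : p.Prime) (hA : SCN3 p A) : InUniqueMaximal A := by
  haveI := Fact.mk hp
  by_contra hU
  have hA' := hA
  obtain ⟨P, hP, hA, hA3⟩ := hA
  have hPp := syl_isPGroup hp hP
  have hAp := hPp.to_le hA.le
  have hA1 : A ≠ ⊥ := fun e => hA3 (e ▸ PG.pRankLE_bot hp.pos)
  have hcA := SCN_normed_constrained hp hP hA fun h => hA3 (PG.pRankLE_mono hp.pos h one_le_two)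
  have hF2 : ∀ M, IsCoatom M → PRankLE p 2 F[M] := fun M hM =>
    not_not.1 fun h => hU (any_rank3_Fitting_Uniqueness hM hp h hAp hA3)
  have hNP : ∀ M, IsCoatom M → C[A] ≤ M → N[P] ≤ M := by
    intro M hM hCM
    obtain ⟨q, hq, hqp, hqN⟩ : ∃ q, q.Prime ∧ q ≠ p ∧
        ∀ Q : Subgroup G, IsPGroup q Q → O[{q}](M) ≤ Q → N[Q] ≤ M := by
      by_cases hr : RankLE 2 F[M]
      · obtain ⟨q, hq, hmax⟩ := Finset.exists_max_image (Nat.card M).primeFactors id
          (Nat.nonempty_primeFactors.2 (ne_bot_iff_one_lt_card.1 (mmax_neq1 hM)))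
        have hqp := Nat.prime_of_mem_primeFactors hq
        have h1 := PG.syl_piCoreOf_max_of_rank_two (p := q) (mmax_sol hM) (mFT_odd M) hr
          fun r hr hd => hmax r (Nat.mem_primeFactors.2 ⟨hr, hd, (card_pos' M).ne'⟩)
        have h2 := mmax_normal hM h1.le (self_le_norm_piCoreOf _ _)
          ((syl_ne_bot_iff hqp h1).2 (Nat.dvd_of_mem_primeFactors hq))
        have h3 := syl_top_of_norm_le hqp h1 h2.le
        refine ⟨q, hqp, ?_, fun Q hQ h => (syl_eq_of_le hqp h3 hQ le_top h).symm ▸ h2.le⟩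
        rintro rfl
        exact hA3 (GT.pRankLE_of_le ((PG.pRankLE_iff_of_isPiHallOf h3 rfl).1
          (GT.pRankLE_of_le (hF2 M hM) (piCoreOf_single_le_fittingOf hp))) le_top)
      · obtain ⟨q, hq, hr⟩ := PG.not_rankLE_iff'.1 hr
        have h1 := s9_umax_pcore hM hq hr
        exact ⟨q, hq, fun e => hr (e ▸ hF2 M hM), fun Q hQ h =>
          (h1.mono h (mFT_pgroup_proper hq hQ)).norm_le⟩
    have hqA : ¬ q ∣ Nat.card A := fun h => hqp (isPi_of_isPGroup hp hAp q hq h)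
    have key : ∀ R, A ≤ R → R ≤ P → R ≤ M → N[R] ≤ M := by
      intro R hAR hRP hRM
      have hR := hPp.to_le hRP
      obtain ⟨Q, hQ, hQ'⟩ := exists_maxInv_ge (piCoreOf_isPi {q} M)
        (hRM.trans (self_le_norm_piCoreOf _ _))
      rw [((normed_trans_superset hcA hq hqA (mFT_pgroup_proper hp hR)
        (isPi_of_isPGroup_mem hp hR ⟨hp, prime_dvd_card_of_isPGroup hp hAp hA1⟩) hAR
        (isSubnormal_of_nilpotent (nilpotent_of_isPGroup hp hR) hAR)
        (centCore_of_isPGroup hp hAp hA1 ▸ Thompson_transitivity hp hA' hq hqp)).2.2.2 Q hQ).2]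
      exact sup_le (((piCoreOf_le _ _).trans (cent_anti hAR)).trans hCM)
        (inf_le_right.trans (hqN Q ((maxInv_isPi hQ).isPGroup hq) hQ'))
    exact key P hA.le le_rfl (hA.norm.trans (key A le_rfl hA.le (hA.le_cent.trans hCM)))
  set P₀ := ⁅P, N[P]⁆ with hP₀
  have hP₀P : P₀ ≤ P := commutator_le_of_le_norm_left le_rfl
  have hP₀1 : P₀ ≠ ⊥ := by
    intro e
    have h1 := Burnside_normal_complement hp hP
      (inf_le_right.trans (le_cent_iff_commutator_eq_bot'.2 e))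
    rcases mFT_normal _ (normal_iff_top_le_norm.2 h1.norm) with h | h
    · exact mFT_pgroup_proper hp hPp (h1.eq_right_iff.2 h)
    · exact hA1 (le_bot_iff.1 (h1.eq_left_iff.1 h ▸ hA.le))
  have hP₀' : ∀ X, N[P] ≤ X → P₀ ≤ ⁅X, X⁆ := fun X h => commutator_mono (le_normalizer.trans h) h
  have hA₁ := PG.elemAb_omegaOne (p := p) hA.comm
  have hA₁A := PG.omegaOne_le p A
  have hA₁3 := mt PG.pRankLE_omegaOne_iff.1 hA3
  have hnc : ∀ M, IsCoatom M → C[A] ≤ M → ∀ B, B ≤ omegaOne p A → ¬ IsCyclic B →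
      ∃ L, IsCoatom L ∧ C[A] ≤ L ∧ C[B] ≤ L ∧ L ≠ M := by
    intro M hM hCM B hB hc
    by_contra hL
    push Not at hL
    refine hU ((noncyclic_cent1_sub_Uniqueness hM hp (((hB.trans hA₁A).trans hA.le_cent).trans hCM)
      (PG.elemAb_of_le hA₁ hB) hc fun b hb h1 => ?_).mono (hB.trans hA₁A) (mFT_pgroup_proper hp hAp))
    obtain ⟨L, h2, h3⟩ := mmax_exists (mFT_cent1_proper h1)
    exact hL L h2 ((cent_le_cent1 (hA₁A (hB hb))).trans h3) ((cent_le_cent1 hb).trans h3) ▸ h3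
  have hUM : ∀ M, IsCoatom M → C[A] ≤ M → UMax N[P₀] M := by
    intro M hM hCM
    have hNM := hNP M hM hCM
    by_cases hr : RankLE 2 F[M]
    · have h1 := PG.commutator_le_fittingOf_of_rank_two (mmax_sol hM) (mFT_odd M) hr
      have h2 := PG.le_norm_of_commutator_le_fittingOf hp h1
        (hP.of_le (le_normalizer.trans hNM) le_top) hP₀P ((hP₀' M hNM).trans h1)
        (inf_le_right.trans (normalizer_commutator_ge_right _ _))
      rw [mmax_norm hM hP₀1 (mFT_pgroup_proper hp (hPp.to_le hP₀P)) h2]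
      exact umax_self hM
    obtain ⟨q, hq, hr⟩ := PG.not_rankLE_iff'.1 hr
    haveI := Fact.mk hq
    have hqp : q ≠ p := fun e => hr (e ▸ hF2 M hM)
    have hQ := piCoreOf_isPGroup hq M
    refine (s9_umax_pcore hM hq hr).mono (le_norm_of_cent ?_)
      (mFT_norm_pgroup_proper hp (hPp.to_le hP₀P) hP₀1)
    obtain ⟨E, hE, he, hEc⟩ := PG.not_pRankLE_iff.1 hA₁3
    refine coprime_pnElem_gen_cent (K := E) hp ⟨le_rfl, he, hEc⟩
      (((((hE.trans hA₁A).trans hA.le_cent).trans hCM)).trans (self_le_norm_piCoreOf _ _))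
      ((isPi_of_isPGroup_mem (π := {p}ᶜ) hq hQ hqp).coprime'
        (isPi_of_isPGroup hp (PG.elemAb_isPGroup he))) fun B hB => ?_
    obtain ⟨L, hL, h1, h2, hLM⟩ := hnc M hM hCM B (hB.le.trans hE)
      (PG.not_isCyclic_of_elemAb_sq hp hB.elem hB.card)
    have h3 : PRankLE q 2 ↥(O[{q}](M) ⊓ L) := not_not.1 fun h => hLM
      ((any_rank3_Fitting_Uniqueness hM hq hr (hQ.to_le inf_le_left) h).eq hM
        (inf_le_left.trans (piCoreOf_le _ _)) hL inf_le_right)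
    refine (inf_le_inf_left _ h2).trans (le_cent_symm (PG.le_cent_of_le_commutator_of_rank_two
      (A := L ⊓ M) (mFT_pgroup_ne_two hq hQ (s9_umax_pcore hM hq hr).ne_bot) (hQ.to_le inf_le_left) h3
      (le_norm_inf (inf_le_right.trans (self_le_norm_piCoreOf _ _)) (le_norm_self inf_le_left))
      (sub_mmax_sol hM inf_le_right) (mFT_odd _) (hP₀' _ (le_inf (hNP L hL h1) hNM))
      (PG.coprime_card_of_isPGroup_of_ne hq hp hqp.symm (hPp.to_le hP₀P))))
  obtain ⟨M, hM, hCM⟩ := mmax_exists (mFT_cent_proper hA1)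
  obtain ⟨L, hL, h1, -, hLM⟩ := hnc M hM hCM _ le_rfl
    (PG.not_isCyclic_of_not_pRankLE hp one_le_two hA₁3)
  exact hLM ((hUM M hM hCM).eq hL (hUM L hL h1).le)

theorem prank3_Uniqueness (hp : p.Prime) (hK : K ≠ ⊤) (hr : ¬ PRankLE p 2 K) :
    InUniqueMaximal K := by
  haveI := Fact.mk hp
  obtain ⟨B, hB, he, hc⟩ := PG.not_pRankLE_iff.1 hr
  have hB3 := PG.not_pRankLE_of_elemAb' hp he le_rfl hc.ge
  obtain ⟨P, hP, hBP⟩ := exists_syl_ge hp (PG.elemAb_isPGroup he) le_top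
  obtain ⟨A, hA, hA3⟩ := PG.exists_isSCN_three (mFT_pgroup_ne_two hp (PG.elemAb_isPGroup he)
    fun e => hB3 (e ▸ PG.pRankLE_bot hp.pos)) (syl_isPGroup hp hP) (PG.not_pRankLE_of_le hB3 hBP)
  exact (any_cent_rank3_Uniqueness hp hA.comm ((syl_isPGroup hp hP).to_le hA.le) hA3
    (SCN_3_Uniqueness hp ⟨P, hP, hA, hA3⟩) (PG.elemAb_isPGroup he)
    (PG.not_isCyclic_of_not_pRankLE hp one_le_two hB3)
    (PG.not_pRankLE_of_le hB3 (PG.elemAb_le_cent he))).mono hB hK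

/-- 9.6 -/
theorem rank3_Uniqueness (hK : K ≠ ⊤) (hr : ¬ RankLE 2 K) : InUniqueMaximal K :=
  let ⟨_, hp, h⟩ := PG.not_rankLE_iff'.1 hr; prank3_Uniqueness hp hK h

theorem cent_rank3_Uniqueness (h2 : ¬ RankLE 1 K) (h3 : ¬ RankLE 2 C[K]) : InUniqueMaximal K :=
  cent_uniq_Uniqueness (rank3_Uniqueness (mFT_cent_proper (H := K) fun e => h2 (e ▸ PG.rankLE_bot)) h3)
    (le_cent_symm le_rfl) h2

theorem Uniqueness (hK : K ≠ ⊤) (h2 : ¬ RankLE 1 K) (h3 : ¬ RankLE 2 K ∨ ¬ RankLE 2 C[K]) :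
    InUniqueMaximal K := h3.elim (rank3_Uniqueness hK) (cent_rank3_Uniqueness h2)

theorem nonmaxElem2_Uniqueness (hp : p.Prime) (hA : PnElem p 2 ⊤ A) (h : ¬ PmaxElem p ⊤ A) :
    InUniqueMaximal A := by
  refine cent_rank3_Uniqueness (PG.not_rankLE_of_not_pRankLE hp
    (PG.not_pRankLE_of_elemAb' hp hA.elem le_rfl hA.card.ge))
    (PG.not_rankLE_of_not_pRankLE hp fun hr => h (PG.pmaxElem_of_pRankLE_two_inf_cent hA ?_))
  rwa [top_inf_eq]

end Cfsg.Agent.BG
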