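import Cfsg.Agent.BG.S10b

/-! Bender–Glauberman 10.10–10.14 (10.1–10.9 are in `S10a`, `S10b`). -/

set_option autoImplicit false
set_option linter.unusedSectionVars false
set_option linter.unusedVariables false

namespace Cfsg.Agent.BG

open Subgroup Cfsg.Agent.GT
open scoped commutatorElement

universe u

variable {G : Type u} [Group G] [Finite G] [MFT G]
variable {A A₀ B D E E₁ E₂ E₃ H K L M Ms N P Q R S U V W W₁ W₂ X Y : Subgroup G} {p q r : ℕ}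
  {g x y : G} {π : Set ℕ}

omit [Finite G] [MFT G] in
theorem maxInv_isPi (hQ : Q ∈ maxInvSubgroups H A π) : IsPiSubgroup π Q := hQ.1.2.1

omit [Finite G] [MFT G] in
theorem maxInv_norm (hQ : Q ∈ maxInvSubgroups H A π) : A ≤ N[Q] := hQ.1.2.2

omit [Finite G] [MFT G] in
theorem maxInv_eq (hQ : Q ∈ maxInvSubgroups ⊤ A π) (hR : IsPiSubgroup π R) (hn : A ≤ N[R])
    (h : Q ≤ R) : R = Q := hQ.2 R ⟨le_top, hR, hn⟩ h

omit [Finite G] [MFT G] in
theorem maxInv_conj (hQ : Q ∈ maxInvSubgroups ⊤ A π) (g : G) :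
    cj[g] Q ∈ maxInvSubgroups ⊤ (cj[g] A) π := by
  refine ⟨⟨le_top, isPiSubgroup_cj.2 (maxInv_isPi hQ), conj_le_norm_conj_iff.2 (maxInv_norm hQ)⟩,
    fun R hR h => ?_⟩
  have h1 : A ≤ N[cj[g⁻¹] R] := by
    rw [← conj_normalizer]; exact conj_le_iff.1 hR.2.2
  rw [← maxInv_eq hQ (isPiSubgroup_cj.2 hR.2.1) h1 (conj_le_iff.1 h), conj_inv_conj]

omit [MFT G] in
theorem maxInv_of_syl (hq : q.Prime) (hQ : IsPiHallOf {q} Q ⊤) (hn : A ≤ N[Q]) :
    Q ∈ maxInvSubgroups ⊤ A {q} :=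
  ⟨⟨le_top, hQ.isPi, hn⟩, fun _ hR h => hQ.eq_of_le h le_top hR.2.1⟩

theorem mFT_pmaxElem_constrained (hp : p.Prime) (hA1 : A ≠ ⊥) (hA : PmaxElem p ⊤ A) :
    TransitivityHypothesis A :=
  plength_1_normed_constrained hp hA1 hA fun _ hH => mFT_proper_plength1 hp hH

omit [MFT G] in
theorem not_dvd_card_of_isPGroup (hp : p.Prime) (hq : q.Prime) (hpq : p ≠ q) (hA : IsPGroup p A) :
    ¬ q ∣ Nat.card A := fun h => hpq (isPi_of_isPGroup hp hA q hq h).symm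

omit [MFT G] in
theorem piCoreOf_primesNotDvd (hp : p.Prime) (hA : IsPGroup p A) (hA1 : A ≠ ⊥) (H : Subgroup G) :
    O[primesNotDvd (Nat.card A)](H) = O[{p}ᶜ](H) :=
  piCoreOf_congr fun q hq =>
    ⟨fun h (e : q = p) => h.2 (e ▸ prime_dvd_card_of_isPGroup hp hA hA1),
      fun h => ⟨hq, not_dvd_card_of_isPGroup hp hq (Ne.symm h) hA⟩⟩

/-- 10.10 -/
theorem max_normed_2Elem_signaliser (hp : p.Prime) (hq : q.Prime) (hpq : p ≠ q)
    (hA : PnElem p 2 ⊤ A) (hA' : PmaxElem p ⊤ A) (hQ : Q ∈ maxInvSubgroups ⊤ A {q})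
    (hqC : q ∣ Nat.card C[A]) :
    ∃ P, IsPiHallOf {p} P ⊤ ∧ A ≤ P ∧ O[{p}ᶜ](C[P]) ⊔ (N[P] ⊓ N[Q]) = N[P] ∧
      P ≤ ⁅N[Q], N[Q]⁆ ∧ (Narrow q Q → P ≤ C[Q]) := by
  have hA1 := hA.ne_bot hp
  have hT := mFT_pmaxElem_constrained hp hA1 hA'
  have hqA := not_dvd_card_of_isPGroup hp hq hpq hA.isPGroup
  have htr := normed_constrained_rank2_trans hT hq hqA hqC
    (by rw [inf_eq_left.2 hA.le_cent]; exact PG.pnElem_not_rankLE_self hp hA)
  have key : ∀ {P}, IsPiHallOf {p} P ⊤ → A ≤ P → _ := fun {P} hP hAP =>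
    normed_trans_superset hT hq hqA (mFT_pgroup_proper hp (syl_isPGroup hp hP))
      (hP.isPi.single_mono ⟨hp, prime_dvd_card_of_isPGroup hp hA.isPGroup hA1⟩) hAP
      (isSubnormal_of_nilpotent (nilpotent_of_isPGroup hp (syl_isPGroup hp hP)) hAP) htr
  obtain ⟨P₀, hP₀, hAP₀⟩ := exists_syl_ge hp hA.isPGroup le_top
  obtain ⟨Q₀, hQ₀, -⟩ := exists_maxInv_ge (π := {q}) (A := P₀) isPiSubgroup_bot
    (norm_bot (G := G) ▸ le_top)
  obtain ⟨k, hk, rfl⟩ := htr Q₀ ((key hP₀ hAP₀).2.2.1 hQ₀) Q hQ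
  have hP : IsPiHallOf {p} (cj[k] P₀) ⊤ := hP₀.conj_of_mem (mem_top k)
  have hAP : A ≤ cj[k] P₀ := by
    rw [← conj_eq_self_of_mem_cent (piCoreOf_le _ _ hk)]; exact conj_mono k hAP₀
  obtain ⟨h1, h2⟩ := (key hP hAP).2.2.2 _ (maxInv_conj hQ₀ k)
  rw [piCoreOf_primesNotDvd hp hA.isPGroup hA1] at h2
  have h3 := (le_inf le_rfl (mFT_Sylow_der1 hp hP)).trans h1
  refine ⟨_, hP, hAP, h2.symm, h3, fun hn => ?_⟩
  by_cases h0 : cj[k] Q₀ = ⊥
  · rw [h0, cent_bot]; exact le_top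
  have := Fact.mk hq
  have hQq := (maxInv_isPi hQ).isPGroup hq
  exact PG.le_cent_of_le_commutator_of_narrow (mFT_pgroup_ne_two hq hQq h0) hQq hn le_rfl
    (mFT_sol (mFT_norm_pgroup_proper hq hQq h0)) (mFT_odd _) h3
    (PG.coprime_card_of_isPGroup_of_ne hq hp hpq (syl_isPGroup hp hP))

/-- 10.11(a) -/
theorem sigma'_not_uniq (hM : IsCoatom M) (hK : K ≤ M) (hs : IsPiSubgroup (sigma M)ᶜ K) :
    ¬ InUniqueMaximal K := fun hU => by
  obtain ⟨E, hE, hKE⟩ := exists_hall_ge (mmax_sol hM) hK hs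
  obtain ⟨p, hp, hd, hmax⟩ := PG.exists_max_prime_dvd_card (ne_bot_of_le hU.ne_bot hKE)
  have hP := PG.syl_piCoreOf_max_of_rank_two (sub_mmax_sol hM hE.le) (mFT_odd E)
    (rankLE_of_le (sigma'_rankLE_two hM hE.le hE.isPi) (fittingOf_le E)) hmax
  have hps := hE.isPi p hp hd
  exact not_norm_le_of_not_sigma hp (hd.trans (card_dvd_of_le hE.le)) hps (hP.trans_single hE hps)
    ((hU.umax hM hK).le_of_le (hKE.trans (self_le_norm_piCoreOf _ E))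
      (mFT_norm_pgroup_proper hp (syl_isPGroup hp hP) ((syl_ne_bot_iff hp hP).2 hd)))

theorem sigma'_cent_rank2 (hM : IsCoatom M) (hK : K ≤ M) (hs : IsPiSubgroup (sigma M)ᶜ K)
    (hr : ¬ RankLE 1 K) : RankLE 2 C[K] :=
  not_not.1 fun h => sigma'_not_uniq hM hK hs (cent_rank3_Uniqueness hr h)

/-- 10.11(b) -/
theorem sub'cent_sigma_rank1 (hM : IsCoatom M) (hK : K ≤ M) (hs : IsPiSubgroup (sigma M)ᶜ K) :
    RankLE 1 ↥(K ⊓ C[Mσ[M]]) := by
  by_contra hr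
  obtain ⟨p, A, hp, hA⟩ := PG.exists_pnElem_of_not_rankLE hr
  have hAK := hA.le.trans inf_le_left
  have hc : Mσ[M] ≤ C[A] := le_cent_symm (hA.le.trans inf_le_right)
  have hps : p ∉ sigma M := hs p hp (hA.of_le hAK).dvd_card
  have hr2 := sigma'_cent_rank2 hM (hAK.trans hK) (hs.of_le hAK) (PG.pnElem_not_rankLE_self hp hA)
  have ha : Mα[M] = ⊥ := not_not.1 fun h =>
    Malpha_rank3 hM h (rankLE_of_le hr2 ((Malpha_sub_Msigma hM).trans hc))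
  have hnil := der1_nil_of_Malpha_eq_bot hM ha
  obtain ⟨q, hq⟩ := exists_mem_sigma hM
  obtain ⟨Q, hQ⟩ := exists_syl hq.1 Mσ[M]
  have hQM := Msigma_syl hM hq hQ
  have hQ1 := (syl_ne_bot_iff hq.1 hQM).2 hq.2.1
  have hnQ : N[Q] = M := mmax_normal hM hQM.le ((le_norm_sigmaCore M).trans
    (norm_le_norm_syl_of_nilpotent hq.1 (nil_of_le hnil (Msigma_der1 hM)) hQ)) hQ1
  obtain ⟨P, hP, hAP, -, hP', -⟩ := max_normed_2Elem_signaliser hp hq.1
    (fun e => hps (e ▸ hq)) hA.top (sigma'_rank2_max hM hp hps (hA.of_le (hAK.trans hK)))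
    (maxInv_of_syl hq.1 (sigma_Sylow_G hq hQM) (le_norm_of_cent (le_cent_symm (hQ.le.trans hc))))
    (((pi_Msigma hM hq.1).2 hq).trans (card_dvd_of_le hc))
  rw [hnQ] at hP'
  exact hps (mem_sigma_of_normal_syl hM hp (hA.of_le (hAK.trans hK)).dvd_card
    (hP.of_le (hP'.trans (der1_le M)) le_top) ((self_le_norm_der1 M).trans
      (norm_le_norm_syl_of_nilpotent hp hnil (hP.of_le hP' le_top))))

theorem mFT_nil_rank1_cyclic (hn : Group.IsNilpotent H) (h : RankLE 1 H) : IsCyclic H :=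
  PG.isCyclic_of_nilpotent_of_rankLE_one (mFT_odd H) hn h

theorem sigma'_Fitting_cyclic (hM : IsCoatom M) : IsCyclic O[(sigma M)ᶜ](F[M]) := by
  have h := sub'cent_sigma_rank1 hM ((piCoreOf_le _ _).trans (fittingOf_le M))
    (piCoreOf_isPi (sigma M)ᶜ F[M])
  rw [sigmaCore_eq, inf_eq_left.2 (piCoreOf_fittingOf_le.trans piCoreOf_compl_le_cent)] at h
  exact mFT_nil_rank1_cyclic (nilpotent_of_le_fittingOf (piCoreOf_le _ _)) h

/-- 10.11(c) -/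
theorem sub'cent_sigma_cyclic (hM : IsCoatom M) (hK : K ≤ M) (hs : IsPiSubgroup (sigma M)ᶜ K) :
    IsCyclic ↥(K ⊓ C[Mσ[M]] ⊓ ⁅M, M⁆) ∧ M ≤ N[K ⊓ C[Mσ[M]] ⊓ ⁅M, M⁆] := by
  have hZ := sigma'_Fitting_cyclic hM
  have hnZ : M ≤ N[O[(sigma M)ᶜ](F[M])] := le_norm_piCoreOf (self_le_norm_fittingOf M)
  have hYF : K ⊓ C[Mσ[M]] ⊓ ⁅M, M⁆ ≤ F[M] := by
    refine le_fittingOf_of_le_cent (mmax_sol hM) (inf_le_right.trans (der1_le M)) ?_
    rw [← nil_piCoreOf_sup_compl (fittingOf_nilpotent M) (sigma M), cent_sup]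
    exact le_inf (inf_le_left.trans (inf_le_right.trans (cent_anti piCoreOf_fittingOf_le)))
      (inf_le_right.trans (PG.commutator_le_cent_of_isCyclic hZ hnZ hnZ))
  have hYZ := nil_le_piCoreOf (fittingOf_nilpotent M) hYF hs.inf_left.inf_left
  exact ⟨cyc_of_le hZ hYZ, PG.le_norm_of_isCyclic hZ hYZ hnZ⟩

/-- 10.11(d) -/
theorem commG_sigma'_1Elem_cyclic (hM : IsCoatom M) (hK : K ≤ M)
    (hs : IsPiSubgroup (sigma M)ᶜ K) (hp : p.Prime) (hps : p ∉ sigma M)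
    (hP : PnElem p 1 (M ⊓ N[K]) P) (hC : Mσ[M] ⊓ C[P] = ⊥) (hKp : IsPiSubgroup {p}ᶜ K)
    (hKc : IsMulCommutative K) :
    ⁅K, P⁆ ≤ C[Mσ[M]] ∧ IsCyclic ↥⁅K, P⁆ ∧ M ≤ N[⁅K, P⁆] := by
  have hPM := hP.le.trans inf_le_left
  have hPK := hP.le.trans inf_le_right
  have h0 : ⁅K, P⁆ ≤ K := commutator_le_of_le_norm_left hPK
  have hco : (Nat.card K).Coprime (Nat.card P) := hKp.coprime' (isPi_of_isPGroup hp hP.isPGroup)
  have hP0 : P ≤ N[⁅K, P⁆] := le_norm_commutator hPK le_normalizer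
  have hnM := le_norm_sigmaCore M
  have hcs := (sigmaCore_isPi M).coprime (hs.of_le h0)
  have hnil : Group.IsNilpotent ↥(Mσ[M] ⊔ ⁅K, P⁆) := by
    refine prime_regular_sol_nil (le_norm_sup (hPM.trans hnM) hP0)
      (sub_mmax_sol hM (sup_le (sigmaCore_le M) (h0.trans hK))) (hP.card_prime hp) ?_
    rw [cent_sup_of_inf_eq_bot (hPM.trans hnM) hP0 (inf_eq_bot_of_coprime_card hcs)
      (Or.inr (h0.trans (hK.trans hnM))), hC, coprime_comm_commutator_inf_cent hKc hPK hco,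
      bot_sup_eq]
  have hc : ⁅K, P⁆ ≤ C[Mσ[M]] :=
    le_cent_of_nilpotent_of_coprime hnil le_sup_right le_sup_left hcs.symm
  have h := sub'cent_sigma_cyclic hM (h0.trans hK) (hs.of_le h0)
  rw [inf_eq_left.2 hc, inf_eq_left.2 (commutator_mono hK hPM)] at h
  exact ⟨hc, h⟩

theorem conjg_or_of_mem_sigma (hM : IsCoatom M) (hH : IsCoatom H) (h1 : p ∈ sigma M)
    (h2 : p ∈ sigma H) (h : p ∈ alpha M ∨ IsPiHallOf {p} O[{p}](M) M) : Conjg M H := by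
  obtain ⟨S, hS⟩ := exists_syl h1.1 M
  obtain ⟨T, hT⟩ := exists_syl h1.1 H
  obtain ⟨g, -, rfl⟩ := syl_exists_conj h1.1 (sigma_Sylow_G h2 hT) (sigma_Sylow_G h1 hS)
  refine Conjg.symm ⟨g, ?_⟩
  rcases h with h | h
  · exact ((alpha_syl_umax hM h hS).eq (isCoatom_conj g hH) (conj_mono g hT.le)).symm
  · have e := h.eq_of_normal (self_le_norm_piCoreOf _ M) hS
    refine eq_mmax hM (isCoatom_conj g hH) ((self_le_norm_piCoreOf {p} M).trans ?_)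
    rw [← e]
    exact norm_sigma_Sylow (by rwa [sigma_conj]) (hT.conj g)

theorem syl_pcore_of_Msigma_nil (hM : IsCoatom M) (hn : Group.IsNilpotent Mσ[M])
    (hp : p ∈ sigma M) : IsPiHallOf {p} O[{p}](M) M :=
  isPiHallOf_piCoreOf_of_le (Msigma_syl hM hp (nil_isPiHallOf_piCoreOf hn {p}))
    (piCoreOf_le_of_normal (sigmaCore_le M) (le_norm_sigmaCore M))

/-- 10.12 -/
theorem sigma_disjoint (hM : IsCoatom M) (hH : IsCoatom H) (hc : ¬ Conjg M H) :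
    Mα[M] ⊓ Mσ[H] = ⊥ ∧ Disjoint (alpha M) (sigma H) ∧
    (Group.IsNilpotent Mσ[M] → Mσ[M] ⊓ Mσ[H] = ⊥ ∧ Disjoint (sigma M) (sigma H)) := by
  have h1 : ∀ p, p ∈ alpha M → p ∉ sigma H := fun p ha hs =>
    hc (conjg_or_of_mem_sigma hM hH (alpha_sub_sigma hM ha) hs (Or.inl ha))
  refine ⟨inf_eq_bot_of_coprime_card ((alphaCore_isPi M).piNat.coprime_of_disjoint
    (sigmaCore_isPi H).piNat fun p _ => h1 p), Set.disjoint_left.2 h1, fun hn => ?_⟩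
  have h2 : ∀ p, p ∈ sigma M → p ∉ sigma H := fun p ha hs =>
    hc (conjg_or_of_mem_sigma hM hH ha hs (Or.inr (syl_pcore_of_Msigma_nil hM hn ha)))
  exact ⟨inf_eq_bot_of_coprime_card ((sigmaCore_isPi M).piNat.coprime_of_disjoint
    (sigmaCore_isPi H).piNat fun p _ => h2 p), Set.disjoint_left.2 h2⟩

private theorem p2max_syl (hp : p.Prime) (hA : PnElem p 2 ⊤ A) (hA' : PmaxElem p ⊤ A)
    (hS : IsPiHallOf {p} S ⊤) (hAS : A ≤ S) (hc : ¬ IsMulCommutative S) :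
    ∃ A₁ Y : Subgroup G, Nat.card A₁ = p ∧ A₁ ≤ A ∧ IsCyclic Y ∧ S ⊓ C[S] ≤ Y ∧
      Dprod A₁ Y (S ⊓ C[A]) := by
  have := Fact.mk hp
  have pS := syl_isPGroup hp hS
  by_cases hr : PRankLE p 2 S
  · obtain ⟨S₀, C, h1, h2, h3, h4, h5, h6, h7⟩ := mFT_rank2_Sylow_cprod hp hS hr hc
    have hCS : C ≤ S := h1 ▸ le_sup_right
    have hZ : S₀ ⊓ C[S₀] ≤ C := h7 ▸ PG.omegaOne_le p C
    have hC : C ≤ C[S] := by
      rw [← h1, cent_sup]
      exact le_inf (le_cent_symm h2) (comm_iff_le_cent.1 (isMulCommutative_of_isCyclic h6))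
    have hZS : S ⊓ C[S] ≤ C := by
      have : S ⊓ C[S₀] = C := by
        rw [← h1, dedekind' (Or.inl (le_norm_of_cent h2)) (le_cent_symm h2), sup_eq_right.2 hZ]
      exact (inf_le_inf_left S (cent_anti (h1 ▸ le_sup_left))).trans this.le
    have hi : S₀ ⊓ C = S₀ ⊓ C[S₀] :=
      le_antisymm (inf_le_inf_left _ (le_cent_symm h2)) (le_inf inf_le_left hZ)
    have hcard : Nat.card S = p * (p * Nat.card C) := by
      have := card_sup_mul_card_inf (le_norm_of_cent h2)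
      rw [h1, hi, PG.card_center_of_card_cube h4 h3, h4] at this
      exact Nat.eq_of_mul_eq_mul_right hp.pos (by rw [this]; ring)
    obtain ⟨a, ha, haC⟩ := SetLike.not_le_iff_exists.1
      fun h : A ≤ C => PG.pnElem_two_not_isCyclic hp hA (cyc_of_le h6 h)
    have hap := PG.elemAb_pow hA.elem ha
    have ha1 : a ≠ 1 := fun e => haC (e ▸ one_mem C)
    have hac : a ∈ C[C] := le_cent_symm hC (hAS ha)
    have hlt : S ⊓ C[A] < S := lt_of_le_of_ne inf_le_left fun e =>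
      haC (hZS ⟨hAS ha, le_cent_symm (inf_eq_left.1 e) ha⟩)
    have h8 := PG.mul_card_le_card_of_lt pS hlt
    rw [hcard] at h8
    have h9 := PG.card_sup_zpowers hp (cent_le_norm C hac) (hap ▸ one_mem C) haC
    have hZa := PG.card_zpowers_eq_prime hp hap ha1
    refine ⟨zpowers a, C, hZa, zpowers_le.2 ha, h6, hZS, dprod_mk (zpowers_le.2 hac)
      ((le_or_inf_eq_bot_of_card_prime (hZa ▸ hp) C).resolve_left fun h => haC (h (mem_zpowers a)))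
      ?_⟩
    rw [sup_comm]
    exact eq_of_le_of_card_ge (sup_le (le_inf hCS (hC.trans (cent_anti hAS)))
      (zpowers_le.2 ⟨hAS ha, hA.le_cent ha⟩)) (h9 ▸ Nat.le_of_mul_le_mul_left h8 hp.pos)
  · have h1 := hA.of_le hAS
    have h2 := hA'.of_le hAS le_top
    obtain ⟨A₁, h3, h4, h5⟩ := PG.exists_card_p_sup_center_of_pmaxElem pS hr h1 h2
    have h6 : A₁ ≤ A := h4 ▸ le_sup_right
    obtain ⟨h7, -, -, h8⟩ := PG.narrow_cent_dprod (mFT_prime_ne_two h1.dvd_card) pS hr h3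
      (h6.trans hAS) (h5 ▸ PG.pRankLE_two_inf_cent_of_pmaxElem h1 h2)
    exact ⟨A₁, _, h3, h6, h7, le_inf (inf_le_inf_left S (cent_anti ((PG.omegaOne_le _ _).trans
      (PG.z2_le S)))) (inf_le_right.trans (cent_anti (h6.trans hAS))), h5 ▸ h8⟩

/-- 10.13 -/
theorem basic_p2maxElem_structure (hp : p.Prime) (hA : PnElem p 2 ⊤ A) (hA' : PmaxElem p ⊤ A)
    (hP : IsPGroup p P) (hAP : A ≤ P) (hc : ¬ IsMulCommutative P) :
    PnElem p 1 A (omegaOne p (P ⊓ C[P])) ∧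
    (∃ Y : Subgroup G, IsCyclic Y ∧ omegaOne p (P ⊓ C[P]) ≤ Y ∧
      ∀ A₀, PnElem p 1 A A₀ → A₀ ≠ omegaOne p (P ⊓ C[P]) → Dprod A₀ Y (P ⊓ C[A])) ∧
    TransOn (P ⊓ N[A]) {A₀ | PnElem p 1 A A₀ ∧ A₀ ≠ omegaOne p (P ⊓ C[P])} := by
  have := Fact.mk hp
  obtain ⟨S, hS, hPS⟩ := exists_syl_ge hp hP le_top
  have pS := syl_isPGroup hp hS
  obtain ⟨A₁, Y, h1, h2, h3, h4, h5⟩ := p2max_syl hp hA hA' hS (hAP.trans hPS)
    fun h => hc (comm_of_le h hPS)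
  have hnc : ¬ P ≤ C[A] := fun h => hc (comm_of_le (h5.comm (comm_of_le hA.comm h2)
    (isMulCommutative_of_isCyclic h3)) (le_inf hPS h))
  set Z := omegaOne p (P ⊓ C[P]) with hZ
  have hZc : Z ≤ C[P] := (PG.omegaOne_le _ _).trans inf_le_right
  have hP1 : P ≠ ⊥ := ne_bot_of_le (hA.ne_bot hp) hAP
  have hZ1 : PnElem p 1 A Z := PG.pnElem_one_of_lt hp hA
    (PG.omegaOne_center_le_of_pmaxElem (hA'.of_le hAP le_top))
    (PG.omegaOne_ne_bot hP.to_inf_left (PG.center_ne_bot hP hP1))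
    fun e => hnc (le_cent_symm (e ▸ hZc))
  have hZY : Z ≤ Y := by
    obtain ⟨z, hz, hzc, hz1, hzp⟩ := PG.exists_mem_cent_orderOf_p pS pS le_normalizer
      (ne_bot_of_le hP1 hPS)
    have hzZ : z ∈ Z := PG.mem_omegaOne ⟨hAP (PG.pmaxElem_mem hA' (mem_top z)
      (cent_anti (hAP.trans hPS) hzc) hzp), cent_anti hPS hzc⟩ hzp
    rw [eq_zpowers_of_card_prime (hZ1.card_prime hp) hzZ hz1]
    exact zpowers_le.2 (h4 ⟨hz, hzc⟩)
  have hd : IsComplIn A₁ (Y ⊓ P) (P ⊓ C[A]) := by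
    have := h5.compl.inf_of_left_le (h2.trans hAP)
    rwa [inf_right_comm, inf_eq_right.2 hPS] at this
  have hY : IsCyclic ↥(Y ⊓ P) := cyc_of_le h3 inf_le_left
  have hZY' : Z ≤ Y ⊓ P := le_inf hZY (hZ1.le.trans hAP)
  refine ⟨hZ1, ⟨Y ⊓ P, hY, hZY', fun A₀ h6 h7 => ?_⟩, ?_⟩
  · have hYc : Y ⊓ P ≤ C[A] := hd.right_le.trans inf_le_right
    refine dprod_mk (le_cent_symm (hYc.trans (cent_anti h6.le)))
      ((le_or_inf_eq_bot_of_card_prime (h6.card_prime hp) _).resolve_left fun h =>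
        h7 (PG.eq_of_isCyclic_of_card_eq hp hY h hZY' h6.card_one hZ1.card_one))
      (le_antisymm (sup_le (h6.le.trans (le_inf hAP hA.le_cent)) hd.right_le) ?_)
    rw [← hd.sup_eq]
    exact sup_le (h2.trans ((PG.pnElem_two_dprod hp hA h6 hZ1 h7).sup_eq.ge.trans
      (sup_le_sup_left hZY' _))) le_sup_right
  · have hlt : P ⊓ C[A] < P := lt_of_le_of_ne inf_le_left fun e => hnc (inf_eq_left.1 e)
    obtain ⟨x, hx, hxc⟩ := SetLike.exists_of_lt (PG.lt_inf_norm hP hlt)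
    have hxA : x ∈ N[A] := by
      have := PG.norm_le_norm_omegaOne p _ hx.2
      rwa [PG.pmaxElem_omegaOne (hA'.of_le hAP le_top)] at this
    have hcm : ⁅A, P ⊓ N[A]⁆ ≤ Z := PG.commutator_le_of_card_eq_mul_of_isPGroup hP.to_inf_left
      (le_inf hAP le_normalizer) inf_le_right
      (inf_le_left.trans (le_norm_of_cent (le_cent_symm hZc))) hZ1.le
      (by rw [hA.card, hZ1.card]; ring)
    rintro A₀ ⟨h6, h7⟩ A₀' ⟨h8, h9⟩
    obtain ⟨a, ha, ha1⟩ := exists_ne_one_of_ne_bot (h6.ne_bot hp)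
    have ea := eq_zpowers_of_card_prime (h6.card_prime hp) ha ha1
    have hd0 := PG.pnElem_two_dprod hp hA h6 hZ1 h7
    have hw : ⁅x, a⁆ ∈ Z :=
      PG.commutator_mem_comm.1 (hcm (commutator_mem_commutator (h6.le ha) ⟨hx.1, hxA⟩))
    have hw1 : ⁅x, a⁆ ≠ 1 := fun e => hxc ⟨hx.1, by
      rw [← hd0.sup_eq, cent_sup, ea, cent_zpowers]
      exact ⟨mem_cent1.2 (commutatorElement_eq_one_iff_mul_comm.1 e), le_cent_symm hZc hx.1⟩⟩
    obtain ⟨a', ha', z, hz, e⟩ := (PG.pnElem_two_dprod hp hA h8 hZ1 h9).exists_mul (h6.le ha)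
    have ha'1 : a' ≠ 1 := by
      rintro rfl
      rw [one_mul] at e
      exact ha1 (mem_bot.1 (hd0.inf_eq ▸ ⟨ha, e ▸ hz⟩))
    obtain ⟨k, hk⟩ := PG.exists_nat_pow_of_mem_zpowers
      (eq_zpowers_of_card_prime (hZ1.card_prime hp) hw hw1 ▸ inv_mem hz)
    refine ⟨x ^ k, pow_mem (mem_inf.2 ⟨hx.1, hxA⟩) k, ?_⟩
    rw [ea, conj_zpowers, PG.conj_eq_commutator_mul,
      PG.commutator_pow_left (PG.commute_of_mem_cent (hZc hw) hx.1).symm, ← hk,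
      eq_zpowers_of_card_prime (h8.card_prime hp) ha' ha'1, e,
      ← (PG.commute_of_mem_cent (hZc hz) (hAP (h8.le ha'))).eq, inv_mul_cancel_left]

/-- 10.14(a) -/
theorem beta_not_narrow (hp : IsIdealPrime p G) :
    (∀ A : Subgroup G, PnElem p 2 ⊤ A → ¬ PmaxElem p ⊤ A) ∧
    ∀ P : Subgroup G, IsPiHallOf {p} P ⊤ → ∀ A, PnElem p 2 P A → ¬ PmaxElem p P A :=
  ⟨fun _ h1 h2 => not_ideal_of_pmaxElem hp.1 h1 h2 hp,
    fun P hP _ h1 h2 => (isIdealPrime_iff hp.1).1 hp P hP (PG.narrow_of_pmaxElem h1 h2)⟩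

/-- 10.14(b) -/
theorem beta_noncyclic_uniq (hp : IsIdealPrime p G) (hR : IsPGroup p R) (hr : ¬ PRankLE p 1 R) :
    InUniqueMaximal R :=
  let ⟨A, hA⟩ := PG.exists_pnElem_of_not_pRankLE hp.1 hr
  (nonmaxElem2_Uniqueness hp.1 hA.top ((beta_not_narrow hp).1 A hA.top)).mono hA.le
    (mFT_pgroup_proper hp.1 hR)

/-- 10.14(c) -/
theorem beta_subnorm_uniq (hp : IsIdealPrime p G) (hP : IsPiHallOf {p} P ⊤) (hX : X ≤ P) :
    InUniqueMaximal (P ⊓ N[X]) := by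
  have pP := syl_isPGroup hp.1 hP
  refine beta_noncyclic_uniq hp pP.to_inf_left fun hr => ?_
  have hc := mFT_rank1_cyclic hp.1 pP.to_inf_left hr
  have e : P ⊓ N[X] = P := by
    by_contra h
    exact (lt_inf_norm_of_isPGroup hp.1 pP (lt_of_le_of_ne inf_le_left h)).not_ge
      (inf_le_inf_left P (PG.norm_le_norm_of_isCyclic hc (le_inf hX le_normalizer)))
  rw [e] at hr
  exact (isIdealPrime_iff hp.1).1 hp P hP
    (PG.narrow_of_pRankLE_two (PG.pRankLE_mono hp.1.pos hr (by norm_num)))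

/-- 10.14(d) -/
theorem beta_norm_sub_mmax (hM : IsCoatom M) (hY : Y ≤ M) (hβ : IsPiSubgroup (beta M) Y)
    (hY1 : Y ≠ ⊥) : N[Y] ≤ M := by
  obtain ⟨q, hq, h1⟩ := exists_piCoreOf_single_ne_bot (sub_mmax_sol hM hY) hY1
  have hX := piCoreOf_isPGroup hq Y
  have hb : q ∈ beta M := hβ q hq
    ((prime_dvd_card_of_isPGroup hq hX h1).trans (card_dvd_of_le (piCoreOf_le _ _)))
  obtain ⟨P, hP, hXP⟩ := exists_syl_ge hq hX ((piCoreOf_le _ _).trans hY)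
  exact (norm_le_norm_piCoreOf {q} Y).trans
    (((beta_subnorm_uniq hb.2 (sigma_Sylow_G (beta_sub_sigma hM hb) hP) hXP).umax hM
      (inf_le_left.trans hP.le)).le_of_le inf_le_right (mFT_norm_pgroup_proper hq hX h1))

end Cfsg.Agent.BG
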