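import Cfsg.Agent.BG.S09
import Cfsg.Agent.PG.Misc
import Cfsg.Agent.GT.PmaxNorm

/-! Bender–Glauberman 10.1–10.5. -/

set_option autoImplicit false
set_option linter.unusedSectionVars false
set_option linter.unusedVariables false

namespace Cfsg.Agent.BG

open Subgroup Cfsg.Agent.GT
open scoped commutatorElement

universe u

variable {G : Type u} [Group G] [Finite G] [MFT G]
variable {A A₀ B D E E₁ E₂ E₃ H K L M Ms N P Q R S U V W W₁ W₂ X Y : Subgroup G} {p q r : ℕ}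
  {g x y : G} {π : Set ℕ}

omit [MFT G] in
theorem syl_pRankLE_iff {k : ℕ} (hp : p.Prime) (hP : IsPiHallOf {p} P M) :
    PRankLE p k P ↔ PRankLE p k M :=
  haveI := Fact.mk hp; PG.pRankLE_iff_of_isPiHallOf hP rfl

omit [MFT G] in
theorem alpha_dvd (h : p ∈ alpha M) : p ∣ Nat.card M := PG.dvd_card_of_not_pRankLE h.1 h.2

theorem prank3_pgroup_uniq (hp : p.Prime) (hP : IsPGroup p P) (hr : ¬ PRankLE p 2 P) :
    InUniqueMaximal P := prank3_Uniqueness hp (mFT_pgroup_proper hp hP) hr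

theorem alpha_syl_umax (hM : IsCoatom M) (hp : p ∈ alpha M) (hP : IsPiHallOf {p} P M) :
    UMax P M :=
  (prank3_pgroup_uniq hp.1 (syl_isPGroup hp.1 hP)
    fun h => hp.2 ((syl_pRankLE_iff hp.1 hP).1 h)).umax hM hP.le

theorem alpha_sub_sigma (hM : IsCoatom M) : alpha M ⊆ sigma M := fun p hp => by
  obtain ⟨P, hP⟩ := exists_syl hp.1 M
  exact mem_sigma_of_syl hp.1 (alpha_dvd hp) hP (alpha_syl_umax hM hp hP).norm_le

theorem beta_sub_sigma (hM : IsCoatom M) : beta M ⊆ sigma M :=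
  (beta_sub_alpha M).trans (alpha_sub_sigma hM)

theorem Malpha_sub_Msigma (hM : IsCoatom M) : Mα[M] ≤ Mσ[M] :=
  piCoreOf_mono fun _ _ h => alpha_sub_sigma hM h

theorem Mbeta_sub_Msigma (hM : IsCoatom M) : Mβ[M] ≤ Mσ[M] :=
  (betaCore_le_alphaCore M).trans (Malpha_sub_Msigma hM)

theorem not_alpha_of_not_sigma (hM : IsCoatom M) (h : p ∉ sigma M) : p ∉ alpha M :=
  fun h' => h (alpha_sub_sigma hM h')

theorem not_beta_of_not_sigma (hM : IsCoatom M) (h : p ∉ sigma M) : p ∉ beta M :=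
  fun h' => h (beta_sub_sigma hM h')

theorem pRankLE_of_not_sigma (hM : IsCoatom M) (hp : p.Prime) (h : p ∉ sigma M) :
    PRankLE p 2 M := pRankLE_of_not_alpha hp (not_alpha_of_not_sigma hM h)

theorem alpha'_rankLE_two (hK : K ≤ M) (hs : IsPiSubgroup (alpha M)ᶜ K) : RankLE 2 K :=
  PG.rankLE_of_forall_dvd fun p hp hd => pRankLE_of_le (pRankLE_of_not_alpha hp (hs p hp hd)) hK

theorem sigma'_alpha' (hM : IsCoatom M) (hs : IsPiSubgroup (sigma M)ᶜ K) :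
    IsPiSubgroup (alpha M)ᶜ K := hs.mono fun _ h => not_alpha_of_not_sigma hM h

theorem sigma'_beta' (hM : IsCoatom M) (hs : IsPiSubgroup (sigma M)ᶜ K) :
    IsPiSubgroup (beta M)ᶜ K := hs.mono fun _ h => not_beta_of_not_sigma hM h

theorem sigma'_rankLE_two (hM : IsCoatom M) (hK : K ≤ M) (hs : IsPiSubgroup (sigma M)ᶜ K) :
    RankLE 2 K := alpha'_rankLE_two hK (sigma'_alpha' hM hs)

theorem predI_sigma_beta (hM : IsCoatom M) : p ∈ beta M ↔ p ∈ sigma M ∧ IsIdealPrime p G := by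
  refine ⟨fun h => ⟨beta_sub_sigma hM h, h.2⟩, fun ⟨h1, h2⟩ => ⟨⟨h1.1, fun hr => ?_⟩, h2⟩⟩
  obtain ⟨P, hP⟩ := exists_syl h1.1 M
  exact PG.not_pRankLE_of_not_narrow ((isIdealPrime_iff h1.1).1 h2 P (sigma_Sylow_G h1 hP))
    (pRankLE_of_le hr hP.le)

/-- `β(M)` in math-comp's form -/
theorem mem_beta_iff_of_syl (hM : IsCoatom M) (hp : p.Prime) (hP : IsPiHallOf {p} P M) :
    p ∈ beta M ↔ ¬ Narrow p P := by
  refine ⟨fun h => (isIdealPrime_iff hp).1 h.2 P (sigma_Sylow_G (beta_sub_sigma hM h) hP),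
    fun h => ?_⟩
  have ha : p ∈ alpha M := ⟨hp, PG.not_pRankLE_of_le (PG.not_pRankLE_of_not_narrow h) hP.le⟩
  exact ⟨ha, (isIdealPrime_iff_of_syl hp (sigma_Sylow_G (alpha_sub_sigma hM ha) hP)).2 h⟩

theorem narrow_of_not_beta (hM : IsCoatom M) (hp : p.Prime) (h : p ∉ beta M)
    (hP : IsPiHallOf {p} P M) : Narrow p P :=
  not_not.1 fun h' => h ((mem_beta_iff_of_syl hM hp hP).2 h')

/-- 10.1(d) -/
theorem sigma_Sylow_trans (hp : p ∈ sigma M) (hX : IsPiHallOf {p} X M) (h : cj[g] X ≤ M) :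
    g ∈ M := by
  have h1 : IsPiHallOf {p} (cj[g] X) M := hX.of_card_eq h (card_conj g X)
  obtain ⟨m, hm, e⟩ := syl_exists_conj hp.1 hX h1
  have h2 : m⁻¹ * g ∈ N[X] := by
    rw [← conj_eq_self_iff, mul_conj, e, inv_conj_conj]
  simpa using M.mul_mem hm (norm_sigma_Sylow hp hX h2)

theorem mFT_rank2_plength1 (hp : p.Prime) (hH : H ≠ ⊤) (hr : PRankLE p 2 H) : PLengthLE p 1 H := by
  have := Fact.mk hp
  by_cases hd : p ∣ Nat.card H
  · exact (plength1_iff hp).2 ((piNat_single_compl_iff hp).2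
      (PG.not_dvd_relIndex_piCore2Of_of_rank_two (mFT_prime_ne_two hd) (mFT_sol hH) (mFT_odd H) hr))
  · exact plength1_p'group hp ((isPiSubgroup_single_compl_iff hp).2 hd)

private def CTr (X M₁ M₂ : Subgroup G) : Prop := ∃ c ∈ C[X], M₂ = cj[c] M₁

private theorem CTr.refl (X M : Subgroup G) : CTr X M M := ⟨1, one_mem _, (one_conj M).symm⟩

private theorem CTr.symm {M₁ M₂ : Subgroup G} (h : CTr X M₁ M₂) : CTr X M₂ M₁ := by
  obtain ⟨c, hc, rfl⟩ := h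
  exact ⟨c⁻¹, inv_mem hc, (inv_conj_conj c M₁).symm⟩

private theorem CTr.trans {M₁ M₂ M₃ : Subgroup G} (h : CTr X M₁ M₂) (h' : CTr X M₂ M₃) :
    CTr X M₁ M₃ := by
  obtain ⟨c, hc, rfl⟩ := h
  obtain ⟨d, hd, rfl⟩ := h'
  exact ⟨d * c, mul_mem hd hc, (mul_conj d c M₁).symm⟩

private theorem CTr.mono {M₁ M₂ : Subgroup G} (h : CTr Y M₁ M₂) (hX : X ≤ Y) : CTr X M₁ M₂ :=
  let ⟨c, hc, e⟩ := h; ⟨c, cent_anti hX hc, e⟩

private theorem CTr.conj {M₁ M₂ : Subgroup G} (h : CTr X M₁ M₂) (hg : g ∈ N[X]) :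
    CTr X (cj[g] M₁) (cj[g] M₂) := by
  obtain ⟨c, hc, rfl⟩ := h
  refine ⟨g * c * g⁻¹, conj_mem_of_mem_norm (norm_le_norm_cent X hg) hc, ?_⟩
  rw [← mul_conj, ← mul_conj]; simp

private theorem sigma_ctr (hM : IsCoatom M) (hp : p ∈ sigma M) (X : Subgroup G) :
    IsPGroup p X → ∀ M₁ M₂, Conjg M M₁ → Conjg M M₂ → X ≤ M₁ → X ≤ M₂ → CTr X M₁ M₂ := by
  have hpp := hp.1
  have := Fact.mk hpp
  have hσ : ∀ {L}, Conjg M L → IsCoatom L ∧ p ∈ sigma L := by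
    rintro _ ⟨g, rfl⟩
    exact ⟨isCoatom_conj g hM, by rwa [sigma_conj]⟩
  induction X using WellFoundedGT.induction with
  | ind X ih =>
  intro hX M₁ M₂ h₁ h₂ hX₁ hX₂
  by_cases hX1 : X = ⊥
  · obtain ⟨g, e⟩ := h₁.symm.trans h₂
    exact ⟨g, by simp [hX1], e⟩
  have hsyl : ∀ {L₁ L₂}, Conjg M L₁ → Conjg M L₂ → IsPiHallOf {p} X L₁ → X ≤ L₂ → L₂ = L₁ := by
    intro L₁ L₂ c₁ c₂ hs hle
    obtain ⟨g, rfl⟩ := c₁.symm.trans c₂
    have := sigma_Sylow_trans (hσ c₁).2 hs (le_conj_iff.1 hle)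
    exact conj_eq_self_of_mem (inv_mem_iff.1 this)
  have hbig : ∀ {L}, X ≤ L → ¬ IsPiHallOf {p} X L →
      ∃ Y, X < Y ∧ Y ≤ L ∧ Y ≤ N[X] ∧ IsPGroup p Y := by
    intro L hle hns
    obtain ⟨S, hS, hXS⟩ := exists_syl_ge hpp hX hle
    have hlt : X < S := lt_of_le_of_ne hXS fun e => hns (e ▸ hS)
    exact ⟨S ⊓ N[X], lt_inf_norm_of_isPGroup hpp (syl_isPGroup hpp hS) hlt,
      inf_le_left.trans hS.le, inf_le_right, (syl_isPGroup hpp hS).to_inf_left⟩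
  by_cases hs₁ : IsPiHallOf {p} X M₁
  · rw [hsyl h₁ h₂ hs₁ hX₂]; exact CTr.refl _ _
  by_cases hs₂ : IsPiHallOf {p} X M₂
  · rw [hsyl h₂ h₁ hs₂ hX₁]; exact CTr.refl _ _
  obtain ⟨X₁, lt₁, le₁, n₁, p₁⟩ := hbig hX₁ hs₁
  obtain ⟨X₂, lt₂, le₂, n₂, p₂⟩ := hbig hX₂ hs₂
  have hL : N[X] ≠ ⊤ := mFT_norm_pgroup_proper hpp hX hX1
  obtain ⟨P, hP, hX₁P⟩ := exists_syl_ge hpp p₁ n₁
  have pP := syl_isPGroup hpp hP
  obtain ⟨t, ht, hX₂P⟩ := syl_exists_conj_le hpp hP p₂ n₂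
  obtain ⟨S, hS⟩ := exists_syl hpp M
  obtain ⟨g, -, hPS⟩ := syl_exists_le_conj hpp (sigma_Sylow_G hp hS) pP le_top
  have hP0 : P ≤ cj[g] M := hPS.trans (conj_mono g hS.le)
  have c0 : Conjg M (cj[g] M) := conjg_conj g M
  set M₀ := cj[g] M with hM₀
  have ltP : X < P := lt₁.trans_le hX₁P
  have lt₂' : X < cj[t] X₂ := by
    have := conj_lt_conj_iff (g := t) |>.2 lt₂
    rwa [conj_eq_self ht] at this
  have r1 : CTr X M₁ M₀ := (ih X₁ lt₁ p₁ M₁ M₀ h₁ c0 le₁ (hX₁P.trans hP0)).mono lt₁.le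
  have r2 : CTr X (cj[t] M₂) M₀ :=
    (ih _ lt₂' (isPGroup_conj_iff.2 p₂) _ M₀ (h₂.trans (conjg_conj t M₂)) c0 (conj_mono t le₂)
      (hX₂P.trans hP0)).mono lt₂'.le
  have r3 : CTr X M₀ (cj[t] M₀) := by
    by_cases hr : PRankLE p 2 P
    · have hl : PLengthLE p 1 N[X] :=
        mFT_rank2_plength1 hpp hL ((syl_pRankLE_iff hpp hP).1 hr)
      have hF := plength1_Frattini hpp hP hl
      have hK : O[{p}ᶜ](N[X]) ≤ C[X] :=
        piCoreOf_compl_le_cent.trans (cent_anti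
          (le_piCoreOf_single hpp le_normalizer le_rfl hX))
      obtain ⟨c, hc, n, hn, rfl⟩ := (mem_sup_of_le_norm' (inf_le_left.trans
        (self_le_norm_piCoreOf _ _))).1 (hF.ge ht)
      have r4 : CTr X M₀ (cj[n] M₀) :=
        (ih P ltP pP M₀ _ c0 (c0.trans (conjg_conj n M₀)) hP0
          (by rw [← conj_eq_self hn.2]; exact conj_mono n hP0)).mono ltP.le
      exact r4.trans ⟨c, hK hc, mul_conj c n M₀⟩
    · have hU : UMax P M₀ := (prank3_pgroup_uniq hpp pP hr).umax (hσ c0).1 hP0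
      rw [conj_eq_self_of_mem (hU.le_of_le hP.le hL ht)]
      exact CTr.refl _ _
  have r4 := (r2.trans r3).conj (inv_mem ht)
  rw [inv_conj_conj, inv_conj_conj] at r4
  exact r1.trans r4.symm

/-- 10.1(a,b,c) -/
theorem sigma_group_trans (hM : IsCoatom M) (hp : p ∈ sigma M) (hX : IsPGroup p X) :
    (∀ g, X ≤ M → cj[g] X ≤ M → ∃ m ∈ M, ∃ c ∈ C[X], g = m * c) ∧
    (∀ g h, X ≤ cj[g] M → X ≤ cj[h] M → ∃ c ∈ C[X], cj[h] M = cj[c] (cj[g] M)) ∧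
    (X ≤ M → ∀ n ∈ N[X], ∃ m ∈ M ⊓ N[X], ∃ c ∈ C[X], n = m * c) := by
  have ha : ∀ g, X ≤ M → cj[g] X ≤ M → ∃ m ∈ M, ∃ c ∈ C[X], g = m * c := by
    intro g h1 h2
    obtain ⟨c, hc, e⟩ := sigma_ctr hM hp X hX M _ (Conjg.refl M) (conjg_conj g⁻¹ M) h1
      (conj_le_iff.1 h2)
    refine ⟨g * c, mem_of_conj_mmax_eq hM ?_, c⁻¹, inv_mem hc, by simp⟩
    rw [mul_conj, ← e, conj_inv_conj]
  refine ⟨ha, fun g h h1 h2 => sigma_ctr hM hp X hX _ _ (conjg_conj g M) (conjg_conj h M) h1 h2,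
    fun h1 n hn => ?_⟩
  obtain ⟨m, hm, c, hc, rfl⟩ := ha n h1 (by rwa [conj_eq_self hn])
  refine ⟨m, ⟨hm, ?_⟩, c, hc, rfl⟩
  simpa using mul_mem hn (inv_mem (cent_le_norm X hc))

/-- 10.1(e) -/
theorem sigma_group_trans_cent (hM : IsCoatom M) (hp : p ∈ sigma M) (hX : IsPGroup p X)
    (hXM : X ≤ M) (hC : C[X] ≤ M) (hg : X ≤ cj[g] M) : g ∈ M := by
  obtain ⟨m, hm, c, hc, e⟩ := (sigma_group_trans hM hp hX).1 g⁻¹ hXM (le_conj_iff.1 hg)
  exact inv_mem_iff.1 (e ▸ mul_mem hm (hC hc))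

theorem sigma_norm_sup (hM : IsCoatom M) (hp : p ∈ sigma M) (hX : IsPGroup p X) (hXM : X ≤ M) :
    (M ⊓ N[X]) ⊔ C[X] = N[X] := by
  refine le_antisymm (sup_le inf_le_right (cent_le_norm X)) fun n hn => ?_
  obtain ⟨m, hm, c, hc, rfl⟩ := (sigma_group_trans hM hp hX).2.2 hXM n hn
  exact mul_mem_sup hm hc

theorem sigma_norm_le_of_cent_le (hM : IsCoatom M) (hp : p ∈ sigma M) (hX : IsPGroup p X)
    (hXM : X ≤ M) (hC : C[X] ≤ M) : N[X] ≤ M :=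
  (sigma_norm_sup hM hp hX hXM).ge.trans (sup_le inf_le_left hC)

theorem sigma_syl_le_der1 (hM : IsCoatom M) (hp : p ∈ sigma M) (hP : IsPiHallOf {p} P M) :
    P ≤ ⁅M, M⁆ := by
  have h := focal_subgroup_le (X := ⁅M, M⁆) hp.1 (sigma_Sylow_G hp hP) fun x hx u _ hux => by
    have hxp : IsPGroup p (zpowers x) := (syl_isPGroup hp.1 hP).to_le (zpowers_le.2 hx)
    obtain ⟨m, hm, c, hc, rfl⟩ := (sigma_group_trans hM hp hxp).1 u (zpowers_le.2 (hP.le hx))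
      (by rw [conj_zpowers]; exact zpowers_le.2 (hP.le hux))
    rw [cent_zpowers, mem_cent1] at hc
    have : ⁅x, m * c⁆ = ⁅x, m⁆ := by
      have h2 : c * x⁻¹ * c⁻¹ = x⁻¹ := by
        rw [mul_inv_eq_iff_eq_mul, eq_inv_mul_iff_mul_eq, ← mul_assoc, ← hc, mul_inv_cancel_right]
      simp only [commutatorElement_def, mul_inv_rev]
      calc x * (m * c) * x⁻¹ * (c⁻¹ * m⁻¹) = x * m * (c * x⁻¹ * c⁻¹) * m⁻¹ := by group
        _ = _ := by rw [h2]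
    rw [this]
    exact commutator_mem_commutator (hP.le hx) hm
  rwa [mFT_commutator_top, inf_top_eq] at h

theorem sigma_pgroup_le_der1 (hM : IsCoatom M) (hp : p ∈ sigma M) (hX : IsPGroup p X)
    (hXM : X ≤ M) : X ≤ ⁅M, M⁆ :=
  let ⟨_, hP, h⟩ := exists_syl_ge hp.1 hX hXM; h.trans (sigma_syl_le_der1 hM hp hP)

theorem sigma_group_le_der1 (hM : IsCoatom M) (hX : IsPiSubgroup (sigma M) X) (hXM : X ≤ M) :
    X ≤ ⁅M, M⁆ :=
  le_of_forall_syl_le fun p hp hd =>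
    let ⟨P, hP⟩ := exists_syl hp X
    ⟨P, hP, sigma_pgroup_le_der1 hM (hX p hp hd) (syl_isPGroup hp hP) (hP.le.trans hXM)⟩

/-- 10.2(c) -/
theorem Msigma_der1 (hM : IsCoatom M) : Mσ[M] ≤ ⁅M, M⁆ :=
  sigma_group_le_der1 hM (sigmaCore_isPi M) (sigmaCore_le M)

theorem Malpha_der1 (hM : IsCoatom M) : Mα[M] ≤ ⁅M, M⁆ :=
  (Malpha_sub_Msigma hM).trans (Msigma_der1 hM)

private theorem alpha'F (hM : IsCoatom M) : IsPiSubgroup (alpha M)ᶜ F[quo M Mα[M]] :=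
  (piCoreOf_isPi _ _).of_le (fittingOf_le_piCoreOf (π := (alpha M)ᶜ) (by
    rw [compl_compl]; exact piCoreOf_im_eq_bot (le_norm_alphaCore M) (kr_coset _)))

private theorem alpha'_quo_rank (hp : p.Prime) (h : p ∉ alpha M) :
    PRankLE p 2 (quo M Mα[M]) := by
  have := Fact.mk hp
  refine (PG.pRankLE_im_of_kr (le_norm_alphaCore M) ?_).2 (pRankLE_of_not_alpha hp h)
  rw [kr_coset]
  exact ((alphaCore_isPi M).mono fun r hr (e : r = p) => h (e ▸ hr)).inf_right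

private theorem Malpha_quo_sub_Fitting (hM : IsCoatom M) :
    quo ⁅M, M⁆ Mα[M] ≤ F[quo M Mα[M]] := by
  rw [quo, im_commutator (le_norm_alphaCore M) (le_norm_alphaCore M)]
  exact PG.commutator_le_fittingOf_of_rank_two (solvable_im (mmax_sol hM)) (mFT_odd_im _ _)
    (PG.rankLE_of_forall_dvd fun p hp hd =>
      pRankLE_of_le (alpha'_quo_rank hp (alpha'F hM p hp hd)) (fittingOf_le _))

theorem Malpha_quo_nil (hM : IsCoatom M) : Group.IsNilpotent (quo ⁅M, M⁆ Mα[M]) :=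
  nilpotent_of_le_fittingOf (Malpha_quo_sub_Fitting hM)

/-- 10.2(a) -/
theorem Malpha_Hall (hM : IsCoatom M) : IsPiHallOf (alpha M) Mα[M] M := by
  refine isPiHallOf_of_forall_syl_le (alphaCore_le M) (alphaCore_isPi M) fun p hp ha _ => ?_
  obtain ⟨P, hP⟩ := exists_syl hp M
  refine ⟨P, hP, (quo_eq_bot_iff (hP.le.trans (le_norm_alphaCore M))).1 ?_⟩
  exact IsPiSubgroup.eq_bot (π := alpha M) (hP.isPi.single_mono ha).im ((alpha'F hM).of_le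
    ((im_mono (sigma_syl_le_der1 hM (alpha_sub_sigma hM ha) hP)).trans
      (Malpha_quo_sub_Fitting hM)))

/-- 10.2(b) -/
theorem Msigma_Hall (hM : IsCoatom M) : IsPiHallOf (sigma M) Mσ[M] M := by
  refine isPiHallOf_of_forall_syl_le (sigmaCore_le M) (sigmaCore_isPi M) fun p hp hs _ => ?_
  obtain ⟨P, hP⟩ := exists_syl hp M
  have hn := le_norm_alphaCore M
  refine ⟨P, hP, (im_le_im_iff_of_le (f := coset Mα[M]) (hP.le.trans hn)
    ((sigmaCore_le M).trans hn) (by rw [kr_coset]; exact Malpha_sub_Msigma hM)).1 ?_⟩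
  rw [sigmaCore_eq, im_piCoreOf_of_isPi hn (by rw [kr_coset]; exact alphaCore_le M)
    (by rw [kr_coset]; exact (alphaCore_isPi M).mono (alpha_sub_sigma hM))]
  exact le_piCoreOf_of_le_fittingOf ((im_mono (sigma_syl_le_der1 hM hs hP)).trans
    (Malpha_quo_sub_Fitting hM)) (hP.isPi.single_mono hs).im

theorem Msigma_Hall_G (hM : IsCoatom M) : IsPiHallOf (sigma M) Mσ[M] ⊤ :=
  isPiHallOf_of_forall_syl_le le_top (sigmaCore_isPi M) fun p hp hs _ =>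
    let ⟨P, hP⟩ := exists_syl hp Mσ[M]
    ⟨P, sigma_Sylow_G hs (hP.trans_single (Msigma_Hall hM) hs), hP.le⟩

theorem Malpha_Hall_G (hM : IsCoatom M) : IsPiHallOf (alpha M) Mα[M] ⊤ :=
  ((Malpha_Hall hM).of_le (Malpha_sub_Msigma hM) (sigmaCore_le M)).trans (Msigma_Hall_G hM)
    fun _ _ h => alpha_sub_sigma hM h

theorem pi_Msigma (hM : IsCoatom M) (hp : p.Prime) : p ∣ Nat.card Mσ[M] ↔ p ∈ sigma M :=
  ⟨sigmaCore_isPi M p hp, fun h => (Msigma_Hall hM).prime_dvd hp h h.2.1⟩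

theorem pi_Malpha (hM : IsCoatom M) (hp : p.Prime) : p ∣ Nat.card Mα[M] ↔ p ∈ alpha M :=
  ⟨alphaCore_isPi M p hp, fun h => (Malpha_Hall hM).prime_dvd hp h (alpha_dvd h)⟩

theorem le_Msigma (hM : IsCoatom M) (hX : X ≤ M) (hs : IsPiSubgroup (sigma M) X) : X ≤ Mσ[M] :=
  (Msigma_Hall hM).le_of_normal (le_norm_sigmaCore M) hX hs

theorem le_Malpha (hM : IsCoatom M) (hX : X ≤ M) (hs : IsPiSubgroup (alpha M) X) : X ≤ Mα[M] :=
  (Malpha_Hall hM).le_of_normal (le_norm_alphaCore M) hX hs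

theorem pgroup_le_Msigma (hM : IsCoatom M) (hp : p ∈ sigma M) (hX : IsPGroup p X) (hXM : X ≤ M) :
    X ≤ Mσ[M] := le_Msigma hM hXM (isPi_of_isPGroup_mem hp.1 hX hp)

theorem pgroup_le_Malpha (hM : IsCoatom M) (hp : p ∈ alpha M) (hX : IsPGroup p X) (hXM : X ≤ M) :
    X ≤ Mα[M] := le_Malpha hM hXM (isPi_of_isPGroup_mem hp.1 hX hp)

theorem Msigma_syl (hM : IsCoatom M) (hp : p ∈ sigma M) (hP : IsPiHallOf {p} P Mσ[M]) :
    IsPiHallOf {p} P M := hP.trans_single (Msigma_Hall hM) hp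

theorem Msigma_syl_G (hM : IsCoatom M) (hp : p ∈ sigma M) (hP : IsPiHallOf {p} P Mσ[M]) :
    IsPiHallOf {p} P ⊤ := hP.trans_single (Msigma_Hall_G hM) hp

theorem syl_Msigma (hM : IsCoatom M) (hp : p ∈ sigma M) (hP : IsPiHallOf {p} P M) :
    IsPiHallOf {p} P Mσ[M] :=
  hP.of_le (pgroup_le_Msigma hM hp (syl_isPGroup hp.1 hP) hP.le) (sigmaCore_le M)

theorem Malpha_pRank (hM : IsCoatom M) (hp : p ∈ alpha M) : ¬ PRankLE p 2 Mα[M] :=
  haveI := Fact.mk hp.1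
  fun h => hp.2 ((PG.pRankLE_iff_of_isPiHallOf (Malpha_Hall hM) hp).1 h)

theorem Malpha_eq_bot_iff (hM : IsCoatom M) : Mα[M] = ⊥ ↔ RankLE 2 M := by
  refine ⟨fun h p hp => pRankLE_of_not_alpha hp fun ha => ?_, fun h => ?_⟩
  · exact (Malpha_Hall hM).ne_bot hp ha (alpha_dvd ha) h
  · by_contra h1
    obtain ⟨p, hp, hd⟩ := exists_prime_dvd_card h1
    exact (alphaCore_isPi M p hp hd).2 (h p hp)

theorem Malpha_rank3 (hM : IsCoatom M) (h : Mα[M] ≠ ⊥) : ¬ RankLE 2 Mα[M] :=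
  let ⟨p, hp, hd⟩ := exists_prime_dvd_card h
  PG.not_rankLE_of_not_pRankLE hp (Malpha_pRank hM (alphaCore_isPi M p hp hd))

theorem Malpha_umax (hM : IsCoatom M) (h : Mα[M] ≠ ⊥) : UMax Mα[M] M :=
  (rank3_Uniqueness (sub_mmax_proper hM (alphaCore_le M)) (Malpha_rank3 hM h)).umax hM
    (alphaCore_le M)

/-- 10.2(d) -/
theorem Malpha_quo_rank2 (hM : IsCoatom M) : RankLE 2 (quo M Mα[M]) :=
  PG.rankLE_of_forall_dvd fun p hp hd => alpha'_quo_rank hp <| by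
    rw [card_quo (le_norm_alphaCore M)] at hd
    exact (Malpha_Hall hM).idx p hp hd

theorem der1_nil_of_Malpha_eq_bot (hM : IsCoatom M) (h : Mα[M] = ⊥) : Group.IsNilpotent ↥⁅M, M⁆ :=
  PG.nilpotent_commutator_of_rank_two (mmax_sol hM) (mFT_odd M)
    (rankLE_of_le ((Malpha_eq_bot_iff hM).1 h) (fittingOf_le M))

theorem mem_sigma_of_normal_syl (hM : IsCoatom M) (hp : p.Prime) (hd : p ∣ Nat.card M)
    (hP : IsPiHallOf {p} P M) (hn : M ≤ N[P]) : p ∈ sigma M :=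
  mem_sigma_of_syl hp hd hP (mmax_normal hM hP.le hn ((syl_ne_bot_iff hp hP).2 hd)).le

/-- 10.2(e) -/
theorem Msigma_neq1 (hM : IsCoatom M) : Mσ[M] ≠ ⊥ := by
  intro h
  have ha : Mα[M] = ⊥ := le_bot_iff.1 (h ▸ Malpha_sub_Msigma hM)
  obtain ⟨q, hq, hd, hmax⟩ := PG.exists_max_prime_dvd_card (mmax_neq1 hM)
  have hQ := PG.syl_piCoreOf_max_of_rank_two (mmax_sol hM) (mFT_odd M)
    (rankLE_of_le ((Malpha_eq_bot_iff hM).1 ha) (fittingOf_le M)) hmax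
  exact (Msigma_Hall hM).ne_bot hq
    (mem_sigma_of_normal_syl hM hq hd hQ (self_le_norm_piCoreOf _ M)) hd h

theorem exists_mem_sigma (hM : IsCoatom M) : ∃ p, p ∈ sigma M :=
  let ⟨p, hp, hd⟩ := exists_prime_dvd_card (Msigma_neq1 hM); ⟨p, sigmaCore_isPi M p hp hd⟩

theorem norm_Msigma (hM : IsCoatom M) : N[Mσ[M]] = M :=
  mmax_normal hM (sigmaCore_le M) (le_norm_sigmaCore M) (Msigma_neq1 hM)

theorem cent_Msigma_le (hM : IsCoatom M) : C[Mσ[M]] ≤ M :=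
  (cent_le_norm _).trans (norm_Msigma hM).le

theorem sdprod_sigma (hM : IsCoatom M) (hE : IsPiHallOf (sigma M)ᶜ E M) : Sdprod Mσ[M] E M :=
  (Msigma_Hall hM).sdprod (le_norm_sigmaCore M) hE

theorem sdprod_alpha (hM : IsCoatom M) (hE : IsPiHallOf (alpha M)ᶜ E M) : Sdprod Mα[M] E M :=
  (Malpha_Hall hM).sdprod (le_norm_alphaCore M) hE

/-- 10.3 -/
theorem cent_alpha'_uniq (hM : IsCoatom M) (hX : X ≤ M) (hα : IsPiSubgroup (alpha M)ᶜ X)
    (hr : ¬ RankLE 1 ↥(Mα[M] ⊓ C[X])) : InUniqueMaximal (M ⊓ C[X]) := by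
  obtain ⟨p, B, hp, hB⟩ := PG.exists_pnElem_of_not_rankLE hr
  have hBa : B ≤ Mα[M] := hB.le.trans inf_le_left
  have hBX : B ≤ C[X] := hB.le.trans inf_le_right
  have ha : p ∈ alpha M := alphaCore_isPi M p hp (hB.of_le hBa).dvd_card
  have hne : M ⊓ C[X] ≠ ⊤ := sub_mmax_proper hM inf_le_left
  by_cases hmax : PmaxElem p ⊤ B
  · obtain ⟨P, hP, hXP, hBP⟩ := coprime_exists_syl_ge hp (Or.inr (sub_mmax_sol hM hX))
      (hX.trans (le_norm_alphaCore M)) ((alphaCore_isPi M).coprime hα) hBa hB.isPGroup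
      (le_norm_of_cent (le_cent_symm hBX))
    have pP := syl_isPGroup hp hP
    have hc : X ≤ C[P] := coprime_odd_faithful_cent_abelem hp (mFT_prime_ne_two (alpha_dvd ha))
      pP hB.elem hBP hXP (hα.single_compl_mono ha)
      fun x hx hxp => hBX (PG.pmaxElem_mem hmax (mem_top x) hx.2 hxp)
    exact (alpha_syl_umax hM ha (hP.trans_single (Malpha_Hall hM) ha)).uniq.mono
      (le_inf (hP.le.trans (alphaCore_le M)) (le_cent_symm hc)) hne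
  · exact (nonmaxElem2_Uniqueness hp hB.top hmax).mono
      (le_inf (hBa.trans (alphaCore_le M)) hBX) hne

/-- 10.4(a) -/
theorem der1_quo_sigma' (hM : IsCoatom M) (hp : p ∣ ⁅M, M⁆.relIndex M) : p ∉ sigma M := fun hs =>
  let ⟨_, hP⟩ := exists_syl hs.1 M
  (syl_le_der1_iff hs.1 hP).1 (sigma_syl_le_der1 hM hs hP) hp

theorem mFT_rank1_Zgroup (h : RankLE 1 H) : IsZGroup H := PG.isZGroup_of_rankLE_one (mFT_odd H) h

/-- 10.4(b) -/
theorem cent1_sigma'_Zgroup (hM : IsCoatom M) (hp : p.Prime) (hs : p ∉ sigma M)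
    (hP : IsPiHallOf {p} P M) (hP1 : P ≠ ⊥) :
    ∃ x ∈ P ⊓ C[P], orderOf x = p ∧ ¬ UMax C1[x] M ∧ IsZGroup ↥(Mα[M] ⊓ C1[x]) := by
  have := Fact.mk hp
  have pP := syl_isPGroup hp hP
  obtain ⟨x, hx, ho, hU⟩ : ∃ x ∈ P ⊓ C[P], orderOf x = p ∧ ¬ UMax C1[x] M := by
    by_contra hc
    push Not at hc
    obtain ⟨y, hy, hy', hy1, hyp⟩ := PG.exists_mem_cent_orderOf_p pP pP le_normalizer hP1
    have hyo := PG.orderOf_eq_prime' hp hyp hy1
    refine not_norm_le_of_not_sigma hp ((syl_ne_bot_iff hp hP).1 hP1) hs hP fun u hu => ?_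
    have h1 := hc (u * y * u⁻¹) (conj_mem_of_mem_norm
      (le_norm_inf le_rfl (norm_le_norm_cent P) hu) ⟨hy, hy'⟩) (by rw [orderOf_conj, hyo])
    have h2 := (hc y ⟨hy, hy'⟩ hyo).conj u
    rw [conj_cent1] at h2
    exact mem_of_conj_mmax_eq hM (h1.eq h2.1 h2.le)
  refine ⟨x, hx, ho, hU, mFT_rank1_Zgroup (not_not.1 fun hr => hU ?_)⟩
  have hx1 : x ≠ 1 := fun e => hp.one_lt.ne' (by rw [← ho, e, orderOf_one])
  rw [← cent_zpowers] at hr
  have h := cent_alpha'_uniq hM (zpowers_le.2 (hP.le hx.1))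
    (isPi_of_isPGroup_mem hp (pP.to_le (zpowers_le.2 hx.1)) (not_alpha_of_not_sigma hM hs)) hr
  rw [cent_zpowers] at h
  exact (h.umax hM inf_le_left).mono inf_le_right (mFT_cent1_proper hx1)

theorem sigma'_pgroup_not_uniq (hM : IsCoatom M) (hp : p.Prime) (hs : p ∉ sigma M)
    (hX : IsPGroup p X) (hXM : X ≤ M) : ¬ InUniqueMaximal X := fun h => by
  obtain ⟨P, hP, hXP⟩ := exists_syl_ge hp hX hXM
  exact not_norm_le_of_not_sigma hp ((syl_ne_bot_iff hp hP).1 (ne_bot_of_le h.ne_bot hXP)) hs hP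
    ((h.umax hM hXM).mono' hXP hP.le).norm_le

/-- 10.4(c) -/
theorem sigma'_rank2_max (hM : IsCoatom M) (hp : p.Prime) (hs : p ∉ sigma M)
    (hA : PnElem p 2 M A) : PmaxElem p ⊤ A :=
  not_not.1 fun h => sigma'_pgroup_not_uniq hM hp hs hA.isPGroup hA.le
    (nonmaxElem2_Uniqueness hp hA.top h)

omit [MFT G] in
theorem not_ideal_of_pmaxElem (hp : p.Prime) (hA : PnElem p 2 ⊤ A) (hA' : PmaxElem p ⊤ A) :
    ¬ IsIdealPrime p G := fun h =>
  let ⟨P, hP, hAP⟩ := exists_syl_ge hp hA.isPGroup le_top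
  (isIdealPrime_iff hp).1 h P hP (PG.narrow_of_pmaxElem (hA.of_le hAP) (hA'.of_le hAP le_top))

theorem sigma'_rank2_beta' (hM : IsCoatom M) (hp : p.Prime) (hs : p ∉ sigma M)
    (hr : ¬ PRankLE p 1 M) : ¬ IsIdealPrime p G :=
  let ⟨_, hA⟩ := PG.exists_pnElem_of_not_pRankLE hp hr
  not_ideal_of_pmaxElem hp hA.top (sigma'_rank2_max hM hp hs hA)

omit [Finite G] [MFT G] in
theorem ne_bot_of_norm_le_mmax (hM : IsCoatom M) (hn : N[X] ≤ M) : X ≠ ⊥ := by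
  rintro rfl
  exact hM.1 (eq_top_iff.2 (norm_bot (G := G) ▸ hn))

/-- 10.5 -/
theorem sigma'_norm_mmax_rank2 (hM : IsCoatom M) (hp : p.Prime) (hs : p ∉ sigma M)
    (hX : IsPGroup p X) (hn : N[X] ≤ M) : p ∈ tau2 M := by
  refine ⟨hp, hs, pRankLE_of_not_sigma hM hp hs, fun hr => ?_⟩
  obtain ⟨P, hP, hXP⟩ := exists_syl_ge hp hX (le_normalizer.trans hn)
  exact not_norm_le_of_not_sigma hp ((syl_ne_bot_iff hp hP).1
    (ne_bot_of_le (ne_bot_of_norm_le_mmax hM hn) hXP)) hs hP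
    ((PG.norm_le_norm_of_isCyclic (mFT_rank1_cyclic hp (syl_isPGroup hp hP)
      (pRankLE_of_le hr hP.le)) hXP).trans hn)

theorem sigma'1Elem_sub_p2Elem (hM : IsCoatom M) (hp : p.Prime) (hs : p ∉ sigma M)
    (hX : PnElem p 1 ⊤ X) (hn : N[X] ≤ M) : ∃ A, PnElem p 2 M A ∧ X ≤ A := by
  have := Fact.mk hp
  obtain ⟨P, hP, hXP⟩ := exists_syl_ge hp hX.isPGroup (le_normalizer.trans hn)
  have pP := syl_isPGroup hp hP
  have hP1 : P ≠ ⊥ := ne_bot_of_le (hX.ne_bot hp) hXP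
  have hne : ¬ omegaOne p (P ⊓ C[P]) ≤ X := fun h => by
    have e : omegaOne p (P ⊓ C[P]) = X := ((eq_bot_or_eq_of_card_prime (hX.card_prime hp) h).resolve_left
      (PG.omegaOne_ne_bot pP.to_inf_left (PG.center_ne_bot pP hP1)))
    refine not_norm_le_of_not_sigma hp ((syl_ne_bot_iff hp hP).1 hP1) hs hP (le_trans ?_ hn)
    rw [← e]
    exact PG.le_norm_omegaOne (le_norm_inf le_rfl (norm_le_norm_cent P))
  rw [PG.omegaOne_le_iff] at hne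
  push Not at hne
  obtain ⟨z, hz, hzp, hzX⟩ := hne
  have hZ : PnElem p 1 M (zpowers z) :=
    PG.pnElem_one_zpowers hp (hP.le hz.1) (fun e => hzX (e ▸ one_mem X)) hzp
  exact ⟨X ⊔ zpowers z, PG.pnElem_two_sup hp (hX.of_le (hXP.trans hP.le)) hZ
    (fun e => hzX (e ▸ mem_zpowers z)) (le_cent_symm (zpowers_le.2 (cent_anti hXP hz.2))),
    le_sup_left⟩

end Cfsg.Agent.BG
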