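import Cfsg.Agent.BG.S10a
import Cfsg.Agent.BG.S03

/-! Bender–Glauberman 10.6–10.9. -/

set_option autoImplicit false
set_option linter.unusedSectionVars false
set_option linter.unusedVariables false

namespace Cfsg.Agent.BG

open Subgroup Cfsg.Agent.GT
open scoped commutatorElement

universe u

variable {G : Type u} [Group G] [Finite G] [MFT G]
variable {A A₀ B D E E₁ E₂ E₃ H K L M Ms N P Q R S U V W W₁ W₂ X Y : Subgroup G} {p q r : ℕ}
  {g x y : G} {π : Set ℕ}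

theorem mmax_der1_lt (hM : IsCoatom M) : ⁅M, M⁆ < M :=
  commutator_lt_of_solvable (mmax_sol hM) (mmax_neq1 hM)

theorem exists_prime_dvd_der1_index (hM : IsCoatom M) :
    ∃ q : ℕ, q.Prime ∧ q ∣ ⁅M, M⁆.relIndex M :=
  Nat.exists_prime_and_dvd fun h => (mmax_der1_lt hM).not_ge (relIndex_eq_one.1 h)

theorem Malpha_commutator_compl (hM : IsCoatom M) (hK : IsPiHallOf (alpha M)ᶜ K M) :
    ⁅Mα[M], K⁆ = Mα[M] :=
  (coprime_der1_sdprod (sdprod_alpha hM hK) ((alphaCore_isPi M).coprime hK.isPi)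
    (sub_mmax_sol hM (alphaCore_le M)) (Malpha_der1 hM)).1

theorem Msigma_commutator_compl (hM : IsCoatom M) (hE : IsPiHallOf (sigma M)ᶜ E M) :
    ⁅Mσ[M], E⁆ = Mσ[M] :=
  (coprime_der1_sdprod (sdprod_sigma hM hE) ((sigmaCore_isPi M).coprime hE.isPi)
    (sub_mmax_sol hM (sigmaCore_le M)) (Msigma_der1 hM)).1

private theorem mmax_plength1 (hp : p.Prime) (hM : IsCoatom M) : PLengthLE p 1 M := by
  by_cases ha : p ∈ alpha M
  swap
  · exact mFT_rank2_plength1 hp hM.1 (pRankLE_of_not_alpha hp ha)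
  obtain ⟨K, hK⟩ := exists_hall (alpha M)ᶜ (mmax_sol hM)
  rw [← plength1_normal_p'index hp (alphaCore_le M) (le_norm_alphaCore M)
    ((Malpha_Hall hM).idx.single_compl_mono ha), ← Malpha_commutator_compl hM hK]
  obtain ⟨q, hq, hd⟩ := exists_prime_dvd_der1_index hM
  have hs := der1_quo_sigma' hM hd
  obtain ⟨Q, hQ⟩ := exists_syl hq K
  have hQM := hQ.trans_single hK (not_alpha_of_not_sigma hM hs)
  obtain ⟨x, hx, ho, -, hZ⟩ := cent1_sigma'_Zgroup hM hq hs hQM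
    ((syl_ne_bot_iff hq hQM).2 (hd.trans (relIndex_dvd_card' _ _)))
  rw [← cent_zpowers] at hZ
  exact odd_sdprod_Zgroup_cent_prime_plength1 hp (mmax_sol hM) (mFT_odd M) (sdprod_alpha hM hK)
    ((alphaCore_isPi M).coprime hK.isPi) (zpowers_le.2 (hQ.le hx.1))
    (by rwa [Nat.card_zpowers, ho]) hZ

/-- 10.6 -/
theorem mFT_proper_plength1 (hp : p.Prime) (hH : H ≠ ⊤) : PLengthLE p 1 H :=
  let ⟨_, hM, h⟩ := mmax_exists hH; plength1S hp (mmax_plength1 hp hM) h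

theorem exists_mmax_norm_syl (hp : p.Prime) (hP : IsPiHallOf {p} P ⊤) (h1 : P ≠ ⊥) :
    ∃ M : Subgroup G, IsCoatom M ∧ N[P] ≤ M ∧ IsPiHallOf {p} P M ∧ p ∈ sigma M := by
  obtain ⟨M, hM, h⟩ := mmax_exists (mFT_norm_pgroup_proper hp (syl_isPGroup hp hP) h1)
  have hPM := hP.of_le (le_normalizer.trans h) le_top
  exact ⟨M, hM, h, hPM, mem_sigma_of_syl hp ((syl_ne_bot_iff hp hPM).1 h1) hPM h⟩

/-- 10.7(a) -/
theorem mFT_Sylow_der1 (hp : p.Prime) (hP : IsPiHallOf {p} P ⊤) : P ≤ ⁅N[P], N[P]⁆ := by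
  by_cases h1 : P = ⊥
  · rw [h1]; exact bot_le
  obtain ⟨M, hM, hn, hPM, hs⟩ := exists_mmax_norm_syl hp hP h1
  have := plength1_Sylow_sub_der1 hp hPM (mFT_proper_plength1 hp hM.1) (sigma_syl_le_der1 hM hs hPM)
  rwa [inf_eq_right.2 hn] at this

theorem mFT_Sylow_sdprod_commg (hp : p.Prime) (hP : IsPiHallOf {p} P ⊤)
    (hV : IsComplIn P V N[P]) : ⁅P, V⁆ = P := by
  have h := hP.of_le le_normalizer (le_top (a := N[P]))
  exact (coprime_der1_sdprod ⟨hV, le_rfl⟩ (h.isPi.coprime (h.compl hV).isPi)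
    (solvable_of_isPGroup hp (syl_isPGroup hp hP)) (mFT_Sylow_der1 hp hP)).1

/-- 10.7(b) -/
theorem mFT_rank2_Sylow_cprod (hp : p.Prime) (hP : IsPiHallOf {p} P ⊤) (hr : PRankLE p 2 P)
    (hc : ¬ IsMulCommutative P) :
    ∃ S C : Subgroup G, S ⊔ C = P ∧ S ≤ C[C] ∧ ¬ IsMulCommutative S ∧ Nat.card S = p ^ 3 ∧
      (∀ x ∈ S, x ^ p = 1) ∧ IsCyclic C ∧ omegaOne p C = S ⊓ C[S] := by
  have := Fact.mk hp
  have pP := syl_isPGroup hp hP
  have h1 : P ≠ ⊥ := by rintro rfl; exact hc inferInstance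
  have h := hP.of_le le_normalizer (le_top (a := N[P]))
  obtain ⟨V, hV⟩ := h.exists_isComplIn le_rfl
  obtain ⟨-, h2 | ⟨h3, h4, h5, h6, h7, h8⟩⟩ := PG.rank_two_coprime_commutator
    (mFT_pgroup_ne_two hp pP h1) pP h1 hr hV.right_le
    ((isPiSubgroup_single_compl_iff_coprime hp).1 (h.compl hV).isPi) (mFT_odd V)
    (mFT_Sylow_sdprod_commg hp hP hV)
  · exact absurd h2 hc
  exact ⟨_, _, h8, le_cent_symm inf_le_right, h3, h4, h5, h6,
    h7.trans (PG.commutator_eq_center_of_card_cube h4 h3)⟩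

/-- 10.7(c) -/
theorem mFT_sub_Sylow_trans (hp : p.Prime) (hP : IsPiHallOf {p} P ⊤) (hQ : Q ≤ P)
    (hx : cj[x] Q ≤ P) : ∃ y ∈ N[P], cj[x] Q = cj[y] Q := by
  by_cases h1 : P = ⊥
  · subst h1
    exact ⟨x, norm_bot (G := G) ▸ mem_top x, rfl⟩
  obtain ⟨M, hM, hn, hPM, hs⟩ := exists_mmax_norm_syl hp hP h1
  obtain ⟨m, hm, c, hc, rfl⟩ := (sigma_group_trans hM hs ((syl_isPGroup hp hP).to_le hQ)).1 x
    (hQ.trans hPM.le) (hx.trans hPM.le)
  rw [mul_conj, conj_eq_self_of_mem_cent hc] at hx ⊢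
  obtain ⟨u, hu, d, hd, rfl⟩ := plength1_Sylow_trans' hp hPM (mFT_proper_plength1 hp hM.1) hQ hm hx
  exact ⟨u, hu.2, by rw [mul_conj, conj_eq_self_of_mem_cent hd.2]⟩

/-- 10.7(d) -/
theorem mFT_subnorm_Sylow (hp : p.Prime) (hP : IsPiHallOf {p} P ⊤) (hQ : Q ≤ P) :
    IsPiHallOf {p} (P ⊓ N[Q]) N[Q] := by
  have pP := syl_isPGroup hp hP
  obtain ⟨S, hS, hQS⟩ := exists_syl_ge hp (pP.to_le hQ) (le_normalizer (H := Q))
  obtain ⟨x, -, hx⟩ := syl_exists_conj_le hp hP (syl_isPGroup hp hS) le_top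
  obtain ⟨y, hy, e⟩ := mFT_sub_Sylow_trans hp hP hQ ((conj_mono x hQS).trans hx)
  have hn : y⁻¹ * x ∈ N[Q] := by rw [← conj_eq_self_iff, mul_conj, e, inv_conj_conj]
  have hS' := hS.conj_of_mem hn
  have hle : cj[y⁻¹ * x] S ≤ P ⊓ N[Q] := by
    refine le_inf ?_ hS'.le
    rw [mul_conj, ← conj_eq_self (inv_mem hy)]
    exact conj_mono _ hx
  rwa [syl_eq_of_le hp hS' pP.to_inf_left inf_le_right hle]

/-- 10.7(e) -/
theorem mFT_Sylow_normalS (hp : p.Prime) (hP : IsPiHallOf {p} P ⊤) (hR : IsPGroup p R)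
    (hQ : Q ≤ P ⊓ R) (hn : N[P] ≤ N[Q]) : N[R] ≤ N[Q] := fun y hy => by
  obtain ⟨x, -, hx⟩ := syl_exists_conj_le hp hP hR le_top
  have hQP := hQ.trans inf_le_left
  have hQR := hQ.trans inf_le_right
  obtain ⟨t, ht, e1⟩ := mFT_sub_Sylow_trans hp hP hQP ((conj_mono x hQR).trans hx)
  obtain ⟨z, hz, e2⟩ := mFT_sub_Sylow_trans (x := x * y) hp hP hQP (by
    rw [mul_conj]
    refine (conj_mono x ?_).trans hx
    rw [← conj_eq_self hy]; exact conj_mono y hQR)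
  rw [conj_eq_self (hn ht)] at e1
  rw [conj_eq_self (hn hz), mul_conj] at e2
  rw [← conj_eq_self_iff]
  exact conj_inj.1 (e2.trans e1.symm)

/-- 10.8(c) -/
theorem beta_max_pdiv (hM : IsCoatom M) (hp : p.Prime) (hβ : p ∉ beta M) :
    IsPiHallOf {p}ᶜ O[{p}ᶜ](⁅M, M⁆) ⁅M, M⁆ ∧ IsPiHallOf {p}ᶜ O[{p}ᶜ](Mσ[M]) Mσ[M] ∧
    ∀ q : ℕ, q.Prime → q ∣ O[{p}ᶜ](M).relIndex M → q ≤ p := by
  have := Fact.mk hp
  suffices h : IsPiHallOf {p}ᶜ O[{p}ᶜ](⁅M, M⁆) ⁅M, M⁆ ∧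
      ∀ q : ℕ, q.Prime → q ∣ O[{p}ᶜ](M).relIndex M → q ≤ p from
    ⟨h.1, isPiHallOf_piCoreOf_of_le_of_hall h.1 (Msigma_der1 hM), h.2⟩
  by_cases hd : p ∣ Nat.card M
  · obtain ⟨P, hP⟩ := exists_syl hp M
    have hn := narrow_of_not_beta hM hp hβ hP
    have h2 := mFT_prime_ne_two hd
    have hl := mFT_proper_plength1 hp hM.1
    exact ⟨PG.hall_piCoreOf_commutator_of_narrow h2 (mmax_sol hM) (mFT_odd M) hP hn fun _ => hl,
      fun q hq => PG.le_of_dvd_relIndex_piCoreOf_of_narrow h2 (mmax_sol hM) hP hn (fun _ => hl) hq⟩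
  · have h := (isPiSubgroup_single_compl_iff hp).2 hd
    refine ⟨?_, fun q hq hd => ?_⟩
    · rw [piCoreOf_eq_self (h.of_le (der1_le M))]
      exact isPiHallOf_self (h.of_le (der1_le M))
    · rw [piCoreOf_eq_self h, relIndex_self] at hd
      exact absurd (Nat.dvd_one.1 hd) hq.one_lt.ne'

/-- 10.8(a) -/
theorem Mbeta_Hall (hM : IsCoatom M) : IsPiHallOf (beta M) Mβ[M] M := by
  have h := PG.hall_piCoreOf_of_forall_compl
    (exists_hall (beta M) (sub_mmax_sol hM (sigmaCore_le M)))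
    fun p hp hβ _ => (beta_max_pdiv hM hp hβ).2.1
  exact isPiHallOf_piCoreOf_of_le (h.trans (Msigma_Hall hM) fun _ _ h => beta_sub_sigma hM h)
    (piCoreOf_le_of_normal (sigmaCore_le M) (le_norm_sigmaCore M))

theorem Mbeta_Hall_G (hM : IsCoatom M) : IsPiHallOf (beta M) Mβ[M] ⊤ :=
  ((Mbeta_Hall hM).of_le (Mbeta_sub_Msigma hM) (sigmaCore_le M)).trans (Msigma_Hall_G hM)
    fun _ _ h => beta_sub_sigma hM h

theorem Mbeta_der1 (hM : IsCoatom M) : Mβ[M] ≤ ⁅M, M⁆ :=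
  (Mbeta_sub_Msigma hM).trans (Msigma_der1 hM)

theorem le_Mbeta (hM : IsCoatom M) (hX : X ≤ M) (hs : IsPiSubgroup (beta M) X) : X ≤ Mβ[M] :=
  (Mbeta_Hall hM).le_of_normal (le_norm_betaCore M) hX hs

theorem Mbeta_quo_nil (hM : IsCoatom M) : Group.IsNilpotent (quo ⁅M, M⁆ Mβ[M]) := by
  have hn : ⁅M, M⁆ ≤ N[Mβ[M]] := (der1_le M).trans (le_norm_betaCore M)
  refine PG.nilpotent_of_forall_normal_compl fun p hp hd => ?_
  have hβ : p ∉ beta M := by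
    rw [card_quo hn] at hd
    exact ((Mbeta_Hall hM).of_le (Mbeta_der1 hM) (der1_le M)).idx p hp hd
  exact isPiHallOf_piCoreOf_of_le ((beta_max_pdiv hM hp hβ).1.im hn) (im_piCoreOf_le hn)

/-- 10.8(b) -/
theorem beta'_der1_nil (hM : IsCoatom M) (hβ : IsPiSubgroup (beta M)ᶜ H) (hH : H ≤ ⁅M, M⁆) :
    Group.IsNilpotent H :=
  let ⟨e⟩ := nonempty_equiv_quo_of_inf_eq_bot (hH.trans ((der1_le M).trans (le_norm_betaCore M)))
    (hβ.inf_eq_bot' (betaCore_isPi M))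
  isNilpotent_of_equiv e.symm (nil_of_le (Mbeta_quo_nil hM) (im_mono hH))

/-- `M_β X ⊲ M` for a Hall subgroup `X` of `M'`, and the Frattini argument -/
theorem Mbeta_sup_norm_der1_hall (hM : IsCoatom M) (hX : IsPiHallOf π X ⁅M, M⁆) :
    M ≤ N[Mβ[M] ⊔ X] ∧ Mβ[M] ⊔ (M ⊓ N[X]) = M := by
  have hn := le_norm_betaCore M
  have hXM := hX.le.trans (der1_le M)
  have h1 : M ≤ N[Mβ[M] ⊔ X] := by
    have h := (im_norm (f := coset Mβ[M]) (self_le_norm_der1 M)).trans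
      (nil_norm_le_norm_hall (Mbeta_quo_nil hM) (hX.im ((der1_le M).trans hn)))
    rwa [im_le_norm_iff hn (hXM.trans hn), kr_coset, sup_comm] at h
  refine ⟨h1, ?_⟩
  have h2 := hall_frattini (hX.of_le le_sup_right (sup_le (Mbeta_der1 hM) hX.le))
    (sub_mmax_sol hM (sup_le (betaCore_le M) hXM)) (sup_le (betaCore_le M) hXM) h1
  rwa [sup_assoc, sup_eq_right.2 (le_inf hXM le_normalizer)] at h2

theorem beta'_cent_Sylow_der1 (hM : IsCoatom M) (hp : p.Prime) (hq : q.Prime) (hpβ : p ∉ beta M)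
    (hqβ : q ∉ beta M) (hX : IsPGroup q X) (h : (p ≠ q ∧ X ≤ ⁅M, M⁆) ∨ (p < q ∧ X ≤ M)) :
    ∃ P, IsPiHallOf {p} P ⁅M, M⁆ ∧ X ≤ C[P] := by
  have hXM : X ≤ M := h.elim (fun h => h.2.trans (der1_le M)) fun h => h.2
  have hpq : p ≠ q := h.elim (fun h => h.1) fun h => h.1.ne
  have hL : X ⊔ ⁅M, M⁆ ≤ M := sup_le hXM (der1_le M)
  obtain ⟨W, hW, hXW⟩ := exists_hall_ge (π := {p, q}) (sub_mmax_sol hM hL) le_sup_left
    (isPi_of_isPGroup_mem hq hX (by simp))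
  have hN := hW.inf_normal le_sup_right (hL.trans (self_le_norm_der1 M))
  have hnil : Group.IsNilpotent ↥(W ⊓ ⁅M, M⁆) := beta'_der1_nil hM
    (hN.isPi.mono (by rintro r (rfl | rfl) <;> assumption)) inf_le_right
  have hP := (nil_isPiHallOf_piCoreOf hnil {p}).trans_single hN (by simp)
  have hXp : IsPiSubgroup {p}ᶜ X := isPi_of_isPGroup_mem hq hX hpq.symm
  refine ⟨_, hP, h.elim (fun h => nil_le_cent_piCoreOf hnil (le_inf hXW h.2) hXp) fun h => ?_⟩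
  have h1 : X ≤ O[{p}ᶜ](M) := PG.le_of_normal_of_not_dvd_relIndex hq hXM hX
    (self_le_norm_piCoreOf _ M) fun hd => ((beta_max_pdiv hM hp hpβ).2.2 q hq hd).not_gt h.1
  rw [le_cent_iff_commutator_eq_bot, eq_bot_iff,
    ← (piCoreOf_isPi {p}ᶜ M).inf_eq_bot' (piCoreOf_isPi {p} (W ⊓ ⁅M, M⁆))]
  refine le_inf ((commutator_mono h1 le_rfl).trans (commutator_le_of_le_norm_left
    (hP.le.trans ((der1_le M).trans (self_le_norm_piCoreOf _ M))))) ?_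
  exact commutator_le_of_le_norm_right (le_norm_piCoreOf
    (le_norm_inf (le_norm_self hXW) (hXM.trans (self_le_norm_der1 M))))

/-- 10.9(a) -/
theorem beta'_cent_Sylow (hM : IsCoatom M) (hp : p.Prime) (hq : q.Prime) (hpβ : p ∉ beta M)
    (hqβ : q ∉ beta M) (hX : IsPGroup q X) (h : (p ≠ q ∧ X ≤ ⁅M, M⁆) ∨ (p < q ∧ X ≤ M)) :
    (∃ P, IsPiHallOf {p} P Mσ[M] ∧ X ≤ C[P]) ∧
    (p ∈ alpha M → InUniqueMaximal (M ⊓ C[X])) ∧
    (IsPiHallOf {q} X ⁅M, M⁆ →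
      ∃ P, IsPiHallOf {p} P ⁅M, M⁆ ∧ P ≤ ⁅M ⊓ N[X], M ⊓ N[X]⁆) := by
  obtain ⟨P, hP, hc⟩ := beta'_cent_Sylow_der1 hM hp hq hpβ hqβ hX h
  have hPM := hP.le.trans (der1_le M)
  have hP' := hP.inf_normal (Msigma_der1 hM) ((der1_le M).trans (le_norm_sigmaCore M))
  refine ⟨⟨_, hP', hc.trans (cent_anti inf_le_left)⟩, fun ha => ?_, fun hS => ⟨P, hP, ?_⟩⟩
  · exact (alpha_syl_umax hM ha (Msigma_syl hM (alpha_sub_sigma hM ha) hP')).uniq.mono
      (inf_le_left.trans (le_inf hPM (le_cent_symm hc))) (sub_mmax_proper hM inf_le_left)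
  · have := pprod_focal_coprime (Mbeta_sup_norm_der1_hall hM hS).2
      (inf_le_left.trans (le_norm_betaCore M)) (le_inf hPM (le_norm_of_cent (le_cent_symm hc)))
      ((betaCore_isPi M).coprime (hP.isPi.single_mono hpβ))
    exact (le_inf le_rfl hP.le).trans (this.le.trans inf_le_right)

/-- 10.9(b) -/
theorem nonuniq_norm_Sylow_pprod (hM : IsCoatom M) (hH : IsCoatom H) (hne : H ≠ M) (hp : p.Prime)
    (hS : IsPiHallOf {p} S ⊤) (hn : N[S] ≤ H ⊓ M) :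
    Mβ[M] ⊔ (H ⊓ M) = M ∧ alpha M = beta M := by
  have hnM := hn.trans inf_le_right
  have hnH := hn.trans inf_le_left
  have hSM := hS.of_le (le_normalizer.trans hnM) le_top
  have hs : p ∈ sigma M :=
    mem_sigma_of_syl hp ((syl_ne_bot_iff hp hSM).1 (ne_bot_of_norm_le_mmax hM hnM)) hSM hnM
  have hS' := sigma_syl_le_der1 hM hs hSM
  refine ⟨le_antisymm (sup_le (betaCore_le M) inf_le_right) ?_, (Set.Subset.antisymm
    (fun q hq => ?_) (beta_sub_alpha M))⟩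
  · exact (Mbeta_sup_norm_der1_hall hM (hSM.of_le hS' (der1_le M))).2.ge.trans
      (sup_le_sup_left (inf_le_right.trans hn) _)
  by_contra hβ
  have ha : p ∉ alpha M := fun ha =>
    hne ((alpha_syl_umax hM ha hSM).eq hH (le_normalizer.trans hnH))
  have h := (beta'_cent_Sylow hM hq.1 hp hβ (fun h => ha h.1) (syl_isPGroup hp hS)
    (Or.inl ⟨fun e => ha (e ▸ hq), hS'⟩)).2.1 hq
  exact hne (h.eq hM inf_le_left hH (inf_le_right.trans ((cent_le_norm S).trans hnH)))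

end Cfsg.Agent.BG
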