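import Cfsg.Agent.BG.S10
import Cfsg.Agent.GT.CoprimeGen

/-! Bender–Glauberman §11: exceptional maximal subgroups. -/

set_option autoImplicit false
set_option linter.unusedSectionVars false
set_option linter.unusedVariables false

namespace Cfsg.Agent.BG

open Subgroup Cfsg.Agent.GT

universe u

variable {G : Type u} [Group G] [Finite G] [MFT G]
variable {A A₀ B D E E₁ E₂ E₃ H K L M Ms N P Q R S U V W W₁ W₂ X Y : Subgroup G} {p q r : ℕ}
  {g x y : G} {π : Set ℕ}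

omit [Finite G] [MFT G] in
theorem Exceptional.prime (h : Exceptional p M A₀ A) : p.Prime := h.1
omit [Finite G] [MFT G] in
theorem Exceptional.not_sigma (h : Exceptional p M A₀ A) : p ∉ sigma M := h.2.1
omit [Finite G] [MFT G] in
theorem Exceptional.elem2 (h : Exceptional p M A₀ A) : PnElem p 2 M A := h.2.2.1
omit [Finite G] [MFT G] in
theorem Exceptional.elem1 (h : Exceptional p M A₀ A) : PnElem p 1 A A₀ := h.2.2.2.1
omit [Finite G] [MFT G] in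
theorem Exceptional.norm_le (h : Exceptional p M A₀ A) : N[A₀] ≤ M := h.2.2.2.2
omit [Finite G] [MFT G] in
theorem Exceptional.cent_le (h : Exceptional p M A₀ A) : C[A] ≤ M :=
  (cent_anti h.elem1.le).trans ((cent_le_norm A₀).trans h.norm_le)
omit [MFT G] in
theorem Exceptional.sigma' (h : Exceptional p M A₀ A) : IsPiSubgroup (sigma M)ᶜ A :=
  isPi_of_isPGroup_mem h.prime h.elem2.isPGroup h.not_sigma

theorem Exceptional.pmax (h : Exceptional p M A₀ A) (hM : IsCoatom M) : PmaxElem p ⊤ A :=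
  sigma'_rank2_max hM h.prime h.not_sigma h.elem2

omit [MFT G] in
theorem Exceptional.exists_norm_not_mem (h : Exceptional p M A₀ A) (hP : IsPiHallOf {p} P M) :
    ∃ g ∈ N[P], g ∉ M :=
  SetLike.not_le_iff_exists.1
    (not_norm_le_of_not_sigma h.prime h.elem2.dvd_card h.not_sigma hP)

omit [Finite G] [MFT G] in
private theorem le_conj_of_norm (hP : P ≤ M) (hA : A ≤ P) (hg : g ∈ N[P]) : A ≤ cj[g] M :=
  hA.trans (by rw [← conj_eq_self hg]; exact conj_mono g hP)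

/-- 11.1 -/
theorem exceptional_TIsigmaJ (hM : IsCoatom M) (hex : Exceptional p M A₀ A) (hq : q.Prime)
    {Q₁ Q₂ : Subgroup G} (hg : g ∉ M) (hA : A ≤ cj[g] M) (h₁ : IsPiHallOf {q} Q₁ Mσ[M])
    (hn₁ : A ≤ N[Q₁]) (h₂ : IsPiHallOf {q} Q₂ (cj[g] Mσ[M])) (hn₂ : A ≤ N[Q₂]) :
    Q₁ ⊓ Q₂ = ⊥ ∧ ∀ X, PnElem p 1 A X → Q₁ ⊓ C[X] = ⊥ ∨ Q₂ ⊓ C[X] = ⊥ := by
  have hp := hex.prime
  by_cases h0 : Q₁ = ⊥
  · simp [h0]
  have hs : q ∈ sigma M := sigmaCore_isPi M q hq ((syl_ne_bot_iff hq h₁).1 h0)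
  have hsg : q ∈ sigma (cj[g] M) := by rwa [sigma_conj]
  rw [conj_sigmaCore] at h₂
  have h₁M := Msigma_syl hM hs h₁
  have h₂M := Msigma_syl (isCoatom_conj g hM) hsg h₂
  have key : ∀ H, A ≤ H → H ≠ ⊤ → H ⊓ Q₁ ≠ ⊥ → H ⊓ Q₂ ≠ ⊥ → False := by
    intro H h1 h2 h3 h4
    obtain ⟨k, hk, e⟩ := normed_constrained_meet_trans
      (mFT_pmaxElem_constrained hp (hex.elem2.ne_bot hp) (hex.pmax hM)) hq
      (not_dvd_card_of_isPGroup hp hq (fun e => hex.not_sigma (e ▸ hs)) hex.elem2.isPGroup) h1 h2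
      (maxInv_of_syl hq (sigma_Sylow_G hs h₁M) hn₁) (maxInv_of_syl hq (sigma_Sylow_G hsg h₂M) hn₂)
      h3 h4
    have hk' : k ∈ M := hex.cent_le (piCoreOf_le _ _ hk)
    have h5 : cj[g⁻¹ * k] Q₁ ≤ M := by
      rw [mul_conj, ← e]; exact le_conj_iff.1 h₂M.le
    exact hg (inv_mem_iff.1 ((mul_mem_cancel_right hk').1 (sigma_Sylow_trans hs h₁M h5)))
  refine ⟨not_not.1 fun h => key M hex.elem2.le hM.1 (by rwa [inf_eq_right.2 h₁M.le])
    (ne_bot_of_le h (inf_le_inf_right _ h₁M.le)), fun X hX => ?_⟩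
  by_contra hc
  push Not at hc
  exact key C[X] (hex.elem2.le_cent.trans (cent_anti hX.le)) (mFT_cent_proper (hX.ne_bot hp))
    (by rw [inf_comm]; exact hc.1) (by rw [inf_comm]; exact hc.2)

/-- 11.2 -/
theorem exceptional_TI_MsigmaJ (hM : IsCoatom M) (hex : Exceptional p M A₀ A) (hg : g ∉ M)
    (hA : A ≤ cj[g] M) : Mσ[M] ⊓ cj[g] M = ⊥ ∧ Mσ[M] ⊓ C[cj[g] A₀] = ⊥ := by
  suffices h : Mσ[M] ⊓ cj[g] M = ⊥ by
    refine ⟨h, eq_bot_iff.2 (le_trans (inf_le_inf_left _ ?_) h.le)⟩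
    rw [← conj_centralizer]
    exact conj_mono g ((cent_le_norm A₀).trans hex.norm_le)
  by_contra h
  obtain ⟨q, hq, hd⟩ := exists_prime_dvd_card h
  have hs : Group.IsSolvable A := solvable_of_comm hex.elem2.comm
  have hn : A ≤ N[Mσ[M]] := hex.elem2.le.trans (le_norm_sigmaCore M)
  have hng : A ≤ N[cj[g] Mσ[M]] := hA.trans (conj_le_norm_conj_iff.2 (le_norm_sigmaCore M))
  have hc := (sigmaCore_isPi M).coprime hex.sigma'
  have hle : Mσ[M] ⊓ cj[g] M ≤ cj[g] Mσ[M] := by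
    rw [conj_sigmaCore]
    exact le_Msigma (isCoatom_conj g hM) inf_le_right
      (by rw [sigma_conj]; exact (sigmaCore_isPi M).inf_left)
  obtain ⟨Q₀, hQ₀, hn₀⟩ := coprime_exists_syl hq (Or.inr hs) (le_norm_inf hn (le_norm_self hA))
    (coprime_card_of_le hc inf_le_left le_rfl)
  have pQ := syl_isPGroup hq hQ₀
  obtain ⟨Q₁, hQ₁, hn₁, le₁⟩ := coprime_exists_syl_ge hq (Or.inr hs) hn hc
    (hQ₀.le.trans inf_le_left) pQ hn₀
  obtain ⟨Q₂, hQ₂, hn₂, le₂⟩ := coprime_exists_syl_ge hq (Or.inr hs) hng (by rwa [card_conj])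
    (hQ₀.le.trans hle) pQ hn₀
  exact (syl_ne_bot_iff hq hQ₀).2 hd (eq_bot_iff.2 ((le_inf le₁ le₂).trans
    (exceptional_TIsigmaJ hM hex hq hg hA hQ₁ hn₁ hQ₂ hn₂).1.le))

/-- 11.3 -/
theorem exceptional_sigma_nil (hM : IsCoatom M) (hex : Exceptional p M A₀ A) :
    Group.IsNilpotent Mσ[M] := by
  obtain ⟨P, hP, hAP⟩ := exists_syl_ge hex.prime hex.elem2.isPGroup hex.elem2.le
  obtain ⟨g, hg, hgM⟩ := hex.exists_norm_not_mem hP
  refine prime_regular_sol_nil (R := cj[g] A₀) (le_trans ?_ (hP.le.trans (le_norm_sigmaCore M)))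
    (sub_mmax_sol hM (sigmaCore_le M)) (by rw [card_conj]; exact hex.elem1.card_prime hex.prime)
    (exceptional_TI_MsigmaJ hM hex hgM (le_conj_of_norm hP.le hAP hg)).2
  rw [← conj_eq_self hg]; exact conj_mono g (hex.elem1.le.trans hAP)

/-- 11.4 -/
theorem exceptional_sigma_uniq (hM : IsCoatom M) (hex : Exceptional p M A₀ A) (hH : IsCoatom H)
    (hA : A ≤ H) (h : Mσ[H] ⊓ Mσ[M] ≠ ⊥) : H = M := by
  rw [inf_comm] at h
  obtain ⟨g, rfl⟩ : Conjg M H := not_not.1 fun hc =>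
    h ((sigma_disjoint hM hH hc).2.2 (exceptional_sigma_nil hM hex)).1
  refine conj_eq_self_of_mem (not_not.1 fun hg => h (eq_bot_iff.2 ?_))
  exact (inf_le_inf_left _ (sigmaCore_le _)).trans (exceptional_TI_MsigmaJ hM hex hg hA).1.le

omit [MFT G] in
theorem exists_pnElem_one_cent_ne_bot (hp : p.Prime) (hA : PnElem p 2 H A) (hn : A ≤ N[Q])
    (hc : (Nat.card Q).Coprime (Nat.card A)) (h1 : Q ≠ ⊥) : ∃ X, PnElem p 1 A X ∧ Q ⊓ C[X] ≠ ⊥ := by
  by_contra h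
  push Not at h
  exact h1 (le_bot_iff.1 (coprime_pnElem_gen_cent hp hA hn hc fun B hB => (h B hB).le))

private theorem exc_abelian (hM : IsCoatom M) (hex : Exceptional p M A₀ A)
    (hP : IsPiHallOf {p} P M) (hAP : A ≤ P) : IsMulCommutative P := by
  have hp := hex.prime
  have pP := syl_isPGroup hp hP
  by_contra hc
  obtain ⟨g, hg, hgM⟩ := hex.exists_norm_not_mem hP
  obtain ⟨q, hq, hd⟩ := exists_prime_dvd_card (Msigma_neq1 hM)
  obtain ⟨Q₁, hQ₁, hn₁⟩ := coprime_exists_syl hq (Or.inr (solvable_of_isPGroup hp pP))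
    (hP.le.trans (le_norm_sigmaCore M))
    ((sigmaCore_isPi M).coprime (isPi_of_isPGroup_mem hp pP hex.not_sigma))
  have h1 := (syl_ne_bot_iff hq hQ₁).2 hd
  have hn₂ : P ≤ N[cj[g] Q₁] := by
    rw [← conj_eq_self hg]; exact conj_le_norm_conj_iff.2 hn₁
  have hco := coprime_card_of_le ((sigmaCore_isPi M).coprime hex.sigma') hQ₁.le le_rfl
  obtain ⟨X₁, hX₁, h11⟩ := exists_pnElem_one_cent_ne_bot hp hex.elem2 (hAP.trans hn₁) hco h1
  obtain ⟨X₂, hX₂, h22⟩ := exists_pnElem_one_cent_ne_bot hp hex.elem2 (hAP.trans hn₂)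
    (by rwa [card_conj]) (by rwa [Ne, conj_eq_bot_iff])
  have hreg := (exceptional_TIsigmaJ hM hex hq hgM (le_conj_of_norm hP.le hAP hg) hQ₁
    (hAP.trans hn₁) (hQ₁.conj g) (hAP.trans hn₂)).2
  have h12 := (hreg X₁ hX₁).resolve_left h11
  have h21 := (hreg X₂ hX₂).resolve_right h22
  obtain ⟨-, -, htr⟩ := basic_p2maxElem_structure hp hex.elem2.top (hex.pmax hM) pP hAP hc
  have hZ : cj[g] (omegaOne p (P ⊓ C[P])) = omegaOne p (P ⊓ C[P]) :=
    conj_eq_self (PG.le_norm_omegaOne (le_norm_inf le_rfl (norm_le_norm_cent P)) hg)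
  have hZ' : cj[g] Q₁ ⊓ C[omegaOne p (P ⊓ C[P])] = ⊥ ↔ Q₁ ⊓ C[omegaOne p (P ⊓ C[P])] = ⊥ := by
    conv_lhs => rw [← hZ, ← conj_centralizer, ← conj_inf, conj_eq_bot_iff]
  by_cases e1 : X₁ = omegaOne p (P ⊓ C[P])
  · exact h11 (e1 ▸ hZ'.1 (e1 ▸ h12))
  by_cases e2 : X₂ = omegaOne p (P ⊓ C[P])
  · exact h22 (e2 ▸ hZ'.2 (e2 ▸ h21))
  obtain ⟨k, hk, rfl⟩ := htr X₁ ⟨hX₁, e1⟩ X₂ ⟨hX₂, e2⟩
  rw [← conj_eq_self (hn₁ hk.1), ← conj_centralizer, ← conj_inf, conj_eq_bot_iff] at h21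
  exact h11 h21

/-- 11.5 -/
theorem exceptional_Sylow_abelian (hM : IsCoatom M) (hex : Exceptional p M A₀ A)
    (hP : IsPiHallOf {p} P M) : IsMulCommutative P := by
  obtain ⟨g, hg, h⟩ := syl_exists_le_conj hex.prime hP hex.elem2.isPGroup hex.elem2.le
  exact isMulCommutative_conj_iff.1 (exc_abelian hM hex (hP.conj_of_mem hg) h)

/-- 11.6 -/
theorem exceptional_structure (hM : IsCoatom M) (hex : Exceptional p M A₀ A)
    (hP : IsPiHallOf {p} P M) (hAP : A ≤ P) :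
    A = omegaOne p P ∧ Mσ[M] ⊓ C[A] = ⊥ ∧
    ∃ A₁ A₂, PnElem p 1 A A₁ ∧ PnElem p 1 A A₂ ∧ A₁ ≠ A₂ ∧ Mσ[M] ⊓ C[A₁] = ⊥ ∧
      Mσ[M] ⊓ C[A₂] = ⊥ := by
  have hA : A = omegaOne p P := ((hex.pmax hM).eq le_top
    (PG.elemAb_omegaOne (exceptional_Sylow_abelian hM hex hP))
    (PG.elemAb_le_omegaOne hex.elem2.elem hAP)).symm
  obtain ⟨g, hg, hgM⟩ := hex.exists_norm_not_mem hP
  have hgA : g ∈ N[A] := hA ▸ PG.norm_le_norm_omegaOne p P hg
  have h1 := (exceptional_TI_MsigmaJ hM hex hgM (le_conj_of_norm hP.le hAP hg)).2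
  have h2 := (exceptional_TI_MsigmaJ hM hex (fun h => hgM (inv_mem_iff.1 h))
    (le_conj_of_norm hP.le hAP (inv_mem hg))).2
  have e1 := hex.elem1.conj_of_mem_norm hgA
  refine ⟨hA, eq_bot_iff.2 ((inf_le_inf_left _ (cent_anti e1.le)).trans h1.le), _, _, e1,
    hex.elem1.conj_of_mem_norm (inv_mem hgA), fun e => hgM ?_, h1, h2⟩
  refine PG.mem_of_sq_mem_of_odd (mFT_odd_top.of_dvd_nat (orderOf_dvd_natCard g)) (hex.norm_le ?_)
  rw [← conj_eq_self_iff, mul_conj, e, conj_inv_conj]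

/-- 11.7 -/
theorem exceptional_mul_sigma_normal (hM : IsCoatom M) (hex : Exceptional p M A₀ A) :
    M ≤ N[Mσ[M] ⊔ A] := by
  have hp := hex.prime
  have hA := hex.elem2
  obtain ⟨P, hP, hAP⟩ := exists_syl_ge hp hA.isPGroup hA.le
  have pP := syl_isPGroup hp hP
  obtain ⟨E, hE, hPE⟩ := exists_hall_ge (mmax_sol hM) hP.le
    (isPi_of_isPGroup_mem (π := (sigma M)ᶜ) hp pP hex.not_sigma)
  obtain ⟨hAΩ, -, A₁, A₂, hA₁, hA₂, hne, hr₁, hr₂⟩ := exceptional_structure hM hex hP hAP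
  have hsE := sub_mmax_sol hM hE.le
  have hrE := rankLE_of_le (sigma'_rankLE_two hM hE.le hE.isPi) (fittingOf_le E)
  have hK := PG.hall_piCoreOf_ge_of_rank_two hsE (mFT_odd E) hrE (p + 1)
  set K := O[{q | p + 1 ≤ q}](E) with hKdef
  have hnK : E ≤ N[K] := self_le_norm_piCoreOf _ E
  have hKp : IsPiSubgroup {p}ᶜ K := hK.isPi.mono fun q (h : p + 1 ≤ q) (e : q = p) => by omega
  have hKA := hKp.coprime' (isPi_of_isPGroup hp hA.isPGroup)
  by_cases hc : A ≤ C[K]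
  · have hL := PG.hall_piCoreOf_ge_of_rank_two hsE (mFT_odd E) hrE p
    have hPE' := hP.of_le hPE hE.le
    have hKP : IsPiHallOf {q | p ≤ q} (K ⊔ P) E :=
      (hK.sup hPE' (Or.inr (hPE.trans hnK))).congr fun q _ => by
        simp only [Set.mem_union, Set.mem_ofPred_eq, Set.mem_singleton_iff]; omega
    have e := hL.eq_of_normal (self_le_norm_piCoreOf _ E) hKP
    have hAO : A ≤ O[{p}](K ⊔ P) := le_piCoreOf_single hp (hAP.trans le_sup_right)
      (sup_le (le_norm_of_cent (le_cent_symm hc)) (hAΩ ▸ PG.self_le_norm_omegaOne p P)) hA.isPGroup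
    have e2 : omegaOne p O[{p}](K ⊔ P) = A := by
      rw [hAΩ] at hAO ⊢
      exact PG.omegaOne_eq_of_le_of_le hAO (piCoreOf_le_hall (hPE'.of_le le_sup_right hKP.le))
    have hEA : E ≤ N[A] := by
      rw [← e2]
      exact PG.le_norm_omegaOne (le_norm_piCoreOf (e ▸ self_le_norm_piCoreOf _ E))
    exact (sdprod_sigma hM hE).sup_eq.ge.trans (sup_le (le_norm_self le_sup_left)
      (le_norm_sup (hE.le.trans (le_norm_sigmaCore M)) hEA))
  exfalso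
  obtain ⟨q, hq, hd, Q, hQ, hnQ, hcQ⟩ : ∃ q : ℕ, q.Prime ∧ q ∣ Nat.card K ∧
      ∃ Q, IsPiHallOf {q} Q K ∧ A ≤ N[Q] ∧ ¬ A ≤ C[Q] := by
    by_contra h
    push Not at h
    refine hc (le_cent_symm (le_of_forall_syl_le fun q hq hd => ?_))
    obtain ⟨Q, hQ, hn⟩ := coprime_exists_syl hq (Or.inr (solvable_of_comm hA.comm))
      (hAP.trans (hPE.trans hnK)) hKA
    exact ⟨Q, hQ, le_cent_symm (h q hq hd Q hQ hn)⟩
  have := Fact.mk hq
  have hqs : q ∉ sigma M := (hE.isPi.of_le hK.le) q hq hd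
  have hpq : p ≠ q := fun e => hKp q hq hd e.symm
  have hQM := (hQ.trans_single hK (hK.isPi q hq hd)).trans_single hE hqs
  have pQ := syl_isPGroup hq hQ
  have hQ1 := (syl_ne_bot_iff hq hQ).2 hd
  have hAq := PG.coprime_card_of_isPGroup_of_ne hq hp hpq hA.isPGroup
  by_cases hreg : Q ⊓ C[A] = ⊥
  · have hZc := isMulCommutative_inf_cent Q
    have hnZ : A ≤ N[Q ⊓ C[Q]] := le_norm_inf hnQ (le_norm_cent hnQ)
    have hZK : Q ⊓ C[Q] ≤ K := inf_le_left.trans hQ.le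
    have h1 := (coprime_comm_isComplIn hZc hnZ (coprime_card_of_le hKA hZK le_rfl)).sup_eq
    rw [inf_right_comm, hreg, bot_inf_eq, sup_bot_eq] at h1
    have key : ∀ {X}, PnElem p 1 A X → Mσ[M] ⊓ C[X] = ⊥ → M ≤ N[⁅Q ⊓ C[Q], X⁆] := fun hX hr =>
      (commG_sigma'_1Elem_cyclic hM (inf_le_left.trans hQM.le) (hE.isPi.of_le (hZK.trans hK.le)) hp
        hex.not_sigma (hX.mono (le_inf hA.le hnZ)) hr (hKp.of_le hZK) hZc).2.2
    have hn := le_norm_sup (key hA₁ hr₁) (key hA₂ hr₂)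
    have h2 : ⁅Q ⊓ C[Q], A₁⁆ ⊔ ⁅Q ⊓ C[Q], A₂⁆ = Q ⊓ C[Q] := by
      refine le_antisymm (sup_le (commutator_le_of_le_norm_left (hA₁.le.trans hnZ))
        (commutator_le_of_le_norm_left (hA₂.le.trans hnZ))) (h1.ge.trans ?_)
      rw [← (PG.pnElem_two_dprod hp hA hA₁ hA₂ hne).sup_eq]
      exact PG.commutator_sup_le' (hA₁.le.trans (hA.le.trans hn)) (hA₂.le.trans (hA.le.trans hn))
        le_sup_left le_sup_right
    rw [h2] at hn
    exact not_norm_le_of_not_sigma hq (hd.trans (card_dvd_of_le (hK.le.trans hE.le))) hqs hQM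
      ((le_norm_inf le_rfl (norm_le_norm_cent Q)).trans
        (mmax_normal hM (inf_le_left.trans hQM.le) hn (PG.center_ne_bot pQ hQ1)).le)
  · have hr : ¬ PRankLE q 1 Q := fun hr => hcQ (PG.le_cent_of_le_cent_omegaOne
      (mFT_prime_ne_two hd) pQ hnQ hAq (le_cent_symm ((PG.omegaOne_le_of_isCyclic
        (mFT_rank1_cyclic hq pQ hr) pQ inf_le_left hreg).trans inf_le_right)))
    obtain ⟨B, hB⟩ := PG.exists_pnElem_of_not_pRankLE hq hr
    obtain ⟨R, hR, hQR⟩ := exists_maxInv_ge hQ.isPi hnQ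
    obtain ⟨P', -, hAP', -, -, h⟩ := max_normed_2Elem_signaliser hp hq hpq hA.top (hex.pmax hM) hR
      ((prime_dvd_card_of_isPGroup hq pQ.to_inf_left hreg).trans (card_dvd_of_le inf_le_right))
    exact hcQ (hAP'.trans ((h (PG.narrow_of_pmaxElem (hB.mono hQR)
      ((sigma'_rank2_max hM hq hqs (hB.mono hQM.le)).of_le (hB.le.trans hQR) le_top))).trans
      (cent_anti hQR)))

end Cfsg.Agent.BG
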