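import Cfsg.Agent.BG.S12c

/-! Bender–Glauberman §12, last part: 12.13–12.19. -/

set_option autoImplicit false
set_option linter.unusedSectionVars false
set_option linter.unusedVariables false

namespace Cfsg.Agent.BG

open Subgroup Cfsg.Agent.GT

universe u

section General
variable {G : Type u} [Group G] [Finite G] {H K L P Q R S T X Z : Subgroup G} {π : Set ℕ} {p : ℕ}

/-- coprime action of a noncyclic abelian section `Q / Z` -/
theorem coprime_gen_cent1_mod (hn : Q ≤ N[K]) (hc : (Nat.card K).Coprime (Nat.card Q))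
    (hZ : Z ≤ Q) (hZK : Z ≤ C[K]) (hZQ : Z ≤ C[Q]) (h' : ⁅Q, Q⁆ ≤ Z) (hnc : ¬ IsMulCommutative Q)
    (hZX : Z ≤ X) (h : ∀ y ∈ Q, y ∉ Z → K ⊓ C1[y] ≤ X) : K ≤ X := by
  obtain ⟨W, _, _, f, -, hk⟩ := exists_quo' (K ⊔ Q) Z (hZ.trans le_sup_right)
    (le_norm_of_cent (sup_le (le_cent_symm hZK) (le_cent_symm hZQ)))
  have h1 : im f K ≤ im f (X ⊓ (K ⊔ Q)) := coprime_abelian_gen_cent1
    ((comm_im_iff le_sup_right).2 (hk ▸ h'))
    (fun hc => hnc (PG.isMulCommutative_of_isCyclic_im le_sup_right hc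
      (inf_le_right.trans (hk.le.trans hZQ)))) (im_norm hn) (coprime_im hc) fun a ha ha1 => by
      obtain ⟨y, hyD, hy, rfl⟩ := mem_im.1 ha
      rw [← im_inf_cent1_of_coprime le_sup_left hyD (hn hy)
        ((hc.coprime_dvd_left (card_dvd_of_le inf_le_left)).coprime_dvd_right
          (orderOf_dvd_card_of_mem hy))]
      exact im_mono (le_inf (h y hy fun hz => ha1 ((mem_kr' hyD).1 (hk ▸ hz)))
        (inf_le_left.trans le_sup_left))
  exact ((im_le_im_iff le_sup_left inf_le_right).1 h1).trans (sup_le inf_le_left (hk ▸ hZX))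

theorem semiregular_cent_of_cent_le (hn : R ≤ N[K]) (hreg : Semiregular K R) (hL : K ⊔ R ≤ N[H])
    (hc : (Nat.card H).Coprime (Nat.card ↥(K ⊔ R))) (hs : Group.IsSolvable H)
    (h : H ⊓ C[R] ≤ C[K]) : K ≤ C[H] := by
  have e := semiregular_Wielandt hn hreg hL hc hs
  rw [cent_sup, inf_comm C[K], ← inf_assoc, inf_eq_left.2 h] at e
  exact le_cent_of_card_inf (Nat.eq_of_mul_eq_mul_left (pow_pos (card_pos' _) _) e).symm

theorem piNat_relIndex_of_sup (hn : H ≤ N[K]) (hK : IsPiSubgroup π K) (h : K ⊔ H = L) :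
    PiNat π (H.relIndex L) := by
  rw [← h, sup_comm, relIndex_sup_eq_of_norm_or (Or.inl hn)]
  exact hK.relIndex H

end General

variable {G : Type u} [Group G] [Finite G] [MFT G]
variable {A A₀ B D E E₁ E₂ E₃ H K L M Ms N P Q R S U V W W₁ W₂ X Y : Subgroup G} {p q r : ℕ}
  {g x y : G} {π : Set ℕ}

private theorem nonab_line (hM : IsCoatom M) (hH : IsCoatom H) (hne : H ≠ M) (hp : p.Prime)
    (hP : IsPiHallOf {p} P ⊤) (hn : N[P] ≤ H ⊓ M) (hr : PRankLE p 2 P) (hQ : Q ≤ P)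
    (hc : ¬ IsMulCommutative Q) (h3 : Nat.card Q = p ^ 3) (he : ∀ x ∈ Q, x ^ p = 1)
    (hA : PnElem p 2 Q A) : ∃ A₀, PnElem p 1 A A₀ ∧ A₀ ≠ Q ⊓ C[Q] ∧ UMax N[A₀] M := by
  have := Fact.mk hp
  have hQL : Q ≤ H ⊓ M := hQ.trans (le_normalizer.trans hn)
  have hQM := hQL.trans inf_le_right
  have hQH := hQL.trans inf_le_left
  have e := (nonuniq_norm_Sylow_pprod hM hH hne hp hP hn).1
  obtain ⟨A₀, h1, h2⟩ : ∃ A₀, PnElem p 1 A A₀ ∧ UMax N[A₀] M := by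
    by_contra h
    push Not at h
    have h0 : Mβ[M] = ⊥ := eq_bot_iff.2
      ((betaCore_le_alphaCore M).trans ((p2Elem_mmax hM hp (hA.mono hQM)).2 h).2.1.le)
    rw [h0, bot_sup_eq] at e
    exact hne (eq_mmax hM hH (e.ge.trans inf_le_left)).symm
  refine ⟨A₀, h1, fun h => hne (h2.eq hH ?_), h2⟩
  have hb : p ∉ beta M := fun h => h.1.2 ((syl_pRankLE_iff hp
    (hP.of_le (le_normalizer.trans (hn.trans inf_le_right)) le_top)).1 hr)
  have hco : (Nat.card Mβ[M]).Coprime (Nat.card Q) := (betaCore_isPi M).coprime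
    (isPi_of_isPGroup_mem hp (PG.isPGroup_of_forall_pow he) hb)
  have hZ : PnElem p 1 H (Q ⊓ C[Q]) :=
    (pnElem_one_iff hp).2 ⟨inf_le_left.trans hQH, PG.card_center_of_card_cube h3 hc⟩
  rw [← inf_eq_right.2 h2.le, h, ← pprod_norm_coprime_prod e (inf_le_right.trans (le_norm_betaCore M))
    (inf_le_left.trans hQL) (coprime_card_of_le hco le_rfl inf_le_left)
    (Or.inl (sub_mmax_sol hM (betaCore_le M)))]
  refine sup_le (coprime_gen_cent1_mod (le_norm_inf (hQM.trans (le_norm_betaCore M))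
    (le_norm_cent (le_norm_of_cent (le_cent_symm inf_le_right))))
    (coprime_card_of_le hco inf_le_left le_rfl) inf_le_left (le_cent_symm inf_le_right) inf_le_right
    (PG.commutator_eq_center_of_card_cube h3 hc).le hc hZ.le fun y hy hyZ => ?_)
    (inf_le_left.trans inf_le_left)
  refine le_trans ?_ (p2Elem_cent_le hH hp (PG.pnElem_two_sup hp hZ
    (PG.pnElem_one_zpowers hp (hQH hy) (fun h => hyZ (h ▸ one_mem _)) (he y hy))
    (fun h => hyZ (h ▸ mem_zpowers y)) (inf_le_right.trans (cent_anti (zpowers_le.2 hy)))))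
  rw [cent_sup, cent_zpowers]
  exact inf_le_inf_right _ inf_le_right

/-- 12.13 -/
theorem nonabelian_Uniqueness (hp : p.Prime) (hP : IsPGroup p P) (hc : ¬ IsMulCommutative P) :
    InUniqueMaximal P := by
  obtain ⟨M, hM, hPM⟩ := mmax_exists (mFT_pgroup_proper hp hP)
  refine UMax.uniq ⟨hM, hPM, fun H hH hPH => not_not.1 fun hne => ?_⟩
  obtain ⟨S, hS, hPS⟩ := exists_syl_ge hp hP (le_inf hPH hPM)
  have pS := syl_isPGroup hp hS
  have ncS : ¬ IsMulCommutative S := fun h => hc (comm_of_le h hPS)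
  have hn : ∀ L, IsCoatom L → S ≤ L → N[S] ≤ L := fun L hL h => norm_noncyclic_sigma hL
    (not_not.1 fun hs => ncS (sigma'_pgroup_abelian hL hp hs pS h)) pS h
    fun h => ncS (isMulCommutative_of_isCyclic h)
  have hSH := hS.le.trans inf_le_left
  have hSM := hS.le.trans inf_le_right
  have hn' : N[S] ≤ H ⊓ M := le_inf (hn H hH hSH) (hn M hM hSM)
  have hSG := syl_top_of_norm_le hp hS hn'
  have hr : PRankLE p 2 S := not_not.1 fun h =>
    hne ((prank3_pgroup_uniq hp pS h).eq hM hSM hH hSH)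
  obtain ⟨Q, C, e, -, hQ, h3, he, -⟩ := mFT_rank2_Sylow_cprod hp hSG hr ncS
  have hQS : Q ≤ S := e ▸ le_sup_left
  have pQ := pS.to_le hQS
  obtain ⟨A, hA⟩ := PG.exists_pnElem_of_not_pRankLE hp
    fun h => hQ (isMulCommutative_of_isCyclic (mFT_rank1_cyclic hp pQ h))
  obtain ⟨A₁, a1, a2, a3⟩ := nonab_line hM hH hne hp hSG hn' hr hQS hQ h3 he hA
  obtain ⟨A₂, b1, b2, b3⟩ := nonab_line hH hM (Ne.symm hne) hp hSG (inf_comm H M ▸ hn') hr hQS hQ h3 he hA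
  obtain ⟨-, -, htr⟩ := basic_p2maxElem_structure hp hA.top
    (PG.pmaxElem_of_pRankLE hA.top ((syl_pRankLE_iff hp hSG).1 hr)) pQ hA.le hQ
  rw [PG.omegaOne_eq_self (E := Q ⊓ C[Q]) fun x hx => he x hx.1] at htr
  obtain ⟨s, hs, rfl⟩ := htr A₁ ⟨a1, a2⟩ A₂ ⟨b1, b2⟩
  have := a3.conj s
  rw [conj_normalizer, conj_eq_self_of_mem (hSM (hQS hs.1))] at this
  exact hne (this.eq hH b3.le)

private theorem cent_der_aux (hM : IsCoatom M) (hp : p.Prime) (hs : p ∈ sigma M) (hX : PnElem p 1 P X)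
    (hP : IsPiHallOf {p} P M) (h : p ∈ beta M ∨ X ≤ ⁅Mσ[M], Mσ[M]⁆) :
    UMax C[X] M ∧ UMax P M := by
  have := Fact.mk hp
  have pP := syl_isPGroup hp hP
  have hX1 := hX.ne_bot hp
  by_cases hr : PRankLE p 2 ↥(P ⊓ C[X])
  swap
  · have u := (prank3_pgroup_uniq hp pP.to_inf_left hr).umax hM (inf_le_left.trans hP.le)
    exact ⟨u.mono inf_le_right (mFT_cent_proper hX1), u.mono' inf_le_left hP.le⟩
  have hb : p ∉ beta M := fun h => (mem_beta_iff_of_syl hM hp hP).1 h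
    (PG.narrow_of_pRankLE_cent pP hX.elem hX.le hr)
  have hd := sdprod_piCoreOf_of_hall (beta_max_pdiv hM hp hb).2.1 (syl_Msigma hM hs hP)
  have hX' : X ≤ ⁅P, P⁆ := by
    have := pprod_focal_coprime hd.sup_eq hd.right_norm hX.le
      ((piCoreOf_isPi _ _).coprime' (isPi_of_isPGroup hp hX.isPGroup))
    rw [inf_eq_left.2 (h.resolve_left hb)] at this
    exact this.le.trans inf_le_right
  have hr' : PRankLE p 2 P := not_not.1 fun h' => hX1 (by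
    rw [← (PG.narrow_cent_dprod (mFT_prime_ne_two hX.dvd_card) pP h' hX.card_one hX.le hr).2.1,
      inf_eq_left.2 hX'])
  have hc : ¬ IsMulCommutative P := fun h => hX1 (eq_bot_iff.2 (hX'.trans
    (le_cent_iff_commutator_eq_bot.1 (comm_iff_le_cent.1 h)).le))
  have u := (nonabelian_Uniqueness hp pP hc).umax hM hP.le
  refine ⟨u.mono ?_ (mFT_cent_proper hX1), u⟩
  obtain ⟨S, C, e, h1, h2, h3, -, h4, h5⟩ := mFT_rank2_Sylow_cprod hp (sigma_Sylow_G hs hP) hr' hc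
  have hC : P ≤ C[C] := e ▸ sup_le h1 (comm_iff_le_cent.1 (isMulCommutative_of_isCyclic h4))
  refine hC.trans (cent_anti (hX'.trans ((PG.commutator_le_sup_of_le_sup (le_norm_of_cent hC)
    (e ▸ le_sup_right) (e ▸ le_sup_left) (e.ge.trans (sup_comm _ _).le)).trans (sup_le le_rfl ?_))))
  rw [PG.commutator_eq_center_of_card_cube h3 h2, ← h5]
  exact PG.omegaOne_le _ _

/-- 12.14 -/
theorem cent_der_sigma_uniq (hM : IsCoatom M) (hp : p.Prime) (hX : PnElem p 1 M X)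
    (hP : IsPiHallOf {p} P Mσ[M]) (h : p ∈ beta M ∨ X ≤ ⁅Mσ[M], Mσ[M]⁆) :
    UMax C[X] M ∧ UMax P M := by
  have hs : p ∈ sigma M := h.elim (fun h => beta_sub_sigma hM h) fun h =>
    sigmaCore_isPi M p hp (hX.of_le (h.trans (der1_le _))).dvd_card
  obtain ⟨S, hS, hXS⟩ := exists_syl_ge hp hX.isPGroup hX.le
  obtain ⟨h1, h2⟩ := cent_der_aux hM hp hs (hX.of_le hXS) hS h
  obtain ⟨g, hg, rfl⟩ := syl_exists_conj hp hS (Msigma_syl hM hs hP)
  exact ⟨h1, conj_eq_self_of_mem hg ▸ h2.conj g⟩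

/-- 12.15 -/
theorem sigma_subgroup_embedding (hM : IsCoatom M) (hq : q ∈ sigma M) (hXM : X ≤ M)
    (hX : IsPGroup q X) (hX1 : X ≠ ⊥) (hMs : IsCoatom Ms) (hn : N[X] ≤ Ms) (hne : Ms ≠ M)
    (hS : IsPiHallOf {q} S (M ⊓ Ms)) (hXS : X ≤ S) :
    ¬ Conjg M Ms ∧ N[S] ≤ M ∧ IsPiHallOf {q} S Ms ∧
    (q ∈ sigma Ms → Mβ[Ms] ⊔ (M ⊓ Ms) = Ms ∧ tau1 Ms ⊆ tau1 M ∪ alpha M ∧
      Mβ[M] = Mα[M] ∧ Mα[M] ≠ ⊥) ∧
    (q ∉ sigma Ms → q ∈ tau2 Ms ∧ (∀ p ∈ sigma Ms, p ∣ Nat.card M → p ∈ beta Ms) ∧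
      IsPiHallOf (sigma Ms)ᶜ (M ⊓ Ms) Ms) := by
  have qq := hq.1
  have qS := syl_isPGroup qq hS
  have hSM := hS.le.trans inf_le_left
  have hSs := hS.le.trans inf_le_right
  have hc := mmax_norm_notJ hM hMs hX hXM hn (Or.inl ⟨hq, hne.symm⟩)
  have hnS : N[S] ≤ M := by
    by_cases h : IsCyclic S
    · exact norm_sigma_Sylow hq (syl_of_norm_le qq hS hSM
        (inf_le_inf_left _ ((PG.norm_le_norm_of_isCyclic h hXS).trans hn)))
    · exact norm_noncyclic_sigma hM hq qS hSM h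
  have hS' : IsPiHallOf {q} S Ms :=
    syl_of_norm_le qq hS hSs (le_inf (inf_le_right.trans hnS) inf_le_left)
  refine ⟨hc, hnS, hS', fun hs => ?_, fun hs => ?_⟩
  · have hSG := sigma_Sylow_G hs hS'
    have hn' := le_inf hnS (norm_sigma_Sylow hs hS')
    obtain ⟨e1, -⟩ := nonuniq_norm_Sylow_pprod hMs hM hne.symm qq hSG hn'
    obtain ⟨e2, e3⟩ := nonuniq_norm_Sylow_pprod hM hMs hne qq hSG (inf_comm M Ms ▸ hn')
    rw [inf_comm] at e2
    have e4 : Mβ[M] = Mα[M] := by rw [betaCore_eq, alphaCore_eq, e3]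
    refine ⟨e1, fun p hp => or_iff_not_imp_right.2 fun ha => ?_, e4, fun h => hne ?_⟩
    swap
    · rw [e4, h, bot_sup_eq] at e2
      exact (eq_mmax hM hMs (e2.ge.trans inf_le_right)).symm
    have pp := hp.1
    obtain ⟨R, hR⟩ := exists_syl pp (M ⊓ Ms)
    have pR := syl_isPGroup pp hR
    have b1 : IsPiSubgroup {p}ᶜ Mβ[Ms] :=
      (betaCore_isPi Ms).mono fun r hr (e : r = p) => hp.2.1 (beta_sub_sigma hMs (e ▸ hr))
    have b2 : IsPiSubgroup {p}ᶜ Mβ[M] :=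
      (betaCore_isPi M).mono fun r hr (e : r = p) => ha (beta_sub_alpha M (e ▸ hr))
    have r1 := hR.of_idx inf_le_right
      (piNat_relIndex_of_sup (inf_le_right.trans (le_norm_betaCore Ms)) b1 e1)
    have r2 := hR.of_idx inf_le_left
      (piNat_relIndex_of_sup (inf_le_left.trans (le_norm_betaCore M)) b2 e2)
    have hR1 := (syl_ne_bot_iff pp r1).2 (tau1_dvd hp)
    have i : R ⊓ ⁅M, M⁆ = ⊥ := by
      rw [pprod_focal_coprime e2 (inf_le_left.trans (le_norm_betaCore M)) hR.le (b2.coprime' hR.isPi),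
        ← pprod_focal_coprime e1 (inf_le_right.trans (le_norm_betaCore Ms)) hR.le
          (b1.coprime' hR.isPi)]
      exact tau1_inf_der1 (hR.isPi.single_mono hp)
    exact ⟨pp, fun h => hR1 (by rw [← i, inf_eq_left.2 (sigma_pgroup_le_der1 hM h pR r2.le)]),
      (syl_ne_bot_iff pp r2).1 hR1, (syl_inf_der1_eq_bot_iff pp r2).1 i,
      (syl_pRankLE_iff pp r2).1 ((syl_pRankLE_iff pp r1).2 (tau1_rank hp))⟩
  have ht := (prime_class_mmax_norm hMs qq hX hn).resolve_left hs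
  obtain ⟨E, hE, hSE⟩ := ex_sigma_compl hMs hSs (hS.isPi.single_mono hs)
  obtain ⟨A, hA⟩ := PG.exists_pnElem_of_not_pRankLE qq
    fun h => ht.2.2.2 ((syl_pRankLE_iff qq hS').1 h)
  have hAM := hA.le.trans hSM
  obtain ⟨⟨nA, -⟩, ⟨cA, -⟩, -⟩ := tau2_compl_context hMs hE ht (hA.mono hSE)
  obtain ⟨-, -, h1, h2, -⟩ := tau2_context hMs ht (hA.mono hSs)
  have hEM := nA.trans (norm_noncyclic_sigma hM hq hA.isPGroup hAM (PG.pnElem_two_not_isCyclic qq hA))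
  have e : M ⊓ Ms = E := by
    have hd := sdprod_sigma hMs hE
    rw [inf_comm]
    conv_lhs => rw [← hd.sup_eq]
    rw [dedekind' (Or.inr hd.right_norm) hEM, h2 M hM hAM hne.symm, bot_sup_eq]
  refine ⟨ht, fun p hp hd => not_not.1 fun hb => ?_, e ▸ hE⟩
  have pp := hp.1
  have hqb := (tau2_not_beta hMs ht).1
  rcases lt_trichotomy p q with h | h | h
  · obtain ⟨P, hP, h⟩ := (beta'_cent_Sylow hMs pp qq hb (fun h => hqb (beta_ideal h)) hA.isPGroup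
      (Or.inr ⟨h, hA.le.trans hSs⟩)).1
    exact (syl_ne_bot_iff pp hP).2 ((pi_Msigma hMs pp).2 hp)
      (eq_bot_iff.2 (h1 ▸ le_inf hP.le (le_cent_symm h)))
  · exact hs (h ▸ hp)
  obtain ⟨Y, hY⟩ := exists_pnElem_one pp hd
  obtain ⟨Q, hQ, h⟩ := (beta'_cent_Sylow hM qq pp (fun h => hqb (beta_ideal h))
    (not_beta_of_not_sigma hM (Set.disjoint_left.1
      (tau2_sigma_disjoint hMs ht hM fun h => hc h.symm).2 hp)) hY.isPGroup (Or.inr ⟨h, hY.le⟩)).1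
  obtain ⟨g, -, hg⟩ := syl_exists_le_conj qq (Msigma_syl hM hq hQ) hA.isPGroup hAM
  exact hE.isPi p pp ((hY.conj g).of_le
    (((conj_le_cent_conj_iff.2 h).trans (cent_anti hg)).trans cA)).dvd_card hp

private theorem sigma_Jsub_aux (hM : IsCoatom M) (hY : IsPiSubgroup (sigma M) Y) (hq : q ∈ sigma M)
    (hX1 : O[{q}](Y) ≠ ⊥) (hX : O[{q}](Y) ≤ Mσ[M]) :
    (∃ g, cj[g] Y ≤ Mσ[M]) ∧
    ∀ (p : ℕ) (H : Subgroup G), p.Prime → p ∉ sigma M → p ∣ Nat.card M → ¬ IsIdealPrime p G →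
      IsCoatom H → Y ≤ H → ¬ Conjg M H →
      PRankLE p 1 ↥(H ⊓ N[Y]) ∧ (p ∈ tau1 M → ¬ p ∣ Nat.card ↥⁅H ⊓ N[Y], H ⊓ N[Y]⁆) := by
  have qq := hq.1
  have qX := piCoreOf_isPGroup qq Y
  have nX := norm_le_norm_piCoreOf {q} Y
  have hXY := piCoreOf_le {q} Y
  generalize O[{q}](Y) = X at hX1 hX qX nX hXY
  have hXM := hX.trans (sigmaCore_le M)
  have pre : ∀ (p : ℕ) (H : Subgroup G), p.Prime → p ∉ sigma M → IsCoatom H → Y ≤ H → ¬ Conjg M H →
      PRankLE p 1 ↥(M ⊓ H) := fun p H pp hs hH hYH hc => not_not.1 fun h => by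
    obtain ⟨A, hA⟩ := PG.exists_pnElem_of_not_pRankLE pp h
    have hAM := hA.mono inf_le_left
    exact hX1 (eq_bot_iff.2 ((tau2_context hM (mem_tau2_of_pnElem hM pp hs hAM) hAM).2.2.2.1 H hH
      (hA.le.trans inf_le_right) (fun e => hc (e ▸ Conjg.refl _)) ▸ le_inf hX (hXY.trans hYH)))
  by_cases hn : N[X] ≤ M
  · have hn' := nX.trans hn
    refine ⟨⟨1, by rw [one_conj]; exact le_Msigma hM (le_normalizer.trans hn') hY⟩,
      fun p H pp hs _ _ hH hYH hc => ⟨pRankLE_of_le (pre p H pp hs hH hYH hc)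
        (le_inf (inf_le_right.trans hn') inf_le_left), fun ht h => tau1_not_dvd_der1 ht
          (h.trans (card_dvd_of_le (commutator_mono (inf_le_right.trans hn') (inf_le_right.trans hn'))))⟩⟩
  obtain ⟨L, hL, hNL⟩ := mmax_exists (mFT_norm_pgroup_proper qq qX hX1)
  have hYL := le_normalizer.trans (nX.trans hNL)
  obtain ⟨S, hS, hXS⟩ := exists_syl_ge qq qX (le_inf hXM (hXY.trans hYL))
  obtain ⟨hc, -, -, h1, h2⟩ := sigma_subgroup_embedding hM hq hXM qX hX1 hL hNL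
    (fun e => hn (e ▸ hNL)) hS hXS
  obtain ⟨K, nK, e, k1, k2⟩ : ∃ K : Subgroup G, L ≤ N[K] ∧ K ⊔ (M ⊓ L) = L ∧
      IsPiSubgroup (sigma M)ᶜ K ∧
      ∀ p : ℕ, p ∣ Nat.card M → ¬ IsIdealPrime p G → IsPiSubgroup {p}ᶜ K := by
    by_cases hs : q ∈ sigma L
    · exact ⟨Mβ[L], le_norm_betaCore L, (h1 hs).1, (betaCore_isPi L).mono fun r hr =>
        Set.disjoint_left.1 (sigma_disjoint hL hM fun h => hc h.symm).2.1 (beta_sub_alpha L hr),
        fun p _ h => (betaCore_isPi L).mono fun r hr (e : r = p) => h (e ▸ beta_ideal hr)⟩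
    · obtain ⟨a, b, c⟩ := h2 hs
      exact ⟨Mσ[L], le_norm_sigmaCore L, (sdprod_sigma hL c).sup_eq, (sigmaCore_isPi L).mono
        fun r hr => Set.disjoint_left.1 (tau2_sigma_disjoint hL a hM fun h => hc h.symm).2 hr,
        fun p hd h => (sigmaCore_isPi L).mono fun r hr (e : r = p) =>
          h (beta_ideal (b p (e ▸ hr) hd))⟩
  have nK' := inf_le_right.trans nK (a := M ⊓ L)
  refine ⟨?_, fun p H pp hs hd hi hH hYH _ => ?_⟩
  · obtain ⟨T, hT⟩ := exists_hall (sigma M) (sub_mmax_sol hM (inf_le_left (b := L)))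
    obtain ⟨g, -, hg⟩ := (hT.of_idx inf_le_right (piNat_relIndex_of_sup nK' k1 e)).exists_conj_le
      (mmax_sol hL) hYL hY
    exact ⟨g, hg.trans (le_Msigma hM (hT.le.trans inf_le_left) hT.isPi)⟩
  have := Fact.mk pp
  have hHL : H ⊓ N[Y] ≤ L := inf_le_right.trans (nX.trans hNL)
  have k := k2 p hd hi
  refine ⟨pRankLE_of_le ((PG.pRankLE_iff_of_not_dvd_relIndex inf_le_right
    ((piNat_single_compl_iff pp).1 (piNat_relIndex_of_sup nK' k e))).1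
      (pre p L pp hs hL hYL hc)) hHL, fun ht => (isPiSubgroup_single_compl_iff pp).1 ?_⟩
  refine IsPiSubgroup.of_le ?_ ((commutator_mono hHL hHL).trans
    (PG.commutator_le_sup_of_le_sup nK (e ▸ le_sup_left) inf_le_right e.ge))
  exact k.sup (((isPiSubgroup_single_compl_iff pp).2 (tau1_not_dvd_der1 ht)).of_le
    (commutator_mono inf_le_left inf_le_left)) (Or.inr ((der1_le _).trans nK'))

/-- 12.16 -/
theorem sigma_Jsub (hM : IsCoatom M) (hY : IsPiSubgroup (sigma M) Y) (hY1 : Y ≠ ⊥) :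
    (∃ g, cj[g] Y ≤ Mσ[M]) ∧
    ∀ (E : Subgroup G) (p : ℕ) (H : Subgroup G), IsPiHallOf (sigma M)ᶜ E M → p.Prime →
      p ∣ Nat.card E → ¬ IsIdealPrime p G → IsCoatom H → Y ≤ H → ¬ Conjg M H →
      PRankLE p 1 ↥(H ⊓ N[Y]) ∧ (p ∈ tau1 M → ¬ p ∣ Nat.card ↥⁅H ⊓ N[Y], H ⊓ N[Y]⁆) := by
  have hY2 : Y ≠ ⊤ := fun h =>
    sub_mmax_proper hM (sigmaCore_le M) ((Msigma_Hall_G hM).eq_self (h ▸ hY))
  obtain ⟨q, qq, hX1⟩ := exists_piCoreOf_single_ne_bot (mFT_sol hY2) hY1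
  have qX := piCoreOf_isPGroup qq Y
  have hq : q ∈ sigma M :=
    hY q qq ((prime_dvd_card_of_isPGroup qq qX hX1).trans (card_dvd_of_le (piCoreOf_le _ _)))
  obtain ⟨Q, hQ⟩ := exists_syl qq Mσ[M]
  obtain ⟨x, -, hx⟩ := syl_exists_le_conj qq (Msigma_syl_G hM hq hQ) qX le_top
  obtain ⟨⟨g, h1⟩, h2⟩ := sigma_Jsub_aux (isCoatom_conj x hM) (by rwa [sigma_conj])
    (by rwa [sigma_conj]) hX1 (hx.trans (conj_sigmaCore x M ▸ conj_mono x hQ.le))
  refine ⟨⟨x⁻¹ * g, by rwa [mul_conj, ← le_conj_iff, conj_sigmaCore]⟩,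
    fun E p H hE pp hd hi hH hYH hc => ?_⟩
  have := h2 p H pp (by rw [sigma_conj]; exact hE.isPi p pp hd)
    (by rw [card_conj]; exact hd.trans (card_dvd_of_le hE.le)) hi hH hYH
    fun h => hc ((conjg_conj x M).trans h)
  rwa [tau1_conj] at this

/-- 12.17 -/
theorem sigma_compl_embedding (hM : IsCoatom M) (hE : IsPiHallOf (sigma M)ᶜ E M) :
    Mσ[M] ⊓ C[E] ≤ ⁅Mσ[M], Mσ[M]⁆ ∧ ⁅Mσ[M], E⁆ = Mσ[M] ∧
    ∀ g, g ∉ M → IsCyclic ↥(Mσ[M] ⊓ cj[g] M) ∧ IsPiSubgroup (beta M)ᶜ (Mσ[M] ⊓ cj[g] M) ∧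
      Mσ[M] ⊓ cj[g] M ⊓ ⁅Mσ[M], Mσ[M]⁆ = ⊥ := by
  obtain ⟨h1, h2⟩ := coprime_der1_sdprod (sdprod_sigma hM hE) (coprime_Msigma hE.isPi)
    (sub_mmax_sol hM (sigmaCore_le M)) (Msigma_der1 hM)
  refine ⟨h2, h1, fun g hg => ?_⟩
  have key : ∀ (p n : ℕ) X, p.Prime → PnElem p (n + 1) (Mσ[M] ⊓ cj[g] M) X → ¬ C[X] ≤ M :=
    fun p n X pp hX h => hg (sigma_group_trans_cent hM
      (sigmaCore_isPi M p pp (hX.mono inf_le_left).dvd_card) hX.isPGroup
      (hX.le.trans (inf_le_left.trans (sigmaCore_le M))) h (hX.le.trans inf_le_right))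
  have key' : ∀ (p : ℕ) X, p.Prime → PnElem p 1 (Mσ[M] ⊓ cj[g] M) X →
      ¬ (p ∈ beta M ∨ X ≤ ⁅Mσ[M], Mσ[M]⁆) := fun p X pp hX h =>
    let ⟨_, hP⟩ := exists_syl pp Mσ[M]
    key p 0 X pp hX (cent_der_sigma_uniq hM pp
      (hX.mono (inf_le_left.trans (sigmaCore_le M))) hP h).1.le
  have i : Mσ[M] ⊓ cj[g] M ⊓ ⁅Mσ[M], Mσ[M]⁆ = ⊥ := not_not.1 fun h => by
    obtain ⟨p, pp, hd⟩ := exists_prime_dvd_card h
    obtain ⟨X, hX⟩ := exists_pnElem_one pp hd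
    exact key' p X pp (hX.mono inf_le_left) (Or.inr (hX.le.trans inf_le_right))
  refine ⟨mFT_nil_rank1_cyclic (nilpotent_of_comm' (comm_iff_le_cent.2
    (le_cent_iff_commutator_eq_bot.2 (eq_bot_iff.2 (i ▸ le_inf (der1_le _)
      (commutator_mono inf_le_left inf_le_left)))))) (not_not.1 fun h => ?_),
    fun p pp hd h => ?_, i⟩
  · obtain ⟨p, A, pp, hA⟩ := PG.exists_pnElem_of_not_rankLE h
    exact key p 1 A pp hA (p2Elem_cent_le hM pp (hA.mono (inf_le_left.trans (sigmaCore_le M))))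
  · obtain ⟨X, hX⟩ := exists_pnElem_one pp hd
    exact key' p X pp hX (Or.inl h)

/-- 12.18 -/
theorem cent_Malpha_reg_tau1 (hM : IsCoatom M) (hp : p ∈ tau1 M) (hq : q.Prime) (hqp : q ≠ p)
    (hP : PnElem p 1 M P) (hQ1 : Q ≠ ⊥) (hn : P ≤ N[Q]) (hC : Q ⊓ C[P] = ⊥)
    (hu : ¬ UMax N[Q] M) :
    (Mα[M] ≠ ⊥ → q ∉ alpha M → Q ≤ M → IsPGroup q Q →
      Mα[M] ⊓ C[P] ≠ ⊥ ∧ Mα[M] ⊓ C[Q ⊔ P] = ⊥) ∧
    (IsPiHallOf {q} Q M → alpha M = beta M ∧ Mα[M] ≠ ⊥ ∧ q ∉ alpha M ∧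
      Mα[M] ⊓ C[P] ≠ ⊥ ∧ Mα[M] ⊓ C[Q ⊔ P] = ⊥) := by
  have pp := hp.1
  have hu' : IsPGroup q Q → ∀ X, X ≤ M → X ≤ N[Q] → ¬ InUniqueMaximal X := fun qQ X h1 h2 h =>
    hu ((h.umax hM h1).mono h2 (mFT_norm_pgroup_proper hq qQ hQ1))
  have ha : Mα[M] ≠ ⊥ → q ∉ alpha M → Q ≤ M → IsPGroup q Q →
      Mα[M] ⊓ C[P] ≠ ⊥ ∧ Mα[M] ⊓ C[Q ⊔ P] = ⊥ := by
    intro h1 hqa hQM qQ
    have aQ : IsPiSubgroup (alpha M)ᶜ Q := isPi_of_isPGroup_mem hq qQ hqa
    have aP : IsPiSubgroup (alpha M)ᶜ P :=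
      isPi_of_isPGroup_mem pp hP.isPGroup (not_alpha_of_not_sigma hM hp.2.1)
    have rQ : RankLE 1 ↥(Mα[M] ⊓ C[Q]) := not_not.1 fun h => hu' qQ _ inf_le_left
      (inf_le_right.trans (cent_le_norm Q)) (cent_alpha'_uniq hM hQM aQ h)
    have rP : RankLE 1 ↥(Mα[M] ⊓ C[P]) := not_not.1 fun h => tau13_not_norm_le hM (Or.inl hp)
      hP.isPGroup (((cent_alpha'_uniq hM hP.le aP h).umax hM inf_le_left).le_of_le
        (inf_le_right.trans (cent_le_norm P)) (mFT_norm_pgroup_proper pp hP.isPGroup (hP.ne_bot pp)))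
    have hreg := semiregular_of_prime (hP.card_prime pp) hC
    have nQP : Q ⊔ P ≤ N[Mα[M]] := (sup_le hQM hP.le).trans (le_norm_alphaCore M)
    have hco := (alphaCore_isPi M).coprime (aQ.sup aP (Or.inr hn))
    have sol := sub_mmax_sol hM (alphaCore_le M)
    refine ⟨fun h => Malpha_rank3 hM h1 (PG.rankLE_mono (rankLE_of_le rQ (le_inf le_rfl (le_cent_symm
      (semiregular_cent_of_cent_le hn hreg nQP hco sol (h.le.trans bot_le))))) one_le_two),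
      not_not.1 fun h => ?_⟩
    obtain ⟨r, rr, hd⟩ := exists_prime_dvd_card h
    have := Fact.mk rr
    obtain ⟨X, hX⟩ := exists_pnElem_one rr hd
    have hX1 := hX.le.trans inf_le_left
    have hX2 := hX.le.trans inf_le_right
    obtain ⟨R, hR, nR, hXR⟩ := coprime_exists_syl_ge rr (Or.inl sol) nQP hco hX1 hX.isPGroup
      (le_norm_of_cent (le_cent_symm hX2))
    have rR := syl_isPGroup rr hR
    have hra : r ∈ alpha M := alphaCore_isPi M r rr (hX.of_le hX1).dvd_card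
    obtain ⟨T, t1, t2, -, t3, -, t4⟩ := PG.exists_critical_odd (mFT_prime_ne_two hd) rR
    have cyc := mFT_rank1_cyclic rr (rR.to_inf_left (K := C[P]))
      (pRankLE_of_le (rP r rr) (inf_le_inf_right _ hR.le))
    have h2 : Q ≤ C[T] := semiregular_cent_of_cent_le hn hreg (nR.trans t2)
      (coprime_card_of_le hco (t1.trans hR.le) le_rfl) (solv_of_le sol (t1.trans hR.le))
      ((PG.le_omegaOne (E := T ⊓ C[P]) (fun x hx => t3 x hx.1) (inf_le_inf_right _ t1)).trans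
        ((PG.eq_omegaOne_of_isCyclic rr cyc (le_inf hXR (hX2.trans (cent_anti le_sup_right)))
          hX.card_one).ge.trans (hX2.trans (cent_anti le_sup_left))))
    exact Malpha_pRank hM hra ((syl_pRankLE_iff rr hR).1 (PG.pRankLE_mono rr.pos
      (pRankLE_of_le (rQ r rr) (le_inf hR.le (le_cent_symm (t4 Q (le_sup_left.trans nR)
        (PG.coprime_card_of_isPGroup_of_ne rr hq (fun e => hqa (e ▸ hra)) qQ) h2)))) one_le_two))
  refine ⟨ha, fun hQ => ?_⟩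
  have qQ := syl_isPGroup hq hQ
  have hqa : q ∉ alpha M := fun h => hu' qQ Q hQ.le le_normalizer (alpha_syl_umax hM h hQ).uniq
  have hQ' : Q ≤ ⁅M, M⁆ := by
    have := coprime_commutator_sup_cent (Or.inl (solvable_of_isPGroup hq qQ)) hn
      (hQ.isPi.coprime (isPi_of_isPGroup_mem pp hP.isPGroup hqp.symm))
    rw [hC, sup_bot_eq] at this
    exact this.ge.trans (commutator_mono hQ.le hP.le)
  have h1 : Mα[M] ≠ ⊥ := fun h => hu (by
    rw [mmax_normal hM hQ.le ((self_le_norm_der1 M).trans (norm_le_norm_syl_of_nilpotent hq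
      (der1_nil_of_Malpha_eq_bot hM h) (hQ.of_le hQ' (der1_le M)))) hQ1]
    exact umax_self hM)
  refine ⟨(beta_sub_alpha M).antisymm' fun r hr => not_not.1 fun hb => ?_, h1, hqa,
    ha h1 hqa hQ.le qQ⟩
  exact hu' qQ _ inf_le_left (inf_le_right.trans (cent_le_norm Q))
    ((beta'_cent_Sylow hM hr.1 hq hb (fun h => hqa (beta_sub_alpha M h)) qQ
      (Or.inl ⟨fun e => hqa (e ▸ hr), hQ'⟩)).2.1 hr)

/-- 12.19 -/
theorem der_compl_cent_beta' (hM : IsCoatom M) (hE : IsPiHallOf (sigma M)ᶜ E M) :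
    ∃ H, IsPiHallOf (beta M)ᶜ H Mσ[M] ∧ ⁅E, E⁆ ≤ C[H] := by
  have h := hE.isPi.of_le (der1_le E)
  obtain ⟨L, hL, hEL⟩ := exists_hall_ge (sub_mmax_sol hM (der1_le M)) (commutator_mono hE.le hE.le)
    (sigma'_beta' hM h)
  exact ⟨_, hL.inf_normal (Msigma_der1 hM) ((der1_le M).trans (le_norm_sigmaCore M)),
    le_cent_of_nilpotent_of_coprime (beta'_der1_nil hM hL.isPi hL.le) hEL inf_le_left
      (h.coprime' (sigmaCore_isPi M).inf_right)⟩

end Cfsg.Agent.BG
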