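import Cfsg.Agent.BG.S11

/-! Bender–Glauberman 12.1–12.6. -/

set_option autoImplicit false
set_option linter.unusedSectionVars false
set_option linter.unusedVariables false

namespace Cfsg.Agent.BG

open Subgroup Cfsg.Agent.GT

universe u

variable {G : Type u} [Group G] [Finite G] [MFT G]
variable {A A₀ B D E E₁ E₂ E₃ H K L M Ms N P Q R S U V W W₁ W₂ X Y : Subgroup G} {p q r : ℕ}
  {g x y : G} {π : Set ℕ}

omit [Finite G] [MFT G] in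
theorem tau1_dvd (h : p ∈ tau1 M) : p ∣ Nat.card M := h.2.2.1
omit [Finite G] [MFT G] in
theorem tau1_not_dvd_der1 (h : p ∈ tau1 M) : ¬ p ∣ Nat.card ↥⁅M, M⁆ := h.2.2.2.1
omit [Finite G] [MFT G] in
theorem tau1_rank (h : p ∈ tau1 M) : PRankLE p 1 M := h.2.2.2.2
omit [MFT G] in
theorem tau2_dvd (h : p ∈ tau2 M) : p ∣ Nat.card M := PG.dvd_card_of_not_pRankLE h.1 h.2.2.2
omit [Finite G] [MFT G] in
theorem tau2_rank (h : p ∈ tau2 M) : PRankLE p 2 M := h.2.2.1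
omit [Finite G] [MFT G] in
theorem tau2_not_rank1 (h : p ∈ tau2 M) : ¬ PRankLE p 1 M := h.2.2.2
omit [Finite G] [MFT G] in
theorem tau3_dvd_der1 (h : p ∈ tau3 M) : p ∣ Nat.card ↥⁅M, M⁆ := h.2.2.1
omit [MFT G] in
theorem tau3_dvd (h : p ∈ tau3 M) : p ∣ Nat.card M := h.2.2.1.trans (card_dvd_of_le (der1_le M))
omit [Finite G] [MFT G] in
theorem tau3_rank (h : p ∈ tau3 M) : PRankLE p 1 M := h.2.2.2
omit [Finite G] [MFT G] in
theorem tau13_rank (h : p ∈ tau1 M ∪ tau3 M) : PRankLE p 1 M := h.elim tau1_rank tau3_rank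
omit [Finite G] [MFT G] in
theorem tau13_prime (h : p ∈ tau1 M ∪ tau3 M) : p.Prime := h.elim tau1_prime tau3_prime
omit [Finite G] [MFT G] in
theorem tau13_not_sigma (h : p ∈ tau1 M ∪ tau3 M) : p ∉ sigma M :=
  h.elim tau1_not_sigma tau3_not_sigma

omit [Finite G] [MFT G] in
theorem mem_tau13_of_rank1 (hp : p.Prime) (hs : p ∉ sigma M) (hd : p ∣ Nat.card M)
    (hr : PRankLE p 1 M) : p ∈ tau1 M ∪ tau3 M := by
  by_cases h : p ∣ Nat.card ↥⁅M, M⁆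
  · exact Or.inr ⟨hp, hs, h, hr⟩
  · exact Or.inl ⟨hp, hs, hd, h, hr⟩

theorem mem_tau2_of_pnElem (hM : IsCoatom M) (hp : p.Prime) (hs : p ∉ sigma M)
    (hA : PnElem p 2 M A) : p ∈ tau2 M :=
  ⟨hp, hs, pRankLE_of_not_sigma hM hp hs, PG.pnElem_not_pRankLE hp hA⟩

theorem partition_pi_sigma' (hM : IsCoatom M) (hp : p.Prime) (hs : p ∉ sigma M)
    (hd : p ∣ Nat.card M) : p ∈ tau1 M ∨ p ∈ tau2 M ∨ p ∈ tau3 M := by
  by_cases hr : PRankLE p 1 M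
  · exact (mem_tau13_of_rank1 hp hs hd hr).elim Or.inl fun h => Or.inr (Or.inr h)
  · exact Or.inr (Or.inl ⟨hp, hs, pRankLE_of_not_sigma hM hp hs, hr⟩)

theorem partition_pi_mmax (hM : IsCoatom M) (hp : p.Prime) :
    p ∣ Nat.card M ↔ p ∈ tau1 M ∨ p ∈ tau2 M ∨ p ∈ tau3 M ∨ p ∈ sigma M := by
  refine ⟨fun hd => ?_, ?_⟩
  · by_cases hs : p ∈ sigma M
    · tauto
    · have := partition_pi_sigma' hM hp hs hd; tauto
  · rintro (h | h | h | h)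
    exacts [tau1_dvd h, tau2_dvd h, tau3_dvd h, sigma_dvd h]

theorem partition_pi_sigma_compl (hM : IsCoatom M) (hE : IsPiHallOf (sigma M)ᶜ E M) (hp : p.Prime) :
    p ∣ Nat.card E ↔ p ∈ tau1 M ∨ p ∈ tau2 M ∨ p ∈ tau3 M := by
  refine ⟨fun hd => partition_pi_sigma' hM hp (hE.isPi p hp hd)
    (hd.trans (card_dvd_of_le hE.le)), ?_⟩
  rintro (h | h | h)
  exacts [hE.prime_dvd hp (tau1_not_sigma h) (tau1_dvd h),
    hE.prime_dvd hp (tau2_not_sigma h) (tau2_dvd h), hE.prime_dvd hp (tau3_not_sigma h) (tau3_dvd h)]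

omit [Finite G] [MFT G] in
theorem tau1_not_tau2 (h : p ∈ tau1 M) : p ∉ tau2 M := fun h' => h'.2.2.2 h.2.2.2.2
omit [Finite G] [MFT G] in
theorem tau1_not_tau3 (h : p ∈ tau1 M) : p ∉ tau3 M := fun h' => h.2.2.2.1 h'.2.2.1
omit [Finite G] [MFT G] in
theorem tau3_not_tau2 (h : p ∈ tau3 M) : p ∉ tau2 M := fun h' => h'.2.2.2 h.2.2.2
omit [Finite G] [MFT G] in
theorem tau13_not_tau2 (h : p ∈ tau1 M ∪ tau3 M) : p ∉ tau2 M := h.elim tau1_not_tau2 tau3_not_tau2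

omit [MFT G] in
/-- ranks may be computed in `E` -/
theorem pRankLE_sigma_compl_iff (hE : IsPiHallOf (sigma M)ᶜ E M) (hp : p.Prime) (hs : p ∉ sigma M)
    {k : ℕ} : PRankLE p k E ↔ PRankLE p k M :=
  have := Fact.mk hp; PG.pRankLE_iff_of_isPiHallOf hE hs

theorem sigma_compl_of_compl (hM : IsCoatom M) (hE : IsComplIn E Mσ[M] M) :
    IsPiHallOf (sigma M)ᶜ E M := (Msigma_Hall hM).compl hE.symm

theorem sigma_compl_sol (hM : IsCoatom M) (hE : IsPiHallOf (sigma M)ᶜ E M) : Group.IsSolvable E :=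
  sub_mmax_sol hM hE.le

theorem sigma_compl_rank2 (hM : IsCoatom M) (hE : IsPiHallOf (sigma M)ᶜ E M) : RankLE 2 E :=
  sigma'_rankLE_two hM hE.le hE.isPi

omit [MFT G] in
theorem coprime_Msigma (hX : IsPiSubgroup (sigma M)ᶜ X) : (Nat.card Mσ[M]).Coprime (Nat.card X) :=
  (sigmaCore_isPi M).coprime hX

theorem der1_le_Msigma_sup (hM : IsCoatom M) (hE : IsPiHallOf (sigma M)ᶜ E M) :
    ⁅M, M⁆ = Mσ[M] ⊔ ⁅E, E⁆ :=
  le_antisymm (PG.commutator_le_sup_of_le_sup (le_norm_sigmaCore M) (sigmaCore_le M) hE.le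
    (sdprod_sigma hM hE).sup_eq.ge) (sup_le (Msigma_der1 hM) (commutator_mono hE.le hE.le))

theorem sigma_compl_inf_der1 (hM : IsCoatom M) (hE : IsPiHallOf (sigma M)ᶜ E M) :
    E ⊓ ⁅M, M⁆ = ⁅E, E⁆ := by
  rw [pprod_focal_coprime (sdprod_sigma hM hE).sup_eq (sdprod_sigma hM hE).right_norm le_rfl
    (coprime_Msigma hE.isPi), inf_eq_right.2 (der1_le E)]

theorem der1_sigma_compl_hall (hM : IsCoatom M) (hE : IsPiHallOf (sigma M)ᶜ E M) :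
    IsPiHallOf (sigma M)ᶜ ⁅E, E⁆ ⁅M, M⁆ :=
  sigma_compl_inf_der1 hM hE ▸ hE.inf_normal (der1_le M) (self_le_norm_der1 M)

theorem dvd_der1_sigma_compl_iff (hM : IsCoatom M) (hE : IsPiHallOf (sigma M)ᶜ E M) (hp : p.Prime)
    (hs : p ∉ sigma M) : p ∣ Nat.card ↥⁅E, E⁆ ↔ p ∣ Nat.card ↥⁅M, M⁆ :=
  ⟨fun h => h.trans (card_dvd_of_le (commutator_mono hE.le hE.le)),
    (der1_sigma_compl_hall hM hE).prime_dvd hp hs⟩

theorem ex_sigma_compl (hM : IsCoatom M) (hX : X ≤ M) (hs : IsPiSubgroup (sigma M)ᶜ X) :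
    ∃ E, IsPiHallOf (sigma M)ᶜ E M ∧ X ≤ E := exists_hall_ge (mmax_sol hM) hX hs

theorem sigma_compl_neq1 (hM : IsCoatom M) (hE : IsPiHallOf (sigma M)ᶜ E M) : E ≠ ⊥ := by
  rintro rfl
  have := (sdprod_sigma hM hE).sup_eq
  rw [sup_bot_eq] at this
  exact (mmax_der1_lt hM).not_ge (this.ge.trans (Msigma_der1 hM))

/-- 12.1(a) -/
theorem der1_sigma_compl_nil (hM : IsCoatom M) (hE : IsPiHallOf (sigma M)ᶜ E M) :
    Group.IsNilpotent ↥⁅E, E⁆ :=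
  beta'_der1_nil hM (sigma'_beta' hM (hE.isPi.of_le (der1_le E))) (commutator_mono hE.le hE.le)

theorem tau13_rank1 (hK : K ≤ M) (hτ : IsPiSubgroup (tau1 M ∪ tau3 M) K) : RankLE 1 K :=
  PG.rankLE_of_forall_dvd fun p hp hd => pRankLE_of_le (tau13_rank (hτ p hp hd)) hK

theorem tau13_pgroup_cyclic (hp : p ∈ tau1 M ∪ tau3 M) (hP : IsPGroup p P) (hPM : P ≤ M) :
    IsCyclic P := mFT_rank1_cyclic (tau13_prime hp) hP (pRankLE_of_le (tau13_rank hp) hPM)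

omit [MFT G] in
theorem tau1_inf_der1 (hτ : IsPiSubgroup (tau1 M) K) : K ⊓ ⁅M, M⁆ = ⊥ :=
  inf_eq_bot_of_coprime_card (coprime_of_forall_prime fun p hp hd => tau1_not_dvd_der1 (hτ p hp hd))

theorem tau1_cyclic (hM : IsCoatom M) (hK : K ≤ M) (hτ : IsPiSubgroup (tau1 M) K) : IsCyclic K := by
  refine mFT_nil_rank1_cyclic (nilpotent_of_comm' (comm_iff_le_cent.2
    (le_cent_iff_commutator_eq_bot.2 (eq_bot_iff.2 ?_)))) (tau13_rank1 hK (hτ.mono fun _ => Or.inl))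
  exact (le_inf (der1_le K) (commutator_mono hK hK)).trans (tau1_inf_der1 hτ).le

theorem tau3_le_der1 (hM : IsCoatom M) (hK : K ≤ M) (hτ : IsPiSubgroup (tau3 M) K) :
    K ≤ ⁅M, M⁆ := by
  refine le_of_forall_syl_le fun p hp hd => ?_
  obtain ⟨P, hP⟩ := exists_syl hp K
  obtain ⟨S, hS, hPS⟩ := exists_syl_ge hp (syl_isPGroup hp hP) (hP.le.trans hK)
  have h3 := hτ p hp hd
  exact ⟨P, hP, hPS.trans ((cyclic_Sylow_tiVsub_der1 hp hS
    (tau13_pgroup_cyclic (Or.inr h3) (syl_isPGroup hp hS) hS.le)).resolve_left fun h =>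
      (syl_inf_der1_eq_bot_iff hp hS).1 h (tau3_dvd_der1 h3))⟩

theorem tau3_cyclic (hM : IsCoatom M) (hK : K ≤ M) (hτ : IsPiSubgroup (tau3 M) K) : IsCyclic K :=
  mFT_nil_rank1_cyclic (beta'_der1_nil hM (sigma'_beta' hM (hτ.mono fun _ => tau3_not_sigma))
    (tau3_le_der1 hM hK hτ)) (tau13_rank1 hK (hτ.mono fun _ => Or.inr))

theorem tau3_hall_le_der1 (hM : IsCoatom M) (hE : IsPiHallOf (sigma M)ᶜ E M)
    (h₃ : IsPiHallOf (tau3 M) E₃ E) : E₃ ≤ ⁅E, E⁆ :=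
  sigma_compl_inf_der1 hM hE ▸ le_inf h₃.le (tau3_le_der1 hM (h₃.le.trans hE.le) h₃.isPi)

theorem tau3_hall_normal (hM : IsCoatom M) (hE : IsPiHallOf (sigma M)ᶜ E M)
    (h₃ : IsPiHallOf (tau3 M) E₃ E) : E ≤ N[E₃] :=
  (self_le_norm_der1 E).trans (nil_norm_le_norm_hall (der1_sigma_compl_nil hM hE)
    (h₃.of_le (tau3_hall_le_der1 hM hE h₃) (der1_le E)))

theorem ex_tau13_compl (hM : IsCoatom M) (hE : IsPiHallOf (sigma M)ᶜ E M) (hK : K ≤ E)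
    (hτ : IsPiSubgroup (tau1 M ∪ tau3 M) K) :
    ∃ E₁ E₃, IsPiHallOf (tau1 M) E₁ E ∧ IsPiHallOf (tau3 M) E₃ E ∧ K ≤ E₃ ⊔ E₁ ∧
      (IsPiSubgroup (tau1 M) K → K ≤ E₁) ∧ (IsPiSubgroup (tau3 M) K → K ≤ E₃) := by
  have hs := sigma_compl_sol hM hE
  obtain ⟨E₃, h₃⟩ := exists_hall (tau3 M) hs
  have hn := tau3_hall_normal hM hE h₃
  have h3 : IsPiSubgroup (tau3 M) K → K ≤ E₃ := h₃.le_of_normal hn hK
  by_cases h1 : IsPiSubgroup (tau1 M) K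
  · obtain ⟨E₁, h₁, hle⟩ := exists_hall_ge hs hK h1
    exact ⟨E₁, E₃, h₁, h₃, hle.trans le_sup_right, fun _ => hle, h3⟩
  obtain ⟨E₁, h₁⟩ := exists_hall (tau1 M) hs
  obtain ⟨g, hg, h⟩ := (h₃.sup h₁ (Or.inr (h₁.le.trans hn))).exists_le_conj hs hK
    (by rwa [Set.union_comm])
  rw [conj_sup, conj_eq_self (hn hg)] at h
  exact ⟨_, E₃, h₁.conj_of_mem hg, h₃, h, fun h => absurd h h1, h3⟩

theorem ex_tau2_compl (hM : IsCoatom M) (hE : IsPiHallOf (sigma M)ᶜ E M)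
    (h₁ : IsPiHallOf (tau1 M) E₁ E) (h₃ : IsPiHallOf (tau3 M) E₃ E) :
    ∃ E₂, SigmaCompl M E E₁ E₂ E₃ := by
  have hs := sigma_compl_sol hM hE
  obtain ⟨L, hL, hle⟩ := exists_hall_ge (π := tau1 M ∪ tau2 M) hs h₁.le
    (h₁.isPi.mono fun _ => Or.inl)
  obtain ⟨E₂, h₂⟩ := exists_hall (tau2 M) (solv_of_le hs hL.le)
  refine ⟨E₂, hE, h₁, h₂.trans hL fun _ _ => Or.inr, h₃, fun x hx => ?_⟩
  have h₁' : IsPiHallOf (tau2 M)ᶜ E₁ L := (h₁.of_le hle hL.le).congr' fun p hp hd =>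
    ⟨tau1_not_tau2, fun h => (hL.isPi p hp hd).resolve_right h⟩
  exact (h₂.isComplIn h₁').exists_mul (sup_le h₂.le hle hx)

theorem ex_sigmaCompl (hM : IsCoatom M) (hE : IsPiHallOf (sigma M)ᶜ E M) :
    ∃ E₁ E₂ E₃, SigmaCompl M E E₁ E₂ E₃ := by
  obtain ⟨E₁, E₃, h₁, h₃, -⟩ := ex_tau13_compl hM hE bot_le isPiSubgroup_bot
  obtain ⟨E₂, h⟩ := ex_tau2_compl hM hE h₁ h₃
  exact ⟨E₁, E₂, E₃, h⟩

theorem ex_sigmaCompl_tau1 (hM : IsCoatom M) (hE : IsPiHallOf (sigma M)ᶜ E M) (hK : K ≤ E)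
    (hτ : IsPiSubgroup (tau1 M) K) : ∃ E₁ E₂ E₃, SigmaCompl M E E₁ E₂ E₃ ∧ K ≤ E₁ := by
  obtain ⟨E₁, E₃, h₁, h₃, -, h, -⟩ := ex_tau13_compl hM hE hK (hτ.mono fun _ => Or.inl)
  obtain ⟨E₂, h'⟩ := ex_tau2_compl hM hE h₁ h₃
  exact ⟨E₁, E₂, E₃, h', h hτ⟩

omit [Finite G] [MFT G] in
theorem SigmaCompl.hall (h : SigmaCompl M E E₁ E₂ E₃) : IsPiHallOf (sigma M)ᶜ E M := h.1
omit [Finite G] [MFT G] in
theorem SigmaCompl.hall1 (h : SigmaCompl M E E₁ E₂ E₃) : IsPiHallOf (tau1 M) E₁ E := h.2.1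
omit [Finite G] [MFT G] in
theorem SigmaCompl.hall2 (h : SigmaCompl M E E₁ E₂ E₃) : IsPiHallOf (tau2 M) E₂ E := h.2.2.1
omit [Finite G] [MFT G] in
theorem SigmaCompl.hall3 (h : SigmaCompl M E E₁ E₂ E₃) : IsPiHallOf (tau3 M) E₃ E := h.2.2.2.1
omit [Finite G] [MFT G] in
theorem SigmaCompl.prod (h : SigmaCompl M E E₁ E₂ E₃) : ProdGroup E₂ E₁ := h.2.2.2.2

omit [MFT G] in
theorem tau1'_core_hall (hL : L ≤ M) : IsPiHallOf (tau1 M)ᶜ O[(tau1 M)ᶜ](L) L :=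
  hall_piCoreOf_of_der1 fun _ _ hd h =>
    tau1_not_dvd_der1 h (hd.trans (card_dvd_of_le (commutator_mono hL hL)))

/-- 12.1(b–f) -/
theorem sigma_compl_context (hM : IsCoatom M) (hE : SigmaCompl M E E₁ E₂ E₃) :
    (E₃ ≤ ⁅E, E⁆ ∧ E ≤ N[E₃]) ∧ (E₂ = ⊥ → E₁ ≠ ⊥) ∧ (IsCyclic E₁ ∧ IsCyclic E₃) ∧
    (Sdprod E₂ E₁ (E₂ ⊔ E₁) ∧ Sdprod E₃ (E₂ ⊔ E₁) E ∧
      Sdprod E₃ E₂ (E₃ ⊔ E₂) ∧ Sdprod (E₃ ⊔ E₂) E₁ E) ∧
    E₃ ⊓ C[E] = ⊥ := by
  obtain ⟨hE, h₁, h₂, h₃, hp⟩ := hE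
  have hd := tau3_hall_le_der1 hM hE h₃
  have hn := tau3_hall_normal hM hE h₃
  have c3 := tau3_cyclic hM (h₃.le.trans hE.le) h₃.isPi
  have part := fun p hp hd => (partition_pi_sigma_compl (p := p) hM hE hp).1 hd
  have h21 : IsPiSubgroup (tau1 M)ᶜ E₂ := h₂.isPi.mono fun _ h h' => tau1_not_tau2 h' h
  have c21 : IsComplIn E₂ E₁ (E₂ ⊔ E₁) :=
    ⟨le_sup_left, le_sup_right, h21.inf_eq_bot' h₁.isPi, hp⟩
  have hL : E₂ ⊔ E₁ ≤ E := sup_le h₂.le h₁.le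
  have s21 : Sdprod E₂ E₁ (E₂ ⊔ E₁) := by
    refine ⟨c21, ?_⟩
    have := (tau1'_core_hall (hL.trans hE.le)).eq_of_normal (self_le_norm_piCoreOf _ _)
      ((h₁.of_le le_sup_right hL).compl c21.symm)
    exact (self_le_norm_piCoreOf _ _).trans (congrArg (fun X : Subgroup G => N[X]) this).ge
  have s3 : Sdprod E₃ (E₂ ⊔ E₁) E := h₃.sdprod hn
    ((h₂.sup h₁ (Or.inr s21.right_norm)).congr' fun p hp hd =>
      ⟨fun h h' => h.elim (tau3_not_tau2 h') fun h => tau1_not_tau3 h h', fun h => by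
        have := part p hp hd; simp only [Set.mem_union, Set.mem_compl_iff] at h ⊢; tauto⟩)
  have h32 : IsPiHallOf (tau1 M)ᶜ (E₃ ⊔ E₂) E :=
    (h₃.sup h₂ (Or.inr (h₂.le.trans hn))).congr' fun p hp hd =>
      ⟨fun h h' => h.elim (tau1_not_tau3 h') (tau1_not_tau2 h'), fun h => by
        have := part p hp hd; simp only [Set.mem_union, Set.mem_compl_iff] at h ⊢; tauto⟩
  have n32 : E ≤ N[E₃ ⊔ E₂] := by
    rw [(tau1'_core_hall hE.le).eq_of_normal (self_le_norm_piCoreOf _ _) h32]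
    exact self_le_norm_piCoreOf _ _
  refine ⟨⟨hd, hn⟩, ?_, ⟨tau1_cyclic hM (h₁.le.trans hE.le) h₁.isPi, c3⟩,
    ⟨s21, s3, s3.subr le_sup_left, h32.sdprod n32 (by rwa [compl_compl])⟩, ?_⟩
  · rintro rfl rfl
    have := s3.sup_eq
    rw [sup_bot_eq, sup_bot_eq] at this
    exact (commutator_lt_of_solvable (sigma_compl_sol hM hE) (sigma_compl_neq1 hM hE)).not_ge
      (this.ge.trans hd)
  · have := inf_cent_inf_commutator_eq_bot h₃.le (isMulCommutative_of_isCyclic c3) h₃.coprime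
    rwa [inf_eq_left.2 (inf_le_left.trans hd)] at this

/-- 12.1(g) -/
theorem tau2_not_beta (hM : IsCoatom M) (hp : p ∈ tau2 M) :
    ¬ IsIdealPrime p G ∧ ∀ A, PnElem p 2 M A → PmaxElem p ⊤ A :=
  ⟨sigma'_rank2_beta' hM hp.1 hp.2.1 hp.2.2.2, fun _ => sigma'_rank2_max hM hp.1 hp.2.1⟩

omit [MFT G] in
theorem ex_tau2Elem (hE : IsPiHallOf (sigma M)ᶜ E M) (hp : p ∈ tau2 M) : ∃ A, PnElem p 2 E A :=
  PG.exists_pnElem_of_not_pRankLE hp.1 fun h =>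
    hp.2.2.2 ((pRankLE_sigma_compl_iff hE hp.1 hp.2.1).1 h)

/-- 12.2(a) -/
theorem prime_class_mmax_norm (hM : IsCoatom M) (hp : p.Prime) (hX : IsPGroup p X)
    (hn : N[X] ≤ M) : p ∈ sigma M ∨ p ∈ tau2 M :=
  (em _).imp_right fun hs => sigma'_norm_mmax_rank2 hM hp hs hX hn

theorem tau13_not_norm_le (hM : IsCoatom M) (hp : p ∈ tau1 M ∪ tau3 M) (hX : IsPGroup p X) :
    ¬ N[X] ≤ M := fun hn =>
  (prime_class_mmax_norm hM (tau13_prime hp) hX hn).elim (tau13_not_sigma hp) (tau13_not_tau2 hp)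

/-- 12.2(b) -/
theorem mmax_norm_notJ (hM : IsCoatom M) (hMs : IsCoatom Ms) (hX : IsPGroup p X) (hXM : X ≤ M)
    (hn : N[X] ≤ Ms) (h : (p ∈ sigma M ∧ M ≠ Ms) ∨ p ∈ tau1 M ∨ p ∈ tau3 M) : ¬ Conjg M Ms := by
  rintro ⟨g, rfl⟩
  rcases h with ⟨hs, hne⟩ | h
  · obtain ⟨c, hc, e⟩ := (sigma_group_trans hM hs hX).2.1 g 1 (le_normalizer.trans hn)
      (by rwa [one_conj])
    rw [one_conj, conj_eq_self_of_mem (hn (cent_le_norm X hc))] at e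
    exact hne e
  · exact tau13_not_norm_le hMs (by rwa [tau1_conj, tau3_conj]) hX hn

omit [MFT G] in
private theorem commutator_le_of_normal_sup (hp : p.Prime) (hN : H ≤ N[N]) (hn : H ≤ N[N ⊔ A])
    (hA : IsPGroup p A) (hAH : A ≤ H) (hK : IsPiSubgroup {p}ᶜ K) (hKH : K ≤ H) (hAK : A ≤ N[K]) :
    ⁅K, A⁆ ≤ K ⊓ N := by
  refine le_inf (commutator_le_of_le_norm_left hAK) ?_
  have h1 : im (coset N) K ≤ C[im (coset N) A] := by
    refine le_cent_of_norm_of_coprime ?_ (im_norm hAK) (coprime_im (hK.coprime' (isPi_of_isPGroup hp hA)))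
    rw [im_le_norm_iff (hKH.trans hN) (hAH.trans hN), kr_coset, sup_comm]
    exact hKH.trans hn
  rwa [im_le_cent_iff (hKH.trans hN) (hAH.trans hN), kr_coset] at h1

theorem exceptional_of_norm_le (hp : p.Prime) (hs : p ∉ sigma M) (hA : PnElem p 2 L A)
    (hA₀ : PnElem p 1 A A₀) (hn : N[A₀] ≤ M) : Exceptional p M A₀ A :=
  ⟨hp, hs, hA.of_le ((hA.le_cent.trans (cent_anti hA₀.le)).trans ((cent_le_norm _).trans hn)),
    hA₀, hn⟩

/-- 12.3 -/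
theorem nonuniq_p2Elem_cent_sigma (hM : IsCoatom M) (hMs : IsCoatom Ms) (hne : Ms ≠ M)
    (hp : p.Prime) (hA : PnElem p 2 M A) (hA₀ : PnElem p 1 A A₀) (hn : N[A₀] ≤ Ms) :
    (p ∉ sigma M → A ≤ C[Mσ[M] ⊓ Ms]) ∧ (p ∉ alpha M → A ≤ C[Mα[M] ⊓ Ms]) := by
  have hAH : A ≤ Ms := (hA.le_cent.trans (cent_anti hA₀.le)).trans ((cent_le_norm _).trans hn)
  have hns : Ms ≤ N[Mσ[Ms] ⊔ A] := by
    by_cases hs : p ∈ sigma Ms
    · rw [sup_eq_left.2 (pgroup_le_Msigma hMs hs hA.isPGroup hAH)]; exact le_norm_sigmaCore Ms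
    · exact exceptional_mul_sigma_normal hMs (exceptional_of_norm_le hp hs hA hA₀ hn)
  have key : ∀ {K}, IsPiSubgroup {p}ᶜ K → M ≤ N[K] → ⁅K ⊓ Ms, A⁆ ≤ K ⊓ Mσ[Ms] := fun hK hKn =>
    (commutator_le_of_normal_sup hp (le_norm_sigmaCore Ms) hns hA.isPGroup hAH hK.inf_left
      inf_le_right (le_norm_inf (hA.le.trans hKn) (le_norm_self hAH))).trans
      (inf_le_inf_right _ inf_le_left)
  have ha : p ∉ sigma M → A ≤ C[Mσ[M] ⊓ Ms] := by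
    intro hs
    have hK : IsPiSubgroup {p}ᶜ Mσ[M] := (sigmaCore_isPi M).mono fun r hr (e : r = p) => hs (e ▸ hr)
    have h1 := key hK (le_norm_sigmaCore M)
    by_cases hs' : p ∈ sigma Ms
    · have hc : ¬ Conjg Ms M := by
        rintro ⟨g, rfl⟩; exact hs (by rwa [sigma_conj])
      have h2 := (sigma_disjoint hMs hM hc).1
      have hnK : A ≤ N[Mσ[M] ⊓ Ms] :=
        le_norm_inf (hA.le.trans (le_norm_sigmaCore M)) (le_norm_self hAH)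
      have hco := hK.inf_left (K := Ms) |>.coprime' (isPi_of_isPGroup hp hA.isPGroup)
      refine le_cent_symm (coprime_le_cent_of_commutator_le_cent hnK hco ?_)
      have hn' := (der1_le Ms).trans (le_norm_alphaCore Ms)
      have hA' := (pgroup_le_Msigma hMs hs' hA.isPGroup hAH).trans (Msigma_der1 hMs)
      have h0 := (h1.trans inf_le_right).trans (Msigma_der1 hMs)
      have h3 := le_cent_of_nilpotent_of_coprime (Malpha_quo_nil hMs) (im_mono h0) (im_mono hA')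
        (coprime_im (coprime_card_of_le hco (commutator_le_of_le_norm_left hnK) le_rfl))
      rw [im_le_cent_iff (h0.trans hn') (hA'.trans hn'), kr_coset] at h3
      rw [le_cent_iff_commutator_eq_bot, eq_bot_iff, ← h2]
      exact le_inf h3 ((commutator_mono (h1.trans inf_le_left) le_rfl).trans
        (commutator_le_of_le_norm_left (hA.le.trans (le_norm_sigmaCore M))))
    · rw [le_cent_iff_commutator_eq_bot', eq_bot_iff]
      refine h1.trans (not_not.1 fun h => hne.symm (exceptional_sigma_uniq hMs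
        (exceptional_of_norm_le hp hs' hA hA₀ hn) hM hA.le fun e => h e.le))
  refine ⟨ha, fun hα => ?_⟩
  by_cases hs : p ∈ sigma M
  · have hc := mmax_norm_notJ hM hMs hA₀.isPGroup (hA₀.le.trans hA.le) hn (Or.inl ⟨hs, hne.symm⟩)
    rw [le_cent_iff_commutator_eq_bot', eq_bot_iff, ← (sigma_disjoint hM hMs hc).1]
    exact key ((alphaCore_isPi M).mono fun r hr (e : r = p) => hα (e ▸ hr)) (le_norm_alphaCore M)
  · exact (ha hs).trans (cent_anti (inf_le_inf_right _ (Malpha_sub_Msigma hM)))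

theorem exists_mmax_ne_of_not_umax (hX : X ≠ ⊤) (h : ¬ UMax X M) :
    ∃ H : Subgroup G, IsCoatom H ∧ X ≤ H ∧ H ≠ M := by
  by_contra hc
  push Not at hc
  exact h (umax_of_forall hX hc)

/-- 12.4 -/
theorem p2Elem_mmax (hM : IsCoatom M) (hp : p.Prime) (hA : PnElem p 2 M A) :
    C[A] ≤ M ∧ ((∀ A₀, PnElem p 1 A A₀ → ¬ UMax N[A₀] M) →
      p ∈ sigma M ∧ Mα[M] = ⊥ ∧ Group.IsNilpotent Mσ[M]) := by
  have := Fact.mk hp
  by_cases h : ∀ A₀, PnElem p 1 A A₀ → ¬ UMax N[A₀] M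
  swap
  · refine ⟨?_, fun h' => absurd h' h⟩
    push Not at h
    obtain ⟨A₀, h1, h2⟩ := h
    exact (cent_anti h1.le).trans ((cent_le_norm _).trans h2.le)
  have key : ∀ Y, PnElem p 1 A Y → RankLE 2 ↥(M ⊓ C[Y]) ∧ (p ∉ sigma M → Mσ[M] ⊓ C[Y] ≤ C[A]) ∧
      (p ∉ alpha M → Mα[M] ⊓ C[Y] ≤ C[A]) := by
    intro Y hY
    obtain ⟨H, hH, hn, hne⟩ := exists_mmax_ne_of_not_umax
      (mFT_norm_pgroup_proper hp hY.isPGroup (hY.ne_bot hp)) (h Y hY)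
    have hc := (cent_le_norm Y).trans hn
    obtain ⟨h1, h2⟩ := nonuniq_p2Elem_cent_sigma hM hH hne hp hA hY hn
    exact ⟨not_not.1 fun hr => hne ((rank3_Uniqueness (sub_mmax_proper hM inf_le_left) hr).eq hM
      inf_le_left hH (inf_le_right.trans hc)),
      fun hs => (inf_le_inf_left _ hc).trans (le_cent_symm (h1 hs)),
      fun hs => (inf_le_inf_left _ hc).trans (le_cent_symm (h2 hs))⟩
  have hr : RankLE 2 ↥(M ⊓ C[A]) := by
    obtain ⟨Y, hY⟩ := exists_pnElem_one hp (hA.of_le le_rfl).dvd_card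
    exact rankLE_of_le (key Y hY).1 (inf_le_inf_left M (cent_anti hY.le))
  have hs : p ∈ sigma M := by
    by_contra hs
    have hA' := isPi_of_isPGroup_mem (π := (sigma M)ᶜ) hp hA.isPGroup hs
    have h1 := sub'cent_sigma_rank1 hM hA.le hA'
    rw [inf_eq_left.2 (le_cent_symm (coprime_pnElem_gen_cent hp hA
      (hA.le.trans (le_norm_sigmaCore M)) (coprime_Msigma hA') fun B hB => (key B hB).2.1 hs))] at h1
    exact PG.pnElem_not_rankLE_self hp hA h1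
  obtain ⟨P, hP, hAP⟩ := exists_syl_ge hp hA.isPGroup hA.le
  have pP := syl_isPGroup hp hP
  have hP1 : P ≠ ⊥ := ne_bot_of_le (hA.ne_bot hp) hAP
  have hZA := PG.omegaOne_center_le_of_pmaxElem
    ((PG.pmaxElem_of_pRankLE_two_inf_cent hA (hr p hp)).of_le hAP hP.le)
  have hZ1 := PG.omegaOne_ne_bot pP.to_inf_left (PG.center_ne_bot pP hP1)
  have ha : p ∉ alpha M := by
    obtain ⟨Y, hY⟩ := exists_pnElem_one hp (PG.dvd_card_of_ne_bot (hA.isPGroup.to_le hZA) hZ1)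
    exact fun ha => ha.2 ((syl_pRankLE_iff hp hP).1 (pRankLE_of_le ((key Y (hY.mono hZA)).1 p hp)
      (le_inf hP.le (le_cent_symm (hY.le.trans ((PG.omegaOne_le _ _).trans inf_le_right))))))
  have hMa : Mα[M] = ⊥ := not_not.1 fun h1 => Malpha_rank3 hM h1 (rankLE_of_le hr
    (le_inf (alphaCore_le M) (coprime_pnElem_gen_cent hp hA (hA.le.trans (le_norm_alphaCore M))
      ((alphaCore_isPi M).coprime (isPi_of_isPGroup_mem hp hA.isPGroup ha))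
      fun B hB => (key B hB).2.2 ha)))
  have hnil := nil_of_le (der1_nil_of_Malpha_eq_bot hM hMa) (Msigma_der1 hM)
  refine ⟨(cent_anti hZA).trans (mmax_normal_cent_le hM (hZA.trans hA.le) ?_ hZ1),
    fun _ => ⟨hs, hMa, hnil⟩⟩
  have hn := (le_norm_sigmaCore M).trans (norm_le_norm_syl_of_nilpotent hp hnil (syl_Msigma hM hs hP))
  exact PG.le_norm_omegaOne (le_norm_inf hn (le_norm_cent hn))

theorem p2Elem_cent_le (hM : IsCoatom M) (hp : p.Prime) (hA : PnElem p 2 M A) : C[A] ≤ M :=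
  (p2Elem_mmax hM hp hA).1

theorem tau2_exceptional (hM : IsCoatom M) (hp : p ∈ tau2 M) (hA : PnElem p 2 M A) :
    ∃ A₀, Exceptional p M A₀ A := by
  by_contra h
  refine hp.2.1 ((p2Elem_mmax hM hp.1 hA).2 fun A₀ h1 h2 => h ⟨A₀, hp.1, hp.2.1, hA, h1, h2.le⟩).1

/-- 12.5(a) -/
theorem tau2_Msigma_nil (hM : IsCoatom M) (hp : p ∈ tau2 M) : Group.IsNilpotent Mσ[M] :=
  let ⟨_, hA⟩ := PG.exists_pnElem_of_not_pRankLE hp.1 hp.2.2.2
  let ⟨_, h⟩ := tau2_exceptional hM hp hA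
  exceptional_sigma_nil hM h

/-- 12.5(b), first part -/
theorem tau2_Sylow_abelian (hM : IsCoatom M) (hp : p ∈ tau2 M) (hP : IsPGroup p P) (hPM : P ≤ M) :
    IsMulCommutative P :=
  let ⟨_, hA⟩ := PG.exists_pnElem_of_not_pRankLE hp.1 hp.2.2.2
  let ⟨_, h⟩ := tau2_exceptional hM hp hA
  let ⟨_, hS, hPS⟩ := exists_syl_ge hp.1 hP hPM
  comm_of_le (exceptional_Sylow_abelian hM h hS) hPS

theorem sigma'_pgroup_abelian (hM : IsCoatom M) (hp : p.Prime) (hs : p ∉ sigma M)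
    (hP : IsPGroup p P) (hPM : P ≤ M) : IsMulCommutative P := by
  by_cases hr : PRankLE p 1 M
  · exact isMulCommutative_of_isCyclic (mFT_rank1_cyclic hp hP (pRankLE_of_le hr hPM))
  · exact tau2_Sylow_abelian hM ⟨hp, hs, pRankLE_of_not_sigma hM hp hs, hr⟩ hP hPM

/-- 12.5(b–f) -/
theorem tau2_context (hM : IsCoatom M) (hp : p ∈ tau2 M) (hA : PnElem p 2 M A) :
    (∀ P, IsPiHallOf {p} P M → A ≤ P → omegaOne p P = A ∧ ¬ N[P] ≤ M) ∧
    M ≤ N[Mσ[M] ⊔ A] ∧ Mσ[M] ⊓ C[A] = ⊥ ∧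
    (∀ Ms, IsCoatom Ms → A ≤ Ms → Ms ≠ M → Mσ[M] ⊓ Ms = ⊥) ∧
    ∃ A₁, PnElem p 1 A A₁ ∧ Mσ[M] ⊓ C[A₁] = ⊥ := by
  obtain ⟨A₀, hex⟩ := tau2_exceptional hM hp hA
  obtain ⟨P, hP, hAP⟩ := exists_syl_ge hp.1 hA.isPGroup hA.le
  obtain ⟨-, hreg, A₁, -, h1, -, -, h2, -⟩ := exceptional_structure hM hex hP hAP
  refine ⟨fun P hP hAP => ⟨(exceptional_structure hM hex hP hAP).1.symm,
    not_norm_le_of_not_sigma hp.1 hA.dvd_card hp.2.1 hP⟩, exceptional_mul_sigma_normal hM hex, hreg,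
    fun H hH hAH hne => eq_bot_iff.2 (le_trans (le_inf inf_le_left (le_cent_symm ?_)) hreg.le),
    A₁, h1, h2⟩
  by_cases h : ∀ A₀, PnElem p 1 A A₀ → ¬ UMax N[A₀] H
  · obtain ⟨hs, -, hnil⟩ := (p2Elem_mmax hH hp.1 (hA.of_le hAH)).2 h
    have hc : ¬ Conjg H M := by
      rintro ⟨g, rfl⟩; exact hp.2.1 (by rwa [sigma_conj])
    rw [le_cent_iff_commutator_eq_bot, eq_bot_iff, ← ((sigma_disjoint hH hM hc).2.2 hnil).1]
    exact le_inf ((commutator_mono (pgroup_le_Msigma hH hs hA.isPGroup hAH) le_rfl).trans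
      (commutator_le_of_le_norm_left (inf_le_right.trans (le_norm_sigmaCore H))))
      ((commutator_mono le_rfl inf_le_left).trans
        (commutator_le_of_le_norm_right (hA.le.trans (le_norm_sigmaCore M))))
  · push Not at h
    obtain ⟨A₀, h1, h2⟩ := h
    exact (nonuniq_p2Elem_cent_sigma hM hH hne hp.1 hA h1 h2.le).1 hp.2.1

theorem tau2_umax_of_inf_ne_bot (hM : IsCoatom M) (hp : p ∈ tau2 M) (hA : PnElem p 2 M A)
    (hX : X ≠ ⊤) (hAX : A ≤ X) (h : Mσ[M] ⊓ X ≠ ⊥) : UMax X M :=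
  umax_of_forall hX fun L hL hXL => not_not.1 fun hne => h (eq_bot_iff.2
    ((inf_le_inf_left _ hXL).trans ((tau2_context hM hp hA).2.2.2.1 L hL (hAX.trans hXL) hne).le))

/-- 12.6(a–c) -/
theorem tau2_compl_context (hM : IsCoatom M) (hE : IsPiHallOf (sigma M)ᶜ E M) (hp : p ∈ tau2 M)
    (hA : PnElem p 2 E A) :
    (E ≤ N[A] ∧ ∀ X, PnElem p 1 E X → X ≤ A) ∧
    (C[A] ≤ E ∧ M ⊓ N[A] = E ∧ ¬ N[A] ≤ M) ∧
    ∀ X, PnElem p 1 E X → Mσ[M] ⊓ C[X] ≠ ⊥ → UMax C[X] M := by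
  have hAM := hA.mono hE.le
  have hd := sdprod_sigma hM hE
  obtain ⟨h1, h2, h3, -⟩ := tau2_context hM hp hAM
  have hn : E ≤ N[A] := by
    have e : (Mσ[M] ⊔ A) ⊓ E = A := by
      rw [dedekind' (Or.inr (hA.le.trans hd.right_norm)) hA.le, hd.inf_eq, bot_sup_eq]
    rw [← e]
    exact le_norm_inf (hE.le.trans h2) le_normalizer
  have hsyl : ∀ P, IsPiHallOf {p} P E → omegaOne p P = A ∧ ¬ N[P] ≤ M := fun P hP =>
    h1 P (hP.trans_single hE hp.2.1) (le_syl_of_norm hp.1 hP hA.isPGroup hA.le (hP.le.trans hn))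
  have hX : ∀ X, PnElem p 1 E X → X ≤ A := fun X hX => by
    obtain ⟨P, hP, hXP⟩ := exists_syl_ge hp.1 hX.isPGroup hX.le
    exact (hsyl P hP).1 ▸ PG.elemAb_le_omegaOne hX.elem hXP
  have e : M ⊓ N[A] = E := by
    rw [← hd.sup_eq, dedekind' (Or.inr hd.right_norm) hn, coprime_inf_norm_eq_inf_cent
      (hA.le.trans hd.right_norm) (coprime_Msigma (hE.isPi.of_le hA.le)), h3, bot_sup_eq]
  refine ⟨⟨hn, hX⟩, ⟨e ▸ le_inf (p2Elem_cent_le hM hp.1 hAM) (cent_le_norm A), e, fun h => ?_⟩,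
    fun X hX' h => tau2_umax_of_inf_ne_bot hM hp hAM (mFT_cent_proper (hX'.ne_bot hp.1))
      (hA.le_cent.trans (cent_anti (hX X hX'))) h⟩
  obtain ⟨P, hP⟩ := exists_syl hp.1 E
  exact (hsyl P hP).2 ((PG.norm_le_norm_omegaOne p P).trans ((hsyl P hP).1.symm ▸ h))

theorem tau2_cent_tau13_regular (hM : IsCoatom M) (hp : p ∈ tau2 M) (hA : PnElem p 2 M A)
    (hK : K ≤ C[A]) (hτ : IsPiSubgroup (tau1 M ∪ tau3 M) K) : Semiregular Mσ[M] K := by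
  refine semiregular_of_card_prime fun X hX hq => not_not.1 fun h => ?_
  exact tau13_not_norm_le hM (hτ _ hq (card_dvd_of_le hX)) (isPGroup_of_card_eq_prime rfl)
    (tau2_umax_of_inf_ne_bot hM hp hA (mFT_norm_pgroup_proper hq (isPGroup_of_card_eq_prime rfl)
      (ne_bot_of_card_prime hq)) (le_norm_of_cent (le_cent_symm (hX.trans hK)))
      (ne_bot_of_le h (inf_le_inf_left _ (cent_le_norm X)))).le

theorem tau3_cent_tau2Elem (hM : IsCoatom M) (hE : IsPiHallOf (sigma M)ᶜ E M)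
    (h₃ : IsPiHallOf (tau3 M) E₃ E) (hp : p ∈ tau2 M) (hA : PnElem p 2 E A) : E₃ ≤ C[A] :=
  le_cent_of_norm_of_coprime (h₃.le.trans (tau2_compl_context hM hE hp hA).1.1)
    (hA.le.trans (tau3_hall_normal hM hE h₃))
    (h₃.isPi.coprime (isPi_of_isPGroup_mem hp.1 hA.isPGroup fun h => tau3_not_tau2 h hp))

theorem tau2Elem_le_hall (hM : IsCoatom M) (hE : IsPiHallOf (sigma M)ᶜ E M)
    (h₂ : IsPiHallOf (tau2 M) E₂ E) (hp : p ∈ tau2 M) (hA : PnElem p 2 E A) : A ≤ E₂ :=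
  h₂.le_of_norm hA.le (isPi_of_isPGroup_mem hp.1 hA.isPGroup hp)
    (Or.inr (h₂.le.trans (tau2_compl_context hM hE hp hA).1.1))

theorem tau2_sigma_disjoint (hM : IsCoatom M) (hp : p ∈ tau2 M) (hMs : IsCoatom Ms)
    (hc : ¬ Conjg M Ms) : Mσ[M] ⊓ Mσ[Ms] = ⊥ ∧ Disjoint (sigma M) (sigma Ms) :=
  (sigma_disjoint hM hMs hc).2.2 (tau2_Msigma_nil hM hp)

/-- 12.6(d–f) -/
theorem tau2_regular (hM : IsCoatom M) (hE : SigmaCompl M E E₁ E₂ E₃) (hp : p ∈ tau2 M)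
    (hA : PnElem p 2 E A) :
    Semiregular Mσ[M] E₃ ∧ Semiregular Mσ[M] (E₁ ⊓ C[A]) ∧
    ∀ Ms, IsCoatom Ms → ¬ Conjg M Ms →
      Mσ[M] ⊓ Mσ[Ms] = ⊥ ∧ Disjoint (sigma M) (sigma Ms) :=
  ⟨tau2_cent_tau13_regular hM hp (hA.mono hE.hall.le) (tau3_cent_tau2Elem hM hE.hall hE.hall3 hp hA)
      (hE.hall3.isPi.mono fun _ => Or.inr),
    tau2_cent_tau13_regular hM hp (hA.mono hE.hall.le) inf_le_right
      (hE.hall1.isPi.mono fun _ => Or.inl).inf_left,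
    fun _ => tau2_sigma_disjoint hM hp⟩

end Cfsg.Agent.BG
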