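import Cfsg.Agent.BG.S12a

/-! Bender–Glauberman §12, second part: 12.7–12.11. -/

set_option autoImplicit false
set_option linter.unusedSectionVars false
set_option linter.unusedVariables false

namespace Cfsg.Agent.BG

open Subgroup Cfsg.Agent.GT

universe u

section General
variable {G : Type u} [Group G] [Finite G] {H K L S X : Subgroup G} {π : Set ℕ}

theorem nil_le_cent_of_comm_hall (hK : Group.IsNilpotent K) (hH : IsPiHallOf π H K)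
    (hc : IsMulCommutative H) : K ≤ C[H] := by
  rw [← nil_piCoreOf_sup_compl hK π, ← nil_hall_eq_piCoreOf hK hH]
  exact sup_le (comm_iff_le_cent.1 hc)
    (le_cent_of_nilpotent_of_coprime hK (piCoreOf_le _ _) hH.le
      ((piCoreOf_isPi _ _).coprime' hH.isPi))

theorem comm_of_nil_of_forall_pgroup (hK : Group.IsNilpotent K)
    (h : ∀ p : ℕ, p.Prime → ∀ P, P ≤ K → IsPGroup p P → P ≠ ⊥ → IsMulCommutative P) :
    IsMulCommutative K :=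
  comm_iff_le_cent.2 (le_of_forall_syl_le fun p hp hd =>
    let ⟨P, hP⟩ := exists_syl hp K
    ⟨P, hP, le_cent_symm (nil_le_cent_of_comm_hall hK hP
      (h p hp P hP.le (syl_isPGroup hp hP) ((syl_ne_bot_iff hp hP).2 hd)))⟩)

theorem norm_cent_commutator_of_der1_le_cent (hL : L ≤ N[K]) (hX : X ≤ L)
    (h : ⁅L, L⁆ ≤ C[K]) : L ≤ N[K ⊓ C[X]] ∧ L ≤ N[⁅K, X⁆] := by
  have hn : L ≤ N[X ⊔ (L ⊓ C[K])] :=
    le_norm_of_commutator_le_of_le (sup_le hX inf_le_left)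
      ((le_inf (der1_le L) h).trans le_sup_right)
  have e1 : K ⊓ C[X ⊔ (L ⊓ C[K])] = K ⊓ C[X] := by
    rw [cent_sup, inf_comm C[X], ← inf_assoc, inf_eq_left.2 (le_cent_symm inf_le_right)]
  have e2 : ⁅K, X ⊔ (L ⊓ C[K])⁆ = ⁅K, X⁆ := by
    rw [commutator_comm, commutator_sup_cent_eq
      (Or.inl (hX.trans (le_norm_inf le_normalizer (le_norm_cent hL)))) inf_le_right, commutator_comm]
  exact ⟨e1 ▸ le_norm_inf hL (le_norm_cent hn), e2 ▸ le_norm_commutator hL hn⟩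

end General

variable {G : Type u} [Group G] [Finite G] [MFT G]
variable {A A₀ B D E E₁ E₂ E₃ H K L M Ms N P Q R S U V W W₁ W₂ X Y : Subgroup G} {p q r : ℕ}
  {g x y : G} {π : Set ℕ}

theorem syl_top_comm_of_comm (hp : p.Prime) (hS : IsPiHallOf {p} S ⊤) (hc : IsMulCommutative S)
    (hP : IsPGroup p P) : IsMulCommutative P :=
  let ⟨_, _, h⟩ := syl_exists_le_conj hp hS hP le_top
  comm_of_le (isMulCommutative_conj_iff.2 hc) h

theorem tau2Elem_pmax (hM : IsCoatom M) (hp : p ∈ tau2 M) (hA : PnElem p 2 M A) : PmaxElem p ⊤ A :=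
  (tau2_not_beta hM hp).2 A hA

/-- 12.7(a) -/
theorem nonabelian_tau2_eq (hM : IsCoatom M) (hp : p ∈ tau2 M) (hP : IsPGroup p P)
    (hc : ¬ IsMulCommutative P) : tau2 M = {p} := by
  refine Set.eq_singleton_iff_unique_mem.2 ⟨hp, fun q hq => not_not.1 fun hqp => hc ?_⟩
  obtain ⟨E, hE⟩ := exists_hall (sigma M)ᶜ (mmax_sol hM)
  obtain ⟨A, hA⟩ := ex_tau2Elem hE hp
  obtain ⟨B, hB⟩ := ex_tau2Elem hE hq
  obtain ⟨⟨nA, -⟩, -⟩ := tau2_compl_context hM hE hp hA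
  obtain ⟨⟨nB, -⟩, ⟨cB, -⟩, -⟩ := tau2_compl_context hM hE hq hB
  have cAB : B ≤ C[A] := le_cent_of_norm_of_coprime (hB.le.trans nA) (hA.le.trans nB)
    ((isPi_of_isPGroup hq.1 hB.isPGroup).coprime
      (isPi_of_isPGroup_mem hp.1 hA.isPGroup (Ne.symm hqp)))
  obtain ⟨Q, hQ, hBQ⟩ := exists_maxInv_ge (isPi_of_isPGroup hq.1 hB.isPGroup) (hA.le.trans nB)
  obtain ⟨S, hS, -, -, -, h⟩ := max_normed_2Elem_signaliser hp.1 hq.1 (Ne.symm hqp) hA.top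
    (tau2Elem_pmax hM hp (hA.mono hE.le)) hQ (hB.of_le cAB).dvd_card
  have hSE : S ≤ E := (h (PG.narrow_of_pmaxElem (hB.of_le hBQ)
    ((tau2Elem_pmax hM hq (hB.mono hE.le)).of_le hBQ le_top))).trans ((cent_anti hBQ).trans cB)
  exact syl_top_comm_of_comm hp.1 hS
    (tau2_Sylow_abelian hM hp (syl_isPGroup hp.1 hS) (hSE.trans hE.le)) hP

theorem tau2_norm_cent_Msigma (hM : IsCoatom M) (hE : IsPiHallOf (sigma M)ᶜ E M) (hp : p ∈ tau2 M)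
    (hA : PnElem p 2 E A) : M ≤ N[A ⊓ C[Mσ[M]]] := by
  have hd := sdprod_sigma hM hE
  refine hd.sup_eq.symm.le.trans (sup_le (le_norm_of_cent (le_cent_symm inf_le_right)) ?_)
  exact le_norm_inf (tau2_compl_context hM hE hp hA).1.1 (le_norm_cent hd.right_norm)

theorem tau2_cent_Msigma_ne (hM : IsCoatom M) (hp : p ∈ tau2 M) (hA : PnElem p 2 M A) :
    A ⊓ C[Mσ[M]] ≠ A := fun h => Msigma_neq1 hM (by
  rw [← (tau2_context hM hp hA).2.2.1, inf_eq_left.2 (le_cent_symm (inf_eq_left.1 h))])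

/-- 12.7 -/
theorem nonabelian_tau2 (hM : IsCoatom M) (hE : IsPiHallOf (sigma M)ᶜ E M) (hp : p ∈ tau2 M)
    (hA : PnElem p 2 E A) (hP : IsPGroup p P) (hc : ¬ IsMulCommutative P) :
    tau2 M = {p} ∧
    (Nat.card ↥(A ⊓ C[Mσ[M]]) = p ∧ Dprod Mσ[M] (A ⊓ C[Mσ[M]]) F[M]) ∧
    (∀ X, PnElem p 1 E X → X ≠ A ⊓ C[Mσ[M]] → Mσ[M] ⊓ C[X] = ⊥ ∧ ¬ C[X] ≤ M) ∧
    ∃ E₀, Sdprod (A ⊓ C[Mσ[M]]) E₀ E ∧
      ∀ x ∈ Mσ[M], x ≠ 1 → IsPiSubgroup (tau1 M) (E₀ ⊓ C1[x]) := by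
  have pp := hp.1
  have := Fact.mk pp
  have ht := nonabelian_tau2_eq hM hp hP hc
  have hAM := hA.mono hE.le
  have hd := sdprod_sigma hM hE
  obtain ⟨E₁, E₂, E₃, hC⟩ := ex_sigmaCompl hM hE
  obtain ⟨⟨-, n3⟩, -, -, ⟨d21, d3, -, -⟩, -⟩ := sigma_compl_context hM hC
  obtain ⟨⟨nA, lA⟩, ⟨cA, -, -⟩, uX⟩ := tau2_compl_context hM hE hp hA
  have h2 : IsPiHallOf {p} E₂ E := ht ▸ hC.hall2
  have h2M : IsPiHallOf {p} E₂ M := h2.trans_single hE hp.2.1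
  have hA2 := tau2Elem_le_hall hM hE hC.hall2 hp hA
  have p2 := syl_isPGroup pp h2
  have c2 := tau2_Sylow_abelian hM hp p2 h2M.le
  obtain ⟨S, hS, h2S⟩ := exists_syl_ge pp p2 le_top
  have pS := syl_isPGroup pp hS
  have ncS : ¬ IsMulCommutative S := fun h => hc (syl_top_comm_of_comm pp hS h hP)
  have hSM : ¬ S ≤ M := fun h => ncS (tau2_Sylow_abelian hM hp pS h)
  have eSM : S ⊓ M = E₂ := syl_eq_of_le pp h2M pS.to_inf_left inf_le_right (le_inf h2S h2M.le)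
  have c2A : E₂ ≤ C[A] := (comm_iff_le_cent.1 c2).trans (cent_anti hA2)
  have eSA : S ⊓ C[A] = E₂ :=
    le_antisymm (eSM ▸ inf_le_inf_left _ (cA.trans hE.le)) (le_inf h2S c2A)
  obtain ⟨hZ, ⟨Y, cY, hZY, hY⟩, htr⟩ := basic_p2maxElem_structure pp hA.top
    (tau2Elem_pmax hM hp hAM) pS (hA2.trans h2S) ncS
  have hSZ : S ≤ C[omegaOne p (S ⊓ C[S])] :=
    le_cent_symm ((PG.omegaOne_le _ _).trans inf_le_right)
  generalize omegaOne p (S ⊓ C[S]) = Z at hZ hZY hY htr hSZ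
  have hcop := coprime_Msigma (hE.isPi.of_le hA.le)
  obtain ⟨A₁, hA₁, h1⟩ := exists_pnElem_one_cent_ne_bot pp hA (hA.le.trans hd.right_norm) hcop
    (Msigma_neq1 hM)
  have u1 := uX A₁ (hA₁.mono hA.le) h1
  have hZ1 : A₁ ≠ Z := fun h => hSM (hSZ.trans (h ▸ u1.le))
  have key : ∀ X, PnElem p 1 E X → X ≠ A₁ → Mσ[M] ⊓ C[X] = ⊥ ∧ ¬ C[X] ≤ M := by
    intro X hX hne
    suffices h : ¬ C[X] ≤ M from ⟨not_not.1 fun h' => h (uX X hX h').le, h⟩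
    intro h
    by_cases hXZ : X = Z
    · exact hSM (hSZ.trans (hXZ ▸ h))
    obtain ⟨s, hs, rfl⟩ := htr A₁ ⟨hA₁, hZ1⟩ X ⟨hX.of_le (lA X hX), hXZ⟩
    have hsM : s ∈ M := mem_of_conj_mmax_eq hM
      ((u1.conj s).eq hM (by rwa [conj_centralizer])).symm
    exact hne (conj_eq_self_of_mem_cent ((c2A.trans (cent_anti hA₁.le)) (eSM.le ⟨hs.1, hsM⟩)))
  have hc1 : Mσ[M] ≤ C[A₁] := coprime_pnElem_gen_cent pp hA (hA.le.trans hd.right_norm) hcop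
    fun B hB => by
      by_cases h : B = A₁
      · exact h ▸ inf_le_right
      · exact (key B (hB.mono hA.le) h).1.le.trans bot_le
  have e1 : A ⊓ C[Mσ[M]] = A₁ := by
    have h := le_inf hA₁.le (le_cent_symm hc1)
    exact (eq_of_le_of_card_ge h (by
      rw [hA₁.card_one, (PG.pnElem_one_of_lt pp hA inf_le_left (ne_bot_of_le (hA₁.ne_bot pp) h)
        (tau2_cent_Msigma_ne hM hp hAM)).card_one])).symm
  have n1 : M ≤ N[A₁] := e1 ▸ tau2_norm_cent_Msigma hM hE hp hA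
  have h1M := hA₁.le.trans hAM.le
  rw [e1]
  have dY := hY A₁ hA₁ hZ1
  rw [eSA] at dY
  refine ⟨ht, ⟨hA₁.card_one, dprod_mk hc1 (inf_eq_bot_of_coprime_card
    (coprime_card_of_le hcop le_rfl hA₁.le)) (le_antisymm (sup_le
      (le_fittingOf (sigmaCore_le M) (le_norm_sigmaCore M) (tau2_Msigma_nil hM hp))
      (le_fittingOf h1M n1 (nilpotent_of_isPGroup pp hA₁.isPGroup)))
      (fittingOf_le_of_forall_piCoreOf fun q hq => ?_))⟩, key, ?_⟩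
  · by_cases h0 : O[{q}](M) = ⊥
    · exact h0.le.trans bot_le
    rcases prime_class_mmax_norm hM hq (piCoreOf_isPGroup hq M)
      (mmax_normal hM (piCoreOf_le _ _) (self_le_norm_piCoreOf _ _) h0).le with hs | hs
    · exact (piCoreOf_single_le hs).trans le_sup_left
    obtain rfl : q = p := by rwa [ht] at hs
    refine le_sup_of_le_right ?_
    have h2 := piCoreOf_le_hall h2M
    have h3 := le_piCoreOf_single hq h1M n1 hA₁.isPGroup
    have h4 : Y ⊓ O[{q}](M) = ⊥ := not_not.1 fun h => hZ1 ?_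
    · rw [← inf_eq_right.2 h2, ← dY.sup_eq, dedekind (Or.inl (le_norm_of_cent dY.cent)) h3, h4,
        sup_bot_eq]
    have h5 : Z ≤ O[{q}](M) := (PG.elemAb_le_omegaOne hZ.elem hZY).trans
      ((PG.omegaOne_le_of_isCyclic cY (p2.to_le dY.right_le) inf_le_left h).trans inf_le_right)
    have h6 : Z ≤ A₁ := e1 ▸ le_inf hZ.le (h5.trans
      (piCoreOf_le_cent_of_disjoint fun r _ (hr : r = q) => hr ▸ hp.2.1))
    exact (eq_of_le_of_card_ge h6 (by rw [hZ.card_one, hA₁.card_one])).symm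
  obtain ⟨W, hW, nW⟩ := PG.exists_norm_isComplIn_of_comm c2 dY.compl d21.right_norm
    (hC.hall1.le.trans (hE.le.trans n1))
    ((isPi_of_isPGroup_mem pp hA₁.isPGroup hp).coprime
      (hC.hall1.isPi.mono fun _ => tau1_not_tau2))
  have hW1 : W ⊔ E₁ ≤ E₂ ⊔ E₁ := sup_le_sup_right hW.right_le _
  have i1 : A₁ ⊓ (E₃ ⊔ (W ⊔ E₁)) = ⊥ := by
    have a : (E₃ ⊔ (W ⊔ E₁)) ⊓ (E₂ ⊔ E₁) = W ⊔ E₁ := by
      rw [dedekind' (Or.inr (hW1.trans d3.right_norm)) hW1, d3.inf_eq, bot_sup_eq]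
    have b : (W ⊔ E₁) ⊓ E₂ = W := by
      rw [dedekind (Or.inr nW) hW.right_le, inf_comm, d21.inf_eq, sup_bot_eq]
    rw [eq_bot_iff, ← hW.inf_eq]
    exact le_inf inf_le_left ((le_inf ((le_inf inf_le_right
      (inf_le_left.trans (hW.left_le.trans le_sup_left))).trans a.le)
      (inf_le_left.trans hW.left_le)).trans b.le)
  have h0E : E₃ ⊔ (W ⊔ E₁) ≤ E := sup_le d3.left_le (hW1.trans d3.right_le)
  refine ⟨E₃ ⊔ (W ⊔ E₁), sdprod_mk (h0E.trans (hE.le.trans n1)) i1 ?_, fun x hx hx1 q hq hd => ?_⟩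
  · rw [sup_left_comm, ← sup_assoc A₁, hW.sup_eq, d3.sup_eq]
  obtain ⟨X, hX, hXq⟩ := exists_le_card_eq_prime hq hd
  have hXE := hX.trans (inf_le_left.trans h0E)
  have hne : Mσ[M] ⊓ C[X] ≠ ⊥ :=
    ne_bot_of_mem (x := x) ⟨hx, mem_cent_iff_le_cent1.2 (hX.trans inf_le_right)⟩ hx1
  have hX1 : X ≠ ⊥ := ne_bot_of_card_prime (hXq ▸ hq)
  rcases (partition_pi_sigma_compl hM hE hq).1 (hXq ▸ card_dvd_of_le hXE) with h | h | h
  · exact h
  · obtain rfl : q = p := by rwa [ht] at h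
    refine (hne (key X ((pnElem_one_iff hq).2 ⟨hXE, hXq⟩) fun h => hX1 ?_).1).elim
    rw [eq_bot_iff, ← i1]
    exact le_inf h.le (hX.trans inf_le_left)
  · exact (hne ((tau2_regular hM hC hp hA).1.inf_cent (hC.hall3.le_of_normal n3 hXE
      (isPi_of_isPGroup_mem hq (isPGroup_of_card_eq_prime hXq) h)) hX1)).elim

private theorem cent_norm_aux (hM : IsCoatom M) (hE : IsPiHallOf (sigma M)ᶜ E M) (hp : p ∈ tau2 M)
    (hA : PnElem p 2 E A) (hS : IsPiHallOf {p} S ⊤) (hAS : A ≤ S) (hc : IsMulCommutative S) :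
    (S ≤ ⁅N[S], N[S]⁆ ∧ ⁅N[S], N[S]⁆ ≤ F[E] ∧ F[E] ≤ C[S] ∧ C[S] ≤ E) ∧ N[A] = N[S] := by
  have pp := hp.1
  obtain ⟨⟨nA, -⟩, ⟨cA, -, -⟩, -⟩ := tau2_compl_context hM hE hp hA
  have hSA : S ≤ C[A] := (comm_iff_le_cent.1 hc).trans (cent_anti hAS)
  have hSL : IsPiHallOf {p} S N[A] := hS.of_le (hSA.trans (cent_le_norm A)) le_top
  have hL := mFT_sol (mFT_norm_pgroup_proper pp hA.isPGroup (hA.ne_bot pp))
  have hF : F[N[A]] ≤ E := (fittingOf_le_of_forall_piCoreOf fun q hq => by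
    by_cases h : q = p
    · exact h ▸ (piCoreOf_le_hall (h ▸ hSL)).trans hSA
    · exact le_cent_of_norm_of_coprime (piCoreOf_le _ _)
        (le_normalizer.trans (self_le_norm_piCoreOf _ _))
        ((piCoreOf_isPi _ _).coprime (isPi_of_isPGroup_mem pp hA.isPGroup (Ne.symm h)))).trans cA
  have h1 := PG.commutator_le_fittingOf_of_rank_two hL (mFT_odd _)
    (rankLE_of_le (sigma_compl_rank2 hM hE) hF)
  have hn : N[S] ≤ N[A] := ((tau2_context hM hp (hA.mono hE.le)).1 S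
    (hS.of_le (hSA.trans (cA.trans hE.le)) le_top) hAS).1 ▸ PG.norm_le_norm_omegaOne p S
  have h2 := mFT_Sylow_der1 pp hS
  have h3 := (commutator_mono hn hn).trans h1
  have h4 := h3.trans (fittingOf_le_of_le_of_le hF nA)
  exact ⟨⟨h2, h4, nil_le_cent_of_comm_hall (fittingOf_nilpotent E) (hS.of_le (h2.trans h4) le_top) hc,
    (cent_anti hAS).trans cA⟩, le_antisymm ((self_le_norm_fittingOf _).trans
      (nil_norm_le_norm_hall (fittingOf_nilpotent _) (hS.of_le (h2.trans h3) le_top))) hn⟩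

/-- 12.8(c) -/
theorem cent_norm_tau2Elem (hM : IsCoatom M) (hE : IsPiHallOf (sigma M)ᶜ E M) (hp : p ∈ tau2 M)
    (hA : PnElem p 2 E A) (hS : IsPiHallOf {p} S ⊤) (hAS : A ≤ S) (hc : IsMulCommutative S) :
    S ≤ ⁅N[S], N[S]⁆ ∧ ⁅N[S], N[S]⁆ ≤ F[E] ∧ F[E] ≤ C[S] ∧ C[S] ≤ E :=
  (cent_norm_aux hM hE hp hA hS hAS hc).1

theorem norm_tau2Elem_eq (hM : IsCoatom M) (hE : IsPiHallOf (sigma M)ᶜ E M) (hp : p ∈ tau2 M)
    (hA : PnElem p 2 E A) (hS : IsPiHallOf {p} S ⊤) (hAS : A ≤ S) (hc : IsMulCommutative S) :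
    N[A] = N[S] :=
  (cent_norm_aux hM hE hp hA hS hAS hc).2

/-- if one prime of `τ₂(M)` has abelian Sylow subgroups then all do -/
theorem abelian_tau2_all (hM : IsCoatom M) (hp : p ∈ tau2 M) (hS : IsPiHallOf {p} S ⊤)
    (hc : IsMulCommutative S) (hq : q ∈ tau2 M) (hQ : IsPGroup q Q) : IsMulCommutative Q :=
  not_not.1 fun h => h (by
    obtain rfl : p = q := by rwa [nonabelian_tau2_eq hM hq hQ h] at hp
    exact syl_top_comm_of_comm hp.1 hS hc hQ)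

/-- 12.8(a,b,d,e) -/
theorem abelian_tau2 (hM : IsCoatom M) (hE : SigmaCompl M E E₁ E₂ E₃) (hp : p ∈ tau2 M)
    (hA : PnElem p 2 E A) (hS : IsPiHallOf {p} S ⊤) (hAS : A ≤ S) (hc : IsMulCommutative S) :
    (E ≤ N[E₂] ∧ IsMulCommutative E₂) ∧ IsPiHallOf (tau2 M) E₂ ⊤ ∧
    (N[A] = N[S] ∧ N[S] = N[E₂] ∧ N[E₂] = N[E₃ ⊔ E₂] ∧ N[E₃ ⊔ E₂] = N[F[E]]) ∧
    ∀ X, X ≤ E₁ → (Nat.card X).Prime → Mσ[M] ⊓ C[X] = ⊥ → X ≤ C[E] := by
  have pp := hp.1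
  have hH := hE.hall
  have nF := fittingOf_nilpotent E
  obtain ⟨⟨-, n3⟩, -, ⟨c1, c3⟩, ⟨-, -, -, d1⟩, -⟩ := sigma_compl_context hM hE
  obtain ⟨⟨nA, -⟩, ⟨-, -, nAM⟩, -⟩ := tau2_compl_context hM hH hp hA
  obtain ⟨h1, h2, h3, h4⟩ := cent_norm_tau2Elem hM hH hp hA hS hAS hc
  have eA := norm_tau2Elem_eq hM hH hp hA hS hAS hc
  have hK : IsPiHallOf (tau2 M) O[tau2 M](F[E]) ⊤ :=
    isPiHallOf_of_forall_syl_le le_top (piCoreOf_isPi _ _) fun q hq ht _ => by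
      obtain ⟨B, hB⟩ := ex_tau2Elem hH ht
      obtain ⟨Q, hQ, hBQ⟩ := exists_syl_ge hq hB.isPGroup le_top
      have qQ := syl_isPGroup hq hQ
      obtain ⟨a, b, -⟩ := cent_norm_tau2Elem hM hH ht hB hQ hBQ (abelian_tau2_all hM hp hS hc ht qQ)
      exact ⟨Q, hQ, nil_le_piCoreOf nF (a.trans b) (isPi_of_isPGroup_mem hq qQ ht)⟩
  have nK : E ≤ N[O[tau2 M](F[E])] := le_norm_piCoreOf (self_le_norm_fittingOf E)
  have hKE : O[tau2 M](F[E]) ≤ E := (piCoreOf_le _ _).trans (fittingOf_le E)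
  have e2 : E₂ = O[tau2 M](F[E]) := (hK.of_le hKE le_top).eq_of_normal nK hE.hall2
  rw [← e2] at hK nK
  have h2F : E₂ ≤ F[E] := e2 ▸ piCoreOf_le _ _
  have h3F : E₃ ≤ F[E] := comm_le_fittingOf hE.hall3.le n3 (isMulCommutative_of_isCyclic c3)
  have c2 : IsMulCommutative E₂ := comm_of_nil_of_forall_pgroup (nil_of_le nF h2F)
    fun q hq P hP qP h0 => abelian_tau2_all hM hp hS hc (hE.hall2.isPi q hq
      ((prime_dvd_card_of_isPGroup hq qP h0).trans (card_dvd_of_le hP))) qP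
  have hall2 := hE.hall2.of_le h2F (fittingOf_le E)
  have hall3 := hE.hall3.of_le h3F (fittingOf_le E)
  have cF2 := nil_le_cent_of_comm_hall nF hall2 c2
  have cF3 := nil_le_cent_of_comm_hall nF hall3 (isMulCommutative_of_isCyclic c3)
  have hS2 : S ≤ E₂ := hE.hall2.le_of_normal nK ((h1.trans h2).trans (fittingOf_le E))
    (hS.isPi.single_mono hp)
  have a1 : N[S] ≤ N[F[E]] := by
    rw [← fittingOf_eq_of_normal_of_le h4 (le_norm_cent (eA ▸ nA)) h3]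
    exact le_norm_fittingOf (norm_le_norm_cent S)
  have a2 : N[F[E]] ≤ N[E₃ ⊔ E₂] :=
    le_norm_sup (nil_norm_le_norm_hall nF hall3) (nil_norm_le_norm_hall nF hall2)
  have a3 : N[E₃ ⊔ E₂] ≤ N[E₂] := nil_norm_le_norm_hall (nil_of_le nF (sup_le h3F h2F))
    (hK.of_le le_sup_right le_top)
  have a4 : N[E₂] ≤ N[S] := nil_norm_le_norm_hall (nil_of_le nF h2F) (hS.of_le hS2 le_top)
  refine ⟨⟨nK, c2⟩, hK, ⟨eA, le_antisymm (a1.trans (a2.trans a3)) a4,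
    le_antisymm (a4.trans (a1.trans a2)) a3, le_antisymm (a3.trans (a4.trans a1)) a2⟩,
    fun X hX hq hC => ?_⟩
  have hXE := hX.trans hE.hall1.le
  have ht : Nat.card X ∈ tau1 M := hE.hall1.isPi _ hq (card_dvd_of_le hX)
  have cF : F[E] ≤ C[E₃ ⊔ E₂] := by rw [cent_sup]; exact le_inf cF3 cF2
  obtain ⟨-, -, hn⟩ := commG_sigma'_1Elem_cyclic hM (d1.left_le.trans hH.le)
    (hH.isPi.of_le d1.left_le) hq (tau1_not_sigma ht)
    ((pnElem_one_iff hq).2 ⟨le_inf (hXE.trans hH.le) (hXE.trans d1.norm), rfl⟩) hC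
    ((hE.hall3.isPi.mono fun r hr (e : r = Nat.card X) => tau1_not_tau3 ht (e ▸ hr)).sup
      (hE.hall2.isPi.mono fun r hr (e : r = Nat.card X) => tau1_not_tau2 ht (e ▸ hr))
      (Or.inr (hE.hall2.le.trans n3)))
    (comm_iff_le_cent.2 ((sup_le h3F h2F).trans cF))
  have h0 : ⁅E₃ ⊔ E₂, X⁆ = ⊥ := not_not.1 fun h0 => nAM (by
    rw [eA, ← mmax_normal hM ((commutator_le_of_le_norm_left (hXE.trans d1.norm)).trans
      (d1.left_le.trans hH.le)) hn h0]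
    exact (norm_cent_commutator_of_der1_le_cent (a1.trans a2) (hXE.trans (eA ▸ nA))
      (h2.trans cF)).2)
  rw [← d1.sup_eq, cent_sup]
  exact le_inf (le_cent_iff_commutator_eq_bot'.2 h0)
    (hX.trans (comm_iff_le_cent.1 (isMulCommutative_of_isCyclic c1)))

/-- 12.8(f) -/
theorem abelian_tau2_norm_Sylow (hM : IsCoatom M) (hE : IsPiHallOf (sigma M)ᶜ E M)
    (hp : p ∈ tau2 M) (hA : PnElem p 2 E A) (hS : IsPiHallOf {p} S ⊤) (hAS : A ≤ S)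
    (hc : IsMulCommutative S) (hX : X ≤ N[S]) : N[S] ≤ N[S ⊓ C[X]] ∧ N[S] ≤ N[⁅S, X⁆] :=
  let ⟨_, h2, h3, _⟩ := cent_norm_tau2Elem hM hE hp hA hS hAS hc
  norm_cent_commutator_of_der1_le_cent le_rfl hX (h2.trans h3)

/-- 12.9 -/
theorem tau1_act_tau2 (hM : IsCoatom M) (hE : IsPiHallOf (sigma M)ᶜ E M) (hp : p ∈ tau2 M)
    (hA : PnElem p 2 E A) (hq : q ∈ tau1 M) (hQ : PnElem q 1 E Q) (hC : Mσ[M] ⊓ C[Q] = ⊥)
    (hne : ⁅A, Q⁆ ≠ ⊥) :
    (PnElem p 1 A ⁅A, Q⁆ ∧ A ⊓ C[Mσ[M]] = ⁅A, Q⁆ ∧ M ≤ N[⁅A, Q⁆]) ∧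
    ¬ Conjg (A ⊓ C[Q]) ⁅A, Q⁆ ∧
    (PnElem p 1 A (A ⊓ C[Q]) ∧ ¬ C[A ⊓ C[Q]] ≤ M) := by
  have pp := hp.1
  have qq := hq.1
  have hAM := hA.mono hE.le
  obtain ⟨⟨nA, -⟩, -⟩ := tau2_compl_context hM hE hp hA
  have nQ := hQ.le.trans nA
  have hA' : IsPiSubgroup {q}ᶜ A :=
    isPi_of_isPGroup_mem pp hA.isPGroup fun (e : p = q) => tau1_not_tau2 hq (e ▸ hp)
  obtain ⟨h1, h2, h3⟩ := commG_sigma'_1Elem_cyclic hM hAM.le (hE.isPi.of_le hA.le) qq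
    (tau1_not_sigma hq) (hQ.of_le (le_inf (hQ.le.trans hE.le) nQ)) hC hA' hA.comm
  have h0A := commutator_le_of_le_norm_left nQ
  have h0 : PnElem p 1 A ⁅A, Q⁆ := PG.pnElem_one_of_lt pp hA h0A hne
    fun e => PG.pnElem_two_not_isCyclic pp hA (e ▸ h2)
  have e0 : A ⊓ C[Mσ[M]] = ⁅A, Q⁆ := (eq_of_le_of_card_ge (le_inf h0A h1) (by
    rw [h0.card_one, (PG.pnElem_one_of_lt pp hA inf_le_left (ne_bot_of_le hne (le_inf h0A h1))
      (tau2_cent_Msigma_ne hM hp hAM)).card_one])).symm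
  have hcomp := coprime_comm_isComplIn hA.comm nQ (hA'.coprime' (isPi_of_isPGroup qq hQ.isPGroup))
  have h4 : PnElem p 1 A (A ⊓ C[Q]) := PG.pnElem_one_of_lt pp hA inf_le_left
    (fun e => PG.pnElem_two_not_isCyclic pp hA (by
      have := hcomp.sup_eq
      rw [e, sup_bot_eq] at this
      exact this ▸ h2))
    fun e => hne (le_cent_iff_commutator_eq_bot.1 (inf_eq_left.1 e))
  have hnc : ¬ ⁅A, Q⁆ ≤ C[Q] := fun h => hne (eq_bot_iff.2 (hcomp.inf_eq ▸ le_inf le_rfl (le_inf h0A h)))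
  refine ⟨⟨h0, e0, h3⟩, ?_, h4, ?_⟩
  · rintro ⟨g, hg⟩
    obtain ⟨R, hR, hQR⟩ := exists_syl_ge qq hQ.isPGroup (hQ.le.trans hE.le)
    have a : cj[g] Q ≤ C[⁅A, Q⁆] := by
      rw [hg, conj_le_cent_conj_iff]; exact le_cent_symm inf_le_right
    obtain ⟨m, hm, b⟩ := syl_exists_conj_le qq hR (isPGroup_conj_iff.2 hQ.isPGroup)
      (a.trans (mmax_normal_cent_le hM (h0A.trans hAM.le) h3 hne))
    have e := PG.eq_of_isCyclic_of_card_eq qq
      (tau13_pgroup_cyclic (Or.inl hq) (syl_isPGroup qq hR) hR.le) hQR b hQ.card_one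
      (by rw [card_conj, card_conj, hQ.card_one])
    refine hnc (le_cent_symm (e.le.trans ?_))
    rw [← conj_eq_self (h3 hm), conj_le_cent_conj_iff]
    exact a
  obtain ⟨S, hS, hAS⟩ := exists_syl_ge pp hA.isPGroup le_top
  have hc : ¬ IsMulCommutative S := fun hc => by
    obtain ⟨E₁, E₂, E₃, hEE, hQ1⟩ := ex_sigmaCompl_tau1 hM hE hQ.le
      (isPi_of_isPGroup_mem qq hQ.isPGroup hq)
    exact hne (le_cent_iff_commutator_eq_bot'.1 (((abelian_tau2 hM hEE hp hA hS hAS hc).2.2.2 Q hQ1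
      (hQ.card_prime qq) hC).trans (cent_anti hA.le)))
  exact ((nonabelian_tau2 hM hE hp hA (syl_isPGroup pp hS) hc).2.2.1 _ (h4.mono hA.le)
    fun e => hnc (by rw [← e0, ← e]; exact inf_le_right)).2

/-- 12.10(a) -/
theorem sigma'_nil_abelian (hM : IsCoatom M) (hN : N ≤ M) (hs : IsPiSubgroup (sigma M)ᶜ N)
    (hn : Group.IsNilpotent N) : IsMulCommutative N :=
  comm_of_nil_of_forall_pgroup hn fun q hq P hP qP h0 => sigma'_pgroup_abelian hM hq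
    (hs q hq ((prime_dvd_card_of_isPGroup hq qP h0).trans (card_dvd_of_le hP))) qP (hP.trans hN)

/-- 12.10(b) -/
theorem der_mmax_compl_abelian (hM : IsCoatom M) (hE : IsPiHallOf (sigma M)ᶜ E M) :
    IsMulCommutative ↥⁅E, E⁆ :=
  sigma'_nil_abelian hM ((der1_le E).trans hE.le) (hE.isPi.of_le (der1_le E))
    (der1_sigma_compl_nil hM hE)

theorem tau2_compl_abelian (hM : IsCoatom M) (hE : IsPiHallOf (sigma M)ᶜ E M)
    (h₂ : IsPiHallOf (tau2 M) E₂ E) : IsMulCommutative E₂ := by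
  by_cases h0 : E₂ = ⊥
  · exact h0 ▸ inferInstance
  obtain ⟨p, pp, hd⟩ := exists_prime_dvd_card h0
  have hp := h₂.isPi p pp hd
  obtain ⟨A, hA⟩ := ex_tau2Elem hE hp
  obtain ⟨S, hS, hAS⟩ := exists_syl_ge pp hA.isPGroup le_top
  by_cases hc : IsMulCommutative S
  · obtain ⟨E₁, E₂', E₃, hC⟩ := ex_sigmaCompl hM hE
    obtain ⟨⟨h1, h2⟩, -⟩ := abelian_tau2 hM hC hp hA hS hAS hc
    exact hC.hall2.eq_of_normal h1 h₂ ▸ h2
  · exact tau2_Sylow_abelian hM hp (IsPiSubgroup.isPGroup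
      (nonabelian_tau2_eq hM hp (syl_isPGroup pp hS) hc ▸ h₂.isPi) pp) (h₂.le.trans hE.le)

theorem tau2_group_abelian (hM : IsCoatom M) (hK : K ≤ M) (hτ : IsPiSubgroup (tau2 M) K) :
    IsMulCommutative K := by
  obtain ⟨E, hE, hKE⟩ := ex_sigma_compl hM hK (hτ.mono fun _ => tau2_not_sigma)
  obtain ⟨E₂, h2, hK2⟩ := exists_hall_ge (sigma_compl_sol hM hE) hKE hτ
  exact comm_of_le (tau2_compl_abelian hM hE h2) hK2

theorem tau2_hall_cent_tau2Elem (hM : IsCoatom M) (hE : IsPiHallOf (sigma M)ᶜ E M)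
    (h₂ : IsPiHallOf (tau2 M) E₂ E) (hp : p ∈ tau2 M) (hA : PnElem p 2 E A) : E₂ ≤ C[A] :=
  (comm_iff_le_cent.1 (tau2_compl_abelian hM hE h₂)).trans
    (cent_anti (tau2Elem_le_hall hM hE h₂ hp hA))

/-- 12.10(c) -/
theorem tau1_cent_tau2Elem_factor (hM : IsCoatom M) (hE : IsPiHallOf (sigma M)ᶜ E M)
    (hp : p ∈ tau2 M) (hA : PnElem p 2 E A) : PiNat (tau1 M) (C[A].relIndex E) := by
  intro q hq hd
  obtain ⟨E₁, E₂, E₃, hC⟩ := ex_sigmaCompl hM hE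
  rcases (partition_pi_sigma_compl hM hE hq).1 (hd.trans (relIndex_dvd_card' _ _)) with h | h | h
  · exact h
  · exact (hC.hall2.idx_of_le (tau2_hall_cent_tau2Elem hM hE hC.hall2 hp hA) q hq hd h).elim
  · exact (hC.hall3.idx_of_le (tau3_cent_tau2Elem hM hE hC.hall3 hp hA) q hq hd h).elim

/-- 12.10(d) -/
theorem norm_noncyclic_sigma (hM : IsCoatom M) (hp : p ∈ sigma M) (hP : IsPGroup p P)
    (hPM : P ≤ M) (hc : ¬ IsCyclic P) : N[P] ≤ M :=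
  let ⟨_, hA⟩ := PG.exists_pnElem_of_not_pRankLE hp.1 fun h => hc (mFT_rank1_cyclic hp.1 hP h)
  sigma_norm_le_of_cent_le hM hp hP hPM
    ((cent_anti hA.le).trans (p2Elem_cent_le hM hp.1 (hA.mono hPM)))

/-- 12.10(e) -/
theorem cent1_nreg_sigma_uniq (hM : IsCoatom M) (hx : x ∈ M) (hx1 : x ≠ 1)
    (hτ : PiNat (tau2 M) (orderOf x)) (hC : Mσ[M] ⊓ C1[x] ≠ ⊥) : UMax C1[x] M := by
  have h := isPiSubgroup_zpowers_iff.2 hτ
  obtain ⟨E, hE, hKE⟩ := ex_sigma_compl hM (zpowers_le.2 hx) (h.mono fun _ => tau2_not_sigma)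
  obtain ⟨E₂, h2, hK2⟩ := exists_hall_ge (sigma_compl_sol hM hE) hKE h
  obtain ⟨p, pp, hd⟩ := exists_prime_dvd_card (zpowers_ne_bot.2 hx1)
  have hp := h p pp hd
  obtain ⟨A, hA⟩ := ex_tau2Elem hE hp
  exact tau2_umax_of_inf_ne_bot hM hp (hA.mono hE.le) (mFT_cent1_proper hx1)
    (mem_cent_iff_le_cent1.1 (tau2_hall_cent_tau2Elem hM hE h2 hp hA (hK2 (mem_zpowers x)))) hC

theorem tau2_sigma_of_norm_le (hM : IsCoatom M) (hE : IsPiHallOf (sigma M)ᶜ E M) (hp : p ∈ tau2 M)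
    (hA : PnElem p 2 E A) (hMs : IsCoatom Ms) (hn : N[A] ≤ Ms) (hq : q ∈ tau2 M) :
    q ∈ sigma Ms ∧ q ∉ beta Ms := by
  have pp := hp.1
  obtain ⟨⟨nA, -⟩, ⟨-, -, nAM⟩, -⟩ := tau2_compl_context hM hE hp hA
  have hEs := nA.trans hn
  refine ⟨not_not.1 fun hs => ?_, fun h => (tau2_not_beta hM hq).1 (beta_ideal h)⟩
  have h1 : p ∈ sigma Ms := not_not.1 fun hs => by
    obtain ⟨E', hE', hA'⟩ := ex_sigma_compl hMs (hA.le.trans hEs)
      (isPi_of_isPGroup_mem pp hA.isPGroup hs)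
    exact (tau2_compl_context hMs hE' (mem_tau2_of_pnElem hMs pp hs (hA.mono hEs))
      (hA.of_le hA')).2.1.2.2 hn
  obtain ⟨B, hB⟩ := ex_tau2Elem hE hq
  refine hA.ne_bot pp (eq_bot_iff.2 ?_)
  rw [← (tau2_context hMs (mem_tau2_of_pnElem hMs hq.1 hs (hB.mono hEs)) (hB.mono hEs)).2.2.2.1 M hM
    (hB.le.trans hE.le) fun e => nAM (e ▸ hn)]
  exact le_inf (pgroup_le_Msigma hMs h1 hA.isPGroup (hA.le.trans hEs)) (hA.le.trans hE.le)

theorem tau12_cent_tau2Elem_factor (hM : IsCoatom M) (hE : IsPiHallOf (sigma M)ᶜ E M)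
    (hp : p ∈ tau2 M) (hA : PnElem p 2 E A) (hMs : IsCoatom Ms) (hn : N[A] ≤ Ms) :
    PiNat (tau1 Ms ∪ tau2 Ms) (C[A].relIndex E) := by
  intro q hq hd
  have pp := hp.1
  obtain ⟨⟨nA, -⟩, -⟩ := tau2_compl_context hM hE hp hA
  have hEs := nA.trans hn
  obtain ⟨hs, hb⟩ := tau2_sigma_of_norm_le hM hE hp hA hMs hn hp
  obtain ⟨R, hR⟩ := exists_syl hq E
  have qR := syl_isPGroup hq hR
  have hqp : q ≠ p := fun e => tau1_not_tau2 (tau1_cent_tau2Elem_factor hM hE hp hA q hq hd) (e ▸ hp)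
  have hR' : IsPiSubgroup {p}ᶜ R := isPi_of_isPGroup_mem hq qR hqp
  suffices h : ¬ R ≤ ⁅Ms, Ms⁆ by
    rcases (partition_pi_mmax hMs hq).1
      ((hd.trans (relIndex_dvd_card' _ _)).trans (card_dvd_of_le hEs)) with t | t | t | t
    · exact Or.inl t
    · exact Or.inr t
    · exact (h (tau3_le_der1 hMs (hR.le.trans hEs) (isPi_of_isPGroup_mem hq qR t))).elim
    · exact (h (sigma_pgroup_le_der1 hMs t qR (hR.le.trans hEs))).elim
  intro h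
  have h1 := (beta_max_pdiv hMs pp hb).1.le_of_normal (self_le_norm_piCoreOf _ _) h hR'
  refine hR.idx_of_le (le_cent_iff_commutator_eq_bot'.2 (eq_bot_iff.2 ?_)) q hq hd rfl
  rw [← (isPi_of_isPGroup pp hA.isPGroup).inf_eq_bot (piCoreOf_isPi {p}ᶜ ⁅Ms, Ms⁆)]
  exact le_inf (commutator_le_of_le_norm_left (hR.le.trans nA)) ((commutator_mono le_rfl h1).trans
    (commutator_le_of_le_norm_right ((sigma_pgroup_le_der1 hMs hs hA.isPGroup
      (hA.le.trans hEs)).trans (self_le_norm_piCoreOf _ _))))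

/-- 12.11 -/
theorem primes_norm_tau2Elem (hM : IsCoatom M) (hE : IsPiHallOf (sigma M)ᶜ E M) (hp : p ∈ tau2 M)
    (hA : PnElem p 2 E A) (hMs : IsCoatom Ms) (hn : N[A] ≤ Ms) :
    (∀ q ∈ tau2 M, q ∈ sigma Ms ∧ q ∉ beta Ms) ∧
    PiNat (tau1 Ms ∪ tau2 Ms) (C[A].relIndex E) ∧
    ∀ q : ℕ, q.Prime → q ∣ C[A].relIndex E → q ∣ Nat.card ↥(E ⊓ C[A]) →
      q ∈ tau2 Ms ∧ (∃ P, IsPiHallOf {p} P ⊤ ∧ P ≤ Ms ∧ Ms ≤ N[P]) ∧
      ∃ Q, IsPiHallOf {q} Q ⊤ ∧ Q ≤ Ms ∧ IsMulCommutative Q := by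
  refine ⟨fun _ => tau2_sigma_of_norm_le hM hE hp hA hMs hn,
    tau12_cent_tau2Elem_factor hM hE hp hA hMs hn, fun q hq hd hd' => ?_⟩
  have pp := hp.1
  have := Fact.mk hq
  obtain ⟨⟨nA, -⟩, ⟨cA, -⟩, -⟩ := tau2_compl_context hM hE hp hA
  rw [inf_eq_right.2 cA] at hd'
  have hEs := nA.trans hn
  have hs := (tau2_sigma_of_norm_le hM hE hp hA hMs hn hp).1
  obtain ⟨Q, hQ⟩ := exists_syl hq E
  have qQ := syl_isPGroup hq hQ
  have cQ := tau13_pgroup_cyclic (Or.inl (tau1_cent_tau2Elem_factor hM hE hp hA q hq hd)) qQ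
    (hQ.le.trans hE.le)
  have h0 := syl_inf_normal hq hQ cA (le_norm_cent nA)
  have h01 := (syl_ne_bot_iff hq h0).2 hd'
  have ht : q ∈ tau2 Ms := by
    obtain ⟨L, hL, hNL⟩ := mmax_exists (mFT_norm_pgroup_proper hq qQ.to_inf_left h01)
    have hAL : A ≤ L := (le_cent_symm inf_le_right).trans ((cent_le_norm _).trans hNL)
    have hnL : N[A] ≤ L := by
      rw [← frattini_arg hq h0 (cent_le_norm A) (norm_le_norm_cent A)]
      exact sup_le (p2Elem_cent_le hL pp (hA.of_le hAL)) (inf_le_right.trans hNL)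
    have htL : q ∈ tau2 L := by
      rcases tau12_cent_tau2Elem_factor hM hE hp hA hL hnL q hq hd with h | h
      · exact (tau13_not_norm_le hL (Or.inl h) qQ.to_inf_left hNL).elim
      · exact h
    obtain ⟨g, rfl⟩ : Conjg L Ms := not_not.1 fun h => Set.disjoint_left.1
      (tau2_sigma_disjoint hL htL hMs h).2 (tau2_sigma_of_norm_le hM hE hp hA hL hnL hp).1 hs
    rwa [tau2_conj]
  refine ⟨ht, ⟨_, sigma_Sylow_G hs (syl_pcore_of_Msigma_nil hMs (tau2_Msigma_nil hMs ht) hs),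
    piCoreOf_le _ _, self_le_norm_piCoreOf _ _⟩, ?_⟩
  obtain ⟨E', hE', hQ'⟩ := ex_sigma_compl hMs (hQ.le.trans hEs) (isPi_of_isPGroup_mem hq qQ ht.2.1)
  obtain ⟨B, hB⟩ := ex_tau2Elem hE' ht
  obtain ⟨S, hS, hBS⟩ := exists_syl_ge hq hB.isPGroup le_top
  have hc : IsMulCommutative S := not_not.1 fun hc => by
    obtain ⟨-, -, h1, E₀, h2, -⟩ := nonabelian_tau2 hMs hE' ht hB (syl_isPGroup hq hS) hc
    have hO := PG.omegaOne_le_of_isCyclic cQ qQ inf_le_left h01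
    have e : omegaOne q Q = B ⊓ C[Mσ[Ms]] := not_not.1 fun h => hA.ne_bot pp (eq_bot_iff.2 (by
      rw [← (h1 _ ((pnElem_one_iff hq).2 ⟨(PG.omegaOne_le _ _).trans hQ',
        PG.card_omegaOne_of_isCyclic cQ qQ (ne_bot_of_le h01 inf_le_left)⟩) h).1]
      exact le_inf (pgroup_le_Msigma hMs hs hA.isPGroup (hA.le.trans hEs))
        (le_cent_symm (hO.trans inf_le_right))))
    rw [← e] at h2
    have a : E₀ ⊓ Q = ⊥ := not_not.1 fun h => PG.omegaOne_ne_bot qQ (ne_bot_of_le h01 inf_le_left)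
      (eq_bot_iff.2 (h2.inf_eq ▸ le_inf le_rfl
        ((PG.omegaOne_le_of_isCyclic cQ qQ inf_le_right h).trans inf_le_left)))
    refine hQ.idx_of_le (?_ : Q ≤ C[A]) q hq hd rfl
    rw [← inf_eq_right.2 hQ', ← h2.sup_eq, dedekind (Or.inr h2.right_norm) (PG.omegaOne_le _ _), a,
      sup_bot_eq]
    exact hO.trans inf_le_right
  exact ⟨S, hS, ((comm_iff_le_cent.1 hc).trans (cent_norm_tau2Elem hMs hE' ht hB hS hBS hc).2.2.2).trans
    hE'.le, hc⟩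

end Cfsg.Agent.BG
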