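import Cfsg.Agent.BG.S12b

/-! Bender–Glauberman §12, third part: 12.12. -/

set_option autoImplicit false
set_option linter.unusedSectionVars false
set_option linter.unusedVariables false

namespace Cfsg.Agent.BG

open Subgroup Cfsg.Agent.GT

universe u

section General
variable {G : Type u} [Group G] [Finite G] {H K L P S T X : Subgroup G} {π : Set ℕ} {p : ℕ}

theorem exponent_dvd_of_le' (hK : K ≤ H) : Monoid.exponent K ∣ Monoid.exponent H :=
  PG.exponent_dvd_iff.2 fun x hx => PG.exponent_dvd_iff.1 dvd_rfl x (hK hx)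

theorem exponent_eq_of_syl (hK : K ≤ H) (h : ∀ r : ℕ, r.Prime → r ∣ Nat.card H →
    ∃ P, IsPiHallOf {r} P H ∧ Monoid.exponent P ∣ Monoid.exponent K) :
    Monoid.exponent K = Monoid.exponent H := by
  refine Nat.dvd_antisymm (exponent_dvd_of_le' hK) (PG.exponent_dvd_iff.2 fun x hx =>
    PG.forall_pow_omegaOne_of_comm (H := zpowers x) inferInstance x
      (mem_of_forall_constt_mem fun r hr hd => PG.mem_omegaOne (constt_mem_zpowers _ _) ?_))
  obtain ⟨P, hP, hd⟩ := h r hr (hd.trans (orderOf_dvd_card_of_mem hx))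
  obtain ⟨g, -, hg⟩ := syl_exists_conj_le hr hP ((isPGroup_zpowers_iff hr).2 (piNat_constt _ x))
    (zpowers_le.2 (constt_mem _ hx))
  have := PG.exponent_dvd_iff.1 hd _ (hg (conj_mem_conj.2 (mem_zpowers _)))
  rwa [← orderOf_dvd_iff_pow_eq_one, orderOf_conj, orderOf_dvd_iff_pow_eq_one] at this

theorem exists_exponent_eq_pow (hp : p.Prime) (hP : IsPGroup p P) : ∃ k, Monoid.exponent P = p ^ k := by
  have := Fact.mk hp
  obtain ⟨n, hn⟩ := PG.exists_card_eq_pow hP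
  obtain ⟨k, -, hk⟩ := (Nat.dvd_prime_pow hp).1 (hn ▸ Group.exponent_dvd_nat_card (G := P))
  exact ⟨k, hk⟩

theorem exponent_dvd_total (hp : p.Prime) (hP : IsPGroup p P) (hT : IsPGroup p T) :
    Monoid.exponent P ∣ Monoid.exponent T ∨ Monoid.exponent T ∣ Monoid.exponent P := by
  obtain ⟨a, ha⟩ := exists_exponent_eq_pow hp hP
  obtain ⟨b, hb⟩ := exists_exponent_eq_pow hp hT
  rw [ha, hb]
  exact (le_total a b).imp (pow_dvd_pow p) (pow_dvd_pow p)

theorem exponent_sup_dvd (hc : H ≤ C[K]) (h : Monoid.exponent H ∣ Monoid.exponent K) :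
    Monoid.exponent ↥(H ⊔ K) ∣ Monoid.exponent K :=
  PG.exponent_dvd_iff.2 (PG.forall_pow_sup_of_le_cent (PG.exponent_dvd_iff.1 h)
    (PG.exponent_dvd_iff.1 dvd_rfl) hc)

theorem le_phi_of_isCyclic (hp : p.Prime) (hP : IsPGroup p P) (hc : IsCyclic P) (hX : X ≤ P)
    (h : ¬ P ≤ X) : X ≤ PG.phi P := by
  have := Fact.mk hp
  obtain ⟨g, rfl⟩ := PG.isCyclic_iff_exists.1 hc
  intro x hx
  obtain ⟨k, rfl⟩ := PG.exists_nat_pow_of_mem_zpowers (hX hx)
  by_cases hk : p ∣ k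
  · obtain ⟨j, rfl⟩ := hk
    rw [mul_comm, pow_mul]
    exact PG.pow_mem_phi hP (pow_mem (mem_zpowers g) j)
  · exact (h (zpowers_le.2 (PG.mem_of_pow_mem_of_coprime_orderOf hx
      (PG.coprime_orderOf_of_mem hP (mem_zpowers g) ((Nat.Prime.coprime_iff_not_dvd hp).2 hk))))).elim

end General

variable {G : Type u} [Group G] [Finite G] [MFT G]
variable {A A₀ B D E E₁ E₂ E₃ H K L M Ms N P Q R S T U V W W₁ W₂ X Y : Subgroup G} {p q r : ℕ}
  {g x y : G} {π : Set ℕ}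

theorem tau2_cyclic_semiregular (hM : IsCoatom M) (hE : IsPiHallOf (sigma M)ᶜ E M) (hp : p ∈ tau2 M)
    (hA : PnElem p 2 E A) (hT : T ≤ E) (pT : IsPGroup p T) (hc : IsCyclic T) (hn : N[A] ≤ N[T]) :
    Semiregular Mσ[M] T := by
  obtain ⟨-, ⟨-, -, nAM⟩, uX⟩ := tau2_compl_context hM hE hp hA
  refine semiregular_of_card_prime fun X hX hq => not_not.1 fun h => nAM ?_
  have e : Nat.card X = p := (isPi_of_isPGroup hp.1 pT) _ hq (card_dvd_of_le hX)
  exact hn.trans ((PG.norm_le_norm_of_isCyclic hc hX).trans ((norm_le_norm_cent X).trans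
    (uX X ((pnElem_one_iff hp.1).2 ⟨hX.trans hT, e⟩) h).norm_le))

private theorem typeF_cent (hM : IsCoatom M) (hE : IsPiHallOf (sigma M)ᶜ E M) (hp : p ∈ tau2 M)
    (hA : PnElem p 2 E A) (hS : IsPiHallOf {p} S ⊤) (hAS : A ≤ S) (hc : IsMulCommutative S) :
    ∃ Z, Z ≤ S ∧ Monoid.exponent S ∣ Monoid.exponent Z ∧ Semiregular Mσ[M] Z := by
  have pp := hp.1
  have := Fact.mk pp
  have pS := syl_isPGroup pp hS
  have hSE : S ≤ E := (comm_iff_le_cent.1 hc).trans (cent_norm_tau2Elem hM hE hp hA hS hAS hc).2.2.2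
  obtain ⟨h1, -, -, -, A₁, hA₁, h2⟩ := tau2_context hM hp (hA.mono hE.le)
  have hO := (h1 S (hS.of_le (hSE.trans hE.le) le_top) hAS).1
  obtain ⟨k, hk⟩ := exists_exponent_eq_pow pp pS
  have hS1 := PG.exponent_dvd_iff.1 hk.dvd
  obtain _ | k := k
  · exact (hA.ne_bot pp (eq_bot_iff.2 fun x hx => by simpa using hS1 x (hAS hx))).elim
  have hTA : PG.mho (p ^ k) S ≤ A := PG.mho_le_iff.2 fun x hx =>
    hO ▸ PG.mem_omegaOne (pow_mem hx _) (by rw [← pow_mul, ← pow_succ, hS1 x hx])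
  have hT1 : PG.mho (p ^ k) S ≠ ⊥ := fun h => by
    have := PG.exponent_dvd_iff.2 (PG.mho_eq_bot_iff.1 h)
    rw [hk, Nat.pow_dvd_pow_iff_le_right pp.one_lt] at this
    omega
  obtain ⟨X, hX, hXp, hreg⟩ : ∃ X, X ≤ PG.mho (p ^ k) S ∧ Nat.card X = p ∧ Mσ[M] ⊓ C[X] = ⊥ := by
    by_cases h : PG.mho (p ^ k) S = A
    · exact ⟨A₁, h ▸ hA₁.le, hA₁.card_one, h2⟩
    have h3 := PG.pnElem_one_of_lt pp hA hTA hT1 h
    exact ⟨_, le_rfl, h3.card_one, (tau2_cyclic_semiregular hM hE hp hA (hTA.trans hA.le) h3.isPGroup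
      (h3.isCyclic pp) (PG.le_norm_mho (norm_tau2Elem_eq hM hE hp hA hS hAS hc).le)).inf_cent le_rfl hT1⟩
  obtain ⟨t, ht, ht1⟩ := exists_ne_one_of_ne_bot (ne_bot_of_card_prime (hXp ▸ pp))
  obtain ⟨y, hy, rfl⟩ := (PG.mem_mho_iff_of_comm hc).1 (hX ht)
  have pZ : IsPGroup p (zpowers y) := pS.to_le (zpowers_le.2 hy)
  refine ⟨zpowers y, zpowers_le.2 hy, ?_, semiregular_of_card_prime fun Y hY hq => ?_⟩
  · obtain ⟨j, hj⟩ := exists_exponent_eq_pow pp pZ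
    rw [hk, hj]
    refine pow_dvd_pow p (not_lt.1 fun h => ht1 ?_)
    exact PG.exponent_dvd_iff.1 (hj.dvd.trans (pow_dvd_pow p (by omega))) y (mem_zpowers y)
  · rwa [PG.eq_of_isCyclic_of_card_eq pp inferInstance hY
      ((eq_zpowers_of_card_prime (hXp ▸ pp) ht ht1).le.trans
        (zpowers_le.2 (pow_mem (mem_zpowers y) _)))
      ((isPi_of_isPGroup pp pZ) _ hq (card_dvd_of_le hY)) hXp]

private theorem typeF_ncent (hM : IsCoatom M) (hE : IsPiHallOf (sigma M)ᶜ E M) (hp : p ∈ tau2 M)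
    (hA : PnElem p 2 E A) (hS : IsPiHallOf {p} S ⊤) (hAS : A ≤ S) (hc : IsMulCommutative S)
    (hq : q.Prime) (hqp : q ≠ p) (hQ : IsPiHallOf {q} Q E) (hQS : ¬ Q ≤ C[S])
    (hreg : ∀ e ∈ Q, e ≠ 1 → PiNat (tau1 M ∪ tau3 M) (orderOf e) → Mσ[M] ⊓ C1[e] = ⊥) :
    ∃ Z, Z ≤ S ∧ N[S] ≤ N[Z] ∧ Monoid.exponent S ∣ Monoid.exponent Z ∧ Semiregular Mσ[M] Z := by
  have pp := hp.1
  have := Fact.mk pp
  have := Fact.mk hq
  have pS := syl_isPGroup pp hS
  have qQ := syl_isPGroup hq hQ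
  have cS := (cent_norm_tau2Elem hM hE hp hA hS hAS hc).2.2.2
  have hSE : S ≤ E := (comm_iff_le_cent.1 hc).trans cS
  have eA := norm_tau2Elem_eq hM hE hp hA hS hAS hc
  have hO := ((tau2_context hM hp (hA.mono hE.le)).1 S (hS.of_le (hSE.trans hE.le) le_top) hAS).1
  obtain ⟨⟨nA, -⟩, -⟩ := tau2_compl_context hM hE hp hA
  have cop : ∀ Y : Subgroup G, IsPGroup q Y → (Nat.card S).Coprime (Nat.card Y) := fun Y hY =>
    hS.isPi.coprime (isPi_of_isPGroup_mem hq hY hqp)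
  have hd : q ∣ C[A].relIndex E := not_not.1 fun h => hQS (coprime_comm_le_cent_of_omegaOne pp hc pS
    (hQ.le.trans (eA ▸ nA)) (cop Q qQ) (hO ▸ le_cent_symm
      (PG.le_of_normal_of_not_dvd_relIndex hq hQ.le qQ (le_norm_cent nA) h)))
  have ht := tau1_cent_tau2Elem_factor hM hE hp hA q hq hd
  have cQ := tau13_pgroup_cyclic (Or.inl ht) qQ (hQ.le.trans hE.le)
  obtain ⟨X, hX⟩ := exists_pnElem_one hq (prime_dvd_card_of_isPGroup hq qQ fun h => hQS (h ▸ bot_le))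
  have hXE : X ≤ C[E] := by
    obtain ⟨E₁, E₂, E₃, hC, h1⟩ := ex_sigmaCompl_tau1 hM hE (hX.le.trans hQ.le)
      (isPi_of_isPGroup_mem hq hX.isPGroup ht)
    obtain ⟨x, hx, hx1⟩ := exists_ne_one_of_ne_bot (hX.ne_bot hq)
    refine (abelian_tau2 hM hC hp hA hS hAS hc).2.2.2 X h1 (hX.card_prime hq) ?_
    rw [cent_eq_cent1_of_card_prime (hX.card_prime hq) hx hx1]
    exact hreg x (hX.le hx) hx1 ((isPi_of_isPGroup_mem hq hX.isPGroup (Or.inl ht)).orderOf hx)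
  obtain ⟨L, hL, hNL⟩ := mmax_exists (mFT_norm_pgroup_proper pp hA.isPGroup (hA.ne_bot pp))
  obtain ⟨htL, ⟨P, hP, hPL, nP⟩, Q₀, hQ₀, -, cQ₀⟩ := (primes_norm_tau2Elem hM hE hp hA hL hNL).2.2 q hq hd
    (hX.of_le (le_inf (hX.le.trans hQ.le) (hXE.trans (cent_anti hA.le)))).dvd_card
  obtain rfl : S = P := syl_unique_of_normal pp (hP.of_le hPL le_top) nP
    (hS.of_le (hSE.trans (nA.trans hNL)) le_top)
  obtain ⟨R, hR, hQR⟩ := exists_syl_ge hq qQ (hQ.le.trans (nA.trans hNL))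
  have qR := syl_isPGroup hq hR
  have nR := hR.le.trans nP
  obtain ⟨Y, hY, ⟨a, ha, hYa⟩, h1⟩ := coprime_abelian_exists_cent (syl_top_comm_of_comm hq hQ₀ cQ₀ qR)
    nR (cop R qR) (X := ⊥) fun h => hA.ne_bot pp (eq_bot_iff.2 (hAS.trans h))
  have h2 : ¬ Y ≤ C[S] := fun h => by
    have e : R ⊓ E = Q := syl_eq_of_le hq hQ qR.to_inf_left inf_le_right (le_inf hQR hQ.le)
    have h3 : Y ≤ PG.phi R := (le_phi_of_isCyclic hq qQ cQ (e ▸ le_inf hY (h.trans cS))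
      fun h' => hQS (h'.trans h)).trans (PG.phi_mono qR hQR)
    exact htL.2.2.2 ((syl_pRankLE_iff hq hR).1 (PG.pRankLE_one_of_isCyclic hq
      (PG.isCyclic_of_le_phi_sup_zpowers ha (hYa.ge.trans (sup_le_sup_right h3 _)))))
  have nY := hY.trans nR
  have hcomp := coprime_comm_isComplIn hc nY (cop Y (qR.to_le hY))
  obtain ⟨n1, n2⟩ := abelian_tau2_norm_Sylow hM hE hp hA hS hAS hc nY
  have p2 : p ≠ 2 := mFT_prime_ne_two hA.dvd_card
  have hO2 : Nat.card (omegaOne p S) ≤ p ^ 2 := by rw [hO, hA.card]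
  have cO : IsMulCommutative (omegaOne p S) := hO ▸ hA.comm
  have c1 := PG.isCyclic_of_inf_eq_bot_of_card_omegaOne_le p2 pS cO hO2 hcomp.left_le hcomp.right_le
    hcomp.inf_eq fun h => h1 h.le
  have c2 := PG.isCyclic_of_inf_eq_bot_of_card_omegaOne_le p2 pS cO hO2 hcomp.right_le hcomp.left_le
    hcomp.symm.inf_eq fun h => h2 (le_cent_iff_commutator_eq_bot'.2 h)
  have cc : ⁅S, Y⁆ ≤ C[S ⊓ C[Y]] :=
    hcomp.left_le.trans ((comm_iff_le_cent.1 hc).trans (cent_anti inf_le_left))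
  rcases exponent_dvd_total pp (pS.to_le hcomp.left_le) (pS.to_le hcomp.right_le) with h | h
  · refine ⟨_, hcomp.right_le, n1, ?_, tau2_cyclic_semiregular hM hE hp hA (hcomp.right_le.trans hSE)
      (pS.to_le hcomp.right_le) c2 (eA ▸ n1)⟩
    have := exponent_sup_dvd cc h
    rwa [hcomp.sup_eq] at this
  · refine ⟨_, hcomp.left_le, n2, ?_, tau2_cyclic_semiregular hM hE hp hA (hcomp.left_le.trans hSE)
      (pS.to_le hcomp.left_le) c1 (eA ▸ n2)⟩
    have := exponent_sup_dvd (le_cent_symm cc) h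
    rwa [hcomp.symm.sup_eq] at this

/-- 12.12 (generalized) -/
theorem FTtypeF_complement (hM : IsCoatom M) (hE : IsPiHallOf (sigma M)ᶜ E M)
    (hU : IsPiHallOf π U E) (hn : E ≤ N[U]) (hU1 : U ≠ ⊥)
    (hreg : ∀ e ∈ U, e ≠ 1 → PiNat (tau1 M ∪ tau3 M) (orderOf e) → Mσ[M] ⊓ C1[e] = ⊥) :
    (∃ A₀ : Subgroup G, A₀ ≤ U ∧ U ≤ N[A₀] ∧ IsMulCommutative A₀ ∧
      ∀ x ∈ Mσ[M], x ≠ 1 → U ⊓ C1[x] ≤ A₀) ∧
    ∃ E₀ : Subgroup G, E₀ ≤ U ∧ Monoid.exponent E₀ = Monoid.exponent U ∧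
      Frob Mσ[M] E₀ (Mσ[M] ⊔ E₀) := by
  have hd := sdprod_sigma hM hE
  have hreg' : ∀ e ∈ U, (orderOf e).Prime → orderOf e ∉ tau2 M → Mσ[M] ⊓ C1[e] = ⊥ := by
    intro e he hq ht
    refine hreg e he (fun h => hq.ne_one (by rw [h, orderOf_one])) ((piNat_prime hq).2 ?_)
    rcases (partition_pi_sigma_compl hM hE hq).1 (orderOf_dvd_card_of_mem (hU.le he)) with h | h | h
    exacts [Or.inl h, (ht h).elim, Or.inr h]
  have hτ : ∀ x ∈ Mσ[M], x ≠ 1 → IsPiSubgroup (tau2 M) (U ⊓ C1[x]) := by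
    intro x hx hx1 q hq hd
    obtain ⟨e, he, rfl⟩ := exists_mem_orderOf_eq hq hd
    exact not_not.1 fun h => ne_bot_of_mem (mem_inf.2 ⟨hx, mem_cent1_comm.1 he.2⟩) hx1
      (hreg' e he.1 hq h)
  suffices h : (∀ x ∈ Mσ[M], x ≠ 1 → U ⊓ C1[x] ≤ O[tau2 M](U)) ∧ ∃ E₀ : Subgroup G, E₀ ≤ U ∧
      Monoid.exponent E₀ = Monoid.exponent U ∧ Semiregular Mσ[M] E₀ by
    obtain ⟨h1, E₀, h2, h3, h4⟩ := h
    refine ⟨⟨_, piCoreOf_le _ _, self_le_norm_piCoreOf _ _, tau2_group_abelian hM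
      ((piCoreOf_le _ _).trans (hU.le.trans hE.le)) (piCoreOf_isPi _ _), h1⟩, E₀, h2, h3,
      frob_sup (h2.trans (hU.le.trans hd.right_norm)) (Msigma_neq1 hM) (fun h => hU1 ?_) h4⟩
    subst h
    exact eq_bot_iff.2 fun x hx => by
      simpa using PG.exponent_dvd_iff.1 (h3.symm.dvd.trans Group.exponent_dvd_nat_card) x hx
  by_cases hab : ∀ p ∈ tau2 M, p ∣ Nat.card U → ∀ S : Subgroup G, IsPGroup p S → IsMulCommutative S
  · have key : ∀ p : ℕ, ∃ S Z : Subgroup G, Z ≤ S ∧ IsPGroup p S ∧ S ≤ O[tau2 M](U) ∧ U ≤ N[Z] ∧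
        Monoid.exponent S ∣ Monoid.exponent Z ∧ Semiregular Mσ[M] Z ∧
        (p ∈ tau2 M → p ∣ Nat.card U → IsPiHallOf {p} S U) := by
      intro p
      by_cases h : p ∈ tau2 M ∧ p ∣ Nat.card U
      swap
      · exact ⟨⊥, ⊥, le_rfl, IsPGroup.of_bot, bot_le, norm_bot (G := G) ▸ le_top, dvd_rfl,
          semiregular_bot_right _, fun h1 h2 => (h ⟨h1, h2⟩).elim⟩
      obtain ⟨hp, hpU⟩ := h
      have pp := hp.1
      obtain ⟨A, hA⟩ := ex_tau2Elem hE hp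
      obtain ⟨S, hS, hAS⟩ := exists_syl_ge pp hA.isPGroup le_top
      have pS := syl_isPGroup pp hS
      have hc := hab p hp hpU S pS
      have hSE : S ≤ E :=
        (comm_iff_le_cent.1 hc).trans (cent_norm_tau2Elem hM hE hp hA hS hAS hc).2.2.2
      have nS : U ≤ N[S] := hU.le.trans
        (norm_tau2Elem_eq hM hE hp hA hS hAS hc ▸ (tau2_compl_context hM hE hp hA).1.1)
      have hSU : S ≤ U := hU.le_of_normal hn hSE (hS.isPi.single_mono (hU.isPi p pp hpU))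
      have hS' := hS.of_le hSU le_top
      have hSO : S ≤ O[tau2 M](U) := le_piCoreOf hSU nS (hS.isPi.single_mono hp)
      by_cases hUS : U ≤ C[S]
      · obtain ⟨Z, h1, h2, h3⟩ := typeF_cent hM hE hp hA hS hAS hc
        exact ⟨S, Z, h1, pS, hSO, le_norm_of_cent (hUS.trans (cent_anti h1)), h2, h3, fun _ _ => hS'⟩
      obtain ⟨q, hq, hqU, h⟩ : ∃ q : ℕ, q.Prime ∧ q ∣ Nat.card U ∧
          ∀ Q, IsPiHallOf {q} Q U → ¬ Q ≤ C[S] := by
        by_contra h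
        push Not at h
        exact hUS (le_of_forall_syl_le h)
      obtain ⟨Q, hQ⟩ := exists_syl hq U
      obtain ⟨Z, h1, h2, h3, h4⟩ := typeF_ncent hM hE hp hA hS hAS hc hq
        (fun e => h S (e ▸ hS') (comm_iff_le_cent.1 hc)) (hQ.trans_single hU (hU.isPi q hq hqU))
        (h Q hQ) fun e he => hreg e (hQ.le he)
      exact ⟨S, Z, h1, pS, hSO, nS.trans h2, h3, h4, fun _ _ => hS'⟩
    choose S Z hZ pS hSO nZ hexp hZreg hS using key
    have hH : IsPiHallOf (tau2 M) O[tau2 M](U) U := isPiHallOf_of_forall_syl_le (piCoreOf_le _ _)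
      (piCoreOf_isPi _ _) fun p _ hp hd => ⟨S p, hS p hp hd, hSO p⟩
    refine ⟨fun x hx hx1 => hH.le_of_normal (self_le_norm_piCoreOf _ _) inf_le_left (hτ x hx hx1), ?_⟩
    obtain ⟨V, hV⟩ := hH.exists_hall_compl (self_le_norm_piCoreOf _ _)
    have cO := tau2_group_abelian hM ((piCoreOf_le _ _).trans (hU.le.trans hE.le))
      (piCoreOf_isPi (tau2 M) U)
    have h0 : (⨆ p : {p : ℕ // p.Prime}, Z p) ⊔ V ≤ U :=
      sup_le (iSup_le fun p => (hZ p).trans ((hSO p).trans hH.le)) hV.le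
    refine ⟨(⨆ p : {p : ℕ // p.Prime}, Z p) ⊔ V, h0, exponent_eq_of_syl h0 fun r hr hd => ?_,
      semiregular_of_prime_order fun e he hq => ?_⟩
    · by_cases ht : r ∈ tau2 M
      · exact ⟨S r, hS r ht hd, (hexp r).trans (exponent_dvd_of_le'
          ((le_iSup (fun p : {p : ℕ // p.Prime} => Z p) ⟨r, hr⟩).trans le_sup_left))⟩
      · obtain ⟨P, hP⟩ := exists_syl hr V
        exact ⟨P, hP.trans_single hV ht, exponent_dvd_of_le' (hP.le.trans le_sup_right)⟩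
    by_cases ht : orderOf e ∈ tau2 M
    swap
    · exact hreg' e (h0 he) hq ht
    generalize hr : orderOf e = r at hq ht
    have hK : IsPiSubgroup {r}ᶜ (O[{r}ᶜ](O[tau2 M](U)) ⊔ V) := (piCoreOf_isPi _ _).sup
      (hV.isPi.single_compl_mono ht)
      (Or.inr (le_norm_piCoreOf (hV.le.trans (self_le_norm_piCoreOf _ _))))
    have hKU : O[{r}ᶜ](O[tau2 M](U)) ⊔ V ≤ U := sup_le ((piCoreOf_le _ _).trans hH.le) hV.le
    refine hZreg r e ((isPiHallOf_sup_left (Or.inr (hKU.trans (nZ r)))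
      (isPi_of_isPGroup hq ((pS r).to_le (hZ r))) hK).mem_of_normal
        (sup_le le_normalizer (hKU.trans (nZ r))) ((sup_le (iSup_le fun p => ?_)
          (le_sup_right.trans le_sup_right) : (⨆ p : {p : ℕ // p.Prime}, Z p) ⊔ V ≤ _) he)
          (by rw [hr]; exact piNat_single_self hq))
      fun h => hq.ne_one (by rw [← hr, h, orderOf_one])
    by_cases h : p.1 = r
    · exact h ▸ le_sup_left
    · exact le_sup_of_le_right (le_sup_of_le_left (nil_le_piCoreOf (nilpotent_of_comm' cO)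
        ((hZ p).trans (hSO p)) (isPi_of_isPGroup_mem p.2 ((pS p).to_le (hZ p)) h)))
  push Not at hab
  obtain ⟨p, hp, hpU, S, pS, hc⟩ := hab
  have pp := hp.1
  obtain ⟨A, hA⟩ := ex_tau2Elem hE hp
  obtain ⟨ht, ⟨h1, -⟩, -, E₀, h2, h3⟩ := nonabelian_tau2 hM hE hp hA pS hc
  have hAc : A ⊓ C[Mσ[M]] ≤ C[Mσ[M]] := inf_le_right
  have pA : IsPGroup p ↥(A ⊓ C[Mσ[M]]) := hA.isPGroup.to_inf_left
  have hAA : A ⊓ C[Mσ[M]] ≤ A := inf_le_left
  generalize A ⊓ C[Mσ[M]] = A₀ at h1 h2 hAc pA hAA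
  have hπ := hU.isPi p pp hpU
  have hAU : A ≤ U := hU.le_of_normal hn hA.le (isPi_of_isPGroup_mem pp hA.isPGroup hπ)
  have d := h2.inf_of_left_le (hAA.trans hAU)
  rw [inf_eq_right.2 hU.le] at d
  refine ⟨fun x hx hx1 => ?_, E₀ ⊓ U, inf_le_right, exponent_eq_of_syl inf_le_right fun r hr hd => ?_,
    semiregular_of_prime_order fun e he hq => ?_⟩
  · have d' := h2.inf_of_left_le (hAc.trans (cent_le_cent1 hx))
    refine le_trans ?_ (le_piCoreOf d.left_le d.norm (isPi_of_isPGroup_mem pp pA hp))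
    exact (isPiHallOf_of_isComplIn d'.compl (isPi_of_isPGroup_mem pp pA hp)
      ((h3 x hx hx1).mono fun _ => tau1_not_tau2)).le_of_normal d'.norm
      (inf_le_inf_right _ hU.le) (hτ x hx hx1)
  · by_cases hrp : r = p
    · subst hrp
      obtain ⟨P, hP, hAP⟩ := exists_syl_ge hr hA.isPGroup hAU
      have pP := syl_isPGroup hr hP
      have d' := d.inf_of_left_le (hAA.trans hAP)
      rw [inf_eq_right.2 hP.le] at d'
      refine ⟨P, hP, dvd_trans ?_ (exponent_dvd_of_le' (inf_le_left (b := P)))⟩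
      have := exponent_sup_dvd (d'.left_le.trans ((comm_iff_le_cent.1 (tau2_Sylow_abelian hM hp pP
        (hP.le.trans (hU.le.trans hE.le)))).trans (cent_anti d'.right_le))) (by
          obtain ⟨x, hx, hxr⟩ := exists_mem_orderOf_eq hr (prime_dvd_card_of_isPGroup hr
            (pP.to_le d'.right_le) fun h => PG.pnElem_two_not_isCyclic hr hA (cyc_of_le
              (isCyclic_of_card_prime (h1 ▸ hr)) (hAP.trans (d'.eq_left_iff.2 h).ge)))
          exact (Group.exponent_dvd_nat_card.trans (h1.trans hxr.symm).dvd).trans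
            (orderOf_dvd_iff_pow_eq_one.2 (PG.exponent_dvd_iff.1 dvd_rfl x hx)))
      rwa [d'.sup_eq] at this
    · obtain ⟨P, hP⟩ := exists_syl hr (E₀ ⊓ U)
      refine ⟨P, syl_trans hr hP inf_le_right ?_, exponent_dvd_of_le' hP.le⟩
      rw [d.relIndex_right, h1, Nat.prime_dvd_prime_iff_eq hr pp]
      exact hrp
  refine not_not.1 fun h => h (hreg' e he.2 hq ?_)
  obtain ⟨x, hx, hx1⟩ := exists_ne_one_of_ne_bot h
  exact tau1_not_tau2 (h3 x hx.1 hx1 _ hq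
    (orderOf_dvd_card_of_mem (H := E₀ ⊓ C1[x]) ⟨he.1, mem_cent1_comm.1 hx.2⟩))

end Cfsg.Agent.BG
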