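import Cfsg.Agent.BG.S13a

/-! Bender–Glauberman §13, second part (13.7–13.13). -/

set_option autoImplicit false
set_option linter.unusedSectionVars false
set_option linter.unusedVariables false

namespace Cfsg.Agent.BG

open Subgroup Cfsg.Agent.GT

universe u

variable {G : Type u} [Group G] [Finite G] [MFT G]
variable {A A₀ B D E E₁ E₂ E₃ H K L M Ms N P Q R S U V W W₁ W₂ X Y : Subgroup G} {p q r : ℕ}
  {g x y : G} {π : Set ℕ}

theorem exists_card_prime_of_not_semiregular (h : ¬ Semiregular K H) :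
    ∃ X : Subgroup G, X ≤ H ∧ (Nat.card X).Prime ∧ K ⊓ C[X] ≠ ⊥ := by
  by_contra hc
  exact h (semiregular_of_card_prime fun X h1 h2 => by_contra fun h3 => hc ⟨X, h1, h2, h3⟩)

theorem tau2_hall_eq_bot_of_not_reg (hM : IsCoatom M) (hE : SigmaCompl M E E₁ E₂ E₃)
    (h : ¬ Semiregular Mσ[M] E₃) : E₂ = ⊥ := by
  by_contra h2
  obtain ⟨p, hp⟩ := (tau2_hall_ne_bot_iff hM hE.hall hE.hall2).1 h2
  obtain ⟨A, hA⟩ := ex_tau2Elem hE.hall hp
  exact h (tau2_regular hM hE hp hA).1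

theorem conj_Msigma_inf_cent (hg : g ∈ M) (X : Subgroup G) :
    cj[g] (Mσ[M] ⊓ C[X]) = Mσ[M] ⊓ C[cj[g] X] := by
  rw [conj_inf, conj_centralizer, conj_eq_self (le_norm_sigmaCore M hg)]

/-- a `σ(M)'`-subgroup that is a `τ₁(M)`-group lies in some `E₁` -/
theorem ex_compl_tau1 (hM : IsCoatom M) (hK : K ≤ M) (hτ : IsPiSubgroup (tau1 M) K) :
    ∃ E E₁ E₂ E₃, SigmaCompl M E E₁ E₂ E₃ ∧ K ≤ E₁ := by
  obtain ⟨E, hE, hKE⟩ := ex_sigma_compl hM hK (hτ.mono fun _ h => tau1_not_sigma h)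
  obtain ⟨E₁, E₂, E₃, h, h'⟩ := ex_sigmaCompl_tau1 hM hE hKE hτ
  exact ⟨E, E₁, E₂, E₃, h, h'⟩

/-- 13.5 for an arbitrary `τ₁(M)`-subgroup -/
theorem tau1_primact_Msigma' (hM : IsCoatom M) (hK : K ≤ M) (hτ : IsPiSubgroup (tau1 M) K) :
    Semiprime Mσ[M] K := by
  obtain ⟨E, E₁, E₂, E₃, h, h'⟩ := ex_compl_tau1 hM hK hτ
  exact (tau1_primact_Msigma hM h.hall h.hall1).mono le_rfl h'

/-- 13.6 for an arbitrary `τ₁(M)`-subgroup -/
theorem cent_cent_Msigma_tau1_uniq' (hM : IsCoatom M) (hP : P ≤ M)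
    (hτ : IsPiSubgroup (tau1 M) P) (hP1 : P ≠ ⊥) (hq : q.Prime)
    (hX : PnElem q 1 (Mσ[M] ⊓ C[P]) X) :
    UMax C[X] M ∧ ∀ S, IsPiHallOf {q} S Mσ[M] → UMax S M := by
  obtain ⟨E, E₁, E₂, E₃, h, h'⟩ := ex_compl_tau1 hM hP hτ
  exact cent_cent_Msigma_tau1_uniq hM h.hall h.hall1 h' hP1 hq hX

/-- 13.7 -/
theorem tau13_primact_Msigma (hM : IsCoatom M) (hE : SigmaCompl M E E₁ E₂ E₃) (h1 : E₁ ≠ ⊥)
    (hreg : ¬ Semiregular E₃ E₁) : Semiprime Mσ[M] (E₃ ⊔ E₁) := by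
  obtain ⟨⟨h3d, h3n⟩, -, ⟨hc1, hc3⟩, -, hti⟩ := sigma_compl_context hM hE
  have h₁ := hE.hall1
  have h₃ := hE.hall3
  obtain ⟨P, hP, hPp, hCP⟩ := exists_card_prime_of_not_semiregular hreg
  obtain ⟨R, hR, hRp⟩ := exists_le_card_prime hCP
  have hR3 : R ≤ E₃ := hR.trans inf_le_left
  have hR1 := ne_bot_of_card_prime hRp
  have hP1 := ne_bot_of_card_prime hPp
  have pr1 := tau1_primact_Msigma hM hE.hall h₁
  have pr3 := tau3_primact_Msigma hM hE.hall h₃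
  have hpτ : Nat.card P ∈ tau1 M := h₁.isPi _ hPp (card_dvd_of_le hP)
  have hrτ : Nat.card R ∈ tau3 M := h₃.isPi _ hRp (card_dvd_of_le hR3)
  have h13 : Mσ[M] ⊓ C[E₁] ≤ Mσ[M] ⊓ C[E₃] := by
    rw [← pr1.inf_cent hP hP1, ← pr3.inf_cent hR3 hR1]
    exact cent_tau1Elem_Msigma hM hE.hall hpτ hRp ((pnElem_one_iff hPp).2 ⟨hP.trans h₁.le, rfl⟩)
      ((pnElem_one_iff hRp).2 ⟨hR.trans (inf_le_inf_right _ h₃.le), rfl⟩)
  have hEM := hE.hall.le
  have h31 : Mσ[M] ⊓ C[E₃] ≤ C[E₁] := by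
    by_contra h31
    have hne : Mσ[M] ⊓ C[E₃] ≠ ⊥ := fun h => h31 (h ▸ bot_le)
    have h2 := tau2_hall_eq_bot_of_not_reg hM hE fun h => hne (h.inf_cent le_rfl
      (ne_bot_of_le hR1 hR3))
    have hsup := hE.sup_of_eq_bot hM h2
    obtain ⟨L, hL, hn⟩ := exists_mmax_norm_of_card_prime hRp
    have hEL : E ≤ L := (PG.le_norm_of_isCyclic hc3 hR3 h3n).trans hn
    have hCL : Mσ[M] ⊓ C[E₃] ≤ Mσ[M] ⊓ L :=
      inf_le_inf_left _ ((cent_anti hR3).trans ((cent_le_norm R).trans hn))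
    obtain ⟨-, ha, hb⟩ := cent_norm_tau13_mmax hM hE.hall (Or.inr hrτ)
      (hR3.trans (h₃.le.trans hEM)) (isPGroup_of_card_eq_prime rfl) hL hn
    have h1L : IsPiSubgroup (tau1 L) E₁ := fun s hs hd => by
      by_contra h
      obtain ⟨Y, hY⟩ := exists_pnElem_one hs hd
      have := ha Y (hY.le.trans (le_inf h₁.le (h₁.le.trans hEL)))
        (isPi_of_isPGroup_mem hs hY.isPGroup h)
      refine h31 ((le_inf inf_le_left (hCL.trans (le_cent_symm this))).trans ?_)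
      rw [pr1.inf_cent hY.le (hY.ne_bot hs)]
      exact inf_le_right
    have hrs := (hb fun h => h31 (hCL.trans (le_cent_symm ((le_inf (h₁.le.trans hEM)
      (h₁.le.trans hEL)).trans (le_cent_iff_commutator_eq_bot'.2 h))))).1
    have hRL : R ≤ Mσ[L] := pgroup_le_Msigma hL hrs (isPGroup_of_card_eq_prime rfl)
      (le_normalizer.trans hn)
    have hRE₁ : R ≤ C[E₁] := by
      have := (tau1_primact_Msigma' hL (h₁.le.trans hEL) h1L).inf_cent hP hP1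
      exact (le_inf hRL (hR.trans inf_le_right)).trans (this.le.trans inf_le_right)
    refine hR1 (le_bot_iff.1 (hti ▸ le_inf hR3 ?_))
    rw [← hsup, cent_sup]
    exact le_inf (hR3.trans (comm_iff_le_cent.1 (isMulCommutative_of_isCyclic hc3))) hRE₁
  have heq : Mσ[M] ⊓ C[E₁] = Mσ[M] ⊓ C[E₃] := le_antisymm h13 (le_inf inf_le_left h31)
  have h3le : Mσ[M] ⊓ C[E₃] ≤ C[E₃ ⊔ E₁] := by
    rw [cent_sup]; exact le_inf inf_le_right h31
  have hsE : E₃ ⊔ E₁ ≤ E := sup_le h₃.le h₁.le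
  refine semiprime_of_card_prime fun X hX hXp => ?_
  have hX1 := ne_bot_of_card_prime hXp
  by_cases hτ : Nat.card X ∈ tau1 M
  · obtain ⟨g, hg, hXg⟩ := (h₁.of_le le_sup_right hsE).exists_conj_le
      (isSolvable_of_le (sigma_compl_sol hM hE.hall) hsE) hX
      (isPi_of_isPGroup_mem hXp (isPGroup_of_card_eq_prime rfl) hτ)
    have e : cj[g] (Mσ[M] ⊓ C[X]) = cj[g] (Mσ[M] ⊓ C[E₃]) := by
      rw [conj_Msigma_inf_cent (hEM (hsE hg)), conj_Msigma_inf_cent (hEM (hsE hg)),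
        pr1.inf_cent hXg (by rwa [Ne, conj_eq_bot_iff]), conj_eq_self (h3n (hsE hg)), heq]
    rw [conj_inj.1 e]; exact h3le
  · have hd : Nat.card X ∣ Nat.card E₃ * Nat.card E₁ :=
      (card_dvd_of_le hX).trans (card_sup_dvd (Or.inr (h₁.le.trans h3n)))
    have h3 : Nat.card X ∈ tau3 M :=
      h₃.isPi _ hXp ((hXp.dvd_mul.1 hd).resolve_right fun h => hτ (h₁.isPi _ hXp h))
    have hX3 : X ≤ E₃ := h₃.le_of_normal h3n (hX.trans hsE)
      (isPi_of_isPGroup_mem hXp (isPGroup_of_card_eq_prime rfl) h3)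
    rw [pr3.inf_cent hX3 hX1]; exact h3le

theorem s13_8A (hM : IsCoatom M) (hL : IsCoatom L) (hne : L ≠ M) (hp : p ∈ tau1 M)
    (hP : PnElem p 1 M P) (hq : q.Prime) (hQ : IsPiHallOf {q} Q (M ⊓ L)) (hPQ : P ≤ N[Q])
    (hCQ : Q ⊓ C[P] = ⊥) (hNQ : N[Q] ≤ L) :
    q ≠ p ∧ IsPiHallOf {q} Q M ∧ alpha M = beta M ∧ q ∉ alpha M ∧
      Mα[M] ⊓ C[P] ≠ ⊥ ∧ Mα[M] ⊓ C[Q ⊔ P] = ⊥ := by
  have hQ1 := ne_bot_of_norm_le_mmax hL hNQ
  have hQq := syl_isPGroup hq hQ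
  have hqp : q ≠ p := by
    rintro rfl
    exact inf_cent_ne_bot_of_isPGroup hq hQq hP.isPGroup hPQ hQ1 hCQ
  have hQM : IsPiHallOf {q} Q M :=
    syl_of_norm_le hq hQ (hQ.le.trans inf_le_left) (inf_le_inf_left _ hNQ)
  obtain ⟨h1, -, h2, h3, h4⟩ := (cent_Malpha_reg_tau1 hM hp hq hqp hP hQ1 hPQ hCQ
    (fun h => hne (h.eq hL hNQ))).2 hQM
  exact ⟨hqp, hQM, h1, h2, h3, h4⟩

theorem coprime_of_isPGroup_ne (hp : p.Prime) (hq : q.Prime) (h : q ≠ p) (hQ : IsPGroup q Q)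
    (hP : IsPGroup p P) : (Nat.card Q).Coprime (Nat.card P) :=
  (isPi_of_isPGroup hq hQ).coprime (isPi_of_isPGroup_mem hp hP (Ne.symm h))

theorem commutator_eq_of_reg (hs : Group.IsSolvable Q ∨ Group.IsSolvable P) (hn : P ≤ N[Q])
    (hc : (Nat.card Q).Coprime (Nat.card P)) (h : Q ⊓ C[P] = ⊥) : ⁅Q, P⁆ = Q := by
  have := coprime_commutator_sup_cent hs hn hc
  rwa [h, sup_bot_eq] at this

theorem s13_8B {s : ℕ} (hM : IsCoatom M) (hL : IsCoatom L) (hc : ¬ Conjg M L) (hp : p ∈ tau1 M)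
    (hP : PnElem p 1 (M ⊓ L) P) (hq : q.Prime) (hQ : IsPiHallOf {q} Q (M ⊓ L)) (hPQ : P ≤ N[Q])
    (hCQ : Q ⊓ C[P] = ⊥) (hNQ : N[Q] ≤ L) (hLβ : Mβ[L] ⊓ C[P] ≠ ⊥)
    (hH : IsPiHallOf (beta M ∪ beta L) H C[P]) (hs : s ∈ beta M) (hO : O[{s}](H) ≠ ⊥) : False := by
  have hpp := tau1_prime hp
  have hPM : P ≤ M := hP.le.trans inf_le_left
  have hPL : P ≤ L := hP.le.trans inf_le_right
  have hP1 := hP.ne_bot hpp
  obtain ⟨hqp, hQM, hαβ, hqα, hC1, hC2⟩ := s13_8A hM hL (ne_of_not_conjg hc) hp (hP.of_le hPM)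
    hq hQ hPQ hCQ hNQ
  have hQq := syl_isPGroup hq hQ
  have eαβ : Mα[M] = Mβ[M] := by rw [alphaCore_eq, betaCore_eq, hαβ]
  have hQP : ⁅Q, P⁆ = Q := commutator_eq_of_reg (Or.inl (solvable_of_isPGroup hq hQq)) hPQ
    (coprime_of_isPGroup_ne hpp hq hqp hQq hP.isPGroup) hCQ
  have hQd : Q ≤ ⁅M, M⁆ := hQP ▸ commutator_mono hQM.le hPM
  have hQdL : Q ≤ ⁅L, L⁆ := hQP ▸ commutator_mono (hQ.le.trans inf_le_right) hPL
  have hsup := (Mbeta_sup_norm_der1_hall hM (hQM.of_le hQd (der1_le M))).2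
  have hsolC : Group.IsSolvable C[P] := mFT_sol (mFT_cent_proper hP1)
  -- a Hall subgroup `H` of `C(P)` lies in `M`
  obtain ⟨t, ht, htd⟩ := exists_prime_dvd_card hC1
  obtain ⟨X, hX⟩ := exists_pnElem_one ht htd
  have htα : t ∈ alpha M := alphaCore_isPi M t ht (htd.trans (card_dvd_of_le inf_le_left))
  have hXM : X ≤ M := hX.le.trans (inf_le_left.trans (alphaCore_le M))
  have hCX : C[X] ≤ M := (cent_cent_Msigma_tau1_uniq' hM hPM
    (isPi_of_isPGroup_mem hpp hP.isPGroup hp) hP1 ht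
    (hX.mono (inf_le_inf_right _ (Malpha_sub_Msigma hM)))).1.le
  obtain ⟨c, hcP, hXc⟩ := hH.exists_le_conj hsolC (hX.le.trans inf_le_right)
    (isPi_of_isPGroup_mem ht hX.isPGroup (Or.inl (hαβ ▸ htα)))
  have hH' := hH.conj_of_mem hcP
  have hO' : O[{s}](cj[c] H) ≠ ⊥ := by rwa [← conj_piCoreOf, Ne, conj_eq_bot_iff]
  generalize cj[c] H = H' at hH' hO' hXc
  have hsp := beta_prime hs
  obtain ⟨S, hS⟩ := exists_syl hsp Mβ[M]
  obtain ⟨g, -, hg⟩ := syl_exists_le_conj hsp (hS.trans_single (Mbeta_Hall_G hM) hs)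
    (piCoreOf_isPGroup hsp H') le_top
  have hH'g : H' ≤ cj[g] M := (self_le_norm_piCoreOf _ _).trans
    (beta_norm_sub_mmax (isCoatom_conj g hM)
      (hg.trans (conj_mono g (hS.le.trans (betaCore_le M))))
      (by rw [beta_conj]; exact (piCoreOf_isPi _ _).single_mono hs) hO')
  have hgM : g ∈ M := sigma_group_trans_cent hM (alpha_sub_sigma hM htα) hX.isPGroup hXM hCX
    (hXc.trans hH'g)
  rw [conj_eq_self_of_mem hgM] at hH'g
  -- a subgroup `R` of prime order in `β(L)`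
  obtain ⟨r, hr, hrd⟩ := exists_prime_dvd_card hLβ
  have hrβ : r ∈ beta L := betaCore_isPi L r hr (hrd.trans (card_dvd_of_le inf_le_left))
  have hrs : r ∉ sigma M := fun h => sigma_not_beta hM hL hc h hrβ
  have hrH : r ∣ Nat.card ↥(M ⊓ C[P]) :=
    (hH'.prime_dvd hr (Or.inr hrβ) (hrd.trans (card_dvd_of_le inf_le_right))).trans
      (card_dvd_of_le (le_inf hH'g hH'.le))
  have hPs : IsPiSubgroup (sigma M)ᶜ P := isPi_of_isPGroup_mem hpp hP.isPGroup (tau1_not_sigma hp)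
  have hnβ : M ⊓ N[Q] ≤ N[Mβ[M]] := inf_le_left.trans (le_norm_betaCore M)
  have hdec := coprime_cent_sup_of_norm (H := Mβ[M]) (K := M ⊓ N[Q])
    (Or.inr (solvable_of_isPGroup hpp hP.isPGroup)) (hPM.trans (le_norm_betaCore M))
    (le_norm_self (le_inf hPM hPQ))
    (((sigmaCore_isPi M).of_le (inf_le_left.trans (Mbeta_sub_Msigma hM))).coprime hPs) (Or.inr hnβ)
  rw [hsup] at hdec
  rw [hdec] at hrH
  have hrR : r ∣ Nat.card ↥(M ⊓ N[Q] ⊓ C[P]) :=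
    (hr.dvd_mul.1 (hrH.trans (card_sup_dvd (Or.inr
      (le_norm_inf (inf_le_left.trans hnβ) (le_norm_self inf_le_right)))))).resolve_left
      fun h => hrs (sigma_of_dvd_Msigma hr (inf_le_left.trans (Mbeta_sub_Msigma hM)) h)
  obtain ⟨R, hR⟩ := exists_pnElem_one hr hrR
  have hRM : R ≤ M := hR.le.trans (inf_le_left.trans inf_le_left)
  have hRL : R ≤ L := hR.le.trans (inf_le_left.trans (inf_le_right.trans hNQ))
  have hRP : R ≤ C[P] := hR.le.trans inf_le_right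
  have hNR : N[R] ≤ L := beta_norm_sub_mmax hL hRL (isPi_of_isPGroup_mem hr hR.isPGroup hrβ)
    (hR.ne_bot hr)
  obtain ⟨E, hE, hPRE⟩ := ex_sigma_compl hM (sup_le hPM hRM)
    (hPs.sup (isPi_of_isPGroup_mem hr hR.isPGroup hrs) (Or.inr (le_norm_of_cent hRP)))
  have hKL : Mα[M] ⊓ C[P] ≤ L :=
    (inf_le_inf_right _ (Malpha_sub_Msigma hM)).trans ((cent_tau1Elem_Msigma hM hE hp hr
      (hP.of_le (le_sup_left.trans hPRE)) (hR.of_le (le_inf (le_sup_right.trans hPRE) hRP))).trans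
      (inf_le_right.trans ((cent_le_norm R).trans hNR)))
  have ha := der1_pgroup_commg hL hq hQq hQdL hKL
  have hb : IsPiSubgroup (alpha M) ⁅Mα[M] ⊓ C[P], Q⁆ :=
    (alphaCore_isPi M).of_le ((commutator_mono inf_le_left hQM.le).trans
      (commutator_le_of_le_norm_left (le_norm_alphaCore M)))
  have h0 : ⁅Mα[M] ⊓ C[P], Q⁆ = ⊥ := hb.eq_bot (ha.mono' fun r hr h hα => by
    rcases h with h | h
    · exact sigma_not_beta hM hL hc (alpha_sub_sigma hM hα) h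
    · exact hqα ((Set.mem_singleton_iff.1 h) ▸ hα))
  refine hC1 (le_bot_iff.1 (hC2 ▸ le_inf inf_le_left ?_))
  rw [cent_sup]
  exact le_inf (le_cent_iff_commutator_eq_bot.2 h0) inf_le_right

/-- 13.8 -/
theorem tau1_mmaxI_asymmetry {Qs : Subgroup G} {qs : ℕ} (hM : IsCoatom M) (hMs : IsCoatom Ms)
    (hc : ¬ Conjg M Ms) (hp : p ∈ tau1 M) (hps : p ∈ tau1 Ms) (hP : PnElem p 1 (M ⊓ Ms) P)
    (hq : q.Prime) (hQ : IsPiHallOf {q} Q (M ⊓ Ms)) (hPQ : P ≤ N[Q]) (hCQ : Q ⊓ C[P] = ⊥)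
    (hNQ : N[Q] ≤ Ms) (hqs : qs.Prime) (hQs : IsPiHallOf {qs} Qs (M ⊓ Ms)) (hPQs : P ≤ N[Qs])
    (hCQs : Qs ⊓ C[P] = ⊥) (hNQs : N[Qs] ≤ M) : False := by
  have hpp := tau1_prime hp
  have hne := ne_of_not_conjg hc
  have hQs' : IsPiHallOf {qs} Qs (Ms ⊓ M) := by rwa [inf_comm]
  have hP' : PnElem p 1 (Ms ⊓ M) P := by rwa [inf_comm]
  obtain ⟨-, -, e1, -, h1, -⟩ := s13_8A hM hMs hne hp (hP.mono inf_le_left) hq hQ hPQ hCQ hNQ
  obtain ⟨-, -, e2, -, h2, -⟩ := s13_8A hMs hM hne.symm hps (hP.mono inf_le_right) hqs hQs' hPQs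
    hCQs hNQs
  rw [alphaCore_eq, e1, ← betaCore_eq] at h1
  rw [alphaCore_eq, e2, ← betaCore_eq] at h2
  have hsolC : Group.IsSolvable C[P] := mFT_sol (mFT_cent_proper (hP.ne_bot hpp))
  obtain ⟨H, hH⟩ := exists_hall (beta M ∪ beta Ms) hsolC
  obtain ⟨t, ht, htd⟩ := exists_prime_dvd_card h1
  have hH1 : H ≠ ⊥ := hH.ne_bot ht
    (Or.inl (betaCore_isPi M t ht (htd.trans (card_dvd_of_le inf_le_left))))
    (htd.trans (card_dvd_of_le inf_le_right))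
  obtain ⟨s, hs, hO⟩ := exists_piCoreOf_single_ne_bot (isSolvable_of_le hsolC hH.le) hH1
  rcases hH.isPi s hs ((prime_dvd_card_of_isPGroup hs (piCoreOf_isPGroup hs H) hO).trans
    (card_dvd_of_le (piCoreOf_le _ _))) with h | h
  · exact s13_8B hM hMs hc hp hP hq hQ hPQ hCQ hNQ h2 hH h hO
  · exact s13_8B hMs hM (not_conjg_symm hc) hps hP' hqs hQs' hPQs hCQs hNQs h1
      (by rwa [Set.union_comm]) h hO

/-- 13.9 -/
theorem sigma_partition (hM : IsCoatom M) (hMs : IsCoatom Ms) (hc : ¬ Conjg M Ms) :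
    Disjoint (sigma M) (sigma Ms) := by
  rw [Set.disjoint_left]
  intro q hq hqs
  have hqp := sigma_prime hq
  obtain ⟨E, hE, -⟩ := ex_sigma_compl hM bot_le isPiSubgroup_bot
  obtain ⟨E₁, E₂, E₃, hEs⟩ := ex_sigmaCompl hM hE
  have h2 : E₂ = ⊥ := by
    by_contra h2
    obtain ⟨p, hp⟩ := (tau2_hall_ne_bot_iff hM hE hEs.hall2).1 h2
    exact Set.disjoint_left.1 (tau2_sigma_disjoint hM hp hMs hc).2 hq hqs
  obtain ⟨P, hP, hPp⟩ := exists_le_card_prime ((sigma_compl_context hM hEs).2.1 h2)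
  have hp : Nat.card P ∈ tau1 M := hEs.hall1.isPi _ hPp (card_dvd_of_le hP)
  have hPE : P ≤ E := hP.trans hEs.hall1.le
  have hPM : P ≤ M := hPE.trans hE.le
  obtain ⟨S, hS, hES⟩ := coprime_exists_syl hqp (Or.inr (sigma_compl_sol hM hE))
    (hE.le.trans (le_norm_sigmaCore M)) (coprime_Msigma hE.isPi)
  have hSq := syl_isPGroup hqp hS
  have hSM := Msigma_syl hM hq hS
  obtain ⟨T, hT⟩ := exists_syl hqp Ms
  obtain ⟨g, -, hg⟩ := syl_exists_conj hqp (sigma_Sylow_G hqs hT) (Msigma_syl_G hM hq hS)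
  have hSL : IsPiHallOf {q} S (cj[g] Ms) := hg ▸ hT.conj g
  have hL := isCoatom_conj g hMs
  have hcL : ¬ Conjg M (cj[g] Ms) := fun h => hc (h.trans (conjg_conj g Ms).symm)
  have hqL : q ∈ sigma (cj[g] Ms) := by rwa [sigma_conj]
  generalize cj[g] Ms = L at hSL hL hcL hqL
  have hNL := norm_sigma_Sylow hqL hSL
  have hNM := norm_sigma_Sylow hq hSM
  have hPS : P ≤ N[S] := hPE.trans hES
  have hPL : P ≤ L := hPS.trans hNL
  have hS1 : S ≠ ⊥ := ne_bot_of_norm_le_mmax hM hNM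
  have hC : S ⊓ C[P] = ⊥ := by
    by_contra hC
    obtain ⟨X, hX⟩ := exists_pnElem_one hqp
      (prime_dvd_card_of_isPGroup hqp (hSq.to_le inf_le_left) hC)
    exact ne_of_not_conjg hcL (((cent_cent_Msigma_tau1_uniq hM hE hEs.hall1 hP
      (ne_bot_of_card_prime hPp) hqp (hX.mono (inf_le_inf_right _ hS.le))).2 S hS).eq hL hSL.le)
  have hSL' : S ≤ Mσ[M] ⊓ L := le_inf hS.le hSL.le
  have hnc : ¬ P ≤ C[S] := fun h => hS1 (by rw [← hC, left_eq_inf]; exact le_cent_symm h)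
  have hpL : Nat.card P ∈ tau1 L := by
    by_contra h
    exact hnc (((Msigma_setI_mmax_central hM hE hL hPp (card_dvd_of_le hPE) (card_dvd_of_le hPL) h
      (fun h0 => hnc ((le_inf hPM hPL).trans ((le_cent_iff_commutator_eq_bot'.2 h0).trans
        (cent_anti hSL')))) hcL).1 P (le_inf hPM hPL) (isPGroup_of_card_eq_prime rfl)).trans
        (cent_anti hSL'))
  have hSML : IsPiHallOf {q} S (M ⊓ L) := hSM.of_le (le_inf hSM.le hSL.le) inf_le_left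
  exact tau1_mmaxI_asymmetry hM hL hcL hp hpL ((pnElem_one_iff hPp).2 ⟨le_inf hPM hPL, rfl⟩)
    hqp hSML hPS hC hNL hqp hSML hPS hC hNM

theorem cyclic_pgroup_reg (hq : q.Prime) (hQ : IsPGroup q Q) (hcyc : IsCyclic Q) (hn : P ≤ N[Q])
    (hc : (Nat.card Q).Coprime (Nat.card P)) (h : ¬ P ≤ C[Q]) : Q ⊓ C[P] = ⊥ := by
  by_contra h1
  have := Fact.mk hq
  exact h (coprime_comm_le_cent_of_omegaOne hq (isMulCommutative_of_isCyclic hcyc) hQ hn hc
    ((PG.omegaOne_le_of_isCyclic hcyc hQ inf_le_left h1).trans inf_le_right))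

/-- 13.10 -/
theorem tau13_noncentral_regular (hM : IsCoatom M) (hE : SigmaCompl M E E₁ E₂ E₃) (hP : P ≤ E)
    (hPp : (Nat.card P).Prime) (hc : ¬ P ≤ C[E₃]) :
    Semiregular E₃ E₁ ∧ Semiregular Mσ[M] E₃ ∧ Mσ[M] ⊓ C[P] ≠ ⊥ := by
  obtain ⟨⟨h3d, h3n⟩, -, ⟨hc1, hc3⟩, -, hti⟩ := sigma_compl_context hM hE
  have h₁ := hE.hall1
  have h₃ := hE.hall3
  have hEM := hE.hall.le
  have hPM := hP.trans hEM
  have hP1 := ne_bot_of_card_prime hPp
  have hPe : PnElem (Nat.card P) 1 E P := (pnElem_one_iff hPp).2 ⟨hP, rfl⟩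
  have hp : Nat.card P ∈ tau1 M := by
    rcases (partition_pi_sigma_compl hM hE.hall hPp).1 (card_dvd_of_le hP) with h | h | h
    · exact h
    · obtain ⟨A, hA⟩ := ex_tau2Elem hE.hall h
      exact absurd (((tau2_compl_context hM hE.hall h hA).1.2 P hPe).trans
        (le_cent_symm (tau3_cent_tau2Elem hM hE.hall h₃ h hA))) hc
    · exact absurd ((h₃.le_of_normal h3n hP (isPi_of_isPGroup_mem hPp hPe.isPGroup h)).trans
        (comm_iff_le_cent.1 (isMulCommutative_of_isCyclic hc3))) hc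
  have hPτ : IsPiSubgroup (tau1 M) P := isPi_of_isPGroup_mem hPp hPe.isPGroup hp
  obtain ⟨q, Q, hq, hQ, hnc⟩ : ∃ (q : ℕ) (Q : Subgroup G), q.Prime ∧ IsPiHallOf {q} Q E₃ ∧
      ¬ P ≤ C[Q] := by
    by_contra h
    refine hc (le_cent_symm (le_of_forall_syl_le fun q hq _ => ?_))
    obtain ⟨Q, hQ⟩ := exists_syl hq E₃
    exact ⟨Q, hQ, le_cent_symm (by_contra fun h' => h ⟨q, Q, hq, hQ, h'⟩)⟩
  have hQ1 : Q ≠ ⊥ := fun h => hnc (by rw [h, cent_bot]; exact le_top)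
  have hQq := syl_isPGroup hq hQ
  have hqτ : q ∈ tau3 M := h₃.isPi q hq ((syl_ne_bot_iff hq hQ).1 hQ1)
  have hqp : q ≠ Nat.card P := fun e => tau1_not_tau3 hp (e ▸ hqτ)
  have hEQ : E ≤ N[Q] := PG.le_norm_of_isCyclic hc3 hQ.le h3n
  have hCQ : Q ⊓ C[P] = ⊥ := cyclic_pgroup_reg hq hQq (isCyclic_of_le hc3 hQ.le) (hP.trans hEQ)
    (coprime_of_isPGroup_ne hPp hq hqp hQq hPe.isPGroup) hnc
  have hQM : IsPiHallOf {q} Q M :=
    (hQ.trans_single h₃ hqτ).trans_single hE.hall (tau3_not_sigma hqτ)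
  obtain ⟨L, hL, hn⟩ := exists_mmax_norm_of_pgroup hq hQq hQ1
  have hcL := mmax_norm_notJ hM hL hQq hQM.le hn (Or.inr (Or.inr hqτ))
  have hQL : Q ≤ L := le_normalizer.trans hn
  have hEL : E ≤ L := hEQ.trans hn
  have hQML : IsPiHallOf {q} Q (M ⊓ L) := hQM.of_le (le_inf hQM.le hQL) inf_le_left
  obtain ⟨-, -, hαβ, -, hC1, hC2⟩ := s13_8A hM hL (ne_of_not_conjg hcL) hp (hPe.mono hEM) hq hQML
    (hP.trans hEQ) hCQ hn
  have hc' : Mσ[M] ⊓ C[P] ≠ ⊥ := ne_bot_of_le hC1 (inf_le_inf_right _ (Malpha_sub_Msigma hM))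
  have hb : Mσ[M] ⊓ C[Q] = ⊥ := by
    by_contra hb
    obtain ⟨ha, ha', -⟩ := cent_norm_tau13_mmax hM hE.hall (Or.inr hqτ) hQM.le hQq hL hn
    have e : Mσ[M] ⊓ L = Mσ[M] ⊓ C[Q] := le_antisymm
      (le_inf inf_le_left (le_cent_symm (ha Q hQML.le hQq)))
      (inf_le_inf_left _ ((cent_le_norm Q).trans hn))
    rw [← e] at hb
    obtain ⟨s, hs, hsd⟩ := exists_prime_dvd_card hb
    have hsσ : s ∈ sigma M := sigma_of_dvd_Msigma hs inf_le_left hsd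
    obtain ⟨T, hT, hET⟩ := coprime_exists_syl (H := Mσ[M] ⊓ L) hs
      (Or.inr (sigma_compl_sol hM hE.hall))
      (le_norm_inf (hEM.trans (le_norm_sigmaCore M)) (le_norm_self hEL))
      (((sigmaCore_isPi M).of_le inf_le_left).coprime hE.hall.isPi)
    have hT1 : T ≠ ⊥ := (syl_ne_bot_iff hs hT).2 hsd
    have hTs := syl_isPGroup hs hT
    have hTM : T ≤ M := hT.le.trans (inf_le_left.trans (sigmaCore_le M))
    have hTML : IsPiHallOf {s} T (M ⊓ L) := by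
      have := (Msigma_Hall hM).normal_inf (le_norm_sigmaCore M) (inf_le_left : M ⊓ L ≤ M)
      rw [← inf_assoc, inf_eq_left.2 (sigmaCore_le M)] at this
      exact hT.trans_single this hsσ
    have key : T ⊓ C[P] = ⊥ ∧ N[T] ≤ M := by
      by_cases hsβ : s ∈ beta M
      · refine ⟨le_bot_iff.1 (hC2 ▸ ?_),
          beta_norm_sub_mmax hM hTM (isPi_of_isPGroup_mem hs hTs hsβ) hT1⟩
        rw [cent_sup]
        exact le_inf (inf_le_left.trans (pgroup_le_Malpha hM hsβ.1 hTs hTM))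
          (inf_le_inf_right _ (hT.le.trans (e.le.trans inf_le_right)))
      · obtain ⟨H, hH, hHc⟩ := der_compl_cent_beta' hM hE.hall
        obtain ⟨T₀, hT₀⟩ := exists_syl hs H
        have hT₀' := hT₀.trans_single hH hsβ
        have hle : T₀ ≤ Mσ[M] ⊓ L := by
          rw [e]
          exact le_inf hT₀'.le (hT₀.le.trans (le_cent_symm ((hQ.le.trans h3d).trans hHc)))
        have hTσ : IsPiHallOf {s} T Mσ[M] := hT₀'.of_card_eq (hT.le.trans inf_le_left)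
          (hT.card_eq (hT₀'.of_le hle inf_le_left))
        refine ⟨?_, norm_sigma_Sylow hsσ (Msigma_syl hM hsσ hTσ)⟩
        by_contra hC
        obtain ⟨X, hX⟩ := exists_pnElem_one hs
          (prime_dvd_card_of_isPGroup hs (hTs.to_le inf_le_left) hC)
        exact ne_of_not_conjg hcL (((cent_cent_Msigma_tau1_uniq' hM hPM hPτ hP1 hs
          (hX.mono (inf_le_inf_right _ hTσ.le))).2 T hTσ).eq hL (hT.le.trans inf_le_right))
    have hpL : Nat.card P ∈ tau1 L := by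
      by_contra h
      have := (ha' P (le_inf hP (hP.trans hEL))
        (isPi_of_isPGroup_mem hPp hPe.isPGroup h)).trans (cent_anti hT.le)
      exact hT1 (by rw [← key.1, left_eq_inf]; exact le_cent_symm this)
    exact tau1_mmaxI_asymmetry hM hL hcL hp hpL (hPe.of_le (le_inf hPM (hP.trans hEL))) hq hQML
      (hP.trans hEQ) hCQ hn hs hTML (hP.trans hET) key.1 key.2
  have hreg3 : Semiregular Mσ[M] E₃ := (tau3_primact_Msigma hM hE.hall h₃).semiregular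
    (le_bot_iff.1 (hb ▸ inf_le_inf_left _ (cent_anti hQ.le)))
  refine ⟨?_, hreg3, hc'⟩
  by_contra hreg
  obtain ⟨g, hg, hPg⟩ := h₁.exists_conj_le (sigma_compl_sol hM hE.hall) hP hPτ
  have hg1 : cj[g] P ≠ ⊥ := by rwa [Ne, conj_eq_bot_iff]
  have hpr := tau13_primact_Msigma hM hE (ne_bot_of_le hg1 hPg) hreg
  have e := (hpr.inf_cent (hPg.trans le_sup_right) hg1).trans
    (hpr.inf_cent (hQ.le.trans le_sup_left) hQ1).symm
  rw [hb, ← conj_Msigma_inf_cent (hEM hg), conj_eq_bot_iff] at e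
  exact hc' e

/-- 13.11 -/
theorem tau13_nonregular (hM : IsCoatom M) (hE : SigmaCompl M E E₁ E₂ E₃)
    (hreg : ¬ Semiregular Mσ[M] E₃) :
    E₁ ≠ ⊥ ∧ E₃ ⊔ E₁ = E ∧ Semiprime Mσ[M] E ∧
    ∀ X : Subgroup G, X ≤ E → (Nat.card X).Prime → E ≤ N[X] := by
  obtain ⟨⟨h3d, h3n⟩, h21, ⟨hc1, hc3⟩, -, hti⟩ := sigma_compl_context hM hE
  have h2 := tau2_hall_eq_bot_of_not_reg hM hE hreg
  have h1 := h21 h2
  have hsup := hE.sup_of_eq_bot hM h2
  have hcent : ∀ X : Subgroup G, X ≤ E → (Nat.card X).Prime → X ≤ C[E₃] := fun X hX hXp =>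
    by_contra fun h => hreg (tau13_noncentral_regular hM hE hX hXp h).2.1
  have h3 : E₃ ≠ ⊥ := fun h => hreg (h ▸ semiregular_bot_right _)
  refine ⟨h1, hsup, hsup ▸ tau13_primact_Msigma hM hE h1 fun h => ?_, fun X hX hXp => ?_⟩
  · obtain ⟨P, hP, hPp⟩ := exists_le_card_prime h1
    refine h3 ?_
    rw [← h.inf_cent hP (ne_bot_of_card_prime hPp), left_eq_inf]
    exact le_cent_symm (hcent P (hP.trans hE.hall1.le) hPp)
  · by_cases hτ : Nat.card X ∈ tau1 M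
    · obtain ⟨g, hg, hXg⟩ := hE.hall1.exists_conj_le (sigma_compl_sol hM hE.hall) hX
        (isPi_of_isPGroup_mem hXp (isPGroup_of_card_eq_prime rfl) hτ)
      have : E ≤ N[cj[g] X] := by
        conv_lhs => rw [← hsup]
        exact sup_le (le_norm_of_cent (le_cent_symm (hcent _ (hXg.trans hE.hall1.le)
          (by rwa [card_conj])))) (PG.le_norm_of_isCyclic hc1 hXg le_normalizer)
      rwa [← conj_eq_self_of_mem hg, conj_le_norm_conj_iff] at this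
    · have hd : Nat.card X ∣ Nat.card E₃ * Nat.card E₁ :=
        (card_dvd_of_le (hX.trans hsup.ge)).trans (card_sup_dvd (Or.inr (hE.hall1.le.trans h3n)))
      have h3 : Nat.card X ∈ tau3 M := hE.hall3.isPi _ hXp
        ((hXp.dvd_mul.1 hd).resolve_right fun h => hτ (hE.hall1.isPi _ hXp h))
      exact PG.le_norm_of_isCyclic hc3 (hE.hall3.le_of_normal h3n hX
        (isPi_of_isPGroup_mem hXp (isPGroup_of_card_eq_prime rfl) h3)) h3n

theorem dvd_relIndex_of_pnElem_not_le (hp : p.Prime) (hP : PnElem p 1 E P) (hn : E ≤ N[K])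
    (h : ¬ P ≤ K) : p ∣ K.relIndex E :=
  by_contra fun hd => h (PG.le_of_normal_of_not_dvd_relIndex hp hP.le hP.isPGroup hn hd)

/-- 13.12 -/
theorem tau12_regular (hM : IsCoatom M) (hE : IsPiHallOf (sigma M)ᶜ E M) (hp : p ∈ tau1 M)
    (hP : PnElem p 1 E P) (hq : q ∈ tau2 M) (hA : PnElem q 2 E A) (hC : A ⊓ C[P] ≠ ⊥) :
    Mσ[M] ⊓ C[P] = ⊥ := by
  by_contra hne
  have hpp := tau1_prime hp
  have hqp := tau2_prime hq
  have hP1 := hP.ne_bot hpp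
  obtain ⟨⟨hAn, -⟩, ⟨-, -, hNA⟩, huniq⟩ := tau2_compl_context hM hE hq hA
  have hAM := hA.mono hE.le
  have hnc : ¬ P ≤ C[A] := fun h => hne ((tau2_cent_tau13_regular hM hq hAM h
    (isPi_of_isPGroup_mem hpp hP.isPGroup (Or.inl hp))).inf_cent le_rfl hP1)
  have hY : PnElem q 1 A (A ⊓ C[P]) := PG.pnElem_one_of_lt hqp hA inf_le_left hC
    fun h => hnc (le_cent_symm (inf_eq_left.1 h))
  have h1 := cent_tau1Elem_Msigma hM hE hp hqp hP (hY.of_le (inf_le_inf_right _ hA.le))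
  have hu := huniq _ (hY.mono hA.le) (ne_bot_of_le hne h1)
  obtain ⟨H, hH, hn⟩ := exists_mmax_norm_of_pgroup hqp hA.isPGroup (hA.ne_bot hqp)
  obtain ⟨h2, h3, -⟩ := primes_norm_tau2Elem hM hE hq hA hH hn
  have hAH : A ≤ H := le_normalizer.trans hn
  have hPH : P ≤ H := (hP.le.trans hAn).trans hn
  have hHM : H ≠ M := fun e => hNA (e ▸ hn)
  have hYH : PnElem q 1 (Mσ[H] ⊓ C[P]) (A ⊓ C[P]) :=
    hY.of_le (inf_le_inf_right _ (pgroup_le_Msigma hH (h2 q hq).1 hA.isPGroup hAH))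
  rcases h3 p hpp (dvd_relIndex_of_pnElem_not_le hpp hP (le_norm_cent hAn) hnc) with h | h
  · exact hHM (hu.eq hH (cent_cent_Msigma_tau1_uniq' hH hPH
      (isPi_of_isPGroup_mem hpp hP.isPGroup h) hP1 hqp hYH).1.le)
  · obtain ⟨F, hF, hPF⟩ := ex_sigma_compl hH hPH
      (isPi_of_isPGroup_mem hpp hP.isPGroup (tau2_not_sigma h))
    obtain ⟨B, hB⟩ := ex_tau2Elem hF h
    have := ((tau2_compl_context hH hF h hB).2.2 P (hP.of_le hPF)
      (ne_bot_of_le (hYH.ne_bot hqp) hYH.le)).le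
    exact hne (le_bot_iff.1 ((tau2_context hM hq hAM).2.2.2.1 H hH hAH hHM ▸
      inf_le_inf_left _ this))

/-- 13.13 -/
theorem tau13_nonregular_sigma (hM : IsCoatom M) (hE : IsPiHallOf (sigma M)ᶜ E M)
    (hP : PnElem p 1 E P) (hp : p ∈ tau1 M ∨ p ∈ tau3 M) (hC : Mσ[M] ⊓ C[P] ≠ ⊥)
    (hH : IsCoatom H) (hn : N[P] ≤ H) : p ∈ sigma H := by
  have hpp : p.Prime := tau13_prime hp
  have hP1 := hP.ne_bot hpp
  have hPM := hP.le.trans hE.le
  refine (prime_class_mmax_norm hH hpp hP.isPGroup hn).resolve_right fun h2 => ?_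
  obtain ⟨q, hq, hqd⟩ := exists_prime_dvd_card hC
  obtain ⟨Q, hQ⟩ := exists_pnElem_one hq hqd
  have hqs : q ∈ sigma M := sigma_of_dvd_Msigma hq inf_le_left hqd
  have hc := mmax_norm_notJ hM hH hP.isPGroup hPM hn (Or.inr hp)
  have hqH : q ∉ sigma H := Set.disjoint_left.1 (sigma_partition hM hH hc) hqs
  have hu : C[Q] ≤ M := by
    rcases hp with hp | hp
    · exact (cent_cent_Msigma_tau1_uniq' hM hPM (isPi_of_isPGroup_mem hpp hP.isPGroup hp) hP1 hq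
        hQ).1.le
    · obtain ⟨E₁, E₂, E₃, hEs⟩ := ex_sigmaCompl hM hE
      have hP3 : P ≤ E₃ := hEs.hall3.le_of_normal (tau3_hall_normal hM hE hEs.hall3) hP.le
        (isPi_of_isPGroup_mem hpp hP.isPGroup hp)
      obtain ⟨h1, -, hpr, -⟩ := tau13_nonregular hM hEs fun h => hC (h.inf_cent hP3 hP1)
      rw [hpr.inf_cent hP.le hP1, ← hpr.inf_cent hEs.hall1.le h1] at hQ
      exact (cent_cent_Msigma_tau1_uniq hM hE hEs.hall1 le_rfl h1 hq hQ).1.le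
  have hQP : Q ≤ C[P] := hQ.le.trans inf_le_right
  have hPH : P ≤ H := le_normalizer.trans hn
  have hQH : Q ≤ H := hQP.trans ((cent_le_norm P).trans hn)
  obtain ⟨F, hF, hPQF⟩ := ex_sigma_compl hH (sup_le hPH hQH)
    ((isPi_of_isPGroup_mem hpp hP.isPGroup (tau2_not_sigma h2)).sup
      (isPi_of_isPGroup_mem hq hQ.isPGroup hqH) (Or.inr (le_norm_of_cent hQP)))
  obtain ⟨A, hA⟩ := ex_tau2Elem hF h2
  obtain ⟨⟨hAn, hsub⟩, -, -⟩ := tau2_compl_context hH hF h2 hA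
  have hPA : P ≤ A := hsub P (hP.of_le (le_sup_left.trans hPQF))
  have hQF := hQ.of_le (le_sup_right.trans hPQF)
  have hnc : ¬ Q ≤ C[A] := fun h => PG.pnElem_not_pRankLE hpp
    (hA.of_le ((le_cent_symm h).trans hu)) (tau13_rank hp)
  have hq1 : q ∈ tau1 H := tau1_cent_tau2Elem_factor hH hF h2 hA q hq
    (dvd_relIndex_of_pnElem_not_le hq hQF (le_norm_cent hAn) hnc)
  have hPC : P ≤ A ⊓ C[Q] := le_inf hPA (le_cent_symm hQP)
  have h0 := tau12_regular hH hF hq1 hQF h2 hA (ne_bot_of_le hP1 hPC)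
  obtain ⟨-, -, h3, h4⟩ := tau1_act_tau2 hH hF h2 hA hq1 hQF h0
    fun h => hnc (le_cent_iff_commutator_eq_bot'.2 h)
  exact h4 ((cent_anti hPC).trans ((cent_le_norm P).trans hn))

end Cfsg.Agent.BG
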