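import Cfsg.Agent.BG.S12

/-! Bender–Glauberman §13, first part (13.1–13.6). -/

set_option autoImplicit false
set_option linter.unusedSectionVars false
set_option linter.unusedVariables false

namespace Cfsg.Agent.BG

open Subgroup Cfsg.Agent.GT

universe u

variable {G : Type u} [Group G] [Finite G] [MFT G]
variable {A A₀ B D E E₁ E₂ E₃ H K L M Ms N P Q R S U V W W₁ W₂ X Y : Subgroup G} {p q r : ℕ}
  {g x y : G} {π : Set ℕ}

theorem der1_pgroup_commg (hH : IsCoatom H) (hq : q.Prime) (hX : IsPGroup q X) (hXH : X ≤ ⁅H, H⁆)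
    (hK : K ≤ H) : IsPiSubgroup (beta H ∪ {q}) ⁅K, X⁆ := by
  obtain ⟨Y, hY, hXY⟩ := exists_syl_ge hq hX hXH
  have h1 := (Mbeta_sup_norm_der1_hall hH hY).1
  have h2 : ⁅K, X⁆ ≤ Mβ[H] ⊔ Y :=
    (commutator_mono le_rfl (hXY.trans le_sup_right)).trans
      (commutator_le_of_le_norm_right (hK.trans h1))
  refine IsPiSubgroup.of_le (IsPiSubgroup.sup ((betaCore_isPi H).mono Set.subset_union_left)
    (hY.isPi.mono Set.subset_union_right) (Or.inr ?_)) h2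
  exact (hY.le.trans (der1_le H)).trans (le_norm_betaCore H)

theorem relIndex_sup_dvd_card (hn : L ≤ N[K]) : L.relIndex (K ⊔ L) ∣ Nat.card K := by
  rw [sup_comm, relIndex_sup_eq_of_norm_or (Or.inl hn)]
  exact relIndex_dvd_card' _ _

theorem not_dvd_relIndex_of_Mbeta_sup (hp : p.Prime) (hβ : p ∉ beta H) (hL : L ≤ H)
    (h : Mβ[H] ⊔ L = H) : ¬ p ∣ L.relIndex H := fun hd => by
  have h1 := relIndex_sup_dvd_card (hL.trans (le_norm_betaCore H))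
  rw [h] at h1
  exact hβ (betaCore_isPi H p hp (hd.trans h1))

theorem sigma'_of_dvd_compl (hE : IsPiHallOf (sigma M)ᶜ E M) (hp : p.Prime)
    (h : p ∣ Nat.card E) : p ∉ sigma M := hE.isPi p hp h

theorem sigma_of_dvd_Msigma (hp : p.Prime) (hX : X ≤ Mσ[M]) (h : p ∣ Nat.card X) : p ∈ sigma M :=
  (sigmaCore_isPi M).of_le hX p hp h

theorem not_conjg_symm (h : ¬ Conjg M H) : ¬ Conjg H M := fun h' => h h'.symm

theorem ne_of_not_conjg (h : ¬ Conjg M H) : H ≠ M := fun e => h (e ▸ Conjg.refl _)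

theorem sigma_not_alpha (hM : IsCoatom M) (hH : IsCoatom H) (hc : ¬ Conjg M H)
    (h : p ∈ sigma M) : p ∉ alpha H := fun h' =>
  Set.disjoint_left.1 (sigma_disjoint hH hM (not_conjg_symm hc)).2.1 h' h

theorem sigma_not_beta (hM : IsCoatom M) (hH : IsCoatom H) (hc : ¬ Conjg M H)
    (h : p ∈ sigma M) : p ∉ beta H := fun h' => sigma_not_alpha hM hH hc h h'.1

/-- 13.1 -/
theorem Msigma_setI_mmax_central (hM : IsCoatom M) (hE : IsPiHallOf (sigma M)ᶜ E M)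
    (hH : IsCoatom H) (hp : p.Prime) (hpE : p ∣ Nat.card E) (hpH : p ∣ Nat.card H)
    (hτ : p ∉ tau1 H) (hne : ⁅Mσ[M] ⊓ H, M ⊓ H⁆ ≠ ⊥) (hc : ¬ Conjg M H) :
    (∀ P : Subgroup G, P ≤ M ⊓ H → IsPGroup p P → P ≤ C[Mσ[M] ⊓ H]) ∧ p ∉ tau2 H ∧
    (p ∈ tau1 M → IsIdealPrime p G) := by
  have hps := sigma'_of_dvd_compl hE hp hpE
  obtain ⟨q, hq, hqd⟩ := exists_prime_dvd_card hne
  have hle1 : ⁅Mσ[M] ⊓ H, M ⊓ H⁆ ≤ Mσ[M] :=
    (commutator_mono inf_le_left inf_le_left).trans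
      (commutator_le_of_le_norm_left (le_norm_sigmaCore M))
  have hqs : q ∈ sigma M := sigma_of_dvd_Msigma hq hle1 hqd
  have hqH : q ∣ Nat.card ↥⁅H, H⁆ :=
    hqd.trans (card_dvd_of_le (commutator_mono inf_le_right inf_le_right))
  have hqβ : q ∉ beta H := sigma_not_beta hM hH hc hqs
  obtain ⟨Y, hY⟩ := exists_syl hq ⁅H, H⁆
  have hY1 : Y ≠ ⊥ := (syl_ne_bot_iff hq hY).2 hqH
  have hYH : Y ≤ H := hY.le.trans (der1_le H)
  have hYs : IsPiSubgroup (sigma M) Y := hY.isPi.single_mono hqs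
  have hJ := (sigma_Jsub hM hYs hY1).2 E p H hE hp hpE
  have hsup := (Mbeta_sup_norm_der1_hall hH hY).2
  have h2 : p ∉ tau2 H := fun h2 => by
    have hni := (tau2_not_beta hH h2).1
    have hr := (hJ hni hH hYH hc).1
    have := Fact.mk hp
    exact tau2_not_rank1 h2 ((PG.pRankLE_iff_of_not_dvd_relIndex inf_le_left
      (not_dvd_relIndex_of_Mbeta_sup hp (fun h => hni h.2) inf_le_left hsup)).1 hr)
  have hder : ∀ P : Subgroup G, P ≤ H → IsPGroup p P → P ≤ ⁅H, H⁆ := by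
    intro P hP hPp
    rcases (partition_pi_mmax hH hp).1 hpH with h | h | h | h
    · exact absurd h hτ
    · exact absurd h h2
    · exact tau3_le_der1 hH hP (isPi_of_isPGroup_mem hp hPp h)
    · exact sigma_pgroup_le_der1 hH h hPp hP
  refine ⟨fun P hP hPp => ?_, h2, fun h1 => ?_⟩
  · rw [le_cent_iff_commutator_eq_bot']
    have ha := der1_pgroup_commg hH hp hPp (hder P (hP.trans inf_le_right) hPp)
      (inf_le_right : Mσ[M] ⊓ H ≤ H)
    have hb : IsPiSubgroup (sigma M) ⁅Mσ[M] ⊓ H, P⁆ :=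
      (sigmaCore_isPi M).of_le ((commutator_mono le_rfl hP).trans hle1)
    refine hb.eq_bot (ha.mono' fun r hr h hs => ?_)
    rcases h with h | h
    · exact sigma_not_beta hM hH hc hs h
    · exact hps ((Set.mem_singleton_iff.1 h) ▸ hs)
  · by_contra hni
    have hpq : p ≠ q := fun e => hps (e ▸ hqs)
    obtain ⟨P, hP, hPle⟩ := (beta'_cent_Sylow hH hp hq (fun h => hni h.2) hqβ (syl_isPGroup hq hY)
      (Or.inl ⟨hpq, hY.le⟩)).2.2 hY
    refine (hJ hni hH hYH hc).2 h1 (Dvd.dvd.trans ?_ (card_dvd_of_le hPle))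
    obtain ⟨P₀, hP₀⟩ := exists_pnElem_one hp hpH
    exact hP.prime_dvd hp rfl (hP₀.of_le (hder P₀ hP₀.le hP₀.isPGroup)).dvd_card

/-- 13.2 -/
theorem cent_norm_tau13_mmax (hM : IsCoatom M) (hE : IsPiHallOf (sigma M)ᶜ E M)
    (hp : p ∈ tau1 M ∨ p ∈ tau3 M) (hPM : P ≤ M) (hP : IsPGroup p P) (hH : IsCoatom H)
    (hn : N[P] ≤ H) :
    (∀ P₁ : Subgroup G, P₁ ≤ M ⊓ H → IsPGroup p P₁ → P₁ ≤ C[Mσ[M] ⊓ H]) ∧
    (∀ X : Subgroup G, X ≤ E ⊓ H → IsPiSubgroup (tau1 H)ᶜ X → X ≤ C[Mσ[M] ⊓ H]) ∧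
    (⁅Mσ[M] ⊓ H, M ⊓ H⁆ ≠ ⊥ → p ∈ sigma H ∧ (p ∈ tau1 M → p ∈ beta H)) := by
  have hpp : p.Prime := tau13_prime hp
  have hc := mmax_norm_notJ hM hH hP hPM hn (Or.inr hp)
  have hcl := prime_class_mmax_norm hH hpp hP hn
  have hpH : p ∣ Nat.card H := hcl.elim sigma_dvd tau2_dvd
  have hτ : p ∉ tau1 H := fun h => hcl.elim (tau1_not_sigma h) (tau1_not_tau2 h)
  have hpE : p ∣ Nat.card E := (partition_pi_sigma_compl hM hE hpp).2 (by tauto)
  by_cases hne : ⁅Mσ[M] ⊓ H, M ⊓ H⁆ = ⊥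
  · have h0 : M ⊓ H ≤ C[Mσ[M] ⊓ H] := le_cent_iff_commutator_eq_bot'.2 hne
    exact ⟨fun P₁ h _ => h.trans h0, fun X h _ => h.trans ((inf_le_inf_right _ hE.le).trans h0),
      fun h => absurd hne h⟩
  obtain ⟨h1, h2, h3⟩ := Msigma_setI_mmax_central hM hE hH hpp hpE hpH hτ hne hc
  refine ⟨h1, fun X hX hXτ => le_of_forall_syl_le fun r hr hd => ?_, fun _ => ?_⟩
  · obtain ⟨R, hR⟩ := exists_syl hr X
    refine ⟨R, hR, (Msigma_setI_mmax_central hM hE hH hr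
      (hd.trans (card_dvd_of_le (hX.trans inf_le_left)))
      (hd.trans (card_dvd_of_le (hX.trans inf_le_right))) (hXτ r hr hd) hne hc).1 R
      (hR.le.trans (hX.trans (inf_le_inf_right _ hE.le))) (syl_isPGroup hr hR)⟩
  · have hs := hcl.resolve_right h2
    exact ⟨hs, fun h => (predI_sigma_beta hH).2 ⟨hs, h3 h⟩⟩

theorem exists_mmax_norm_of_pgroup (hp : p.Prime) (hP : IsPGroup p P) (h1 : P ≠ ⊥) :
    ∃ H : Subgroup G, IsCoatom H ∧ N[P] ≤ H := mmax_exists (mFT_norm_pgroup_proper hp hP h1)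

theorem exists_mmax_norm_of_card_prime (hX : (Nat.card X).Prime) :
    ∃ H : Subgroup G, IsCoatom H ∧ N[X] ≤ H :=
  exists_mmax_norm_of_pgroup hX (isPGroup_of_card_eq_prime rfl) (ne_bot_of_card_prime hX)

/-- 13.3(a) -/
theorem cyclic_primact_Msigma (hM : IsCoatom M) (hE : IsPiHallOf (sigma M)ᶜ E M) (hp : p.Prime)
    (hP : IsPiHallOf {p} P E) (hc : IsCyclic P) : Semiprime Mσ[M] P := by
  refine semiprime_of_card_prime fun X hX hXp => ?_
  have hPp := syl_isPGroup hp hP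
  have hP1 : P ≠ ⊥ := ne_bot_of_le (ne_bot_of_card_prime hXp) hX
  have hpE : p ∣ Nat.card E := (syl_ne_bot_iff hp hP).1 hP1
  have hps := sigma'_of_dvd_compl hE hp hpE
  have hPM := hP.trans_single hE hps
  have hτ := mem_tau13_of_rank1 hp hps (hpE.trans (card_dvd_of_le hE.le))
    ((syl_pRankLE_iff hp hPM).1 (PG.pRankLE_one_of_isCyclic hp hc))
  obtain ⟨H, hH, hn⟩ := exists_mmax_norm_of_card_prime hXp
  have hPH : P ≤ H := (le_norm_of_cent ((comm_iff_le_cent.1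
    (isMulCommutative_of_isCyclic hc)).trans (cent_anti hX))).trans hn
  have h1 := (cent_norm_tau13_mmax hM hE hτ (hX.trans hPM.le) (hPp.to_le hX) hH hn).1 P
    (le_inf hPM.le hPH) hPp
  exact (inf_le_inf_left _ ((cent_le_norm X).trans hn)).trans (le_cent_symm h1)

/-- 13.3(b) -/
theorem tau3_primact_Msigma (hM : IsCoatom M) (hE : IsPiHallOf (sigma M)ᶜ E M)
    (h₃ : IsPiHallOf (tau3 M) E₃ E) : Semiprime Mσ[M] E₃ := by
  refine semiprime_of_card_prime fun X hX hXp => ?_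
  have hτ : Nat.card X ∈ tau3 M := h₃.isPi _ hXp (card_dvd_of_le hX)
  obtain ⟨H, hH, hn⟩ := exists_mmax_norm_of_card_prime hXp
  have hEM := h₃.le.trans hE.le
  have hEH : E ≤ H := (PG.le_norm_of_isCyclic (tau3_cyclic hM hEM h₃.isPi) hX
    (tau3_hall_normal hM hE h₃)).trans hn
  have h3H : E₃ ≤ ⁅H, H⁆ := (tau3_hall_le_der1 hM hE h₃).trans (commutator_mono hEH hEH)
  have h1 := (cent_norm_tau13_mmax hM hE (Or.inr hτ) (hX.trans hEM)
    (isPGroup_of_card_eq_prime rfl) hH hn).2.1 E₃ (le_inf h₃.le (h₃.le.trans hEH))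
    (fun r hr hd h => tau1_not_dvd_der1 h (hd.trans (card_dvd_of_le h3H)))
  exact (inf_le_inf_left _ ((cent_le_norm X).trans hn)).trans (le_cent_symm h1)

theorem s13_4A (hM : IsCoatom M) (hE : IsPiHallOf (sigma M)ᶜ E M) (hp : p ∈ tau1 M)
    (hr : r.Prime) (hP : PnElem p 1 E P) (hR : PnElem r 1 (E ⊓ C[P]) R) (hq : q.Prime)
    (hS : IsPGroup q S) (hSle : S ≤ Mσ[M] ⊓ C[P]) (hRS : R ≤ N[S]) (hnc : ¬ R ≤ C[S]) :
    r ∈ tau1 M ∧ q ∉ alpha M ∧ Mα[M] ⊓ C[R] ≠ ⊥ ∧ Mα[M] ⊓ C[⁅S, R⁆ ⊔ R] = ⊥ := by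
  have hpp := tau1_prime hp
  have hPM : P ≤ M := hP.le.trans hE.le
  have hRE : R ≤ E := hR.le.trans inf_le_left
  have hRM : R ≤ M := hRE.trans hE.le
  have hRP : R ≤ C[P] := hR.le.trans inf_le_right
  have hSMs : S ≤ Mσ[M] := hSle.trans inf_le_left
  have hSM : S ≤ M := hSMs.trans (sigmaCore_le M)
  have hSP : S ≤ C[P] := hSle.trans inf_le_right
  obtain ⟨L, hL, hn⟩ := exists_mmax_norm_of_pgroup hpp hP.isPGroup (hP.ne_bot hpp)
  have hCL : C[P] ≤ L := (cent_le_norm P).trans hn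
  have hPL : P ≤ L := le_normalizer.trans hn
  have hc := mmax_norm_notJ hM hL hP.isPGroup hPM hn (Or.inr (Or.inl hp))
  have hLM := ne_of_not_conjg hc
  have hQ1 : ⁅S, R⁆ ≠ ⊥ := fun h => hnc (le_cent_iff_commutator_eq_bot'.2 h)
  have hQS : ⁅S, R⁆ ≤ S := commutator_le_of_le_norm_left hRS
  have hS1 : S ≠ ⊥ := ne_bot_of_le hQ1 hQS
  have hqs : q ∈ sigma M := sigma_of_dvd_Msigma hq hSMs (prime_dvd_card_of_isPGroup hq hS hS1)
  have hrs : r ∉ sigma M := sigma'_of_dvd_compl hE hr (hR.of_le hRE).dvd_card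
  have hqr : q ≠ r := fun e => hrs (e ▸ hqs)
  have hSL : S ≤ Mσ[M] ⊓ L := le_inf hSMs (hSP.trans hCL)
  obtain ⟨-, h2, h3⟩ := cent_norm_tau13_mmax hM hE (Or.inl hp) hPM hP.isPGroup hL hn
  obtain ⟨hps, hpβ⟩ := h3 (ne_bot_of_le hQ1 (commutator_mono hSL (le_inf hRM (hRP.trans hCL))))
  replace hpβ := hpβ hp
  have hrL : r ∈ tau1 L := by
    by_contra h
    exact hnc ((h2 R (le_inf hRE (hRP.trans hCL))
      (isPi_of_isPGroup_mem hr hR.isPGroup h)).trans (cent_anti hSL))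
  have hSc : IsMulCommutative S := by
    by_contra h
    exact hLM ((nonabelian_Uniqueness hq hS h).eq hM hSM hL (hSP.trans hCL))
  have hco : (Nat.card S).Coprime (Nat.card R) :=
    ((sigmaCore_isPi M).of_le hSMs).coprime (hE.isPi.of_le hRE)
  have hC : ⁅S, R⁆ ⊓ C[R] = ⊥ := coprime_comm_commutator_inf_cent hSc hRS hco
  have hRQ : R ≤ N[⁅S, R⁆] := le_norm_commutator hRS le_normalizer
  have hQq : IsPGroup q ↥⁅S, R⁆ := hS.to_le hQS
  have hPα : P ≤ Mα[L] := pgroup_le_Malpha hL hpβ.1 hP.isPGroup hPL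
  have hu : UMax N[⁅S, R⁆] L := by
    by_contra hu
    have := ((cent_Malpha_reg_tau1 hL hrL hq hqr (hR.of_le (hRP.trans hCL)) hQ1 hRQ hC hu).1
      (ne_bot_of_le (hP.ne_bot hpp) hPα) (sigma_not_alpha hM hL hc hqs)
      (hQS.trans (hSP.trans hCL)) hQq).2
    refine hP.ne_bot hpp (le_bot_iff.1 (this ▸ le_inf hPα ?_))
    exact le_cent_symm (sup_le (hQS.trans hSP) hRP)
  obtain ⟨S₁, hS₁, hQS₁⟩ := exists_syl_ge hq hQq
    (le_inf (hQS.trans hSM) (hQS.trans (hSP.trans hCL)))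
  obtain ⟨-, -, -, h4, h5⟩ := sigma_subgroup_embedding hM hqs (hQS.trans hSM) hQq hQ1 hL hu.le hLM
    hS₁ hQS₁
  have hqL : q ∈ sigma L := by
    by_contra h
    exact (h5 h).2.2.isPi p hpp (hP.of_le (le_inf hPM hPL)).dvd_card hps
  obtain ⟨-, h6, -, h7⟩ := h4 hqL
  have hrM : r ∈ tau1 M := (h6 hrL).resolve_right (not_alpha_of_not_sigma hM hrs)
  have hqα : q ∉ alpha M := sigma_not_alpha hL hM (not_conjg_symm hc) hqL
  have hu' : ¬ UMax N[⁅S, R⁆] M := fun h => hLM (h.eq hL hu.le)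
  exact ⟨hrM, hqα, (cent_Malpha_reg_tau1 hM hrM hq hqr (hR.of_le hRM) hQ1 hRQ hC hu').1 h7 hqα
    (hQS.trans hSM) hQq⟩

theorem s13_4B (hM : IsCoatom M) (hE : IsPiHallOf (sigma M)ᶜ E M) (hp : p ∈ tau1 M)
    (hr : r.Prime) (hP : PnElem p 1 E P) (hR : PnElem r 1 (E ⊓ C[P]) R) (hK : K ≤ Mσ[M])
    (hn : M ≤ N[K])
    (h : ∀ (q : ℕ) (S : Subgroup G), q.Prime → q ∣ Nat.card K → IsPGroup q S → S ≤ K ⊓ C[P] →
      R ≤ N[S] → R ≤ C[S]) : K ⊓ C[P] ≤ C[R] := by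
  have hRE : R ≤ E := hR.le.trans inf_le_left
  have hRP : R ≤ C[P] := hR.le.trans inf_le_right
  refine le_of_forall_syl_le fun q hq hd => ?_
  obtain ⟨S, hS, hRS⟩ := coprime_exists_syl (H := K ⊓ C[P]) hq
    (Or.inr (solvable_of_isPGroup hr hR.isPGroup))
    (le_norm_inf ((hRE.trans hE.le).trans hn) (le_norm_self hRP))
    (((sigmaCore_isPi M).of_le (inf_le_left.trans hK)).coprime (hE.isPi.of_le hRE))
  exact ⟨S, hS, le_cent_symm (h q S hq (hd.trans (card_dvd_of_le inf_le_left))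
    (syl_isPGroup hq hS) hS.le hRS)⟩

theorem s13_4C (hM : IsCoatom M) (hE : IsPiHallOf (sigma M)ᶜ E M) (hp : p ∈ tau1 M)
    (hr : r.Prime) (hP : PnElem p 1 E P) (hR : PnElem r 1 (E ⊓ C[P]) R) :
    Mα[M] ⊓ C[P] ≤ C[R] := by
  refine s13_4B hM hE hp hr hP hR (Malpha_sub_Msigma hM) (le_norm_alphaCore M)
    fun q S hq hd hS hle hRS => ?_
  by_contra hnc
  exact (s13_4A hM hE hp hr hP hR hq hS (hle.trans (inf_le_inf_right _ (Malpha_sub_Msigma hM)))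
    hRS hnc).2.1 (alphaCore_isPi M q hq hd)

/-- 13.4 -/
theorem cent_tau1Elem_Msigma (hM : IsCoatom M) (hE : IsPiHallOf (sigma M)ᶜ E M) (hp : p ∈ tau1 M)
    (hr : r.Prime) (hP : PnElem p 1 E P) (hR : PnElem r 1 (E ⊓ C[P]) R) :
    Mσ[M] ⊓ C[P] ≤ Mσ[M] ⊓ C[R] := by
  refine le_inf inf_le_left (s13_4B hM hE hp hr hP hR le_rfl (le_norm_sigmaCore M)
    fun q S hq hd hS hle hRS => ?_)
  by_contra hnc
  obtain ⟨h1, -, h2, h3⟩ := s13_4A hM hE hp hr hP hR hq hS hle hRS hnc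
  have hRE : R ≤ E := hR.le.trans inf_le_left
  have hRP : R ≤ C[P] := hR.le.trans inf_le_right
  have e1 := s13_4C hM hE hp hr hP hR
  have e2 := s13_4C hM hE h1 (tau1_prime hp) (hR.of_le hRE)
    (hP.of_le (le_inf hP.le (le_cent_symm hRP)))
  have hS1 : S ≤ N[Mα[M] ⊓ C[P]] :=
    le_norm_inf ((hle.trans (inf_le_left.trans (sigmaCore_le M))).trans (le_norm_alphaCore M))
      (le_norm_self (hle.trans inf_le_right))
  have h4 := commutator_le_cent_of_norm_of_cent hS1 (le_cent_symm e1)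
  refine h2 (le_bot_iff.1 (h3 ▸ le_inf inf_le_left ?_))
  exact (le_inf inf_le_left e2).trans (le_cent_symm (sup_le h4 (le_cent_symm e1)))

/-- 13.5 -/
theorem tau1_primact_Msigma (hM : IsCoatom M) (hE : IsPiHallOf (sigma M)ᶜ E M)
    (h₁ : IsPiHallOf (tau1 M) E₁ E) : Semiprime Mσ[M] E₁ := by
  refine semiprime_of_card_prime fun X hX hXp => ?_
  have hτ : Nat.card X ∈ tau1 M := h₁.isPi _ hXp (card_dvd_of_le hX)
  have hcyc := tau1_cyclic hM (h₁.le.trans hE.le) h₁.isPi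
  have hab := comm_iff_le_cent.1 (isMulCommutative_of_isCyclic hcyc)
  refine le_cent_symm (le_of_forall_syl_le fun r hr hd => ?_)
  obtain ⟨S, hS⟩ := exists_syl hr E₁
  refine ⟨S, hS, le_cent_symm ?_⟩
  obtain ⟨R, hR⟩ := exists_pnElem_one hr (hS.prime_dvd hr rfl hd)
  have h1 := cent_tau1Elem_Msigma hM hE hτ hr ((pnElem_one_iff hXp).2 ⟨hX.trans h₁.le, rfl⟩)
    (hR.of_le (le_inf (hR.le.trans (hS.le.trans h₁.le))
      ((hR.le.trans hS.le).trans (hab.trans (cent_anti hX)))))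
  have h2 := (cyclic_primact_Msigma hM hE hr (hS.trans_single h₁ (h₁.isPi r hr hd))
    (isCyclic_of_le hcyc hS.le)).inf_cent hR.le (hR.ne_bot hr)
  exact h1.trans (h2.le.trans inf_le_right)

theorem tau2_hall_ne_bot_iff (hM : IsCoatom M) (hE : IsPiHallOf (sigma M)ᶜ E M)
    (h₂ : IsPiHallOf (tau2 M) E₂ E) : E₂ ≠ ⊥ ↔ ∃ p, p ∈ tau2 M := by
  refine ⟨fun h => ?_, fun ⟨p, hp⟩ => h₂.ne_bot (tau2_prime hp) hp
    ((partition_pi_sigma_compl hM hE (tau2_prime hp)).2 (Or.inr (Or.inl hp)))⟩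
  obtain ⟨p, hp, hd⟩ := exists_prime_dvd_card h
  exact ⟨p, h₂.isPi p hp hd⟩

theorem SigmaCompl.sup_of_eq_bot (hE : SigmaCompl M E E₁ E₂ E₃) (hM : IsCoatom M) (h : E₂ = ⊥) :
    E₃ ⊔ E₁ = E := by
  have := (sigma_compl_context hM hE).2.2.2.1.2.1.sup_eq
  rwa [h, bot_sup_eq] at this

theorem le_cent_of_forall_pnElem_one (hp : p.Prime) (hA : IsElementaryAbelian p A)
    (h : ∀ R, PnElem p 1 A R → R ≤ K) : A ≤ K := fun a ha => by
  by_cases h1 : a = 1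
  · exact h1 ▸ K.one_mem
  · exact h _ (PG.pnElem_one_zpowers hp ha h1 (PG.elemAb_pow hA ha)) (mem_zpowers a)

/-- 13.6 -/
theorem cent_cent_Msigma_tau1_uniq (hM : IsCoatom M) (hE : IsPiHallOf (sigma M)ᶜ E M)
    (h₁ : IsPiHallOf (tau1 M) E₁ E) (hP : P ≤ E₁) (hP1 : P ≠ ⊥) (hq : q.Prime)
    (hX : PnElem q 1 (Mσ[M] ⊓ C[P]) X) :
    UMax C[X] M ∧ ∀ S, IsPiHallOf {q} S Mσ[M] → UMax S M := by
  have hprime := tau1_primact_Msigma hM hE h₁
  rw [hprime.inf_cent hP hP1] at hX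
  have h11 : E₁ ≠ ⊥ := ne_bot_of_le hP1 hP
  have hXMs : X ≤ Mσ[M] := hX.le.trans inf_le_left
  have hXM : X ≤ M := hXMs.trans (sigmaCore_le M)
  suffices h : q ∈ beta M ∨ X ≤ ⁅Mσ[M], Mσ[M]⁆ by
    obtain ⟨S, hS⟩ := exists_syl hq Mσ[M]
    exact ⟨(cent_der_sigma_uniq hM hq (hX.of_le hXM) hS h).1,
      fun S hS => (cent_der_sigma_uniq hM hq (hX.of_le hXM) hS h).2⟩
  by_contra hcon
  obtain ⟨hβ, hXd⟩ := not_or.1 hcon
  obtain ⟨H, hH, hHc⟩ := der_compl_cent_beta' hM hE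
  have hsol : Group.IsSolvable Mσ[M] := sub_mmax_sol hM (sigmaCore_le M)
  have h1M : E₁ ≤ M := h₁.le.trans hE.le
  have h1s : IsPiSubgroup (sigma M)ᶜ E₁ := hE.isPi.of_le h₁.le
  have hH' : IsPiHallOf (beta M)ᶜ H (Mσ[M] ⊓ C[⁅E, E⁆]) :=
    hH.of_le (le_inf hH.le (le_cent_symm hHc)) inf_le_left
  obtain ⟨H₁, hH₁, hn₁⟩ := coprime_exists_hall (H := Mσ[M] ⊓ C[⁅E, E⁆]) (beta M)ᶜ
    (isSolvable_of_le hsol inf_le_left)
    (le_norm_inf (h1M.trans (le_norm_sigmaCore M))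
      (le_norm_cent (h₁.le.trans (self_le_norm_der1 E))))
    (((sigmaCore_isPi M).of_le inf_le_left).coprime h1s)
  have hH₁' : IsPiHallOf (beta M)ᶜ H₁ Mσ[M] :=
    hH.of_card_eq (hH₁.le.trans inf_le_left) (hH₁.card_eq hH')
  obtain ⟨c, hc, hXc⟩ := coprime_hall_le_conj hsol (h1M.trans (le_norm_sigmaCore M))
    (coprime_Msigma h1s) hH₁' hn₁ hXMs (isPi_of_isPGroup_mem hq hX.isPGroup hβ)
    (le_norm_of_cent (le_cent_symm (hX.le.trans inf_le_right)))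
  -- the conjugate `Y` of `X`
  have hc' : c⁻¹ ∈ Mσ[M] ⊓ C[E₁] := inv_mem hc
  have hY : PnElem q 1 (Mσ[M] ⊓ C[E₁]) (cj[c⁻¹] X) := hX.conj_of_mem_norm (le_normalizer hc')
  have hYE : cj[c⁻¹] X ≤ C[⁅E, E⁆] := (le_conj_iff.1 hXc).trans (hH₁.le.trans inf_le_right)
  have hYd : ¬ cj[c⁻¹] X ≤ ⁅Mσ[M], Mσ[M]⁆ := fun h => hXd (by
    have := conj_le_iff.1 h
    rwa [inv_inv, conj_eq_self (self_le_norm_der1 _ hc.1)] at this)
  generalize cj[c⁻¹] X = Y at hY hYE hYd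
  have hYMs : Y ≤ Mσ[M] := hY.le.trans inf_le_left
  have hY1 : Y ≤ C[E₁] := hY.le.trans inf_le_right
  obtain ⟨E₃, h₃⟩ := exists_hall (tau3 M) (sigma_compl_sol hM hE)
  obtain ⟨E₂, hEs⟩ := ex_tau2_compl hM hE h₁ h₃
  have h2 : E₂ ≠ ⊥ := fun h2 => hYd (by
    refine (le_inf hYMs ?_).trans (sigma_compl_embedding hM hE).1
    rw [← hEs.sup_of_eq_bot hM h2, cent_sup]
    exact le_inf (hYE.trans (cent_anti (tau3_hall_le_der1 hM hE h₃))) hY1)
  obtain ⟨p, hp⟩ := (tau2_hall_ne_bot_iff hM hE hEs.hall2).1 h2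
  obtain ⟨A, hA⟩ := ex_tau2Elem hE hp
  have hpp := tau2_prime hp
  have hAn := (tau2_compl_context hM hE hp hA).1.1
  have hAd := coprime_commutator_sup_cent (Or.inl (solvable_of_isPGroup hpp hA.isPGroup))
    (h₁.le.trans hAn) ((isPi_of_isPGroup_mem hpp hA.isPGroup hp).piNat.coprime_of_disjoint
      h₁.isPi.piNat fun r _ h h' => tau1_not_tau2 h' h)
  obtain ⟨P₀, hP₀, hP₀p⟩ := exists_le_card_prime h11
  have hAY : A ≤ C[Y] := by
    rw [← hAd]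
    refine sup_le ((commutator_mono hA.le h₁.le).trans (le_cent_symm hYE))
      (le_cent_of_forall_pnElem_one hpp (PG.elemAb_of_le hA.elem inf_le_left) fun R hR => ?_)
    have := cent_tau1Elem_Msigma hM hE (h₁.isPi _ hP₀p (card_dvd_of_le hP₀)) hpp
      ((pnElem_one_iff hP₀p).2 ⟨hP₀.trans h₁.le, rfl⟩)
      (hR.mono (inf_le_inf hA.le (cent_anti hP₀)))
    exact le_cent_symm ((le_inf hYMs (hY1.trans (cent_anti hP₀))).trans (this.trans inf_le_right))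
  exact hY.ne_bot hq (le_bot_iff.1 ((tau2_context hM hp (hA.mono hE.le)).2.2.1 ▸
    le_inf hYMs (le_cent_symm hAY)))

end Cfsg.Agent.BG
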