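import Cfsg.Agent.BG.S14c

/-! Bender–Glauberman §14, last part (14.7–14.13). -/

set_option autoImplicit false
set_option linter.unusedSectionVars false
set_option linter.unusedVariables false

namespace Cfsg.Agent.BG

open Subgroup Cfsg.Agent.GT

universe u

variable {G : Type u} [Group G] [Finite G] [MFT G]
variable {A A₀ B D E E₁ E₂ E₃ H K K' Ks L L' M Ms N P Q R S U V W W₁ W₂ X Y Z : Subgroup G}
  {p q r : ℕ} {g t x y : G} {π : Set ℕ}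

theorem PPair.swap (h : PPair Z L K) (h' : PPair Z L' K') (hne : L' ≠ L)
    (e : Mσ[L] ⊓ C[K] = K') : Mσ[L'] ⊓ C[K'] = K := by
  refine eq_of_le_of_card_ge (h'.sep h hne) (le_of_eq ?_)
  have e1 := h.dprod.card_mul
  rw [e, ← h'.dprod.card_mul, mul_comm] at e1
  exact Nat.eq_of_mul_eq_mul_left (card_pos' K') e1

/-- the pair `M`, `M^*` of Theorem 14.7 -/
structure PDual (Z M K Ms Ks : Subgroup G) : Prop where
  l : PPair Z M K
  r : PPair Z Ms Ks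
  ne : Ms ≠ M
  el : Mσ[M] ⊓ C[K] = Ks
  er : Mσ[Ms] ⊓ C[Ks] = K
  p2 : (IsMP2 M ∧ (Nat.card K).Prime) ∨ (IsMP2 Ms ∧ (Nat.card Ks).Prime)

theorem PPair.exists_dual (h : PPair Z M K) : ∃ Ms, PDual Z M K Ms (Mσ[M] ⊓ C[K]) := by
  obtain ⟨L, K', h', h2⟩ := h.exists_P2
  by_cases e : L = M
  · subst e
    have hp := ((Ptype_structure h.1 h.hall).2.2.2.2.2 h2).2.1
    obtain ⟨L', K'', h'', hne⟩ := h.exists_ne
    have e1 := (eq_bot_or_eq_of_card_prime hp (h''.sep h hne)).resolve_left h''.star_ne_bot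
    have e2 := h''.swap h hne.symm e1
    exact ⟨L', h, e2 ▸ h'', hne, rfl, by rw [e2, e1], Or.inl ⟨h2, hp⟩⟩
  · have hp := ((Ptype_structure h'.1 h'.hall).2.2.2.2.2 h2).2.1
    have e1 := (eq_bot_or_eq_of_card_prime hp (h.sep h' (Ne.symm e))).resolve_left h.star_ne_bot
    have e2 := h.swap h' e e1
    exact ⟨L, h, e1 ▸ h', e, rfl, by rw [e1, e2], Or.inr ⟨h2, e1 ▸ hp⟩⟩

namespace PDual

theorem symm (h : PDual Z M K Ms Ks) : PDual Z Ms Ks M K :=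
  ⟨h.r, h.l, h.ne.symm, h.er, h.el, h.p2.symm⟩

theorem dprod (h : PDual Z M K Ms Ks) : Dprod K Ks Z := h.el ▸ h.l.dprod

theorem not_conjg (h : PDual Z M K Ms Ks) : ¬ Conjg M Ms := h.l.not_conjg h.r h.ne.symm

theorem le_sigma (h : PDual Z M K Ms Ks) : Ks ≤ Mσ[M] := h.el ▸ inf_le_left

theorem cyc_aux (h : PDual Z M K Ms Ks) (h2 : IsMP2 M) (hp : (Nat.card K).Prime) : IsCyclic Z := by
  have h1 : IsCyclic Ks := mFT_nil_rank1_cyclic
    (isNilpotent_of_le (notP1type_Msigma_nil (Or.inr h2)) h.le_sigma)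
    (tau13_rank1 h.r.hall.le (h.r.hall.isPi.mono fun _ h => kappa_tau13 h))
  have h3 := isCyclic_of_card_prime hp
  refine mFT_nil_rank1_cyclic (nilpotent_of_comm' (h.dprod.comm (isMulCommutative_of_isCyclic h3)
    (isMulCommutative_of_isCyclic h1))) (PG.rankLE_of_forall_dvd fun p hp _ => ?_)
  have := Fact.mk hp
  by_cases hs : p ∈ sigma M
  · exact (PG.pRankLE_iff_of_isPiHallOf (h.el ▸ h.l.hallKs) hs).1 (PG.pRankLE_one_of_isCyclic hp h1)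
  · exact (PG.pRankLE_iff_of_isPiHallOf h.l.hallK hs).1 (PG.pRankLE_one_of_isCyclic hp h3)

theorem cyc (h : PDual Z M K Ms Ks) : IsCyclic Z :=
  h.p2.elim (fun a => h.cyc_aux a.1 a.2) fun a => h.symm.cyc_aux a.1 a.2

theorem comm (h : PDual Z M K Ms Ks) : Z ≤ C[Z] :=
  comm_iff_le_cent.1 (isMulCommutative_of_isCyclic h.cyc)

theorem sigma_inf (h : PDual Z M K Ms Ks) : Mσ[M] ⊓ Ms = Ks := by
  refine le_antisymm (le_trans (le_inf inf_le_left ?_) h.el.le)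
    (le_inf h.le_sigma h.r.hall.le)
  refine le_trans (le_cent_of_norm_of_coprime (K := Mσ[Ms] ⊓ M) ?_ ?_ ?_)
    (cent_anti (le_inf h.symm.le_sigma h.l.hall.le))
  · exact le_norm_inf (inf_le_right.trans (le_norm_sigmaCore Ms))
      (le_norm_self (inf_le_left.trans (sigmaCore_le M)))
  · exact le_norm_inf (inf_le_right.trans (le_norm_sigmaCore M))
      (le_norm_self (inf_le_left.trans (sigmaCore_le Ms)))
  · exact (sigmaCore_isPi M).inf_left.piNat.coprime_of_disjoint (sigmaCore_isPi Ms).inf_left.piNat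
      fun _ _ a b => h.not_conjg (conjg_of_mem_sigma h.l.mmax h.r.mmax a b)

theorem hall_sigma (h : PDual Z M K Ms Ks) : IsPiHallOf (sigma M) Ks Ms := by
  obtain ⟨Y, hY, hle⟩ := exists_hall_ge (mmax_sol h.r.mmax) h.r.hall.le
    ((sigmaCore_isPi M).of_le h.le_sigma)
  have h1 := (Ptype_structure h.l.1 h.l.hall).2.2.2.2.1 Y hY.isPi
    (by rw [h.el, inf_eq_right.2 hle]; exact h.r.ne_bot)
  rwa [le_antisymm hle ((le_inf h1 hY.le).trans h.sigma_inf.le)]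

theorem inf_eq (h : PDual Z M K Ms Ks) : M ⊓ Ms = Z := by
  refine le_antisymm (le_trans (le_inf inf_le_right ?_) h.r.norm_eq.le) (le_inf h.l.le h.r.le)
  rw [← h.sigma_inf]
  exact le_norm_inf (inf_le_left.trans (le_norm_sigmaCore M)) (le_norm_self inf_le_right)

theorem cent1_left (h : PDual Z M K Ms Ks) (hx : x ∈ K) (hx1 : x ≠ 1) : M ⊓ C1[x] = Z := by
  obtain ⟨X, hX, hXp, -, hC⟩ := exists_le_zpowers_card_prime hx1
  exact le_antisymm ((inf_le_inf_left _ (hC.trans (cent_le_norm X))).trans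
    (h.l.norm_prime (hX.trans (zpowers_le.2 hx)) hXp).le)
    (le_inf h.l.le (h.comm.trans (cent_le_cent1 (h.l.left_le hx))))

theorem cent1_mul (h : PDual Z M K Ms Ks) (hx : x ∈ K) (hx1 : x ≠ 1) (hy : y ∈ Ks) (hy1 : y ≠ 1) :
    C1[x * y] = Z := by
  refine le_antisymm ?_
    (h.comm.trans (cent_le_cent1 (mul_mem (h.l.left_le hx) (h.r.left_le hy))))
  obtain ⟨e1, e2⟩ := h.l.constt_eq hx (h.el ▸ hy)
  obtain ⟨Y, hY, hYp, -, hC⟩ := exists_le_zpowers_card_prime hy1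
  rw [← h.cent1_left hx hx1]
  refine le_inf (le_trans ?_ (hC.trans (h.l.uniq (hY.trans (zpowers_le.2 (h.el ▸ hy))) hYp).le)) ?_
  · conv_rhs => rw [← e2]
    exact cent1_le_cent1_constt _ _
  · conv_rhs => rw [← e1]
    exact cent1_le_cent1_constt _ _

theorem cent1_eq (h : PDual Z M K Ms Ks) (ht : t ∈ cycTI K Ks) : C1[t] = Z := by
  obtain ⟨a, ha, b, hb, ha1, hb1, rfl⟩ := h.l.decomp (h.el ▸ ht)
  exact h.cent1_mul ha ha1 (h.el ▸ hb) hb1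

theorem mul_mem_cycTI (h : PDual Z M K Ms Ks) (hx : x ∈ K) (hx1 : x ≠ 1) (hy : y ∈ Ks)
    (hy1 : y ≠ 1) : x * y ∈ cycTI K Ks :=
  ⟨mul_mem (mem_sup_left hx) (mem_sup_right hy),
    fun hc => ne_bot_of_mem (mem_inf.2 ⟨(K.mul_mem_cancel_left hx).1 hc, hy⟩) hy1 h.dprod.inf_eq,
    fun hc => ne_bot_of_mem (mem_inf.2 ⟨hx, (Ks.mul_mem_cancel_right hy).1 hc⟩) hx1 h.dprod.inf_eq⟩

theorem normedTI (h : PDual Z M K Ms Ks) : NormedTI (cycTI K Ks) ⊤ Z := by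
  obtain ⟨x, hx, hx1⟩ := exists_ne_one_of_ne_bot h.l.ne_bot
  obtain ⟨y, hy, hy1⟩ := exists_ne_one_of_ne_bot h.r.ne_bot
  refine ⟨⟨_, h.mul_mem_cycTI hx hx1 hy hy1⟩, le_top, fun t ht g _ =>
    ⟨fun hg => h.l.mem_of_conj (h.el ▸ ht) (h.dprod.sup_eq ▸ hg.1), fun hg => ?_⟩⟩
  rwa [conj_eq_self_of_mem_cent1 (h.cent1_eq ht ▸ hg)]

theorem count (h : PDual Z M K Ms Ks) : Nat.card G < 2 * (classSupp (cycTI K Ks) ⊤).ncard := by
  rw [NormedTI.ncard_classSupp h.normedTI, ← Z.card_mul_index, ← mul_assoc]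
  refine Nat.mul_lt_mul_of_pos_right ?_ (Nat.pos_of_ne_zero index_ne_zero_of_finite)
  have c1 : Nat.card Z ≤ (cycTI K Ks).ncard + Nat.card K + (Nat.card Ks - 1) := by
    have : (Z : Set G) ⊆ cycTI K Ks ∪ K ∪ sharp Ks := fun z hz => by
      by_cases h1 : z ∈ K
      · exact Or.inl (Or.inr h1)
      by_cases h2 : z ∈ Ks
      · exact Or.inr ⟨h2, fun e => h1 (e ▸ one_mem _)⟩
      exact Or.inl (Or.inl ⟨h.dprod.sup_eq.symm ▸ hz, h1, h2⟩)
    calc Nat.card Z = (Z : Set G).ncard := by rw [← Nat.card_coe_set_eq, SetLike.coe_sort_coe]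
      _ ≤ _ := Set.ncard_le_ncard this
      _ ≤ _ := Set.ncard_union_le _ _
      _ ≤ _ := by
        rw [ncard_sharp]
        refine Nat.add_le_add_right ((Set.ncard_union_le _ _).trans (le_of_eq ?_)) _
        rw [← Nat.card_coe_set_eq (K : Set G), SetLike.coe_sort_coe]
  have hc : (Nat.card K).Coprime (Nat.card Ks) := h.l.hallK.isPi.coprime' (h.el ▸ h.l.hallKs.isPi)
  have a1 := ne_bot_iff_one_lt_card.1 h.l.ne_bot
  have a2 := ne_bot_iff_one_lt_card.1 h.r.ne_bot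
  obtain ⟨a, ha⟩ := mFT_odd K
  obtain ⟨b, hb⟩ := mFT_odd Ks
  rw [← h.dprod.card_mul] at c1 ⊢
  rw [ha, hb] at c1 hc ⊢
  rw [ha] at a1
  rw [hb] at a2
  have hab : a ≠ b := by
    rintro rfl
    rw [Nat.coprime_self] at hc
    omega
  rw [Nat.add_sub_cancel] at c1
  rcases hab.lt_or_gt with hl | hl
  · obtain ⟨c, rfl⟩ := Nat.exists_eq_add_of_lt hl
    obtain ⟨d, rfl⟩ : ∃ d, a = d + 1 := ⟨a - 1, by omega⟩
    nlinarith [Nat.zero_le (c * d), Nat.zero_le (d * d)]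
  · obtain ⟨c, rfl⟩ := Nat.exists_eq_add_of_lt hl
    obtain ⟨d, rfl⟩ : ∃ d, b = d + 1 := ⟨b - 1, by omega⟩
    nlinarith [Nat.zero_le (c * d), Nat.zero_le (d * d)]

theorem conjg_or (h : PDual Z M K Ms Ks) (hH : IsMP H) : Conjg M H ∨ Conjg Ms H := by
  obtain ⟨L, hL⟩ := exists_hall (kappa H) (mmax_sol hH.1)
  obtain ⟨Hs, h'⟩ := PPair.exists_dual ⟨hH, hL, rfl⟩
  have hnd : ¬ Disjoint (classSupp (cycTI K Ks) ⊤) (classSupp (cycTI L (Mσ[H] ⊓ C[L])) ⊤) := by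
    intro hd
    have c1 := Set.ncard_le_card
      (classSupp (cycTI K Ks) ⊤ ∪ classSupp (cycTI L (Mσ[H] ⊓ C[L])) ⊤)
    rw [Set.ncard_union_eq hd] at c1
    have c2 := h.count
    have c3 := h'.count
    omega
  obtain ⟨g, h1, h2⟩ := Set.not_disjoint_iff.1 hnd
  obtain ⟨t, ht, a, -, rfl⟩ := mem_classSupp.1 h1
  obtain ⟨s, hs, b, -, e⟩ := mem_classSupp.1 h2
  have e1 := congrArg (fun g => Nat.card C1[g]) e
  simp only [← conj_cent1, card_conj, h.cent1_eq ht, h'.cent1_eq hs] at e1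
  obtain ⟨p, hp, hd⟩ := exists_prime_dvd_card h'.r.ne_bot
  have hps : p ∈ sigma H := sigma_of_dvd_Msigma hp inf_le_left hd
  have hd' := hd.trans (card_dvd_of_le h'.dprod.right_le)
  rw [← e1, ← h.dprod.card_mul] at hd'
  rcases hp.dvd_mul.1 hd' with h3 | h3
  · exact Or.inr (conjg_of_mem_sigma h.r.mmax hH.1 (sigma_of_dvd_Msigma hp h.symm.le_sigma h3) hps)
  · exact Or.inl (conjg_of_mem_sigma h.l.mmax hH.1 (sigma_of_dvd_Msigma hp h.le_sigma h3) hps)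

theorem cycK (h : PDual Z M K Ms Ks) : IsCyclic K := isCyclic_of_le h.cyc h.l.left_le

theorem kappa_eq (h : PDual Z M K Ms Ks) : kappa M = tau1 M := by
  obtain ⟨E, hE, hKE⟩ := ex_sigma_compl h.l.mmax h.l.hall.le (kappa_sigma' h.l.hall.isPi)
  exact (kappa_facts h.l.mmax hE h.l.hall hKE h.l.ne_bot).2.2.2.2 h.cycK

theorem sdprod_der1 (h : PDual Z M K Ms Ks) : Sdprod ⁅M, M⁆ K M := by
  obtain ⟨U, hU⟩ := ex_kappa_compl h.l.mmax h.l.hall
  have h1 := hU.sdprod_der h.l.mmax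
  rwa [le_antisymm (h1.commutator_le (isMulCommutative_of_isCyclic h.cycK))
    (sup_le (Msigma_der1 h.l.mmax) (hU.commutator_eq h.l.mmax h.l.ne_bot ▸
      commutator_mono hU.2.1.le hU.1.le))]

theorem uniq (h : PDual Z M K Ms Ks) (hX : X ≤ K) (hXp : (Nat.card X).Prime) : UMax C[X] Ms :=
  h.r.uniq (hX.trans h.er.ge) hXp

end PDual

theorem exists_pdual (hM : IsMP M) (hK : IsPiHallOf (kappa M) K M) :
    ∃ Ms, PDual (K ⊔ (Mσ[M] ⊓ C[K])) M K Ms (Mσ[M] ⊓ C[K]) := PPair.exists_dual ⟨hM, hK, rfl⟩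

theorem exists_pdual' (hM : IsMP M) : ∃ Z K Ms Ks, PDual Z M K Ms Ks :=
  let ⟨_, hK⟩ := exists_hall (kappa M) (mmax_sol hM.1)
  let ⟨_, h⟩ := exists_pdual hM hK
  ⟨_, _, _, _, h⟩

/-- 14.7 -/
theorem Ptype_embedding (hM : IsMP M) (hK : IsPiHallOf (kappa M) K M) {Ks : Subgroup G}
    (hKs : Ks = Mσ[M] ⊓ C[K]) :
    ∃ Ms, IsMP Ms ∧ ¬ Conjg M Ms ∧
      (∀ X : Subgroup G, X ≤ K → (Nat.card X).Prime → UMax C[X] Ms) ∧
      (IsPiHallOf (kappa Ms) Ks Ms ∧ IsPiHallOf (sigma M) Ks Ms) ∧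
      (Mσ[Ms] ⊓ C[Ks] = K ∧ kappa M = tau1 M) ∧
      (IsCyclic ↥(K ⊔ Ks) ∧ M ⊓ Ms = K ⊔ Ks ∧ (∀ x ∈ K, x ≠ 1 → M ⊓ C1[x] = K ⊔ Ks) ∧
        (∀ y ∈ Ks, y ≠ 1 → Ms ⊓ C1[y] = K ⊔ Ks) ∧
        ∀ x ∈ K, x ≠ 1 → ∀ y ∈ Ks, y ≠ 1 → C1[x * y] = K ⊔ Ks) ∧
      (NormedTI (cycTI K Ks) ⊤ (K ⊔ Ks) ∧ (∀ g, g ∉ M → ∀ z ∈ cycTI K Ks, z ∉ cj[g] M) ∧
        Nat.card G < 2 * Set.ncard (classSupp (cycTI K Ks) ⊤)) ∧
      ((IsMP2 M ∧ (Nat.card K).Prime) ∨ (IsMP2 Ms ∧ (Nat.card Ks).Prime)) ∧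
      (∀ H, IsMP H → Conjg M H ∨ Conjg Ms H) ∧
      Sdprod ⁅M, M⁆ K M := by
  subst hKs
  obtain ⟨Ms, h⟩ := exists_pdual hM hK
  exact ⟨Ms, h.r.1, h.not_conjg, fun X => h.uniq, ⟨h.r.hall, h.hall_sigma⟩, ⟨h.er, h.kappa_eq⟩,
    ⟨h.cyc, h.inf_eq, fun x => h.cent1_left, fun y => h.symm.cent1_left,
      fun x hx hx1 y => h.cent1_mul hx hx1⟩,
    ⟨h.normedTI, fun g hg z hz hc => hg (h.l.not_mem_conj hz hc), h.count⟩, h.p2,
    fun H => h.conjg_or, h.sdprod_der1⟩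

theorem _root_.Cfsg.Agent.GT.Conjg.isMP1 (h : Conjg M L) : IsMP1 L ↔ IsMP1 M := by
  obtain ⟨g, rfl⟩ := h; exact P1typeJ

/-- 14.8(a) -/
theorem P1type_trans (hM : IsMP1 M) (hH : IsMP1 H) : Conjg M H := by
  obtain ⟨Z, K, Ms, Ks, h⟩ := exists_pdual' hM.1
  exact (h.conjg_or hH.1).resolve_right fun hc =>
    (h.p2.resolve_left fun h2 => h2.1.2 hM.2).1.2 (hc.isMP1.1 hH).2

theorem mem_cover_of_ell1 (hx : Ell1 x) (hr : x⁻¹ * g ∈ sigR x) :
    ∃ M, IsCoatom M ∧ g ∈ classSupp (sigCover M) ⊤ :=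
  let ⟨M, hM⟩ := hx.2
  ⟨M, hM.1, subset_classSupp _ _ ⟨x, hM.2, hx.1, _, hr, by group⟩⟩

/-- 14.9(1) -/
theorem mFT_partition_F (h : ∀ M : Subgroup G, ¬ IsMP M) (hg : g ≠ 1) :
    ∃ M, IsCoatom M ∧ g ∈ classSupp (sigCover M) ⊤ := by
  rcases (sigma_decomposition_dichotomy hg).or with ⟨x, hx, hr⟩ | ⟨y, M, -, hM, -, h1, h2⟩
  · exact mem_cover_of_ell1 hx hr
  · obtain ⟨p, hp, hd⟩ := exists_prime_dvd_orderOf h1
    exact absurd (isMP_of_kappa hM.1 (h2 p hp hd)) (h M)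

theorem PDual.mem_classSupp (h : PDual Z M K Ms Ks) (hc : Conjg M L) (hy : y ∈ Mσ[L]) (hy1 : y ≠ 1)
    (hx : x ∈ L ⊓ C1[y]) (hx1 : x ≠ 1) (hκ : PiNat (kappa L) (orderOf x)) :
    y * x ∈ classSupp (cycTI K Ks) ⊤ := by
  obtain ⟨a, rfl⟩ := hc
  have hK : IsPiHallOf (kappa (cj[a] M)) (cj[a] K) (cj[a] M) := (h.l.conj a).hall
  obtain ⟨b, hb, hle⟩ := hK.exists_le_conj (mmax_sol (h.l.conj a).mmax) (zpowers_le.2 hx.1)
    (isPiSubgroup_zpowers_iff.2 hκ)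
  rw [← mul_conj] at hle
  have h1 : (b * a)⁻¹ * x * (b * a) ∈ K := mem_conj.1 (hle (mem_zpowers x))
  have h1' : (b * a)⁻¹ * x * (b * a) ≠ 1 := fun e => hx1 (by
    calc x = (b * a) * ((b * a)⁻¹ * x * (b * a)) * (b * a)⁻¹ := by group
      _ = 1 := by rw [e]; group)
  have h2 : (b * a)⁻¹ * y * (b * a) ∈ Ks := by
    rw [← h.el, ← kappa_primact h.l.mmax h.l.hall _ h1 h1']
    refine mem_inf.2 ⟨mem_conj.1 ?_, mem_cent1.2 ?_⟩
    · rwa [conj_sigmaCore, mul_conj, conj_eq_self_of_mem hb]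
    · calc _ = (b * a)⁻¹ * (y * x) * (b * a) := by group
        _ = _ := by rw [← mem_cent1.1 hx.2]; group
  have h2' : (b * a)⁻¹ * y * (b * a) ≠ 1 := fun e => hy1 (by
    calc y = (b * a) * ((b * a)⁻¹ * y * (b * a)) * (b * a)⁻¹ := by group
      _ = 1 := by rw [e]; group)
  refine GT.mem_classSupp.2 ⟨_, h.mul_mem_cycTI h1 h1' h2 h2', b * a, mem_top _, ?_⟩
  rw [← mem_cent1.1 hx.2]; group

/-- 14.9(2) -/
theorem mFT_partition_P (hM : IsMP M) (hK : IsPiHallOf (kappa M) K M) :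
    (∀ g : G, g ≠ 1 → (∃ L, IsCoatom L ∧ g ∈ classSupp (sigCover L) ⊤) ∨
      g ∈ classSupp (cycTI K (Mσ[M] ⊓ C[K])) ⊤) ∧
    ∀ L, IsCoatom L →
      Disjoint (classSupp (cycTI K (Mσ[M] ⊓ C[K])) ⊤) (classSupp (sigCover L) ⊤) := by
  obtain ⟨Ms, h⟩ := exists_pdual hM hK
  refine ⟨fun g hg => ?_, fun L hL => PPair.disjoint_cover (fun t ht => ⟨M, K, h.l, ht⟩) hL⟩
  rcases (sigma_decomposition_dichotomy hg).or with ⟨x, hx, hr⟩ | ⟨y, L, hy1, hL, h0, h1, h2⟩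
  · exact Or.inl (mem_cover_of_ell1 hx hr)
  right
  obtain ⟨p, hp, hd⟩ := exists_prime_dvd_orderOf h1
  rw [← mul_inv_cancel_left y g]
  rcases h.conjg_or (isMP_of_kappa hL.1 (h2 p hp hd)) with hc | hc
  · exact h.mem_classSupp hc hL.2 hy1 h0 h1 h2
  · rw [cycTI_comm]
    exact h.symm.mem_classSupp hc hL.2 hy1 h0 h1 h2

theorem P2type_sigma_beta (h : IsMP2 M) : sigma M = beta M :=
  let ⟨_, hK⟩ := exists_hall (kappa M) (mmax_sol h.1.1)
  ((Ptype_structure h.1 hK).2.2.2.2.2 h).1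

/-- 14.11 -/
theorem primes_non_Fitting_Ftype (hM : IsMF M) (hE : IsPiHallOf (sigma M)ᶜ E M) (hq : q.Prime)
    (hQ : PnElem q 1 E Q) (hF : ¬ Q ≤ F[E]) :
    ∃ Ms, IsCoatom Ms ∧ ((q ∈ tau2 Ms ∧ UMax C[Q] Ms) ∨ (q ∈ kappa Ms ∧ IsMP1 Ms)) := by
  have hMc := hM.1
  have hab := der_mmax_compl_abelian hMc hE
  have hdF : ⁅E, E⁆ ≤ F[E] := comm_le_fittingOf (der1_le E) (self_le_norm_der1 E) hab
  have h1 : q ∈ tau1 M := by
    rcases (partition_pi_sigma_compl hMc hE hq).1 hQ.dvd_card with h | h | h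
    · exact h
    · obtain ⟨A, hA⟩ := ex_tau2Elem hE h
      obtain ⟨⟨h1, h2⟩, -⟩ := tau2_compl_context hMc hE h hA
      exact absurd ((h2 Q hQ).trans (comm_le_fittingOf hA.le h1 hA.comm)) hF
    · refine absurd (le_trans ?_ hdF) hF
      rw [← sigma_compl_inf_der1 hMc hE]
      exact le_inf hQ.le (tau3_le_der1 hMc (hQ.le.trans hE.le)
        (isPi_of_isPGroup_mem hq hQ.isPGroup h))
  have hC := not_kappa_regular (Or.inl h1) hM.not_kappa (hQ.mono hE.le)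
  have hKd : ⁅E, Q⁆ ≤ ⁅E, E⁆ := commutator_mono le_rfl hQ.le
  have hKE : ⁅E, Q⁆ ≤ E := hKd.trans (der1_le E)
  have hKq : IsPiSubgroup {q}ᶜ ⁅E, Q⁆ := (isPiSubgroup_single_compl_iff hq).2 fun h =>
    tau1_not_dvd_der1 h1 (h.trans (card_dvd_of_le (hKd.trans (commutator_mono hE.le hE.le))))
  have hKc := isMulCommutative_of_le hab hKd
  have hQK : Q ≤ N[⁅E, Q⁆] := le_norm_commutator (le_norm_self hQ.le) le_normalizer
  have hco := hKq.coprime' (isPi_of_isPGroup hq hQ.isPGroup)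
  have hKK : ⁅⁅E, Q⁆, Q⁆ = ⁅E, Q⁆ := le_antisymm (commutator_mono hKE le_rfl)
    (commutator_le_of_forall_mul_cent fun x hx =>
      let ⟨n, hn, c, hc, e⟩ := coprime_exists_mul_of_commutator_le (Or.inl (solvable_of_comm hKc))
        hQK hco hKE le_rfl hx
      ⟨n, hn, c, hc.2, e⟩)
  have hK1 : ⁅E, Q⁆ ≠ ⊥ := fun h => hF (comm_le_fittingOf hQ.le
    (le_norm_of_cent (le_cent_iff_commutator_eq_bot.2 h)) hQ.comm)
  have hKC : ⁅E, Q⁆ ⊓ C[Q] = ⊥ := hKK ▸ coprime_comm_commutator_inf_cent hKc hQK hco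
  have hKs := (commG_sigma'_1Elem_cyclic hMc (hKE.trans hE.le) (hE.isPi.of_le hKE) hq
    (tau1_not_sigma h1) (hQ.of_le (le_inf (hQ.le.trans hE.le) hQK)) hC hKq hKc).1
  rw [hKK] at hKs
  obtain ⟨p, hp, hd⟩ := exists_prime_dvd_card hK1
  obtain ⟨P, hP⟩ := exists_pnElem_one hp hd
  have h2 : p ∈ tau2 M := by
    by_contra h
    have h13 : p ∈ tau1 M ∨ p ∈ tau3 M := by
      have := (partition_pi_sigma_compl hMc hE hp).1 (hP.mono hKE).dvd_card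
      tauto
    refine Msigma_neq1 hMc ?_
    rw [← not_kappa_regular h13 hM.not_kappa (hP.mono (hKE.trans hE.le)), left_eq_inf]
    exact le_cent_symm (hP.le.trans hKs)
  obtain ⟨A, hA⟩ := ex_tau2Elem hE h2
  obtain ⟨⟨hAn, hsub⟩, -⟩ := tau2_compl_context hMc hE h2 hA
  have hnc : ¬ Q ≤ C[A] := fun h => hP.ne_bot hp (le_bot_iff.1 (hKC ▸ le_inf hP.le
    ((hsub P (hP.mono hKE)).trans (le_cent_symm h))))
  obtain ⟨-, -, hA₁, -⟩ := tau1_act_tau2 hMc hE h2 hA h1 hQ hC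
    fun h => hnc (le_cent_iff_commutator_eq_bot'.2 h)
  obtain ⟨H, hH, hn⟩ := exists_mmax_norm_of_pgroup hp hA.isPGroup (hA.ne_bot hp)
  obtain ⟨h3, h4, -⟩ := primes_norm_tau2Elem hMc hE h2 hA hH hn
  have hQH : Q ≤ H := (hQ.le.trans hAn).trans hn
  have hCH : Mσ[H] ⊓ C[Q] ≠ ⊥ := ne_bot_of_le (hA₁.ne_bot hp) (inf_le_inf_right _
    (pgroup_le_Msigma hH (h3 p h2).1 hA.isPGroup (le_normalizer.trans hn)))
  refine ⟨H, hH, ?_⟩
  rcases h4 q hq (dvd_relIndex_of_pnElem_not_le hq hQ (le_norm_cent hAn) hnc) with h | h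
  · have hκ : q ∈ kappa H := mem_kappa_iff.2 ⟨Or.inl h, Q, hQ.of_le hQH, hCH⟩
    have hP := isMP_of_kappa hH hκ
    exact Or.inr ⟨hκ, hP, by_contra fun h' =>
      (h3 p h2).2 (P2type_sigma_beta ⟨hP, h'⟩ ▸ (h3 p h2).1)⟩
  · obtain ⟨F, hF, hQF⟩ := ex_sigma_compl hH hQH
      (isPi_of_isPGroup_mem hq hQ.isPGroup (tau2_not_sigma h))
    obtain ⟨B, hB⟩ := ex_tau2Elem hF h
    exact Or.inl ⟨h, (tau2_compl_context hH hF h hB).2.2 Q (hQ.of_le hQF) hCH⟩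

/-- 14.12 -/
theorem P2type_signalizer (hU : KappaCompl M U K) (hM : IsMP2 M) (hMs : IsCoatom Ms)
    (hKMs : C[K] ≤ Ms) (hr : r.Prime) (hR : IsPiHallOf {r} R U) (hH : IsCoatom H) (hn : N[R] ≤ H) :
    IsMF H ∧ U ≤ Mσ[H] ∧ U ⊔ K = M ⊓ H ∧ ¬ H ⊓ N[U] ≤ M ∧ K ≤ F[H ⊓ Ms] ∧
    IsPiHallOf (sigma H)ᶜ (H ⊓ Ms) H := by
  have hMc := hM.1.1
  have hK := hU.1
  obtain ⟨L, h⟩ := exists_pdual hM.1 hK
  have hK1 := h.l.ne_bot
  have hq := ((Ptype_structure hM.1 hK).2.2.2.2.2 hM).2.1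
  have huK := h.uniq le_rfl hq
  obtain rfl : Ms = L := huK.eq hMs hKMs
  obtain ⟨hE, hsd, hsd', -, hreg, hab⟩ := kappa_compl_context hMc hU
  have hR1 := ne_bot_of_norm_le_mmax hH hn
  have hrU : r ∣ Nat.card U := (syl_ne_bot_iff hr hR).1 hR1
  have hU1 : U ≠ ⊥ := ne_bot_of_le hR1 hR.le
  have hrs := hU.2.1.isPi r hr hrU
  have hRM : IsPiHallOf {r} R M := hR.trans_single hU.2.1 hrs
  have hEH : U ⊔ K ≤ H := (hsd.norm.trans
    (norm_le_norm_syl_of_nilpotent hr (nilpotent_of_comm' (hab hK1)) hR)).trans hn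
  have hUH : U ≤ H := le_sup_left.trans hEH
  have hKH : K ≤ H := le_sup_right.trans hEH
  have hcM : ¬ Conjg M H := by
    rintro ⟨g, rfl⟩
    refine hrs (Or.inl (sigma_conj g M ▸ mem_sigma_of_syl hr ?_ ?_ hn))
    · exact hrU.trans (card_dvd_of_le hUH)
    · exact (hRM.conj g).of_card_eq (hR.le.trans hUH) (card_conj g R).symm
  have hcMs : ¬ Conjg Ms H := by
    rintro ⟨g, rfl⟩
    have hg : g ∈ Ms := by_contra fun hg => hK1 (le_bot_iff.1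
      ((Ptype_structure h.r.1 h.r.hall).2.2.1.1 g hg ▸ le_inf h.er.ge hKH))
    rw [conj_eq_self_of_mem hg] at hUH
    have h1 : U ≤ K ⊔ (Mσ[M] ⊓ C[K]) := h.inf_eq ▸ le_inf hU.2.1.le hUH
    have h2 := hrU.trans (card_dvd_of_le h1)
    rw [← h.dprod.card_mul] at h2
    exact hrs ((hr.dvd_mul.1 h2).symm.imp (sigma_of_dvd_Msigma hr inf_le_left) (hK.isPi r hr))
  have hF : IsMF H := isMF_of_not_isMP hH fun hP => (h.conjg_or hP).elim hcM hcMs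
  have hqs : Nat.card K ∈ sigma Ms := sigma_of_dvd_Msigma hq h.symm.le_sigma dvd_rfl
  have hqH : Nat.card K ∉ sigma H := fun h' => hcMs (conjg_of_mem_sigma hMs hH hqs h')
  have hKq : IsPGroup (Nat.card K) K := isPGroup_of_card_eq_prime rfl
  obtain ⟨D, hD, hKD⟩ := ex_sigma_compl hH hKH (isPi_of_isPGroup_mem hq hKq hqH)
  have hKe : PnElem (Nat.card K) 1 D K := (pnElem_one_iff hq).2 ⟨hKD, rfl⟩
  have hKF : K ≤ F[D] := by
    by_contra hc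
    obtain ⟨L, hL, ⟨h1, h2⟩ | ⟨h1, h2⟩⟩ := primes_non_Fitting_Ftype hF hD hq hKe hc
    · exact tau2_not_sigma h1 (huK.eq hL h2.le ▸ hqs)
    · rcases h.conjg_or h2.1 with h3 | h3
      · exact hM.2 (h3.isMP1.1 h2).2
      · exact kappa_not_sigma h1 (h3.sigma_eq ▸ hqs)
  have hKO : K ≤ O[{Nat.card K}](D) := le_piCoreOf_of_le_fittingOf hKF (isPi_of_isPGroup hq hKq)
  have hOD := piCoreOf_le {Nat.card K} D
  have hOn : O[{Nat.card K}](D) ≤ N[Mσ[H]] := (hOD.trans hD.le).trans (le_norm_sigmaCore H)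
  have hUs : U ≤ Mσ[H] := by
    have h1 : H ≤ N[Mσ[H] ⊔ O[{Nat.card K}](D)] := by
      conv_lhs => rw [← (sdprod_sigma hH hD).sup_eq]
      exact sup_le (le_norm_self le_sup_left)
        (le_norm_sup (hD.le.trans (le_norm_sigmaCore H)) (self_le_norm_piCoreOf _ D))
    have h2 : U ≤ Mσ[H] ⊔ O[{Nat.card K}](D) := by
      conv_lhs => rw [← hU.commutator_eq hMc hK1]
      exact (commutator_mono le_rfl (hKO.trans le_sup_right)).trans
        (commutator_le_of_le_norm_right (hUH.trans h1))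
    refine (isPiHallOf_sup_left (π := {Nat.card K}ᶜ) (Or.inr hOn)
      (IsPiSubgroup.single_compl_mono (π := (sigma H)ᶜ) (by rw [compl_compl]; exact sigmaCore_isPi H)
        hqH) (by rw [compl_compl]; exact piCoreOf_isPi _ _)).le_of_norm h2
      (hU.2.1.isPi.single_compl_mono (Or.inr (hK.isPi _ hq dvd_rfl)))
      (Or.inl (hUH.trans (le_norm_sigmaCore H)))
  have hdisj : ∀ {L L' : Subgroup G}, IsCoatom L → IsCoatom L' → ¬ Conjg L L' →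
      ∀ X : Subgroup G, X ≤ Mσ[L'] ⊓ L → Mσ[L] ⊓ L' ≤ C[X] := fun {L L'} hL hL' hc X hX =>
    (le_cent_of_norm_of_coprime
      (le_norm_inf (inf_le_right.trans (le_norm_sigmaCore L'))
        (le_norm_self (inf_le_left.trans (sigmaCore_le L))))
      (le_norm_inf (inf_le_right.trans (le_norm_sigmaCore L))
        (le_norm_self (inf_le_left.trans (sigmaCore_le L'))))
      ((sigmaCore_isPi L).inf_left.piNat.coprime_of_disjoint (sigmaCore_isPi L').inf_left.piNat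
        fun _ _ a b => hc (conjg_of_mem_sigma hL hL' a b))).trans (cent_anti hX)
  have hMH : U ⊔ K = M ⊓ H := by
    have h1 : Mσ[M] ⊓ H = ⊥ := le_bot_iff.1 (cent_Msigma_kappa_compl hMc hU.2.1 hU1 ▸
      le_inf inf_le_left (hdisj hMc hH hcM U (le_inf hUs hU.2.1.le)))
    conv_rhs => rw [← hsd'.sup_eq, dedekind' (Or.inr hsd'.right_norm) hEH, h1, bot_sup_eq]
  have hDMs : D ≤ Ms := by
    by_cases h2 : Nat.card K ∈ tau2 H
    · obtain ⟨A, hA⟩ := ex_tau2Elem hD h2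
      obtain ⟨⟨hAn, hsub⟩, -⟩ := tau2_compl_context hH hD h2 hA
      exact hAn.trans (norm_noncyclic_sigma hMs hqs hA.isPGroup
        ((hA.le_cent.trans (cent_anti (hsub K hKe))).trans hKMs) (PG.pnElem_two_not_isCyclic hq hA))
    · have h13 : Nat.card K ∈ tau1 H ∨ Nat.card K ∈ tau3 H := by
        have := partition_pi_sigma' hH hq hqH (card_dvd_of_le hKH)
        tauto
      exact (PG.le_norm_of_isCyclic (tau13_pgroup_cyclic h13 (piCoreOf_isPGroup hq D)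
        (hOD.trans hD.le)) hKO (self_le_norm_piCoreOf _ D)).trans
        ((norm_le_norm_cent K).trans huK.norm_le)
  have hHMs : H ⊓ Ms = D := by
    have h1 : Mσ[H] ⊓ Ms = ⊥ := by
      by_contra hne
      have h2 : Mσ[H] ⊓ C[K] ≠ ⊥ := ne_bot_of_le hne (le_inf inf_le_left
        (hdisj hH hMs (not_conjg_symm hcMs) K (le_inf h.symm.le_sigma hKH)))
      have h3 : Nat.card K ∈ tau2 H := by
        by_contra h3
        refine h2 (not_kappa_regular ?_ hF.not_kappa (hKe.mono hD.le))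
        have := partition_pi_sigma' hH hq hqH (card_dvd_of_le hKH)
        tauto
      obtain ⟨A, hA⟩ := ex_tau2Elem hD h3
      exact ne_of_not_conjg hcMs
        (huK.eq hH ((tau2_compl_context hH hD h3 hA).2.2 K hKe h2).le)
    have hsdH := sdprod_sigma hH hD
    conv_lhs => rw [← hsdH.sup_eq, dedekind' (Or.inr hsdH.right_norm) hDMs, h1, bot_sup_eq]
  refine ⟨hF, hUs, hMH, fun hc => ?_, hHMs ▸ hKF, hHMs ▸ hD⟩
  have h1 : Mσ[H] ⊓ N[U] ≤ U := by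
    have h2 : Mσ[H] ⊓ N[U] ≤ (U ⊔ K) ⊓ Mσ[H] := le_inf (hMH ▸ le_inf
      ((inf_le_inf_right _ (sigmaCore_le H)).trans hc) (inf_le_left.trans (sigmaCore_le H)))
      inf_le_left
    rwa [dedekind (Or.inr hsd.right_norm) hUs,
      (isPi_of_isPGroup_mem hq hKq hqH).inf_eq_bot' (sigmaCore_isPi H), sup_bot_eq] at h2
  have h2 : U = Mσ[H] := by_contra fun hne => (lt_inf_norm_of_nilpotent
    (notP1type_Msigma_nil (Or.inl hF)) (lt_of_le_of_ne hUs hne)).not_ge h1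
  rw [h2, norm_Msigma hH, inf_idem] at hc
  exact ne_of_not_conjg hcM (eq_mmax hH hMc hc)

/-- 14.13(a) -/
theorem non_disjoint_signalizer_Frobenius (hx : Ell1 x) (h : SigMany x) (hM : SigMax x M)
    (hs : ¬ IsPiSubgroup (sigma (sigN x))ᶜ M) :
    IsMF M ∧ IsPiSubgroup (tau2 M)ᶜ M ∧ FrobKer M Mσ[M] := by
  obtain ⟨hu, -, ht2, -, hctx⟩ := FT_signalizer_context hx h
  obtain ⟨-, h2s, hβ, -⟩ := hctx M hM
  have hc := sigN_not_conjg hx h hM.1 hM.piNat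
  generalize sigN x = N at hs hu ht2 h2s hβ hc
  have hMc := hM.1
  have hN := hu.1
  obtain ⟨q, hq, hqd, hqN⟩ : ∃ q : ℕ, q.Prime ∧ q ∣ Nat.card M ∧ q ∈ sigma N := by
    by_contra hc
    exact hs fun q hq hd h => hc ⟨q, hq, hd, h⟩
  have hqs : q ∉ sigma M := fun h => hc (conjg_of_mem_sigma hMc hN h hqN)
  obtain ⟨p, hp, hpd⟩ := exists_prime_dvd_orderOf hx.1
  have hp2 := ht2 p hp hpd
  have hps := hM.piNat p hp hpd
  have hF : IsMF M := isMF_of_not_isMP hMc fun hP => by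
    obtain ⟨Z, K, Ms, Ks, hd⟩ := exists_pdual' hP
    have h1 : IsPiSubgroup (sigma M ∪ kappa M) M := by_contra fun h1 =>
      (tau2_not_beta hN hp2).1 (beta_ideal (P2type_sigma_beta ⟨hP, h1⟩ ▸ hps))
    obtain ⟨g, rfl⟩ := conjg_of_mem_sigma hd.r.mmax hN (sigma_of_dvd_Msigma hq hd.symm.le_sigma
      (hd.l.hall.prime_dvd hq ((h1 q hq hqd).resolve_left hqs) hqd)) hqN
    rw [tau2_conj] at hp2
    have := Fact.mk hp
    exact tau2_not_rank1 hp2 ((PG.pRankLE_iff_of_isPiHallOf hd.hall_sigma hps).1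
      (PG.pRankLE_one_of_isCyclic hp hd.symm.cycK))
  obtain ⟨Q, hQ⟩ := exists_pnElem_one hq hqd
  obtain ⟨E, hE, hQE⟩ := ex_sigma_compl hMc hQ.le (isPi_of_isPGroup_mem hq hQ.isPGroup hqs)
  have h2 : ∀ r, r ∉ tau2 M := fun r hr2 => by
    have hr := tau2_prime hr2
    have hrN : PRankLE r 1 N := by
      by_contra hrk
      by_cases hrs : r ∈ sigma N
      · exact (tau2_not_beta hMc hr2).1 (beta_ideal (hβ r hrs (tau2_dvd hr2)))
      · exact tau2_not_sigma hr2 (h2s ⟨hr, hrs, pRankLE_of_not_sigma hN hr hrs, hrk⟩)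
    obtain ⟨S, hS⟩ := exists_syl hq N
    obtain ⟨g, -, hg⟩ := syl_exists_le_conj hq (sigma_Sylow_G hqN hS) hQ.isPGroup le_top
    obtain ⟨T, hT⟩ := exists_syl hq Mσ[cj[g] N]
    have hCQ : C[Q] ≤ cj[g] N := (cent_der_sigma_uniq (isCoatom_conj g hN) hq
      (hQ.of_le (hg.trans (conj_mono g hS.le))) hT
      (Or.inl (by rw [beta_conj]; exact hβ q hqN hqd))).1.le
    obtain ⟨A, hA⟩ := ex_tau2Elem hE hr2
    have hAn := (tau2_compl_context hMc hE hr2 hA).1.1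
    have hnc : ¬ Q ≤ C[A] := fun h => PG.pnElem_not_pRankLE hr
      (hA.of_le ((le_cent_symm h).trans hCQ)) (pRankLE_conj_iff.2 hrN)
    have hq1 : q ∈ tau1 M := tau1_cent_tau2Elem_factor hMc hE hr2 hA q hq
      (dvd_relIndex_of_pnElem_not_le hq (hQ.of_le hQE) (le_norm_cent hAn) hnc)
    obtain ⟨⟨h3, h4, -⟩, h5, h6, -⟩ := tau1_act_tau2 hMc hE hr2 hA hq1 (hQ.of_le hQE)
      (not_kappa_regular (Or.inl hq1) hF.not_kappa hQ)
      fun h => hnc (le_cent_iff_commutator_eq_bot'.2 h)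
    have h7 : PnElem r 1 N ⁅A, Q⁆ :=
      h3.of_le (h4.ge.trans (inf_le_right.trans ((cent_le_cent1 hM.2).trans hu.le)))
    obtain ⟨a, -, e⟩ := rank1_pnElem_conj hr (pRankLE_conj_iff.2 hrN)
      (h6.of_le (inf_le_right.trans hCQ)) (h7.conj g)
    exact h5 (Conjg.trans ⟨a, e⟩ (conjg_conj g _).symm)
  refine ⟨hF, fun r _ _ => h2 r, E, sdprod_sigma hMc hE, Msigma_neq1 hMc, sigma_compl_neq1 hMc hE,
    semiregular_of_card_prime fun X hX hXp => not_kappa_regular ?_ hF.not_kappa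
      ((pnElem_one_iff hXp).2 ⟨hX.trans hE.le, rfl⟩)⟩
  have := (partition_pi_sigma_compl hMc hE hXp).1 (card_dvd_of_le hX)
  have := h2 (Nat.card X)
  tauto

end Cfsg.Agent.BG
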