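import Cfsg.Agent.BG.S13
import Cfsg.Agent.BG.S03

/-! Bender–Glauberman §14, first part (14.1–14.3). -/

set_option autoImplicit false
set_option linter.unusedSectionVars false
set_option linter.unusedVariables false

namespace Cfsg.Agent.BG

open Subgroup Cfsg.Agent.GT

universe u

variable {G : Type u} [Group G] [Finite G] [MFT G]
variable {A A₀ B D E E₁ E₂ E₃ H K L M Ms N P Q R S U V W W₁ W₂ X Y : Subgroup G} {p q r : ℕ}
  {g x y : G} {π : Set ℕ}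

theorem kappa_tau13 (h : p ∈ kappa M) : p ∈ tau1 M ∨ p ∈ tau3 M := (mem_kappa_iff.1 h).1

theorem kappa_dvd (h : p ∈ kappa M) : p ∣ Nat.card M := h.2.1

theorem kappa_not_tau2 (h : p ∈ kappa M) : p ∉ tau2 M := tau13_not_tau2 (kappa_tau13 h)

theorem kappa_sigma' (h : IsPiSubgroup (kappa M) K) : IsPiSubgroup (sigma M)ᶜ K :=
  h.mono fun _ h => kappa_not_sigma h

theorem rank1_pnElem_conj (hp : p.Prime) (hr : PRankLE p 1 M) (hP : PnElem p 1 M P)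
    (hQ : PnElem p 1 M Q) : ∃ g ∈ M, Q = cj[g] P := by
  obtain ⟨S, hS, hQS⟩ := exists_syl_ge hp hQ.isPGroup hQ.le
  obtain ⟨g, hg, hPS⟩ := syl_exists_conj_le hp hS hP.isPGroup hP.le
  exact ⟨g, hg, PG.eq_of_isCyclic_of_card_eq hp
    (mFT_rank1_cyclic hp (syl_isPGroup hp hS) (pRankLE_of_le hr hS.le)) hQS hPS hQ.card_one
    (by rw [card_conj, hP.card_one])⟩

theorem kappa_nonregular (h : p ∈ kappa M) (hP : PnElem p 1 M P) : Mσ[M] ⊓ C[P] ≠ ⊥ := by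
  obtain ⟨h1, P₀, hP₀, hC⟩ := mem_kappa_iff.1 h
  obtain ⟨g, hg, rfl⟩ := rank1_pnElem_conj (kappa_prime h) (tau13_rank h1) hP₀ hP
  rwa [← conj_Msigma_inf_cent hg, Ne, conj_eq_bot_iff]

theorem not_kappa_regular (hp : p ∈ tau1 M ∨ p ∈ tau3 M) (h : p ∉ kappa M) (hP : PnElem p 1 M P) :
    Mσ[M] ⊓ C[P] = ⊥ := by_contra fun hc => h (mem_kappa_iff.2 ⟨hp, P, hP, hc⟩)

theorem kappa_hall_compl (hE : IsPiHallOf (sigma M)ᶜ E M) (hU : IsPiHallOf (kappa M)ᶜ U E) :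
    IsPiHallOf (sigma M ∪ kappa M)ᶜ U M := by
  rw [Set.compl_union, Set.inter_comm]; exact hU.trans_inter hE

theorem ex_kappa_compl (hM : IsCoatom M) (hK : IsPiHallOf (kappa M) K M) :
    ∃ U, KappaCompl M U K := by
  obtain ⟨E, hE, hKE⟩ := ex_sigma_compl hM hK.le (kappa_sigma' hK.isPi)
  obtain ⟨U, hU⟩ := exists_hall (kappa M)ᶜ (sigma_compl_sol hM hE)
  have h := hU.isComplIn' (hK.of_le hKE hE.le)
  exact ⟨U, hK, kappa_hall_compl hE hU, fun x hx => h.exists_mul (h.sup_eq ▸ hx)⟩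

theorem kappa'_iff : IsPiSubgroup (kappa M)ᶜ M ↔ kappa M = ∅ :=
  ⟨fun h => Set.eq_empty_of_forall_notMem fun p hp => h p (kappa_prime hp) (kappa_dvd hp) hp,
    fun h p _ _ hp => by rw [h] at hp; exact hp⟩

theorem FtypeP : IsMF M ↔ IsCoatom M ∧ kappa M = ∅ := and_congr_right fun _ => kappa'_iff
theorem PtypeP : IsMP M ↔ IsCoatom M ∧ (kappa M).Nonempty :=
  and_congr_right fun _ => by rw [kappa'_iff, Set.nonempty_iff_ne_empty]
theorem IsMF.not_kappa (h : IsMF M) : p ∉ kappa M := by rw [(FtypeP.1 h).2]; exact id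
theorem isMP_of_kappa (hM : IsCoatom M) (h : p ∈ kappa M) : IsMP M := PtypeP.2 ⟨hM, p, h⟩
theorem isMF_of_not_isMP (hM : IsCoatom M) (h : ¬ IsMP M) : IsMF M :=
  ⟨hM, by_contra fun h' => h ⟨hM, h'⟩⟩
theorem trivg_kappa (hM : IsCoatom M) (hK : IsPiHallOf (kappa M) K M) : K = ⊥ ↔ IsMF M :=
  ⟨fun h => ⟨hM, (h ▸ hK).isPi_compl_of_eq_bot⟩, fun h => hK.eq_bot h.2⟩
theorem trivgPmax (hM : IsCoatom M) (hK : IsPiHallOf (kappa M) K M) : IsMP M ↔ K ≠ ⊥ :=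
  ⟨fun h h' => h.2 ((trivg_kappa hM hK).1 h').2,
    fun h => ⟨hM, fun h' => h ((trivg_kappa hM hK).2 ⟨hM, h'⟩)⟩⟩

theorem mmax_not_sigma (hM : IsCoatom M) : ¬ IsPiSubgroup (sigma M) M := fun h =>
  (mmax_der1_lt hM).not_ge (sigma_group_le_der1 hM h le_rfl)

theorem IsMF.not_sigma_kappa (h : IsMF M) : ¬ IsPiSubgroup (sigma M ∪ kappa M) M := fun h' =>
  mmax_not_sigma h.1 (by rwa [(FtypeP.1 h).2, Set.union_empty] at h')

theorem isMP1_iff (hM : IsCoatom M) : IsMP1 M ↔ IsPiSubgroup (sigma M ∪ kappa M) M :=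
  ⟨fun h => h.2, fun h => ⟨⟨hM, fun h' => IsMF.not_sigma_kappa ⟨hM, h'⟩ h⟩, h⟩⟩

theorem trivg_kappa_compl (hM : IsCoatom M) (hU : KappaCompl M U K) : U = ⊥ ↔ IsMP1 M := by
  rw [isMP1_iff hM]
  refine ⟨fun h => ?_, fun h => hU.2.1.eq_bot (by rwa [compl_compl])⟩
  have := (h ▸ hU.2.1).isPi_compl_of_eq_bot
  rwa [compl_compl] at this
theorem FtypeJ : IsMF (cj[g] M) ↔ IsMF M := by
  simp only [IsMF, isCoatom_conj_iff, kappa_conj, isPiSubgroup_cj]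
theorem PtypeJ : IsMP (cj[g] M) ↔ IsMP M := by
  simp only [IsMP, isCoatom_conj_iff, kappa_conj, isPiSubgroup_cj]
theorem P1typeJ : IsMP1 (cj[g] M) ↔ IsMP1 M := by
  simp only [IsMP1, PtypeJ, kappa_conj, sigma_conj, isPiSubgroup_cj]
theorem P2typeJ : IsMP2 (cj[g] M) ↔ IsMP2 M := by
  simp only [IsMP2, PtypeJ, kappa_conj, sigma_conj, isPiSubgroup_cj]
theorem mmax_type_cases (hM : IsCoatom M) : IsMF M ∨ IsMP1 M ∨ IsMP2 M := by
  unfold IsMP1 IsMP2 IsMP IsMF; tauto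
theorem notP1type_iff (hM : IsCoatom M) : ¬ IsMP1 M ↔ IsMF M ∨ IsMP2 M := by
  refine ⟨fun h => ?_, fun h h' => h.elim (fun h => h'.1.2 h.2) fun h => h.2 h'.2⟩
  have := mmax_type_cases hM
  tauto

/-- 14.1 -/
theorem sigma'_kappa'_facts (hM : IsCoatom M) (hp : p.Prime) (hS : IsPiHallOf {p} S M)
    (hpM : p ∣ Nat.card M) (hs : p ∉ sigma M) (hk : p ∉ kappa M) :
    (IsMF M ∨ IsMP2 M) ∧ Nat.card (omegaOne p S) ≤ p ^ 2 ∧ Mσ[M] ⊓ C[omegaOne p S] = ⊥ ∧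
    Group.IsNilpotent Mσ[M] := by
  refine ⟨(notP1type_iff hM).1 fun h => (h.2 p hp hpM).elim hs hk, ?_⟩
  by_cases h2 : p ∈ tau2 M
  · obtain ⟨A, hA⟩ := PG.exists_pnElem_of_not_pRankLE hp
      (fun h => tau2_not_rank1 h2 ((syl_pRankLE_iff hp hS).1 h))
    obtain ⟨h3, -, h4, -⟩ := tau2_context hM h2 (hA.mono hS.le)
    rw [(h3 S hS hA.le).1]
    exact ⟨hA.card.le, h4, tau2_Msigma_nil hM h2⟩
  · have h13 : p ∈ tau1 M ∨ p ∈ tau3 M := by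
      have := partition_pi_sigma' hM hp hs hpM
      tauto
    have hc := PG.card_omegaOne_of_isCyclic_of_dvd hp
      (tau13_pgroup_cyclic h13 (syl_isPGroup hp hS) hS.le) (hS.prime_dvd hp rfl hpM)
    have hP : PnElem p 1 M (omegaOne p S) :=
      (pnElem_one_iff hp).2 ⟨(omegaOne_le' p S).trans hS.le, hc⟩
    have h0 := not_kappa_regular h13 hk hP
    exact ⟨by rw [hc]; nlinarith [hp.one_lt], h0,
      prime_regular_sol_nil (hP.le.trans (le_norm_sigmaCore M)) (sub_mmax_sol hM (sigmaCore_le M))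
        (hP.card_prime hp) h0⟩

theorem notP1type_Msigma_nil (h : IsMF M ∨ IsMP2 M) : Group.IsNilpotent Mσ[M] := by
  have hM : IsCoatom M := h.elim (·.1) (·.1.1)
  have h1 := (notP1type_iff hM).2 h
  rw [isMP1_iff hM] at h1
  obtain ⟨p, hp, hd, h2⟩ : ∃ p : ℕ, p.Prime ∧ p ∣ Nat.card M ∧ p ∉ sigma M ∪ kappa M := by
    by_contra hc
    exact h1 fun p hp hd => by_contra fun h' => hc ⟨p, hp, hd, h'⟩
  obtain ⟨S, hS⟩ := exists_syl hp M
  exact (sigma'_kappa'_facts hM hp hS hd (fun h => h2 (Or.inl h)) fun h => h2 (Or.inr h)).2.2.2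

/-- a nontrivial Hall `(σ ∪ κ)'`-subgroup has trivial centraliser in `M_σ` -/
theorem cent_Msigma_kappa_compl (hM : IsCoatom M) (hU : IsPiHallOf (sigma M ∪ kappa M)ᶜ U M)
    (hU1 : U ≠ ⊥) : Mσ[M] ⊓ C[U] = ⊥ := by
  obtain ⟨p, hp, hd⟩ := exists_prime_dvd_card hU1
  obtain ⟨S, hS⟩ := exists_syl hp U
  have h := hU.isPi p hp hd
  have := (sigma'_kappa'_facts hM hp (hS.trans_single hU h) (hd.trans (card_dvd_of_le hU.le))
    (fun h' => h (Or.inl h')) fun h' => h (Or.inr h')).2.2.1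
  exact le_bot_iff.1 (this ▸ inf_le_inf_left _ (cent_anti ((omegaOne_le' p S).trans hS.le)))

/-- the facts on `K` behind 14.2(a) -/
theorem kappa_facts (hM : IsCoatom M) (hE : IsPiHallOf (sigma M)ᶜ E M)
    (hK : IsPiHallOf (kappa M) K M) (hKE : K ≤ E) (hK1 : K ≠ ⊥) :
    Semiprime Mσ[M] K ∧ (∃ P, P ≤ K ∧ P ≠ ⊥ ∧ IsPiSubgroup (tau1 M) P) ∧
    (∀ X, X ≤ K → (Nat.card X).Prime → K ≤ N[X]) ∧
    (∀ U, IsPiHallOf (kappa M)ᶜ U E → E ≤ N[U] ∧ Semiregular U K) ∧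
    (IsCyclic K → kappa M = tau1 M) := by
  obtain ⟨E₁, E₃, h₁, h₃, -, hK₁, -⟩ := ex_tau13_compl hM hE hKE
    (hK.isPi.mono fun _ h => kappa_tau13 h)
  obtain ⟨E₂, hEs⟩ := ex_tau2_compl hM hE h₁ h₃
  obtain ⟨⟨h3d, h3n⟩, -, ⟨hc1, hc3⟩, ⟨-, -, -, hsd⟩, -⟩ := sigma_compl_context hM hEs
  have hKE' := hK.of_le hKE hE.le
  obtain ⟨X₀, hX₀, hX₀p⟩ := exists_le_card_prime hK1
  have hX₀κ : Nat.card X₀ ∈ kappa M := hK.isPi _ hX₀p (card_dvd_of_le hX₀)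
  have hX₀C := kappa_nonregular hX₀κ ((pnElem_one_iff hX₀p).2 ⟨hX₀.trans hK.le, rfl⟩)
  by_cases hreg : Semiregular Mσ[M] E₃
  · have hκ1 : kappa M ⊆ tau1 M := fun p hp => (kappa_tau13 hp).resolve_right fun h => by
      have hpp := kappa_prime hp
      obtain ⟨P, hP⟩ := exists_pnElem_one hpp (h₃.prime_dvd hpp h
        ((partition_pi_sigma_compl hM hE hpp).2 (Or.inr (Or.inr h))))
      exact kappa_nonregular hp (hP.mono (h₃.le.trans hE.le)) (hreg.inf_cent hP.le (hP.ne_bot hpp))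
    replace hK₁ := hK₁ (hK.isPi.mono hκ1)
    have pr1 := tau1_primact_Msigma hM hE h₁
    have hC1 : Mσ[M] ⊓ C[E₁] ≠ ⊥ := by
      rwa [← pr1.inf_cent (hX₀.trans hK₁) (ne_bot_of_card_prime hX₀p)]
    have hκ : kappa M = tau1 M := Set.Subset.antisymm hκ1 fun p hp => by
      have hpp := tau1_prime hp
      obtain ⟨P, hP⟩ := exists_pnElem_one hpp (h₁.prime_dvd hpp hp
        ((partition_pi_sigma_compl hM hE hpp).2 (Or.inl hp)))
      exact mem_kappa_iff.2 ⟨Or.inl hp, P, hP.mono (h₁.le.trans hE.le),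
        by rwa [pr1.inf_cent hP.le (hP.ne_bot hpp)]⟩
    have hKe : K = E₁ := (hκ ▸ hKE').eq_of_le_hall h₁ hK₁
    subst hKe
    refine ⟨pr1, ⟨K, le_rfl, hK1, h₁.isPi⟩, fun X hX _ => PG.le_norm_of_isCyclic hc1 hX le_normalizer,
      fun U hU => ?_, fun _ => hκ⟩
    have hU' : U = E₃ ⊔ E₂ := (hKE'.compl hsd.compl.symm).eq_of_normal hsd.norm hU
    refine ⟨hU' ▸ hsd.norm, Semiregular.symm (semiregular_of_card_prime fun Y hY hYp => ?_)⟩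
    by_contra hne
    obtain ⟨P, hP, hPp⟩ := exists_le_card_prime hne
    have hPK : P ≤ K := hP.trans inf_le_left
    have hPκ : Nat.card P ∈ kappa M := hK.isPi _ hPp (card_dvd_of_le hPK)
    have hPE : PnElem (Nat.card P) 1 E P := (pnElem_one_iff hPp).2 ⟨hPK.trans hKE, rfl⟩
    have hYE : PnElem (Nat.card Y) 1 E Y := (pnElem_one_iff hYp).2 ⟨hY.trans hU.le, rfl⟩
    have hYP : Y ≤ C[P] := le_cent_symm (hP.trans inf_le_right)
    have hY1 := ne_bot_of_card_prime hYp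
    rcases (partition_pi_sigma_compl hM hE hYp).1 hYE.dvd_card with h | h | h
    · exact hU.isPi _ hYp (card_dvd_of_le hY) (hκ ▸ h)
    · obtain ⟨A, hA⟩ := ex_tau2Elem hE h
      exact kappa_nonregular hPκ (hPE.mono hE.le) (tau12_regular hM hE (hκ1 hPκ) hPE h hA
        (ne_bot_of_le hY1 (le_inf ((tau2_compl_context hM hE h hA).1.2 Y hYE) hYP)))
    · have hY3 : Y ≤ E₃ :=
        h₃.le_of_normal h3n hYE.le (isPi_of_isPGroup_mem hYp hYE.isPGroup h)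
      have hpr := tau13_primact_Msigma hM hEs hK1 fun h' => hY1
        (le_bot_iff.1 (h'.inf_cent hPK (ne_bot_of_card_prime hPp) ▸ le_inf hY3 hYP))
      refine hC1 ?_
      rw [hpr.inf_cent le_sup_right hK1, ← hpr.inf_cent (hY3.trans le_sup_left) hY1]
      exact hreg.inf_cent hY3 hY1
  · obtain ⟨h1, hsup, hpr, hn⟩ := tau13_nonregular hM hEs hreg
    have hC : Mσ[M] ⊓ C[E] ≠ ⊥ := by
      rwa [← hpr.inf_cent (hX₀.trans hKE) (ne_bot_of_card_prime hX₀p)]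
    have hEκ : IsPiSubgroup (kappa M) E := fun p hp hd => by
      obtain ⟨P, hP⟩ := exists_pnElem_one hp hd
      refine mem_kappa_iff.2 ⟨?_, P, hP.mono hE.le, by rwa [hpr.inf_cent hP.le (hP.ne_bot hp)]⟩
      rw [← hsup] at hd
      exact (hp.dvd_mul.1 (hd.trans (card_sup_dvd (Or.inr (h₁.le.trans h3n))))).symm.imp
        (h₁.isPi p hp) (h₃.isPi p hp)
    have hKe : K = E := hKE'.eq_self hEκ
    subst hKe
    refine ⟨hpr, ⟨E₁, h₁.le, h1, h₁.isPi⟩, hn, fun U hU => ?_, fun hc => absurd ?_ hreg⟩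
    · rw [hU.eq_bot (by rwa [compl_compl]), norm_bot]
      exact ⟨le_top, semiregular_bot_left _⟩
    · rw [le_bot_iff.1 (h3d.trans (le_cent_iff_commutator_eq_bot.1
        (comm_iff_le_cent.1 (isMulCommutative_of_isCyclic hc))).le)]
      exact semiregular_bot_right _

theorem KappaCompl.hallE (hU : KappaCompl M U K) :
    IsPiHallOf (sigma M)ᶜ (U ⊔ K) M ∧ IsPiHallOf (kappa M)ᶜ U (U ⊔ K) := by
  obtain ⟨hK, hU', hpr⟩ := hU
  have hUκ : IsPiSubgroup (kappa M)ᶜ U := hU'.isPi.mono fun _ h h' => h (Or.inr h')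
  have hc : IsComplIn U K (U ⊔ K) := ⟨le_sup_left, le_sup_right, hUκ.inf_eq_bot' hK.isPi, hpr⟩
  have hle : U ⊔ K ≤ M := sup_le hU'.le hK.le
  refine ⟨isPiHallOf_mk hle ?_ ?_, (isPiHallOf_of_isComplIn hc hUκ (by rw [compl_compl]; exact hK.isPi))⟩
  · rw [isPiSubgroup_iff, ← hc.card_mul]
    exact (hU'.isPi.mono fun _ h h' => h (Or.inl h')).piNat.mul (kappa_sigma' hK.isPi).piNat
  · intro p hp hd
    have h1 := hU'.idx_of_le (le_sup_left : U ≤ U ⊔ K) p hp hd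
    have h2 := hK.idx_of_le (le_sup_right : K ≤ U ⊔ K) p hp hd
    rw [compl_compl] at h1 ⊢
    exact h1.resolve_right h2

/-- 14.2(a) -/
theorem kappa_compl_context (hM : IsCoatom M) (hU : KappaCompl M U K) :
    IsPiHallOf (sigma M)ᶜ (U ⊔ K) M ∧ Sdprod U K (U ⊔ K) ∧ Sdprod Mσ[M] (U ⊔ K) M ∧
    Semiprime Mσ[M] K ∧ Semiregular U K ∧ (K ≠ ⊥ → IsMulCommutative U) := by
  obtain ⟨hE, hUE⟩ := hU.hallE
  have hK := hU.1
  by_cases hK1 : K = ⊥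
  · subst hK1
    exact ⟨hE, sdprod_sup bot_le (inf_bot_eq _), sdprod_sigma hM hE,
      (semiregular_bot_right _).semiprime, semiregular_bot_right _, fun h => absurd rfl h⟩
  obtain ⟨h1, -, -, h2, -⟩ := kappa_facts hM hE hK le_sup_right hK1
  obtain ⟨hn, hreg⟩ := h2 U hUE
  have hKn : K ≤ N[U] := le_sup_right.trans hn
  refine ⟨hE, sdprod_sup hKn hreg.inf_eq_bot, sdprod_sigma hM hE, h1, hreg, fun _ => ?_⟩
  refine isMulCommutative_of_le (der_mmax_compl_abelian hM hE) ?_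
  conv_lhs => rw [← commutator_eq_of_reg (Or.inl (sub_mmax_sol hM hU.2.1.le)) hKn
    (semiregular_coprime hreg hKn) (hreg.inf_cent le_rfl hK1)]
  exact commutator_mono le_sup_left le_sup_right

theorem KappaCompl.commutator_eq (hU : KappaCompl M U K) (hM : IsCoatom M) (hK1 : K ≠ ⊥) :
    ⁅U, K⁆ = U := by
  obtain ⟨-, hsd, -, -, hreg, -⟩ := kappa_compl_context hM hU
  exact commutator_eq_of_reg (Or.inl (sub_mmax_sol hM hU.2.1.le)) hsd.right_norm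
    (semiregular_coprime hreg hsd.right_norm) (hreg.inf_cent le_rfl hK1)

theorem KappaCompl.sdprod_der (hU : KappaCompl M U K) (hM : IsCoatom M) :
    Sdprod (Mσ[M] ⊔ U) K M := by
  obtain ⟨-, hsd, hsd', -⟩ := kappa_compl_context hM hU
  have hUM := hU.2.1.le
  refine sdprod_mk (le_norm_sup (hU.1.le.trans (le_norm_sigmaCore M)) hsd.right_norm)
    (IsPiSubgroup.inf_eq_bot' (IsPiSubgroup.sup
      ((sigmaCore_isPi M).mono fun _ h h' => kappa_not_sigma h' h)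
      (hU.2.1.isPi.mono fun _ h h' => h (Or.inr h')) (Or.inr (hUM.trans (le_norm_sigmaCore M))))
      hU.1.isPi) ?_
  rw [sup_assoc, hsd'.sup_eq]

theorem kappa_norm_eq (hM : IsCoatom M) (hK : IsPiHallOf (kappa M) K M) (hX : X ≤ K) (hX1 : X ≠ ⊥)
    (hn : K ≤ N[X]) : M ⊓ N[X] = K ⊔ (Mσ[M] ⊓ C[K]) := by
  obtain ⟨U, hU⟩ := ex_kappa_compl hM hK
  obtain ⟨-, hsd, hsd', hpr, hreg, -⟩ := kappa_compl_context hM hU
  have h := hU.sdprod_der hM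
  have hUM := hU.2.1.le
  have hXs : X ≤ N[Mσ[M]] := (hX.trans hK.le).trans (le_norm_sigmaCore M)
  conv_lhs => rw [← h.sup_eq, dedekind' (Or.inr h.right_norm) hn,
    inf_norm_eq_inf_cent (hX.trans h.right_norm)
      (le_bot_iff.1 (h.inf_eq ▸ inf_le_inf_left _ hX)),
    cent_sup_of_inf_eq_bot hXs (hX.trans hsd.right_norm)
      (le_bot_iff.1 (hsd'.inf_eq ▸ inf_le_inf_left _ le_sup_left))
      (Or.inr (hUM.trans (le_norm_sigmaCore M))), hpr.inf_cent hX hX1, hreg.inf_cent hX hX1,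
    sup_bot_eq, sup_comm]

theorem kappa_primact (hM : IsCoatom M) (hK : IsPiHallOf (kappa M) K M) : Semiprime Mσ[M] K := by
  obtain ⟨U, hU⟩ := ex_kappa_compl hM hK
  exact (kappa_compl_context hM hU).2.2.2.1

theorem kappa_dprod (hK : IsPiHallOf (kappa M) K M) :
    Dprod K (Mσ[M] ⊓ C[K]) (K ⊔ (Mσ[M] ⊓ C[K])) :=
  dprod_sup (le_cent_symm inf_le_right)
    ((kappa_sigma' hK.isPi).inf_eq_bot' (sigmaCore_isPi M).inf_left)

/-- 14.2(b–g) -/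
theorem Ptype_structure (hM : IsMP M) (hK : IsPiHallOf (kappa M) K M) :
    (Dprod K (Mσ[M] ⊓ C[K]) (M ⊓ N[K]) ∧
      ∀ X : Subgroup G, X ≤ K → (Nat.card X).Prime →
        M ⊓ N[X] = M ⊓ N[K] ∧ ∀ Ms, IsCoatom Ms → N[X] ≤ Ms → X ≤ Mσ[Ms]) ∧
    (Mσ[M] ⊓ C[K] ≠ ⊥ ∧
      ∀ X : Subgroup G, X ≤ Mσ[M] ⊓ C[K] → (Nat.card X).Prime → UMax C[X] M) ∧
    ((∀ g, g ∉ M → Mσ[M] ⊓ C[K] ⊓ cj[g] M = ⊥) ∧ ∀ g ∈ M, g ∉ N[K] → K ⊓ cj[g] K = ⊥) ∧
    (∀ (p : ℕ) (S : Subgroup G), p.Prime → p ∣ Nat.card ↥(Mσ[M] ⊓ C[K]) →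
      IsPiHallOf {p} S Mσ[M] → UMax S M ∧ ¬ S ≤ Mσ[M] ⊓ C[K]) ∧
    (∀ Y : Subgroup G, IsPiSubgroup (sigma M) Y → Y ⊓ (Mσ[M] ⊓ C[K]) ≠ ⊥ → Y ≤ Mσ[M]) ∧
    (IsMP2 M → sigma M = beta M ∧ (Nat.card K).Prime ∧ Group.IsNilpotent Mσ[M] ∧
      NormedTI (sharp Mσ[M]) ⊤ M) := by
  have hMc := hM.1
  have hK1 := (trivgPmax hMc hK).1 hM
  obtain ⟨U, hU⟩ := ex_kappa_compl hMc hK
  obtain ⟨hE, hsd, hsd', hpr, hreg, hab⟩ := kappa_compl_context hMc hU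
  obtain ⟨-, ⟨P, hPK, hP1, hPτ⟩, hnX, -⟩ := kappa_facts hMc hE hK le_sup_right hK1
  have hNK := kappa_norm_eq hMc hK le_rfl hK1 le_normalizer
  have hκ : ∀ X : Subgroup G, X ≤ K → (Nat.card X).Prime → Nat.card X ∈ kappa M :=
    fun X hX hXp => hK.isPi _ hXp (card_dvd_of_le hX)
  have hb : ∀ X : Subgroup G, X ≤ K → (Nat.card X).Prime → M ⊓ N[X] = M ⊓ N[K] := fun X hX hXp => by
    rw [hNK, kappa_norm_eq hMc hK hX (ne_bot_of_card_prime hXp) (hnX X hX hXp)]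
  obtain ⟨X₀, hX₀, hX₀p⟩ := exists_le_card_prime hK1
  have hKs1 : Mσ[M] ⊓ C[K] ≠ ⊥ := by
    rw [← hpr.inf_cent hX₀ (ne_bot_of_card_prime hX₀p)]
    exact kappa_nonregular (hκ X₀ hX₀ hX₀p) ((pnElem_one_iff hX₀p).2 ⟨hX₀.trans hK.le, rfl⟩)
  have hu : ∀ (q : ℕ) (X : Subgroup G), q.Prime → PnElem q 1 (Mσ[M] ⊓ C[K]) X →
      UMax C[X] M ∧ ∀ S, IsPiHallOf {q} S Mσ[M] → UMax S M := fun q X hq hX =>
    cent_cent_Msigma_tau1_uniq' hMc (hPK.trans hK.le) hPτ hP1 hq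
      (hX.mono (inf_le_inf_left _ (cent_anti hPK)))
  have hd : ∀ g, g ∉ M → Mσ[M] ⊓ C[K] ⊓ cj[g] M = ⊥ := fun g hg => by
    by_contra hne
    obtain ⟨X, hX, hXp⟩ := exists_le_card_prime hne
    have hXs : X ≤ Mσ[M] := hX.trans (inf_le_left.trans inf_le_left)
    exact hg (sigma_group_trans_cent hMc (sigma_of_dvd_Msigma hXp hXs dvd_rfl)
      (isPGroup_of_card_eq_prime rfl) (hXs.trans (sigmaCore_le M))
      (hu _ X hXp ((pnElem_one_iff hXp).2 ⟨hX.trans inf_le_left, rfl⟩)).1.le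
      (hX.trans inf_le_right))
  refine ⟨⟨hNK ▸ kappa_dprod hK, fun X hX hXp => ⟨hb X hX hXp, fun L hL hn => ?_⟩⟩,
    ⟨hKs1, fun X hX hXp => (hu _ X hXp ((pnElem_one_iff hXp).2 ⟨hX, rfl⟩)).1⟩,
    ⟨hd, fun g hg hgK => ?_⟩, fun p S hp hpd hS => ?_, fun Y hY hne => ?_, fun h2 => ?_⟩
  · have hXE : PnElem (Nat.card X) 1 (U ⊔ K) X :=
      (pnElem_one_iff hXp).2 ⟨hX.trans le_sup_right, rfl⟩
    exact pgroup_le_Msigma hL (tau13_nonregular_sigma hMc hE hXE (kappa_tau13 (hκ X hX hXp))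
      (kappa_nonregular (hκ X hX hXp) (hXE.mono hE.le)) hL hn) hXE.isPGroup
      (le_normalizer.trans hn)
  · by_contra hne
    obtain ⟨X, hX, hXp⟩ := exists_le_card_prime hne
    have h1 : cj[g⁻¹] X ≤ K := le_conj_iff.1 (hX.trans inf_le_right)
    have h2 : K ≤ N[cj[g⁻¹] X] := hnX _ h1 (by rwa [card_conj])
    rw [← conj_normalizer, le_conj_iff, inv_inv] at h2
    have h3 : cj[g] K ≤ M ⊓ N[K] :=
      hb X (hX.trans inf_le_left) hXp ▸ le_inf (conj_le_of_mem hg hK.le) h2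
    exact hgK (mem_normalizer_of_conj_le (hK.le_of_norm (h3.trans inf_le_left)
      (isPiSubgroup_cj.2 hK.isPi) (Or.inl (h3.trans inf_le_right))))
  · obtain ⟨X, hX⟩ := exists_pnElem_one hp hpd
    have h1 := (hu p X hp hX).2 S hS
    refine ⟨h1, fun h => ?_⟩
    obtain ⟨L, hL, hn⟩ := exists_mmax_norm_of_card_prime hX₀p
    refine tau13_not_norm_le hMc (kappa_tau13 (hκ X₀ hX₀ hX₀p)) (isPGroup_of_card_eq_prime rfl) ?_
    exact h1.eq hL ((h.trans (inf_le_right.trans (cent_anti hX₀))).trans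
      ((cent_le_norm _).trans hn)) ▸ hn
  · obtain ⟨g, hg⟩ := (sigma_Jsub hMc hY (ne_bot_of_le hne inf_le_left)).1
    have h1 : Y ≤ cj[g⁻¹] M := conj_le_iff.1 (hg.trans (sigmaCore_le M))
    have h2 : g⁻¹ ∈ M := by_contra fun h => hne (le_bot_iff.1 (hd _ h ▸
      le_inf inf_le_right (inf_le_left.trans h1)))
    exact le_Msigma hMc (by rwa [conj_eq_self_of_mem h2] at h1) hY
  · have hU1 : U ≠ ⊥ := fun h => h2.2 ((trivg_kappa_compl hMc hU).1 h).2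
    have hCU := cent_Msigma_kappa_compl hMc hU.2.1 hU1
    have hσβ : sigma M = beta M := by
      obtain ⟨H, hH, hHc⟩ := der_compl_cent_beta' hMc hE
      have hH1 : H = ⊥ := le_bot_iff.1 (hCU ▸ le_inf hH.le (le_cent_symm (le_trans (by
        conv_lhs => rw [← hU.commutator_eq hMc hK1]
        exact commutator_mono le_sup_left le_sup_right) hHc)))
      have := (hH1 ▸ hH).isPi_compl_of_eq_bot
      rw [compl_compl] at this
      exact Set.Subset.antisymm (fun p hp => this p (sigma_prime hp)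
        ((pi_Msigma hMc (sigma_prime hp)).2 hp)) (beta_sub_sigma hMc)
    refine ⟨hσβ, (Frobenius_primact ⟨hsd, hU1, hK1, hreg⟩ (sigma_compl_sol hMc hE)
      hsd'.right_norm (coprime_Msigma hE.isPi) (sub_mmax_sol hMc (sigmaCore_le M))
      (Msigma_neq1 hMc) hpr hCU).1, notP1type_Msigma_nil (Or.inr h2), ?_⟩
    rw [normedTI_sharp_iff, isTISubset_iff_inf_conj, norm_Msigma hMc]
    refine ⟨Msigma_neq1 hMc, fun g hg => ?_, rfl⟩
    have h3 := ((sigma_compl_embedding hMc hE).2.2 g hg).2.1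
    rw [← hσβ] at h3
    exact le_bot_iff.1 (((sigmaCore_isPi M).inf_left.eq_bot h3) ▸
      inf_le_inf_left _ (conj_mono g (sigmaCore_le M)))

theorem ell1_of_sigma_elt (hM : IsCoatom M) (hx1 : x ≠ 1) (hx : PiNat (sigma M) (orderOf x)) :
    Ell1 x := by
  obtain ⟨g, hg⟩ := (sigma_Jsub hM (isPiSubgroup_zpowers_iff.2 hx) (zpowers_ne_bot.2 hx1)).1
  refine ⟨hx1, cj[g⁻¹] M, isCoatom_conj _ hM, ?_⟩
  rw [← conj_sigmaCore]
  exact conj_le_iff.1 hg (mem_zpowers x)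

theorem exists_le_zpowers_card_prime (hx1 : x ≠ 1) :
    ∃ X : Subgroup G, X ≤ zpowers x ∧ (Nat.card X).Prime ∧ Nat.card X ∣ orderOf x ∧
      C1[x] ≤ C[X] := by
  obtain ⟨X, hX, hXp⟩ := exists_le_card_prime (zpowers_ne_bot.2 hx1)
  exact ⟨X, hX, hXp, Nat.card_zpowers x ▸ card_dvd_of_le hX, cent_zpowers x ▸ cent_anti hX⟩

/-- 14.3 -/
theorem pi_of_cent_sigma {x' : G} (hM : IsCoatom M) (hx : x ∈ Mσ[M]) (hx1 : x ≠ 1)
    (hx' : x' ∈ M ⊓ C1[x]) (hx'1 : x' ≠ 1) (hs : PiNat (sigma M)ᶜ (orderOf x')) :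
    (PiNat (kappa M) (orderOf x') ∧ C1[x] ≤ M) ∨
    (PiNat (tau2 M) (orderOf x') ∧ Ell1 x' ∧ UMax C1[x'] M) := by
  have hxx' : x ∈ C1[x'] := mem_cent1_comm.1 hx'.2
  have hC : Mσ[M] ⊓ C1[x'] ≠ ⊥ := ne_bot_of_mem ⟨hx, hxx'⟩ hx1
  have hzM : zpowers x' ≤ M := zpowers_le.2 hx'.1
  by_cases h2 : PiNat (tau2 M) (orderOf x')
  · refine Or.inr ⟨h2, ?_, cent1_nreg_sigma_uniq hM hx'.1 hx'1 h2 hC⟩
    obtain ⟨E, hE, -⟩ := ex_sigma_compl hM bot_le isPiSubgroup_bot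
    obtain ⟨X, -, hXp, hXd, -⟩ := exists_le_zpowers_card_prime hx'1
    have hp := h2 _ hXp hXd
    obtain ⟨A, hA⟩ := ex_tau2Elem hE hp
    obtain ⟨H, hH, hn⟩ := exists_mmax_norm_of_pgroup hXp hA.isPGroup (hA.ne_bot hXp)
    exact ell1_of_sigma_elt hH hx'1
      (h2.mono fun q hq => ((primes_norm_tau2Elem hM hE hp hA hH hn).1 q hq).1)
  left
  obtain ⟨p, hp, hd, hp2⟩ : ∃ p : ℕ, p.Prime ∧ p ∣ orderOf x' ∧ p ∉ tau2 M := by
    by_contra hc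
    exact h2 fun p hp hd => by_contra fun h => hc ⟨p, hp, hd, h⟩
  obtain ⟨P, hP⟩ := exists_pnElem_one (H := zpowers x') hp (by rwa [Nat.card_zpowers])
  have hCP : C1[x'] ≤ C[P] := cent_zpowers x' ▸ cent_anti hP.le
  have hκ : p ∈ kappa M := by
    refine mem_kappa_iff.2 ⟨?_, P, hP.mono hzM, ne_bot_of_le hC (inf_le_inf_left _ hCP)⟩
    have := partition_pi_sigma' hM hp (hs p hp hd) (hP.mono hzM).dvd_card
    tauto
  obtain ⟨K, hK, hPK⟩ := exists_hall_ge (mmax_sol hM) (hP.le.trans hzM)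
    (isPi_of_isPGroup_mem hp hP.isPGroup hκ)
  obtain ⟨⟨hd1, hb⟩, ⟨-, hc⟩, -⟩ := Ptype_structure (isMP_of_kappa hM hκ) hK
  have hxK : x ∈ Mσ[M] ⊓ C[K] :=
    (kappa_primact hM hK).inf_cent hPK (hP.ne_bot hp) ▸ ⟨hx, hCP hxx'⟩
  refine ⟨hK.isPi.orderOf ?_, ?_⟩
  · exact (isPiHallOf_of_isComplIn hd1.compl (kappa_sigma' hK.isPi)
      (by rw [compl_compl]; exact (sigmaCore_isPi M).inf_left)).mem_of_normal inf_le_right
      ((hb P hPK (hP.card_prime hp)).1 ▸ ⟨hx'.1, cent_le_norm P (hCP (self_mem_cent1 x'))⟩) hs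
  · obtain ⟨X, hX, hXp, -, hCX⟩ := exists_le_zpowers_card_prime hx1
    exact hCX.trans (hc X (hX.trans (zpowers_le.2 hxK)) hXp).le

end Cfsg.Agent.BG
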