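import Cfsg.Agent.BG.S14a

/-! Bender–Glauberman §14, second part (14.4–14.6). -/

set_option autoImplicit false
set_option linter.unusedSectionVars false
set_option linter.unusedVariables false

namespace Cfsg.Agent.BG

open Subgroup Cfsg.Agent.GT

universe u

variable {G : Type u} [Group G] [Finite G] [MFT G]
variable {A A₀ B D E E₁ E₂ E₃ H K L M Ms N P Q R S U V W W₁ W₂ X Y : Subgroup G} {p q r : ℕ}
  {g x y : G} {π : Set ℕ}

theorem Msigma_ell1 (hM : IsCoatom M) (hx : x ∈ Mσ[M]) (hx1 : x ≠ 1) : Ell1 x := ⟨hx1, M, hM, hx⟩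

theorem sigMax_conj (h : SigMax x M) (g : G) : SigMax (g * x * g⁻¹) (cj[g] M) :=
  ⟨isCoatom_conj g h.1, by rw [← conj_sigmaCore]; exact conj_mem_conj.2 h.2⟩

theorem SigMax.piNat (h : SigMax x M) : PiNat (sigma M) (orderOf x) := (sigmaCore_isPi M).orderOf h.2

theorem SigMax.mem (h : SigMax x M) : x ∈ M := sigmaCore_le M h.2

theorem conjg_of_mem_sigma (hM : IsCoatom M) (hL : IsCoatom L) (h : p ∈ sigma M)
    (h' : p ∈ sigma L) : Conjg M L :=
  by_contra fun hc => Set.disjoint_left.1 (sigma_partition hM hL hc) h h'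

theorem _root_.Cfsg.Agent.GT.Conjg.sigma_eq (h : Conjg M L) : sigma L = sigma M := by
  obtain ⟨g, rfl⟩ := h; exact sigma_conj g M

theorem exists_prime_dvd_orderOf (hx1 : x ≠ 1) : ∃ p : ℕ, p.Prime ∧ p ∣ orderOf x :=
  Nat.exists_prime_and_dvd (by rwa [Ne, orderOf_eq_one_iff])

theorem conjg_of_sigma_elt (hM : IsCoatom M) (hL : IsCoatom L) (hx1 : x ≠ 1)
    (h : PiNat (sigma M) (orderOf x)) (h' : PiNat (sigma L) (orderOf x)) : Conjg M L := by
  obtain ⟨p, hp, hd⟩ := exists_prime_dvd_orderOf hx1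
  exact conjg_of_mem_sigma hM hL (h p hp hd) (h' p hp hd)

theorem sigma'_elt_of_not_conjg (hM : IsCoatom M) (hL : IsCoatom L) (hc : ¬ Conjg M L)
    {n : ℕ} (h : PiNat (sigma L) n) : PiNat (sigma M)ᶜ n :=
  h.mono fun _ h h' => hc (conjg_of_mem_sigma hM hL h' h)

theorem sigMax_conjg (hx1 : x ≠ 1) (h : SigMax x M) (h' : SigMax x L) : Conjg M L :=
  conjg_of_sigma_elt h.1 h'.1 hx1 h.piNat h'.piNat

theorem conj_eq_self_of_mem_cent1 (h : g ∈ C1[x]) : g * x * g⁻¹ = x := by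
  rw [mem_cent1.1 h, mul_inv_cancel_right]

theorem sigMax_conj_cent1 (h : SigMax x M) (hg : g ∈ C1[x]) : SigMax x (cj[g] M) := by
  have := sigMax_conj h g
  rwa [conj_eq_self_of_mem_cent1 hg] at this

theorem cent1_sub_uniq_sigma_mmax (h : SigMax x M) (h1 : ¬ SigMany x) : C1[x] ≤ M := fun c hc =>
  mem_of_conj_mmax_eq h.1 (by_contra fun hne => h1 ⟨_, _, sigMax_conj_cent1 h hc, h, hne⟩)

theorem sigN_eq_bot (h1 : ¬ SigMany x) : sigN x = ⊥ := if_neg h1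

theorem sigR_eq_bot (h1 : ¬ SigMany x) : sigR x = ⊥ := by
  rw [sigR, sigN_eq_bot h1, sigmaCore_eq, piCoreOf_bot, bot_inf_eq]

theorem sigN_eq (h : SigMany x) (hN : UMax C1[x] N) : sigN x = N := by
  have h1 : ∃ N : Subgroup G, IsCoatom N ∧ C1[x] ≤ N := ⟨N, hN.1, hN.le⟩
  rw [sigN, if_pos h, dif_pos h1]
  exact hN.eq h1.choose_spec.1 h1.choose_spec.2

theorem signalizer_aux (hx : Ell1 x) (h : SigMany x) : ∃ N : Subgroup G,
    UMax C1[x] N ∧ Mσ[N] ⊓ C1[x] ≠ ⊥ ∧ PiNat (tau2 N) (orderOf x) ∧ (IsMF N ∨ IsMP2 N) ∧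
    (∀ M, SigMax x M →
      Sdprod (Mσ[N] ⊓ C1[x]) (M ⊓ N ⊓ C1[x]) C1[x] ∧ tau2 N ⊆ sigma M ∧
      (∀ p ∈ sigma N, p ∣ Nat.card M → p ∈ beta N) ∧ IsPiHallOf (sigma N)ᶜ (M ⊓ N) N) ∧
    ∀ M L, SigMax x M → SigMax x L → ∃ z ∈ Mσ[N] ⊓ C1[x], L = cj[z] M := by
  have hx1 := hx.1
  obtain ⟨X, hX, hq, hqd, hCX⟩ := exists_le_zpowers_card_prime hx1
  have hXq : IsPGroup (Nat.card X) X := isPGroup_of_card_eq_prime rfl
  have hX1 := ne_bot_of_card_prime hq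
  generalize Nat.card X = q at hq hqd hXq
  obtain ⟨N, hN, hn⟩ := exists_mmax_norm_of_pgroup hq hXq hX1
  have hCN : C[X] ≤ N := (cent_le_norm X).trans hn
  have hxN : x ∈ N := hCN (hCX (self_mem_cent1 x))
  have hXM : ∀ M, SigMax x M → X ≤ M := fun M hM => hX.trans (zpowers_le.2 hM.mem)
  have htr : ∀ M L, SigMax x M → SigMax x L → ∃ c ∈ C[X], L = cj[c] M := fun M L hM hL => by
    obtain ⟨g, rfl⟩ := sigMax_conjg hx1 hM hL
    have := (sigma_group_trans hM.1 (hM.piNat q hq hqd) hXq).2.1 1 g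
      (by rw [one_conj]; exact hXM M hM) (hXM _ hL)
    rwa [one_conj] at this
  have hne : ∀ M, SigMax x M → N ≠ M := by
    rintro M hM rfl
    obtain ⟨L₁, L₂, h1, h2, h12⟩ := h
    obtain ⟨c₁, hc₁, e₁⟩ := htr N L₁ hM h1
    obtain ⟨c₂, hc₂, e₂⟩ := htr N L₂ hM h2
    exact h12 (by rw [e₁, e₂, conj_eq_self_of_mem (hCN hc₁), conj_eq_self_of_mem (hCN hc₂)])
  have hemb : ∀ M, SigMax x M → q ∈ tau2 N ∧ (∀ p ∈ sigma N, p ∣ Nat.card M → p ∈ beta N) ∧
      IsPiHallOf (sigma N)ᶜ (M ⊓ N) N := fun M hM => by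
    obtain ⟨S, hS, hXS⟩ := exists_syl_ge hq hXq (le_inf (hXM M hM) (le_normalizer.trans hn))
    have hqs := hM.piNat q hq hqd
    obtain ⟨hc, -, -, -, h5⟩ := sigma_subgroup_embedding hM.1 hqs (hXM M hM) hXq hX1 hN hn
      (hne M hM) hS hXS
    exact h5 fun h => hc (conjg_of_mem_sigma hM.1 hN hqs h)
  have htr' : ∀ M L, SigMax x M → SigMax x L → ∃ z ∈ Mσ[N] ⊓ C1[x], L = cj[z] M := by
    intro M L hM hL
    obtain ⟨c, hc, e⟩ := htr M L hM hL
    have hsd := sdprod_sigma hN (hemb M hM).2.2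
    obtain ⟨v, hv, m, hm, rfl⟩ := hsd.exists_mul (hCN hc)
    rw [mul_conj, conj_eq_self_of_mem hm.1] at e
    refine ⟨v, mem_inf.2 ⟨hv, ?_⟩, e⟩
    have h1 : v⁻¹ * x * v ∈ M := mem_conj.1 (e ▸ hL.mem)
    have h2 : v⁻¹ * x * v * x⁻¹ ∈ Mσ[N] ⊓ (M ⊓ N) := by
      refine mem_inf.2 ⟨?_, mem_inf.2 ⟨M.mul_mem h1 (M.inv_mem hM.mem), ?_⟩⟩
      · have := conj_mem_of_le_norm (le_norm_sigmaCore N) hxN hv
        have e : v⁻¹ * x * v * x⁻¹ = v⁻¹ * (x * v * x⁻¹) := by group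
        exact e ▸ mul_mem (inv_mem hv) this
      · have hvN := sigmaCore_le N hv
        exact mul_mem (mul_mem (mul_mem (inv_mem hvN) hxN) hvN) (inv_mem hxN)
    rw [hsd.inf_eq, mem_bot] at h2
    rw [mem_cent1]
    calc v * x = v * (v⁻¹ * x * v * x⁻¹) * x := by rw [h2, mul_one]
      _ = x * v := by group
  obtain ⟨L₁, L₂, h1, h2, h12⟩ := h
  obtain ⟨z, hz, ez⟩ := htr' L₁ L₂ h1 h2
  have hz1 : z ≠ 1 := fun e => h12 (by rw [ez, e, one_conj])
  have hq2 := (hemb L₁ h1).1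
  obtain ⟨h3, -, h4⟩ := (pi_of_cent_sigma hN hz.1 hz1 ⟨hxN, mem_cent1_comm.1 hz.2⟩ hx1
    ((hemb L₁ h1).2.2.isPi.orderOf ⟨h1.mem, hxN⟩)).resolve_left
    fun h => kappa_not_tau2 (h.1 q hq hqd) hq2
  obtain ⟨S, hS⟩ := exists_syl hq N
  refine ⟨N, h4, ne_bot_of_mem hz hz1, h3, (sigma'_kappa'_facts hN hq hS (tau2_dvd hq2)
    (tau2_not_sigma hq2) fun h => kappa_not_tau2 h hq2).1, fun M hM => ?_, htr'⟩
  obtain ⟨-, h5, hH⟩ := hemb M hM
  have hsd := sdprod_sigma hN hH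
  have hzx : zpowers x ≤ M ⊓ N := zpowers_le.2 ⟨hM.mem, hxN⟩
  refine ⟨sdprod_mk (le_norm_inf (inf_le_left.trans hsd.right_norm) (le_norm_self inf_le_right))
    (le_bot_iff.1 (hsd.inf_eq ▸ inf_le_inf inf_le_left inf_le_left)) ?_, fun p hp => ?_, h5, hH⟩
  · have := cent_sup_of_inf_eq_bot (hzx.trans hsd.right_norm) (le_norm_self hzx) hsd.inf_eq
      (Or.inr hsd.right_norm)
    rw [hsd.sup_eq, cent_zpowers, inf_eq_right.2 h4.le] at this
    exact this.symm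
  · by_contra hps
    have hpp := tau2_prime hp
    obtain ⟨A, hA⟩ := ex_tau2Elem hH hp
    have hAn := (tau2_compl_context hN hH hp hA).1.1
    have hAM := hA.mono (inf_le_left : M ⊓ N ≤ M)
    have hAc : A ≤ C[Mσ[M] ⊓ N] := le_cent_of_norm_of_coprime
      (le_norm_inf (hAM.le.trans (le_norm_sigmaCore M)) (le_norm_self (hA.le.trans inf_le_right)))
      ((inf_le_inf_right _ (sigmaCore_le M)).trans hAn)
      ((isPi_of_isPGroup_mem hpp hA.isPGroup hps).coprime' (sigmaCore_isPi M).inf_left)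
    exact ne_bot_of_mem (mem_inf.2 ⟨hM.2, le_cent_symm hAc ⟨hM.2, hxN⟩⟩) hx1
      (tau2_context hM.1 (mem_tau2_of_pnElem hM.1 hpp hps hAM) hAM).2.2.1

/-- 14.4, second part -/
theorem FT_signalizer_context (hx : Ell1 x) (h : SigMany x) :
    UMax C1[x] (sigN x) ∧ sigR x ≠ ⊥ ∧ PiNat (tau2 (sigN x)) (orderOf x) ∧
    (IsMF (sigN x) ∨ IsMP2 (sigN x)) ∧
    ∀ M, SigMax x M →
      Sdprod (sigR x) (M ⊓ sigN x ⊓ C1[x]) C1[x] ∧ tau2 (sigN x) ⊆ sigma M ∧
      (∀ p ∈ sigma (sigN x), p ∣ Nat.card M → p ∈ beta (sigN x)) ∧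
      IsPiHallOf (sigma (sigN x))ᶜ (M ⊓ sigN x) (sigN x) := by
  obtain ⟨N, h1, h2, h3, h4, h5, -⟩ := signalizer_aux hx h
  rw [sigR, sigN_eq h h1]
  exact ⟨h1, h2, h3, h4, h5⟩

theorem sigR_le_cent1 (x : G) : sigR x ≤ C1[x] := inf_le_right

theorem sigR_le_Msigma (x : G) : sigR x ≤ Mσ[sigN x] := inf_le_left

theorem sigR_inf_eq_bot (hx : Ell1 x) (hM : SigMax x M) : sigR x ⊓ M = ⊥ := by
  by_cases h : SigMany x
  · obtain ⟨h1, -, -, -, h2⟩ := FT_signalizer_context hx h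
    exact le_bot_iff.1 ((h2 M hM).1.inf_eq ▸ le_inf inf_le_left (le_inf (le_inf inf_le_right
      (inf_le_left.trans ((sigR_le_cent1 x).trans h1.le))) (inf_le_left.trans (sigR_le_cent1 x))))
  · rw [sigR_eq_bot h, bot_inf_eq]

/-- 14.4, first part -/
theorem FT_signalizer_trans (hx : Ell1 x) :
    (∀ M L, SigMax x M → SigMax x L → ∃! z, z ∈ sigR x ∧ L = cj[z] M) ∧
    Nat.card (sigR x) = Set.ncard {M | SigMax x M} ∧ C1[x] ≤ N[sigR x] ∧
    (Nat.card (sigR x)).Coprime ((sigR x).relIndex C1[x]) := by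
  have hinj : ∀ M, SigMax x M → ∀ z ∈ sigR x, ∀ w ∈ sigR x, cj[z] M = cj[w] M → z = w := by
    intro M hM z hz w hw e
    have h1 : w⁻¹ * z ∈ sigR x ⊓ M := mem_inf.2 ⟨mul_mem (inv_mem hw) hz,
      mem_of_conj_mmax_eq hM.1 (by rw [mul_conj, e, inv_conj_conj])⟩
    rw [sigR_inf_eq_bot hx hM, mem_bot] at h1
    exact (inv_mul_eq_one.1 h1).symm
  have hex : ∀ M L, SigMax x M → SigMax x L → ∃ z ∈ sigR x, L = cj[z] M := by
    intro M L hM hL
    by_cases h : SigMany x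
    · obtain ⟨N, h1, -, -, -, -, h2⟩ := signalizer_aux hx h
      rw [sigR, sigN_eq h h1]
      exact h2 M L hM hL
    · exact ⟨1, one_mem _, by rw [one_conj]; exact by_contra fun hne => h ⟨_, _, hL, hM, hne⟩⟩
  refine ⟨fun M L hM hL => ?_, ?_, ?_⟩
  · obtain ⟨z, hz, e⟩ := hex M L hM hL
    exact ⟨z, ⟨hz, e⟩, fun w hw => hinj M hM w hw.1 z hz (hw.2.symm.trans e)⟩
  · obtain ⟨M, hM⟩ := hx.2
    rw [← SetLike.coe_sort_coe, Nat.card_coe_set_eq]
    exact Set.ncard_congr (fun z _ => cj[z] M) (fun z hz => sigMax_conj_cent1 hM (sigR_le_cent1 x hz))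
      (fun z w hz hw e => hinj M hM z hz w hw e)
      (fun L hL => let ⟨z, hz, e⟩ := hex M L hM hL; ⟨z, hz, e.symm⟩)
  · by_cases h : SigMany x
    · have h1 := (FT_signalizer_context hx h).1
      exact ⟨le_norm_inf (h1.le.trans (le_norm_sigmaCore _)) le_normalizer,
        ((Msigma_Hall h1.1).normal_inf (le_norm_sigmaCore _) h1.le).coprime⟩
    · rw [sigR_eq_bot h, norm_bot, card_bot]
      exact ⟨le_top, Nat.coprime_one_left _⟩

theorem ell1_conj (hx : Ell1 x) (g : G) : Ell1 (g * x * g⁻¹) :=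
  let ⟨_, h⟩ := hx.2
  ⟨fun e => hx.1 (by simpa using e), _, sigMax_conj h g⟩

theorem sigMany_conj (h : SigMany x) (g : G) : SigMany (g * x * g⁻¹) :=
  let ⟨_, _, h1, h2, h3⟩ := h
  ⟨_, _, sigMax_conj h1 g, sigMax_conj h2 g, fun e => h3 (conj_inj.1 e)⟩

theorem sigN_conj (hx : Ell1 x) (g : G) : sigN (g * x * g⁻¹) = cj[g] (sigN x) := by
  by_cases h : SigMany x
  · exact sigN_eq (sigMany_conj h g) (conj_cent1 g x ▸ (FT_signalizer_context hx h).1.conj g)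
  · rw [sigN_eq_bot h, conj_bot, sigN_eq_bot]
    exact fun h' => h (by simpa [mul_assoc] using sigMany_conj h' g⁻¹)

theorem sigR_conj (hx : Ell1 x) (g : G) : sigR (g * x * g⁻¹) = cj[g] (sigR x) := by
  rw [sigR, sigR, sigN_conj hx, conj_inf, conj_sigmaCore, conj_cent1]

theorem sigN_not_conjg (hx : Ell1 x) (h : SigMany x) (hM : IsCoatom M)
    (hs : PiNat (sigma M) (orderOf x)) : ¬ Conjg M (sigN x) := fun hc => by
  obtain ⟨p, hp, hd⟩ := exists_prime_dvd_orderOf hx.1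
  exact tau2_not_sigma ((FT_signalizer_context hx h).2.2.1 p hp hd) (hc.sigma_eq ▸ hs p hp hd)

theorem sigMany_iff (hx1 : x ≠ 1) (h : SigMax x M) : SigMany x ↔ ¬ C1[x] ≤ M :=
  ⟨fun h1 h2 => sigN_not_conjg ⟨hx1, M, h⟩ h1 h.1 h.piNat
    ((FT_signalizer_context ⟨hx1, M, h⟩ h1).1.eq h.1 h2 ▸ Conjg.refl _),
   fun h1 => by_contra fun h2 => h1 (cent1_sub_uniq_sigma_mmax h h2)⟩

theorem sigMany_of_mem_sigR {r : G} (hr : r ∈ sigR x) (hr1 : r ≠ 1) : SigMany x :=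
  by_contra fun h => hr1 (by rwa [sigR_eq_bot h, mem_bot] at hr)

theorem sigR_sigma' {r : G} (hx : Ell1 x) (hM : IsCoatom M) (hs : PiNat (sigma M) (orderOf x))
    (hr : r ∈ sigR x) : PiNat (sigma M)ᶜ (orderOf r) := by
  by_cases hr1 : r = 1
  · rw [hr1, orderOf_one]; exact PiNat.one
  have h := sigMany_of_mem_sigR hr hr1
  exact sigma'_elt_of_not_conjg hM (FT_signalizer_context hx h).1.1 (sigN_not_conjg hx h hM hs)
    ((sigmaCore_isPi _).orderOf hr.1)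

theorem commute_sigR {r : G} (hr : r ∈ sigR x) : Commute x r := (mem_cent1.1 hr.2).symm

theorem constt_cover {r : G} (hx : Ell1 x) (hM : IsCoatom M) (hs : PiNat (sigma M) (orderOf x))
    (hr : r ∈ sigR x) : constt (sigma M) (x * r) = x :=
  constt_eq_of_mul (commute_sigR hr) hs (sigR_sigma' hx hM hs hr) rfl

theorem constt_cover_cases {r : G} (hx : Ell1 x) (hr : r ∈ sigR x) (hM : IsCoatom M)
    (h : constt (sigma M) (x * r) = y) (hy : y ≠ 1) : y = x ∨ (y = r ∧ SigMany x) := by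
  obtain ⟨L, hL⟩ := hx.2
  by_cases hc : Conjg M L
  · exact Or.inl (h.symm.trans (constt_cover hx hM (hc.sigma_eq ▸ hL.piNat) hr))
  right
  rw [constt_mul (commute_sigR hr), constt_of_piNat_compl
    (sigma'_elt_of_not_conjg hM hL.1 hc hL.piNat), one_mul] at h
  have hr1 : r ≠ 1 := fun e => hy (by rw [← h, e, constt_one])
  have hm := sigMany_of_mem_sigR hr hr1
  have hrs := (sigmaCore_isPi _).orderOf hr.1
  have hN := (FT_signalizer_context hx hm).1.1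
  refine ⟨h.symm.trans (constt_of_piNat ?_), hm⟩
  by_cases hc' : Conjg M (sigN x)
  · exact hc'.sigma_eq ▸ hrs
  · exact absurd (h.symm.trans (constt_of_piNat_compl (sigma'_elt_of_not_conjg hM hN hc' hrs))) hy

/-- 14.5(a) -/
theorem sigma_cover_disjoint (hx : Ell1 x) (hy : Ell1 y) (hne : x ≠ y) :
    ∀ r ∈ sigR x, ∀ s ∈ sigR y, x * r ≠ y * s := by
  intro r hr s hs e
  obtain ⟨M, hM⟩ := hx.2
  obtain ⟨e1, hy'⟩ := (constt_cover_cases hy hs hM.1 (e ▸ constt_cover hx hM.1 hM.piNat hr)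
    hx.1).resolve_left hne
  subst e1
  have e2 : r = y := mul_left_cancel (e.trans (commute_sigR hs).eq)
  subst e2
  have hx' := sigMany_of_mem_sigR hr hy.1
  have h1 := (FT_signalizer_context hy hy').1
  have h2 := sigR_inf_eq_bot hx (M := sigN r) ⟨h1.1, hs.1⟩
  exact ne_bot_of_mem (mem_inf.2 ⟨hr, h1.le (self_mem_cent1 r)⟩) hy.1 h2

theorem mem_classSupp_sigCover (hM : IsCoatom M) :
    g ∈ classSupp (sigCover M) ⊤ ↔
      ∃ x, x ≠ 1 ∧ (∃ L, Conjg M L ∧ x ∈ Mσ[L]) ∧ ∃ r ∈ sigR x, g = x * r := by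
  rw [mem_classSupp]
  constructor
  · rintro ⟨_, ⟨x, hx, hx1, r, hr, rfl⟩, a, -, rfl⟩
    have h1 := Msigma_ell1 hM hx hx1
    refine ⟨a * x * a⁻¹, (ell1_conj h1 a).1, ⟨_, conjg_conj a M, (sigMax_conj ⟨hM, hx⟩ a).2⟩,
      a * r * a⁻¹, by rw [sigR_conj h1]; exact conj_mem_conj.2 hr, by group⟩
  · rintro ⟨x, hx1, ⟨_, ⟨a, rfl⟩, hx⟩, r, hr, rfl⟩
    have h1 := Msigma_ell1 (isCoatom_conj a hM) hx hx1
    refine ⟨a⁻¹ * (x * r) * a, ⟨a⁻¹ * x * a⁻¹⁻¹, ?_, (ell1_conj h1 a⁻¹).1, a⁻¹ * r * a⁻¹⁻¹,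
      by rw [sigR_conj h1]; exact conj_mem_conj.2 hr, by group⟩, a, mem_top a, by group⟩
    rw [← conj_sigmaCore] at hx
    rw [inv_inv]; exact mem_conj.1 hx

theorem _root_.Cfsg.Agent.GT.Conjg.isCoatom (h : Conjg M L) (hM : IsCoatom M) : IsCoatom L := by
  obtain ⟨g, rfl⟩ := h; exact isCoatom_conj g hM

/-- 14.5(b) -/
theorem sigma_support_disjoint (hM : IsCoatom M) (hL : IsCoatom L) (hc : ¬ Conjg M L) :
    Disjoint (classSupp (sigCover M) ⊤) (classSupp (sigCover L) ⊤) := by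
  rw [Set.disjoint_left]
  intro g h1 h2
  obtain ⟨x, hx1, ⟨M', hM', hx⟩, r, hr, rfl⟩ := (mem_classSupp_sigCover hM).1 h1
  obtain ⟨y, hy1, ⟨L', hL', hy⟩, s, hs, e⟩ := (mem_classSupp_sigCover hL).1 h2
  have a1 := Conjg.isCoatom hM' hM
  have a2 := Conjg.isCoatom hL' hL
  obtain rfl : x = y := by_contra fun hne =>
    sigma_cover_disjoint (Msigma_ell1 a1 hx hx1) (Msigma_ell1 a2 hy hy1) hne r hr s hs e
  exact hc ((hM'.trans (sigMax_conjg hx1 ⟨a1, hx⟩ ⟨a2, hy⟩)).trans hL'.symm)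

theorem classSupp_sigCover_conj (hM : IsCoatom M) (g : G) :
    classSupp (sigCover (cj[g] M)) ⊤ = classSupp (sigCover M) ⊤ := by
  ext a
  rw [mem_classSupp_sigCover hM, mem_classSupp_sigCover (isCoatom_conj g hM)]
  exact exists_congr fun x => and_congr_right fun _ => and_congr_left fun _ =>
    exists_congr fun L => and_congr_left fun _ =>
      ⟨fun h => (conjg_conj g M).trans h, fun h => (conjg_conj g M).symm.trans h⟩

theorem one_not_mem_sigCover (hM : IsCoatom M) : (1 : G) ∉ sigCover M := by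
  rintro ⟨x, hx, hx1, r, hr, e⟩
  have := constt_cover (Msigma_ell1 hM hx hx1) hM ((sigmaCore_isPi M).orderOf hx) hr
  rw [← e, constt_one] at this
  exact hx1 this.symm

theorem ncard_sharp (H : Subgroup G) : (sharp H).ncard = Nat.card H - 1 := by
  rw [sharp_eq, Set.ncard_sdiff_singleton_of_mem H.one_mem, ← Nat.card_coe_set_eq,
    SetLike.coe_sort_coe]

/-- 14.5(c) -/
theorem card_class_support_sigma (hM : IsCoatom M) :
    Set.ncard (classSupp (sigCover M) ⊤) = (Nat.card Mσ[M] - 1) * M.index := by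
  classical
  have := Fintype.ofFinite G
  have := Fintype.ofFinite (Subgroup G)
  let C : Finset (Subgroup G) := Finset.univ.filter fun L => Conjg M L
  let S : Finset G := Finset.univ.filter fun x => x ≠ 1 ∧ ∃ L, Conjg M L ∧ x ∈ Mσ[L]
  have hS : ∀ x ∈ S, Ell1 x := fun x hx => by
    obtain ⟨h1, L, h2, h3⟩ := (Finset.mem_filter.1 hx).2
    exact Msigma_ell1 (Conjg.isCoatom h2 hM) h3 h1
  have e1 : classSupp (sigCover M) ⊤ =
      ↑(S.biUnion fun x => (Finset.univ.filter fun r => r ∈ sigR x).image (x * ·)) := by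
    ext g
    simp only [mem_classSupp_sigCover hM, S, Finset.coe_biUnion, Finset.coe_filter, Finset.mem_univ,
      true_and, Set.mem_iUnion, Finset.coe_image, Set.mem_image, Set.mem_ofPred_eq, exists_prop,
      Finset.mem_coe, Finset.mem_filter]
    exact exists_congr fun x => ⟨fun ⟨h1, h2, r, hr, e⟩ => ⟨⟨h1, h2⟩, r, hr, e.symm⟩,
      fun ⟨⟨h1, h2⟩, r, hr, e⟩ => ⟨h1, h2, r, hr, e.symm⟩⟩
  have e2 : ∀ x ∈ S, ((Finset.univ.filter fun r => r ∈ sigR x).image (x * ·)).card =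
      (C.bipartiteAbove (fun x L => x ∈ Mσ[L]) x).card := fun x hx => by
    rw [Finset.card_image_of_injective _ (mul_right_injective x), ← Set.ncard_coe_finset,
      ← Set.ncard_coe_finset]
    obtain ⟨h1, L, h2, h3⟩ := (Finset.mem_filter.1 hx).2
    have := (FT_signalizer_trans (hS x hx)).2.1
    rw [← SetLike.coe_sort_coe, Nat.card_coe_set_eq] at this
    convert this using 2
    · ext r; simp
    · ext L'
      simp only [C, Finset.bipartiteAbove, Finset.coe_filter, Finset.mem_filter, Finset.mem_univ,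
        true_and, Set.mem_ofPred_eq]
      exact ⟨fun h => ⟨Conjg.isCoatom h.1 hM, h.2⟩,
        fun h => ⟨h2.trans (sigMax_conjg h1 ⟨Conjg.isCoatom h2 hM, h3⟩ h), h.2⟩⟩
  have e3 : ∀ L ∈ C, (S.bipartiteBelow (fun x L => x ∈ Mσ[L]) L).card = Nat.card Mσ[M] - 1 := by
    intro L hL
    have hL' := (Finset.mem_filter.1 hL).2
    rw [← Set.ncard_coe_finset]
    have : Nat.card Mσ[M] = Nat.card Mσ[L] := by
      obtain ⟨g, rfl⟩ := hL'
      rw [← conj_sigmaCore, card_conj]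
    rw [this, ← ncard_sharp]
    congr 1
    ext x
    simp only [S, Finset.bipartiteBelow, Finset.coe_filter, Finset.mem_filter, Finset.mem_univ,
      true_and, Set.mem_ofPred_eq, mem_sharp]
    exact ⟨fun h => ⟨h.2, h.1.1⟩, fun h => ⟨⟨h.2, L, hL', h.1⟩, h.1⟩⟩
  have e4 : C.card = M.index := by
    have := ncard_conj_orbit ⊤ M
    rw [norm_mmax hM, relIndex_top_right] at this
    rw [← this, ← Set.ncard_coe_finset]
    congr 1
    ext L
    simp only [C, Finset.coe_filter, Finset.mem_univ, true_and, Set.mem_ofPred_eq, mem_top]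
    rfl
  rw [e1, Set.ncard_coe_finset, Finset.card_biUnion, Finset.sum_congr rfl e2,
    Finset.sum_card_bipartiteAbove_eq_sum_card_bipartiteBelow, Finset.sum_congr rfl e3,
    Finset.sum_const, e4, smul_eq_mul, mul_comm]
  intro x hx y hy hne
  rw [Function.onFun, Finset.disjoint_left]
  intro g h1 h2
  obtain ⟨r, hr, rfl⟩ := Finset.mem_image.1 h1
  obtain ⟨s, hs, e⟩ := Finset.mem_image.1 h2
  exact sigma_cover_disjoint (hS x hx) (hS y hy) hne r (Finset.mem_filter.1 hr).2 s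
    (Finset.mem_filter.1 hs).2 e.symm

theorem exists_mmax_mem_sigma (hp : p.Prime) (hd : p ∣ Nat.card G) :
    ∃ M : Subgroup G, IsCoatom M ∧ p ∈ sigma M := by
  obtain ⟨P, hP⟩ := exists_syl hp (⊤ : Subgroup G)
  obtain ⟨M, h1, -, -, h2⟩ := exists_mmax_norm_syl hp hP
    ((syl_ne_bot_iff hp hP).2 (by rwa [card_top]))
  exact ⟨M, h1, h2⟩

theorem sigma_decomposition_exclusive (hx : Ell1 x) (hr : x⁻¹ * g ∈ sigR x) (hy1 : y ≠ 1)
    (hM : SigMax y M) (h1 : y⁻¹ * g ∈ M ⊓ C1[y]) (h2 : y⁻¹ * g ≠ 1)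
    (h3 : PiNat (kappa M) (orderOf (y⁻¹ * g))) : False := by
  have h4 : PiNat (sigma M)ᶜ (orderOf (y⁻¹ * g)) := h3.mono fun _ h => kappa_not_sigma h
  obtain ⟨p, hp, hd⟩ := exists_prime_dvd_orderOf h2
  have hC := ((pi_of_cent_sigma hM.1 hM.2 hy1 h1 h2 h4).resolve_right
    fun h => kappa_not_tau2 (h3 p hp hd) (h.1 p hp hd)).2
  have hm : ¬ SigMany y := fun h => (sigMany_iff hy1 hM).1 h hC
  have e : constt (sigma M) (x * (x⁻¹ * g)) = y :=
    constt_eq_of_mul (mem_cent1.1 h1.2).symm hM.piNat h4 (by group)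
  rcases constt_cover_cases hx hr hM.1 e hy1 with e1 | ⟨e1, hx'⟩
  · subst e1
    exact hm (sigMany_of_mem_sigR hr h2)
  · obtain ⟨h5, -, h6, -⟩ := FT_signalizer_context hx hx'
    rw [← e1] at hr
    have e2 : sigN x = M := by_contra fun hne => hm ⟨_, _, ⟨h5.1, hr.1⟩, hM, hne⟩
    have e3 : y⁻¹ * g = x := by
      have : g = x * y := by rw [e1]; group
      rw [this, (commute_sigR hr).eq]; group
    rw [e3] at hd h3
    exact kappa_not_tau2 (h3 p hp hd) (e2 ▸ h6 p hp hd)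

/-- 14.6 -/
theorem sigma_decomposition_dichotomy (hg : g ≠ 1) :
    Xor (∃ x, Ell1 x ∧ x⁻¹ * g ∈ sigR x)
      (∃ y M, y ≠ 1 ∧ SigMax y M ∧ y⁻¹ * g ∈ M ⊓ C1[y] ∧ y⁻¹ * g ≠ 1 ∧
        PiNat (kappa M) (orderOf (y⁻¹ * g))) := by
  refine (xor_iff_or_and_not_and _ _).2 ⟨?_, fun ⟨⟨x, hx, hr⟩, y, M, hy1, hM, h1, h2, h3⟩ =>
    sigma_decomposition_exclusive hx hr hy1 hM h1 h2 h3⟩
  by_contra hcon
  obtain ⟨n1, n2⟩ := not_or.1 hcon
  have claim : ∀ L : Subgroup G, IsCoatom L → g ∈ L → constt (sigma L) g = 1 := by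
    intro L hL hgL
    by_contra hx1
    have hx : constt (sigma L) g ∈ Mσ[L] := (Msigma_Hall hL).constt_mem (le_norm_sigmaCore L) hgL
    have hs := piNat_inv_constt_mul (sigma L) g
    have hc := commute_constt (sigma L) g
    generalize constt (sigma L) g = x at hx1 hx hs hc
    have hx' : x⁻¹ * g ∈ L ⊓ C1[x] := mem_inf.2 ⟨mul_mem (inv_mem (sigmaCore_le L hx)) hgL,
      mul_mem (inv_mem (self_mem_cent1 x)) (mem_cent1.2 hc.eq.symm)⟩
    have hx'1 : x⁻¹ * g ≠ 1 := fun e => n1 ⟨x, Msigma_ell1 hL hx hx1, e ▸ one_mem _⟩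
    rcases pi_of_cent_sigma hL hx hx1 hx' hx'1 hs with h | ⟨h1, h2, h3⟩
    · exact n2 ⟨x, L, hx1, ⟨hL, hx⟩, hx', hx'1, h.1⟩
    · have hm : SigMany (x⁻¹ * g) := by
        by_contra hm
        obtain ⟨L', hL'⟩ := h2.2
        rw [h3.eq hL'.1 (cent1_sub_uniq_sigma_mmax hL' hm)] at hL'
        exact hx'1 (eq_one_of_piNat_orderOf hL'.piNat hs)
      refine n1 ⟨_, h2, ?_⟩
      have e : (x⁻¹ * g)⁻¹ * g = x := by
        rw [mul_inv_rev, inv_inv, mul_assoc, hc.eq]; group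
      rw [e, sigR, sigN_eq hm h3]
      exact ⟨hx, mem_cent1_comm.1 hx'.2⟩
  obtain ⟨p, hp, hd⟩ := exists_prime_dvd_orderOf hg
  obtain ⟨M₀, hM₀, hpM⟩ := exists_mmax_mem_sigma hp (hd.trans (orderOf_dvd_natCard g))
  have hx1 := constt_ne_one_of_dvd hp hpM hd
  have hx := ell1_of_sigma_elt hM₀ hx1 (piNat_constt _ g)
  obtain ⟨M, hM⟩ := hx.2
  have e := (conjg_of_sigma_elt hM₀ hM.1 hx1 (piNat_constt _ g) hM.piNat).sigma_eq
  rw [← e] at hx1 hx hM
  have hc : g ∈ C1[constt (sigma M) g] := mem_cent1.2 (commute_constt _ g).eq.symm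
  have hm : SigMany (constt (sigma M) g) :=
    (sigMany_iff hx1 hM).2 fun h => hx1 (claim M hM.1 (h hc))
  obtain ⟨h1, -, -, -, h2⟩ := FT_signalizer_context hx hm
  have hgN := h1.le hc
  obtain ⟨n, -, hn⟩ := (h2 M hM).2.2.2.exists_le_conj (mmax_sol h1.1) (zpowers_le.2 hgN)
    (isPiSubgroup_zpowers_iff.2 (constt_eq_one_iff.1 (claim _ h1.1 hgN)))
  have := claim _ (isCoatom_conj n hM.1) (conj_mono n inf_le_left (hn (mem_zpowers g)))
  rw [sigma_conj] at this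
  exact hx1 this

end Cfsg.Agent.BG
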