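import Cfsg.Agent.BG.S14b

/-! Bender–Glauberman §14, third part (the family of Theorem 14.7). -/

set_option autoImplicit false
set_option linter.unusedSectionVars false
set_option linter.unusedVariables false

namespace Cfsg.Agent.BG

open Subgroup Cfsg.Agent.GT

universe u

variable {G : Type u} [Group G] [Finite G] [MFT G]
variable {A A₀ B D E E₁ E₂ E₃ H K K' L L' M Ms N P Q R S U V W W₁ W₂ X Y Z : Subgroup G}
  {p q r : ℕ} {g t x y : G} {π : Set ℕ}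

omit [MFT G] in
theorem ncard_classSupp_of_TI {T : Set G} (h : ∀ a ∈ T, ∀ g, g * a * g⁻¹ ∈ T ↔ g ∈ Z) :
    (classSupp T ⊤).ncard = T.ncard * Z.index := by
  rw [← Nat.card_coe_set_eq, ← Nat.card_coe_set_eq, index, ← Nat.card_prod]
  symm
  refine Nat.card_eq_of_bijective (fun a : T × (G ⧸ Z) => (⟨a.2.out * a.1 * a.2.out⁻¹,
    mem_classSupp.2 ⟨a.1, a.1.2, _, mem_top _, rfl⟩⟩ : classSupp T ⊤)) ⟨?_, ?_⟩
  · rintro ⟨⟨a, ha⟩, c⟩ ⟨⟨b, hb⟩, d⟩ e
    have e' : c.out * a * c.out⁻¹ = d.out * b * d.out⁻¹ := congrArg Subtype.val e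
    have h1 : d.out⁻¹ * c.out ∈ Z := (h a ha _).1 (by
      have : d.out⁻¹ * c.out * a * (d.out⁻¹ * c.out)⁻¹ = b := by
        calc _ = d.out⁻¹ * (c.out * a * c.out⁻¹) * d.out := by group
          _ = b := by rw [e']; group
      rwa [this])
    obtain rfl : d = c := by
      rw [← d.out_eq', ← c.out_eq']; exact QuotientGroup.eq.2 h1
    obtain rfl : a = b := by simpa using e'
    rfl
  · rintro ⟨_, hx⟩
    obtain ⟨a, ha, g, -, rfl⟩ := mem_classSupp.1 hx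
    obtain ⟨z, hz⟩ := QuotientGroup.mk_out_eq_mul Z g
    refine ⟨⟨⟨z⁻¹ * a * z⁻¹⁻¹, (h a ha _).2 (inv_mem z.2)⟩, (g : G ⧸ Z)⟩, Subtype.ext ?_⟩
    simp only [hz, Subgroup.coe_inv]
    group

omit [MFT G] in
theorem NormedTI.ncard_classSupp {T : Set G} (h : NormedTI T ⊤ Z) :
    (classSupp T ⊤).ncard = T.ncard * Z.index :=
  ncard_classSupp_of_TI fun a ha g => h.mem_iff ha (mem_top g)

/-- `L ∈ 𝓜_P`, `K` is a Hall `κ(L)`-subgroup and `Z = K × K^*` -/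
def PPair (Z L K : Subgroup G) : Prop :=
  IsMP L ∧ IsPiHallOf (kappa L) K L ∧ K ⊔ (Mσ[L] ⊓ C[K]) = Z

namespace PPair

theorem mmax (h : PPair Z L K) : IsCoatom L := h.1.1
theorem hall (h : PPair Z L K) : IsPiHallOf (kappa L) K L := h.2.1
theorem dprod (h : PPair Z L K) : Dprod K (Mσ[L] ⊓ C[K]) Z := h.2.2 ▸ kappa_dprod h.hall
theorem norm_eq (h : PPair Z L K) : L ⊓ N[K] = Z := (Ptype_structure h.1 h.hall).1.1.eq h.dprod
theorem le (h : PPair Z L K) : Z ≤ L := h.norm_eq ▸ inf_le_left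
theorem ne_bot (h : PPair Z L K) : K ≠ ⊥ := (trivgPmax h.mmax h.hall).1 h.1
theorem left_le (h : PPair Z L K) : K ≤ Z := h.dprod.left_le
theorem hallKs (h : PPair Z L K) : IsPiHallOf (sigma L) (Mσ[L] ⊓ C[K]) Z :=
  isPiHallOf_of_isComplIn' h.dprod.compl (kappa_sigma' h.hall.isPi) (sigmaCore_isPi L).inf_left
theorem hallK (h : PPair Z L K) : IsPiHallOf (sigma L)ᶜ K Z := h.hallKs.compl h.dprod.compl.symm
theorem star (h : PPair Z L K) : Mσ[L] ⊓ Z = Mσ[L] ⊓ C[K] :=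
  le_antisymm (h.hallKs.le_of_normal h.dprod.norm_right inf_le_right (sigmaCore_isPi L).inf_left)
    (le_inf inf_le_left h.dprod.right_le)
theorem star_ne_bot (h : PPair Z L K) : Mσ[L] ⊓ C[K] ≠ ⊥ := (Ptype_structure h.1 h.hall).2.1.1
theorem norm_prime (h : PPair Z L K) (hX : X ≤ K) (hXp : (Nat.card X).Prime) : L ⊓ N[X] = Z :=
  ((Ptype_structure h.1 h.hall).1.2 X hX hXp).1.trans h.norm_eq
theorem uniq (h : PPair Z L K) (hX : X ≤ Mσ[L] ⊓ C[K]) (hXp : (Nat.card X).Prime) : UMax C[X] L :=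
  (Ptype_structure h.1 h.hall).2.1.2 X hX hXp
theorem le_left (h : PPair Z L K) (hX : X ≤ Z) (hs : IsPiSubgroup (sigma L)ᶜ X) : X ≤ K :=
  h.hallK.le_of_normal h.dprod.norm_left hX hs
theorem le_star (h : PPair Z L K) (hX : X ≤ Z) (hs : IsPiSubgroup (sigma L) X) :
    X ≤ Mσ[L] ⊓ C[K] := h.hallKs.le_of_normal h.dprod.norm_right hX hs
theorem cent_eq (h : PPair Z L K) (hX : X ≤ K) (hX1 : X ≠ ⊥) : Mσ[L] ⊓ C[X] = Mσ[L] ⊓ C[K] :=
  (kappa_primact h.mmax h.hall).inf_cent hX hX1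

theorem conj (h : PPair Z L K) (g : G) : PPair (cj[g] Z) (cj[g] L) (cj[g] K) :=
  ⟨PtypeJ.2 h.1, by rw [kappa_conj]; exact h.hall.conj g,
    by rw [← h.2.2, conj_sup, conj_inf, conj_sigmaCore, conj_centralizer]⟩

end PPair

theorem s14_kappa (hL : IsCoatom L) (hX : X ≤ Mσ[L]) (hX1 : X ≠ ⊥) (hY : Y ≤ L ⊓ C[X])
    (hYp : (Nat.card Y).Prime) (hs : Nat.card Y ∉ sigma L) (hu : UMax C[Y] M) (hne : L ≠ M) :
    Nat.card Y ∈ kappa L := by
  obtain ⟨x, hx, hx1⟩ := exists_ne_one_of_ne_bot hX1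
  obtain ⟨y, hy, hy1⟩ := exists_ne_one_of_ne_bot (ne_bot_of_card_prime hYp)
  have ho : orderOf y = Nat.card Y := by
    rw [← Nat.card_zpowers, ← eq_zpowers_of_card_prime hYp hy hy1]
  rcases pi_of_cent_sigma hL (hX hx) hx1 ⟨(hY hy).1, cent_le_cent1 hx (hY hy).2⟩ hy1
    (by rw [ho]; exact (piNat_prime hYp).2 hs) with h | h
  · exact h.1 _ hYp ho.symm.dvd
  · exact absurd (hu.eq hL (cent_eq_cent1_of_card_prime hYp hy hy1 ▸ h.2.2.le)) hne

theorem isPi_of_forall_card_prime (h : ∀ Y, Y ≤ K → (Nat.card Y).Prime → Nat.card Y ∈ π) :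
    IsPiSubgroup π K := fun p hp hd => by
  obtain ⟨Y, hY, e⟩ := exists_le_card_eq_prime hp hd
  exact e ▸ h Y hY (e ▸ hp)

namespace PPair

theorem step (h : PPair Z M K) (hX : X ≤ K) (hXp : (Nat.card X).Prime) (hL : IsCoatom L)
    (hn : N[X] ≤ L) : ∃ K', PPair Z L K' ∧ X ≤ Mσ[L] ∧ L ≠ M := by
  have hM := h.mmax
  have hX1 := ne_bot_of_card_prime hXp
  have hc := mmax_norm_notJ hM hL (isPGroup_of_card_eq_prime rfl) (hX.trans h.hall.le) hn
    (Or.inr (kappa_tau13 (h.hall.isPi _ hXp (card_dvd_of_le hX))))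
  have hne := ne_of_not_conjg hc
  have hXL : X ≤ Mσ[L] := ((Ptype_structure h.1 h.hall).1.2 X hX hXp).2 L hL hn
  have hZL : Z ≤ L := (h.norm_prime hX hXp).ge.trans (inf_le_right.trans hn)
  have hdis := Set.disjoint_left.1 (sigma_partition hM hL hc)
  have h1 : IsPiSubgroup (kappa L) (Mσ[M] ⊓ C[K]) := isPi_of_forall_card_prime fun Y hY hYp =>
    s14_kappa hL hXL hX1 (hY.trans (le_inf (h.dprod.right_le.trans hZL)
      (inf_le_right.trans (cent_anti hX)))) hYp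
      (hdis (sigma_of_dvd_Msigma hYp (hY.trans inf_le_left) dvd_rfl)) (h.uniq hY hYp) hne
  obtain ⟨K', hK', hsK'⟩ := exists_hall_ge (mmax_sol hL) (h.dprod.right_le.trans hZL) h1
  have h' : PPair _ L K' := ⟨(trivgPmax hL hK').2 (ne_bot_of_le h.star_ne_bot hsK'), hK', rfl⟩
  refine ⟨K', ⟨h'.1, hK', ?_⟩, hXL, hne⟩
  obtain ⟨Y, hY, hYp⟩ := exists_le_card_prime h.star_ne_bot
  have hY1 := ne_bot_of_card_prime hYp
  have hYK : K ≤ C[Y] := le_cent_symm (hY.trans inf_le_right)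
  have e := h'.norm_prime (hY.trans hsK') hYp
  have hZ'M : K' ⊔ (Mσ[L] ⊓ C[K']) ≤ M := e.ge.trans (inf_le_right.trans
    ((norm_le_norm_cent Y).trans (h.uniq hY hYp).norm_le))
  have hXs : X ≤ Mσ[L] ⊓ C[K'] := h'.cent_eq (hY.trans hsK') hY1 ▸ le_inf hXL (hX.trans hYK)
  have hKZ' : K ≤ K' ⊔ (Mσ[L] ⊓ C[K']) :=
    (le_inf (h.left_le.trans hZL) (le_norm_of_cent hYK)).trans e.le
  have h2 : IsPiSubgroup (kappa M) (Mσ[L] ⊓ C[K']) := isPi_of_forall_card_prime fun W hW hWp =>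
    s14_kappa hM (hY.trans inf_le_left) hY1 (hW.trans (le_inf (le_sup_right.trans hZ'M)
      (inf_le_right.trans (cent_anti (hY.trans hsK'))))) hWp
      (fun hs => hdis hs (sigma_of_dvd_Msigma hWp (hW.trans inf_le_left) dvd_rfl))
      (h'.uniq hW hWp) hne.symm
  refine le_antisymm (sup_le ?_ ?_) (h.2.2.ge.trans (sup_le hKZ' (hsK'.trans le_sup_left)))
  · exact (le_inf (le_sup_left.trans hZ'M)
      (le_norm_of_cent (le_cent_symm (hXs.trans inf_le_right)))).trans (h.norm_prime hX hXp).le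
  · exact (h.hall.le_of_norm (le_sup_right.trans hZ'M) h2
      (Or.inr (hKZ'.trans h'.dprod.norm_right))).trans h.left_le

theorem sep (h : PPair Z L K) (h' : PPair Z L' K') (hne : L ≠ L') : Mσ[L] ⊓ C[K] ≤ K' := by
  refine h'.le_left h.dprod.right_le (isPi_of_forall_card_prime fun Y hY hYp hs => hne ?_)
  exact (h'.uniq (h'.le_star (hY.trans h.dprod.right_le)
    (isPi_of_isPGroup_mem hYp (isPGroup_of_card_eq_prime rfl) hs)) hYp).eq h.mmax (h.uniq hY hYp).le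

theorem not_conjg (h : PPair Z L K) (h' : PPair Z L' K') (hne : L ≠ L') : ¬ Conjg L L' := fun hc =>
  h.star_ne_bot ((sigmaCore_isPi L).inf_left.eq_bot
    (hc.sigma_eq ▸ h'.hallK.isPi.of_le (h.sep h' hne)))

theorem exists_le_sigma (h : PPair Z M K) (hX : X ≤ Z) (hXp : (Nat.card X).Prime) :
    ∃ L K', PPair Z L K' ∧ X ≤ Mσ[L] := by
  by_cases hs : Nat.card X ∈ sigma M
  · exact ⟨M, K, h, (h.le_star hX
      (isPi_of_isPGroup_mem hXp (isPGroup_of_card_eq_prime rfl) hs)).trans inf_le_left⟩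
  · obtain ⟨L, hL, hn⟩ := exists_mmax_norm_of_card_prime hXp
    obtain ⟨K', h1, h2, -⟩ := h.step (h.le_left hX
      (isPi_of_isPGroup_mem hXp (isPGroup_of_card_eq_prime rfl) hs)) hXp hL hn
    exact ⟨L, K', h1, h2⟩

theorem exists_ne (h : PPair Z M K) : ∃ L K', PPair Z L K' ∧ L ≠ M := by
  obtain ⟨X, hX, hXp⟩ := exists_le_card_prime h.ne_bot
  obtain ⟨L, hL, hn⟩ := exists_mmax_norm_of_card_prime hXp
  obtain ⟨K', h1, -, h2⟩ := h.step hX hXp hL hn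
  exact ⟨L, K', h1, h2⟩

theorem decomp (h : PPair Z L K) (ht : t ∈ cycTI K (Mσ[L] ⊓ C[K])) :
    ∃ a ∈ K, ∃ b ∈ Mσ[L] ⊓ C[K], a ≠ 1 ∧ b ≠ 1 ∧ t = a * b := by
  obtain ⟨a, ha, b, hb, rfl⟩ := h.dprod.exists_mul (h.2.2 ▸ ht.1)
  exact ⟨a, ha, b, hb, fun e => ht.2.2 (by rwa [e, one_mul]), fun e => ht.2.1 (by rwa [e, mul_one]),
    rfl⟩

theorem constt_eq (h : PPair Z L K) {a b : G} (ha : a ∈ K) (hb : b ∈ Mσ[L] ⊓ C[K]) :
    constt (sigma L)ᶜ (a * b) = a ∧ constt (sigma L) (a * b) = b := by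
  have hc : Commute a b := mem_centralizer_iff.1 hb.2 a ha
  have h1 := h.hallK.isPi.orderOf ha
  have h2 := h.hallKs.isPi.orderOf hb
  exact ⟨constt_eq_of_mul hc h1 (piNat_compl_compl.2 h2) rfl, constt_eq_of_mul hc.symm h2 h1 hc.eq⟩

theorem not_mem_conj (h : PPair Z L K) (ht : t ∈ cycTI K (Mσ[L] ⊓ C[K])) (hg : t ∈ cj[g] L) :
    g ∈ L := by
  obtain ⟨a, ha, b, hb, ha1, hb1, rfl⟩ := h.decomp ht
  by_contra hgL
  exact ne_bot_of_mem (mem_inf.2 ⟨hb, (h.constt_eq ha hb).2 ▸ constt_mem _ hg⟩) hb1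
    ((Ptype_structure h.1 h.hall).2.2.1.1 g hgL)

theorem mem_of_conj (h : PPair Z L K) (ht : t ∈ cycTI K (Mσ[L] ⊓ C[K])) (hg : g * t * g⁻¹ ∈ Z) :
    g ∈ Z := by
  have hgL : g ∈ L := inv_mem_iff.1 (h.not_mem_conj ht (mem_conj.2 (by rw [inv_inv]; exact h.le hg)))
  obtain ⟨a, ha, b, hb, ha1, hb1, rfl⟩ := h.decomp ht
  rw [← h.norm_eq]
  refine ⟨hgL, by_contra fun hgK => ne_bot_of_mem (x := g * a * g⁻¹)
    (mem_inf.2 ⟨?_, conj_mem_conj.2 ha⟩) (fun e => ha1 (by simpa using e))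
    ((Ptype_structure h.1 h.hall).2.2.1.2 g hgL hgK)⟩
  have := h.hallK.constt_mem h.dprod.norm_left hg
  rwa [constt_conj, (h.constt_eq ha hb).1] at this

theorem not_mem_cover (h : PPair Z L K) (ht : t ∈ cycTI K (Mσ[L] ⊓ C[K])) (hH : IsCoatom H) :
    t ∉ classSupp (sigCover H) ⊤ := fun hc => by
  obtain ⟨x, hx1, ⟨H', hH', hx⟩, r, hr, e⟩ := (mem_classSupp_sigCover hH).1 hc
  obtain ⟨a, ha, b, hb, ha1, hb1, rfl⟩ := h.decomp ht
  have hc : Commute a b := mem_centralizer_iff.1 hb.2 a ha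
  have e' : b⁻¹ * (a * b) = a := by rw [hc.eq]; group
  refine sigma_decomposition_exclusive (g := a * b) (Msigma_ell1 (hH'.isCoatom hH) hx hx1)
    (by rw [e]; simpa using hr) hb1 ⟨h.mmax, hb.1⟩ ?_ ?_ ?_ <;> rw [e']
  · exact ⟨h.hall.le ha, mem_cent1.2 hc.eq⟩
  · exact ha1
  · exact h.hall.isPi.orderOf ha

theorem disjoint_cover {T : Set G} (hT : ∀ t ∈ T, ∃ L K, PPair Z L K ∧ t ∈ cycTI K (Mσ[L] ⊓ C[K]))
    (hH : IsCoatom H) : Disjoint (classSupp T ⊤) (classSupp (sigCover H) ⊤) := by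
  rw [Set.disjoint_left]
  intro g h1 h2
  obtain ⟨t, ht, c, -, rfl⟩ := mem_classSupp.1 h1
  obtain ⟨L, K, h, ht'⟩ := hT t ht
  refine h.not_mem_cover ht' hH ?_
  have := conj_mem_classSupp (mem_top c⁻¹) h2
  simpa [mul_assoc] using this

theorem lt (h : PPair Z L K) : Z < L := by
  refine lt_of_le_of_ne h.le fun e => ?_
  obtain ⟨X, hX, hXp⟩ := exists_le_card_prime h.ne_bot
  have h1 := h.norm_prime hX hXp
  rw [e, inf_eq_left] at h1
  exact tau13_not_norm_le h.mmax (kappa_tau13 (h.hall.isPi _ hXp (card_dvd_of_le hX)))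
    (isPGroup_of_card_eq_prime rfl)
    (mmax_normal h.mmax (hX.trans h.hall.le) h1 (ne_bot_of_card_prime hXp)).le

theorem count (h : PPair Z L K) (h1 : IsMP1 L) :
    Z.index * (2 * (sharp (Mσ[L] ⊓ Z)).ncard + 1) ≤ 2 * (classSupp (sigCover L) ⊤).ncard := by
  rw [card_class_support_sigma h.mmax, ncard_sharp, h.star]
  have hK : IsPiHallOf (sigma L)ᶜ K L := h.hall.congr' fun p hp hd =>
    ⟨kappa_not_sigma, (h1.2 p hp hd).resolve_left⟩
  have e1 := (sdprod_sigma h.mmax hK).card_mul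
  have e2 := h.dprod.card_mul
  have e3 := L.card_mul_index
  have e4 := Z.card_mul_index
  have e5 := relIndex_mul_index h.le
  have e6 : 2 ≤ Z.relIndex L := by
    have a := relIndex_pos Z L
    have b : Z.relIndex L ≠ 1 := fun e => h.lt.not_ge (relIndex_eq_one.1 e)
    omega
  have e7 : Nat.card Mσ[L] * L.index = Nat.card ↥(Mσ[L] ⊓ C[K]) * Z.index := by
    apply Nat.eq_of_mul_eq_mul_left (card_pos' K)
    calc _ = Nat.card Mσ[L] * Nat.card K * L.index := by ring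
      _ = Nat.card K * Nat.card ↥(Mσ[L] ⊓ C[K]) * Z.index := by rw [e1, e2, e3, e4]
      _ = _ := by ring
  have e8 : 2 * L.index ≤ Z.index := e5 ▸ Nat.mul_le_mul_right _ e6
  obtain ⟨a, ha⟩ := Nat.exists_eq_add_one_of_ne_zero (card_pos' Mσ[L]).ne'
  obtain ⟨b, hb⟩ := Nat.exists_eq_add_one_of_ne_zero (card_pos' (Mσ[L] ⊓ C[K])).ne'
  rw [ha, hb] at e7
  rw [ha, hb, Nat.add_sub_cancel, Nat.add_sub_cancel]
  nlinarith

theorem exists_P2 (h : PPair Z M K) : ∃ L K', PPair Z L K' ∧ IsMP2 L := by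
  classical
  by_contra hcon
  have hP1 : ∀ L K', PPair Z L K' → IsMP1 L := fun L K' h' =>
    ⟨h'.1, by_contra fun h2 => hcon ⟨L, K', h', h'.1, h2⟩⟩
  have := Fintype.ofFinite (Subgroup G)
  let I : Finset (Subgroup G) := Finset.univ.filter fun L => ∃ K', PPair Z L K'
  have hI : ∀ L, L ∈ I ↔ ∃ K', PPair Z L K' := fun L => by simp [I]
  let T : Set G := {t | t ∈ Z ∧ ∀ L ∈ I, t ∉ Mσ[L]}
  have hT1 : (1 : G) ∉ T := fun h1 => h1.2 M ((hI M).2 ⟨K, h⟩) (one_mem _)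
  have hT : ∀ t ∈ T, ∃ L K, PPair Z L K ∧ t ∈ cycTI K (Mσ[L] ⊓ C[K]) := fun t ht => by
    obtain ⟨X, hX, hXp, -⟩ := exists_le_zpowers_card_prime (x := t) fun e => hT1 (e ▸ ht)
    obtain ⟨L, K', h', hXL⟩ := h.exists_le_sigma (hX.trans (zpowers_le.2 ht.1)) hXp
    refine ⟨L, K', h', h'.2.2.symm ▸ ht.1, fun hK => ne_bot_of_card_prime hXp ?_,
      fun hK => ht.2 L ((hI L).2 ⟨K', h'⟩) hK.1⟩
    exact ((sigmaCore_isPi L).of_le hXL).eq_bot (h'.hallK.isPi.of_le (hX.trans (zpowers_le.2 hK)))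
  have c1 : (classSupp T ⊤).ncard = T.ncard * Z.index := ncard_classSupp_of_TI fun t ht g =>
    ⟨fun hg => let ⟨_, _, h', ht'⟩ := hT t ht; h'.mem_of_conj ht' hg.1, fun hg =>
      ⟨mul_mem (mul_mem hg ht.1) (inv_mem hg), fun L hL hc => ht.2 L hL (by
        obtain ⟨K', h'⟩ := (hI L).1 hL
        have := conj_mem_of_le_norm' (le_norm_sigmaCore L) (h'.le hg) hc
        simpa [mul_assoc] using this)⟩⟩
  have c2 : Nat.card Z ≤ T.ncard + ∑ L ∈ I, (sharp (Mσ[L] ⊓ Z)).ncard + 1 := by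
    have : (Z : Set G) ⊆ (T ∪ ⋃ L ∈ I, sharp (Mσ[L] ⊓ Z)) ∪ {1} := fun z hz => by
      by_cases h1 : z = 1
      · exact Or.inr h1
      by_cases h2 : z ∈ T
      · exact Or.inl (Or.inl h2)
      obtain ⟨L, hL, h3⟩ : ∃ L ∈ I, z ∈ Mσ[L] := by
        by_contra hc
        exact h2 ⟨hz, fun L hL h3 => hc ⟨L, hL, h3⟩⟩
      exact Or.inl (Or.inr (Set.mem_biUnion hL ⟨⟨h3, hz⟩, h1⟩))
    calc Nat.card Z = (Z : Set G).ncard := by rw [← Nat.card_coe_set_eq, SetLike.coe_sort_coe]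
      _ ≤ _ := Set.ncard_le_ncard this
      _ ≤ _ := Set.ncard_union_le _ _
      _ ≤ _ := by
        rw [Set.ncard_singleton]
        exact Nat.add_le_add_right ((Set.ncard_union_le _ _).trans
          (Nat.add_le_add_left (I.set_ncard_biUnion_le _) _)) 1
  have c3 : (classSupp T ⊤).ncard + ∑ L ∈ I, (classSupp (sigCover L) ⊤).ncard + 1 ≤ Nat.card G := by
    have e : (⋃ L ∈ (I : Set (Subgroup G)), classSupp (sigCover L) ⊤).ncard =
        ∑ L ∈ I, (classSupp (sigCover L) ⊤).ncard := by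
      rw [I.finite_toSet.ncard_biUnion (fun _ _ => Set.toFinite _), finsum_mem_coe_finset]
      intro L hL L' hL' hne
      obtain ⟨K₁, h₁⟩ := (hI L).1 hL
      obtain ⟨K₂, h₂⟩ := (hI L').1 hL'
      exact sigma_support_disjoint h₁.mmax h₂.mmax (h₁.not_conjg h₂ hne)
    rw [← e, ← Set.ncard_union_eq, ← Set.ncard_insert_of_notMem (a := (1 : G))]
    · exact Set.ncard_le_card _
    · rintro (h1 | h1)
      · obtain ⟨t, ht, c, -, e⟩ := mem_classSupp.1 h1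
        obtain rfl : t = 1 := by simpa using e.symm
        exact hT1 ht
      · obtain ⟨L, hL, h1⟩ := Set.mem_iUnion₂.1 h1
        obtain ⟨t, ht, c, -, e⟩ := mem_classSupp.1 h1
        obtain rfl : t = 1 := by simpa using e.symm
        obtain ⟨K', h'⟩ := (hI L).1 hL
        exact one_not_mem_sigCover h'.mmax ht
    · rw [Set.disjoint_iUnion₂_right]
      intro L hL
      obtain ⟨K', h'⟩ := (hI L).1 hL
      exact disjoint_cover hT h'.mmax
  have c4 : Z.index * (2 * ∑ L ∈ I, (sharp (Mσ[L] ⊓ Z)).ncard + I.card) ≤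
      2 * ∑ L ∈ I, (classSupp (sigCover L) ⊤).ncard := by
    rw [Finset.card_eq_sum_ones, Finset.mul_sum, ← Finset.sum_add_distrib, Finset.mul_sum,
      Finset.mul_sum]
    exact Finset.sum_le_sum fun L hL => let ⟨K', h'⟩ := (hI L).1 hL; h'.count (hP1 L K' h')
  have c5 : 2 ≤ I.card := by
    obtain ⟨L, K', h', hne⟩ := h.exists_ne
    exact Finset.one_lt_card.2 ⟨L, (hI L).2 ⟨K', h'⟩, M, (hI M).2 ⟨K, h⟩, hne⟩
  have c6 := Z.card_mul_index
  rw [c1] at c3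
  have c7 := Nat.mul_le_mul_left Z.index c2
  have c8 := Nat.mul_le_mul_left Z.index c5
  nlinarith

end PPair

end Cfsg.Agent.BG
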