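import Cfsg.Agent.BG.S15a

/-! Bender–Glauberman 15.3–15.9 (15.1, 15.2 are in `BG/S15a`). -/

set_option autoImplicit false
set_option linter.unusedSectionVars false
set_option linter.unusedVariables false

namespace Cfsg.Agent.BG

open Subgroup Cfsg.Agent.GT
open scoped commutatorElement

universe u

variable {G : Type u} [Group G] [Finite G] [MFT G]
variable {A A₀ B D E E₁ E₂ E₃ H K L M Ms N P Q R S U V W W₁ W₂ X Y : Subgroup G} {p q r : ℕ}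
  {g x y : G} {π : Set ℕ}

/-- 15.3(a) -/
theorem cent_Hall_sigma_sdprod (hM : IsCoatom M) (hH : IsPiHallOf π H Mσ[M]) (hH1 : H ≠ ⊥) :
    ∃ X, Sdprod (Mσ[M] ⊓ C[H]) X (M ⊓ C[H]) ∧ IsCyclic X ∧ IsPiSubgroup (tau2 M) X := by
  have hs := mmax_sol hM
  obtain ⟨X, hX⟩ := exists_hall (sigma M)ᶜ (solv_of_le hs (inf_le_left : M ⊓ C[H] ≤ M))
  have h1 : IsPiHallOf (sigma M) (Mσ[M] ⊓ C[H]) (M ⊓ C[H]) := by
    have := (Msigma_Hall hM).normal_inf (le_norm_sigmaCore M) (inf_le_left : M ⊓ C[H] ≤ M)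
    rwa [← inf_assoc, inf_eq_left.2 (sigmaCore_le M)] at this
  refine ⟨X, h1.sdprod (le_norm_inf (inf_le_left.trans (le_norm_sigmaCore M))
    (inf_le_right.trans le_normalizer)) hX, ?_⟩
  by_cases hX1 : X = ⊥
  · subst hX1; exact ⟨inferInstance, isPiSubgroup_bot⟩
  have hXM : X ≤ M := hX.le.trans inf_le_left
  have hXH : H ≤ C[X] := le_cent_symm (hX.le.trans inf_le_right)
  have hk : IsPiSubgroup (sigma M ∪ kappa M)ᶜ X := by
    rintro p hp hd (h | h)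
    · exact hX.isPi p hp hd h
    obtain ⟨P, hP⟩ := exists_pnElem_one hp hd
    obtain ⟨K, hK, hPK⟩ := exists_hall_ge hs (hP.le.trans hXM)
      (isPi_of_isPGroup_mem hp hP.isPGroup h)
    have hK1 := ne_bot_of_le (hP.ne_bot hp) hPK
    obtain ⟨U, hU⟩ := ex_kappa_compl hM hK
    obtain ⟨-, -, -, hpr, -⟩ := kappa_compl_context hM hU
    obtain ⟨-, -, -, h4, -⟩ := Ptype_structure ((trivgPmax hM hK).2 hK1) hK
    have hHK : H ≤ Mσ[M] ⊓ C[K] := by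
      rw [← hpr.inf_cent hPK (hP.ne_bot hp)]
      exact le_inf hH.le (hXH.trans (cent_anti hP.le))
    obtain ⟨r, hr, hrd⟩ := exists_prime_dvd_card hH1
    obtain ⟨S, hS⟩ := exists_syl hr H
    exact (h4 r S hr (hrd.trans (card_dvd_of_le hHK)) (hS.trans_single hH (hH.isPi r hr hrd))).2
      (hS.le.trans hHK)
  obtain ⟨K, hK⟩ := exists_hall (kappa M) hs
  obtain ⟨U, hU⟩ := ex_kappa_compl hM hK
  obtain ⟨g, hg, hle⟩ := hU.hallU.exists_le_conj hs hXM hk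
  exact (kappa_compl_nreg hM (hU.conj_of_mem hg) hle hX1
    (ne_bot_of_le hH1 (le_inf hH.le hXH))).2

/-- 15.3(b) -/
theorem sigma_Hall_tame (hM : IsCoatom M) (hH : IsPiHallOf π H Mσ[M]) (hx : x ∈ H)
    (hg : g * x * g⁻¹ ∈ H) : ∃ b ∈ M ⊓ N[H], b * x * b⁻¹ = g * x * g⁻¹ := by
  by_cases hx1 : x = 1
  · exact ⟨1, one_mem _, by simp [hx1]⟩
  have h1 : SigMax x M := ⟨hM, hH.le hx⟩
  have h2 : SigMax x (cj[g⁻¹] M) := by
    simpa [mul_assoc] using sigMax_conj (x := g * x * g⁻¹) ⟨hM, hH.le hg⟩ g⁻¹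
  obtain ⟨z, ⟨hz, e⟩, -⟩ := (FT_signalizer_trans (Msigma_ell1 hM (hH.le hx) hx1)).1 _ _ h1 h2
  have hm : g * z ∈ M := mem_of_conj_mmax_eq hM (by rw [mul_conj, ← e, conj_inv_conj])
  have em : g * z * x * (g * z)⁻¹ = g * x * g⁻¹ := by
    have := mem_cent1.1 hz.2
    calc g * z * x * (g * z)⁻¹ = g * (z * x) * z⁻¹ * g⁻¹ := by group
      _ = _ := by rw [this]; group
  rw [← em] at hg ⊢
  generalize g * z = m at hm hg
  by_cases hn : M ≤ N[H]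
  · exact ⟨m, ⟨hm, hn hm⟩, rfl⟩
  have hne : MF[M] ≠ Mσ[M] := fun h => hn ((le_norm_sigmaCore M).trans
    (nil_norm_le_norm_hall ((Fcore_eq_Msigma hM).1 h) hH))
  obtain ⟨q, Q, hq, hβ, sQ, hMQ, -, -, hDn, -⟩ := s15_Fcore_data hM hne
  have hsMs := sub_mmax_sol hM (sigmaCore_le M)
  have sQ' := syl_Msigma hM (beta_sub_sigma hM hβ) sQ
  obtain ⟨H₀, h₀⟩ := exists_hall {q}ᶜ (solv_of_le hsMs hH.le)
  obtain ⟨D, hD, hHD⟩ := exists_hall_ge hsMs (h₀.le.trans hH.le) h₀.isPi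
  have hDH : N[D] ≤ N[H₀] := nil_norm_le_norm_hall (hDn D hD) ((h₀.trans_inter hH).of_le hHD hD.le)
  have eM : Q ⊔ (M ⊓ N[D]) = M := by
    refine le_antisymm (sup_le sQ.le inf_le_left) ?_
    conv_lhs => rw [← hall_frattini hD hsMs (sigmaCore_le M) (le_norm_sigmaCore M),
      ← sQ'.sup_eq hD]
    exact sup_le (sup_le le_sup_left (le_sup_of_le_right
      (le_inf (hD.le.trans (sigmaCore_le M)) le_normalizer))) le_sup_right
  by_cases hqπ : q ∈ π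
  · have hQH : Q ≤ H := hH.le_of_norm sQ'.le (IsPiSubgroup.single_mono sQ.isPi hqπ)
      (Or.inr (hH.le.trans ((sigmaCore_le M).trans hMQ)))
    have eH : Q ⊔ H₀ = H := (sQ'.of_le hQH hH.le).sup_eq h₀
    refine absurd ?_ hn
    rw [← eM]
    refine sup_le (le_norm_self hQH) ?_
    rw [← eH]
    exact le_norm_sup (inf_le_left.trans hMQ) (inf_le_right.trans hDH)
  have hHq : IsPiSubgroup {q}ᶜ H := fun r hr hd h => hqπ (h ▸ hH.isPi r hr hd)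
  obtain rfl : H₀ = H := h₀.eq_self hHq
  rw [← eM, sup_comm, mem_sup_of_le_norm (inf_le_left.trans hMQ)] at hm
  obtain ⟨n, hn, y, hy, rfl⟩ := hm
  refine ⟨n, ⟨hn.1, hDH hn.2⟩, ?_⟩
  have h3 : y * x * y⁻¹ ∈ H₀ := by
    have := conj_mem_of_le_norm' (le_refl N[H₀]) (hDH hn.2) hg
    rwa [show n⁻¹ * (n * y * x * (n * y)⁻¹) * n = y * x * y⁻¹ by group] at this
  have h4 : y * x * y⁻¹ * x⁻¹ ∈ H₀ ⊓ Q := mem_inf.2 ⟨mul_mem h3 (inv_mem hx), by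
    rw [show y * x * y⁻¹ * x⁻¹ = y * (x * y⁻¹ * x⁻¹) by group]
    exact mul_mem hy (conj_mem_of_le_norm hMQ (sigmaCore_le M (hH.le hx)) (inv_mem hy))⟩
  rw [IsPiSubgroup.inf_eq_bot' hHq sQ.isPi, mem_bot, mul_inv_eq_one] at h4
  calc n * x * n⁻¹ = n * (y * x * y⁻¹) * n⁻¹ := by rw [h4]
    _ = _ := by group

/-- `σ'`-subgroups centralizing a nontrivial Hall subgroup of `M_σ` -/
theorem s15_cent_Hall_sigma' (hM : IsCoatom M) (hH : IsPiHallOf π H Mσ[M]) (hH1 : H ≠ ⊥)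
    (hY : Y ≤ M ⊓ C[H]) (hs : IsPiSubgroup (sigma M)ᶜ Y) :
    IsCyclic Y ∧ IsPiSubgroup (tau2 M) Y := by
  obtain ⟨X, d, hc, ht⟩ := cent_Hall_sigma_sdprod hM hH hH1
  have hX : IsPiHallOf (sigma M)ᶜ X (M ⊓ C[H]) := isPiHallOf_of_isComplIn d.compl.symm
    (IsPiSubgroup.mono ht fun _ h => tau2_not_sigma h)
    (by simpa using IsPiSubgroup.inf_left (K := C[H]) (sigmaCore_isPi M))
  obtain ⟨g, -, hle⟩ := hX.exists_le_conj (sub_mmax_sol hM inf_le_left) hY hs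
  exact ⟨cyc_of_le (isCyclic_conj_iff.2 hc) hle, IsPiSubgroup.of_le (isPiSubgroup_cj.2 ht) hle⟩

/-- 15.4 -/
theorem nilpotent_Hall_sigma (hn : Group.IsNilpotent H) (hH : IsPiHallOf π H ⊤) :
    ∃ M, IsCoatom M ∧ H ≤ Mσ[M] := by
  by_cases h1 : H = ⊥
  · obtain ⟨M, hM⟩ := any_mmax (G := G)
    exact ⟨M, hM, h1 ▸ bot_le⟩
  obtain ⟨p, hp, hd⟩ := exists_prime_dvd_card h1
  have syl : ∀ q, q.Prime → q ∣ Nat.card H → IsPiHallOf {q} O[{q}](H) ⊤ := fun q hq hd =>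
    (nil_isPiHallOf_piCoreOf hn {q}).trans_single hH (hH.isPi q hq hd)
  have hS1 : O[{p}](H) ≠ ⊥ := piCoreOf_ne_bot_of_nil hn hp rfl hd
  obtain ⟨M, hM, hN, sS, hσ⟩ := exists_mmax_norm_syl hp (syl p hp hd) hS1
  have hHM : H ≤ M := (self_le_norm_piCoreOf _ H).trans hN
  refine ⟨M, hM, le_Msigma hM hHM fun q hq hqd => ?_⟩
  by_contra hqσ
  have hqp : q ≠ p := fun h => hqσ (h ▸ hσ)
  have hT : O[{q}](H) ≤ M := (piCoreOf_le _ _).trans hHM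
  obtain ⟨hc, ht⟩ := s15_cent_Hall_sigma' hM (syl_Msigma hM hσ sS) hS1 (Y := O[{q}](H))
    (le_inf hT (piCoreOf_le_cent_of_disjoint fun r _ h h' => hqp (h.symm.trans h')))
    (isPi_of_isPGroup_mem hq (piCoreOf_isPGroup hq H) hqσ)
  have h2 := ht q hq (prime_dvd_card_of_isPGroup hq (piCoreOf_isPGroup hq H)
    (piCoreOf_ne_bot_of_nil hn hq rfl hqd))
  exact h2.2.2.2 ((syl_pRankLE_iff hq ((syl q hq hqd).of_le hT le_top)).1
    (PG.pRankLE_one_of_isCyclic hq hc))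

omit [MFT G] in
theorem s15_Fitting_dprod (M : Subgroup G) : Dprod F[Mσ[M]] O[(sigma M)ᶜ](F[M]) F[M] := by
  rw [sigmaCore_eq, fittingOf_piCoreOf]
  exact ⟨nil_isComplIn_piCoreOf (fittingOf_nilpotent M) _, piCoreOf_le_cent_compl⟩

theorem Fcore_Hall_Msigma (hM : IsCoatom M) :
    IsPiHallOf (piOf (Nat.card MF[M])) MF[M] Mσ[M] :=
  (isPiHallOf_fittingHallOf M).of_le (Fcore_sub_Msigma hM) (sigmaCore_le M)

/-- 15.5 -/
theorem Fitting_structure (hM : IsCoatom M) :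
    (IsCyclic O[(sigma M)ᶜ](F[M]) ∧ IsPiSubgroup (tau2 M) O[(sigma M)ᶜ](F[M])) ∧
    (⁅⁅M, M⁆, ⁅M, M⁆⁆ ≤ F[M] ∧ MF[M] ⊔ (M ⊓ C[MF[M]]) = F[M] ∧
      Dprod F[Mσ[M]] O[(sigma M)ᶜ](F[M]) F[M]) ∧
    (MF[M] ≤ ⁅M, M⁆ ∧ Group.IsNilpotent (quo ⁅M, M⁆ MF[M])) ∧
    (IsMP M → F[M] ≤ ⁅M, M⁆) := by
  obtain ⟨h1, h2, h3, -⟩ := Fcore_facts hM
  have hF := fittingOf_nilpotent M
  have hHF := fittingHallOf_le_fittingOf M
  have hY := s15_cent_Hall_sigma' hM (Fcore_Hall_Msigma hM) h1 (Y := O[(sigma M)ᶜ](F[M]))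
    (le_inf ((piCoreOf_le _ _).trans (fittingOf_le M)) (le_cent_of_nilpotent_of_coprime hF
      (piCoreOf_le _ _) hHF (IsPiSubgroup.coprime' (piCoreOf_isPi _ _)
        (IsPiSubgroup.of_le (sigmaCore_isPi M) h2)))) (piCoreOf_isPi _ _)
  have hN : ⁅M, M⁆ ≤ N[MF[M]] := (der1_le M).trans (self_le_norm_fittingHallOf M)
  have key : ⁅⁅M, M⁆, ⁅M, M⁆⁆ ≤ F[M] ∧ M ⊓ C[MF[M]] ≤ F[M] ∧
      Group.IsNilpotent (quo ⁅M, M⁆ MF[M]) := by
    by_cases h : MF[M] = Mσ[M]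
    · have h4 : ⁅⁅M, M⁆, ⁅M, M⁆⁆ ≤ MF[M] := h ▸ der2_le_Msigma hM
      refine ⟨h4.trans hHF, ?_, nilpotent_of_comm' ((comm_quo_iff hN).2 h4)⟩
      obtain ⟨X, d, hc, -⟩ := cent_Hall_sigma_sdprod hM (Fcore_Hall_Msigma hM) h1
      refine comm_le_fittingOf inf_le_left
        (le_norm_inf le_normalizer (le_norm_cent (self_le_norm_fittingHallOf M))) ?_
      rw [← d.sup_eq, ← h]
      exact isMulCommutative_sup (isMulCommutative_inf_cent _) (isMulCommutative_of_isCyclic hc)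
        (inf_le_left.trans (le_cent_symm (d.right_le.trans inf_le_right)))
    · obtain ⟨q, Q, hq, hβ, sQ, hMQ, hQH, -, hDn, e, h5, h6, -⟩ := s15_Fcore_data hM h
      refine ⟨h5, (inf_le_inf_left _ (cent_anti hQH)).trans h6, ?_⟩
      obtain ⟨D, hD⟩ := exists_hall {q}ᶜ (sub_mmax_sol hM (sigmaCore_le M))
      have hDN : D ≤ N[MF[M]] := hD.le.trans (e ▸ hN)
      have : ⁅M, M⁆ ≤ MF[M] ⊔ D := by
        rw [← e, ← (syl_Msigma hM (beta_sub_sigma hM hβ) sQ).sup_eq hD]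
        exact sup_le_sup_right hQH _
      refine nil_of_le ?_ (im_mono this)
      rw [show im (coset MF[M]) (MF[M] ⊔ D) = quo D MF[M] from quo_self_sup hDN]
      exact nilpotent_im (hDn D hD)
  refine ⟨hY, ⟨key.1, le_antisymm (sup_le hHF key.2.1) ?_, s15_Fitting_dprod M⟩,
    ⟨h2.trans h3, key.2.2⟩, fun hP => ?_⟩
  · have h4 := (isPiHallOf_fittingHallOf M).of_le hHF (fittingOf_le M)
    conv_lhs => rw [← nil_piCoreOf_sup_compl hF (piOf (Nat.card MF[M]))]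
    have h5 := nil_hall_eq_piCoreOf hF h4
    refine sup_le_sup h5.ge (le_inf ((piCoreOf_le _ _).trans (fittingOf_le M)) ?_)
    exact piCoreOf_compl_le_cent.trans (cent_anti h5.le)
  · obtain ⟨K, hK⟩ := exists_hall (kappa M) (mmax_sol hM)
    obtain ⟨U, hU⟩ := ex_kappa_compl hM hK
    rw [← (s15_Fitting_dprod M).sup_eq, ← kappa_compl_der1 hM hU ((trivgPmax hM hK).1 hP)]
    exact sup_le_sup (fittingOf_le _) (hU.hallU.le_of_norm
      ((piCoreOf_le _ _).trans (fittingOf_le M)) (s15_tau2_sk' hY.2)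
      (Or.inr (hU.hallU.le.trans (le_norm_piCoreOf (self_le_norm_fittingOf M)))))

theorem Ptype_der1_coprime (hM : IsMP M) (hK : IsPiHallOf (kappa M) K M) :
    IsPiSubgroup (kappa M)ᶜ ⁅M, M⁆ := by
  obtain ⟨U, hU⟩ := ex_kappa_compl hM.1 hK
  rw [← kappa_compl_der1 hM.1 hU ((trivgPmax hM.1 hK).1 hM)]
  exact IsPiSubgroup.sup (s15_Msigma_kappa' M) hU.kappa'
    (Or.inr (hU.hallU.le.trans (le_norm_sigmaCore M)))

/-- 15.6 -/
theorem Ptype_cyclics (hM : IsMP M) (hK : IsPiHallOf (kappa M) K M) :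
    Mσ[M] ⊓ C[K] ≠ ⊥ ∧ IsCyclic ↥(Mσ[M] ⊓ C[K]) ∧ Mσ[M] ⊓ C[K] ≤ ⁅⁅M, M⁆, ⁅M, M⁆⁆ ∧
    Mσ[M] ⊓ C[K] ≤ MF[M] ∧ ¬ IsCyclic MF[M] := by
  have hM' := hM.1
  obtain ⟨-, ⟨h1, -⟩, -⟩ := Ptype_structure hM hK
  obtain ⟨Ms, -, -, -, -, -, ⟨hc, -⟩, -, -, -, d⟩ := Ptype_embedding hM hK rfl
  have h2 : Mσ[M] ⊓ C[K] ≤ ⁅⁅M, M⁆, ⁅M, M⁆⁆ := (inf_le_inf_right _ (Msigma_der1 hM')).trans
    (coprime_der1_sdprod d (IsPiSubgroup.coprime' (Ptype_der1_coprime hM hK) hK.isPi)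
      (sub_mmax_sol hM' (der1_le M)) le_rfl).2
  refine ⟨h1, cyc_of_le hc le_sup_right, h2, ?_, fun hc => h1 (le_bot_iff.1 (h2.trans ?_))⟩
  · by_cases h : MF[M] = Mσ[M]
    · rw [h]; exact inf_le_left
    obtain ⟨D, hD⟩ := exists_hall {Nat.card ↥(Mσ[M] ⊓ C[K])}ᶜ (sub_mmax_sol hM' (sigmaCore_le M))
    obtain ⟨-, ⟨-, hq, -⟩, ⟨h4, -⟩, -⟩ := Fcore_structure hM' hK h rfl rfl rfl rfl hD rfl
    exact (s15_Fcore_syl hM' hK h rfl).1.trans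
      (syl_le_fittingHallOf hq h4 (self_le_norm_piCoreOf _ M))
  · obtain ⟨⟨hY, -⟩, ⟨-, eF, dF⟩, -⟩ := Fitting_structure hM'
    have h3 : ⁅M, M⁆ ≤ F[M] := eF ▸ le_sup_of_le_right (le_inf (der1_le M)
      (PG.commutator_le_cent_of_isCyclic hc (self_le_norm_fittingHallOf M)
        (self_le_norm_fittingHallOf M)))
    have h4 := nilpotent_of_le_fittingOf ((Msigma_der1 hM').trans h3)
    rw [fittingOf_eq_self h4, ← (Fcore_eq_Msigma hM').2 h4] at dF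
    exact (le_cent_iff_commutator_eq_bot.1 (comm_iff_le_cent.1 (comm_of_le
      (dF.comm (isMulCommutative_of_isCyclic hc) (isMulCommutative_of_isCyclic hY)) h3))).le

theorem s15_norm_sigma'_Fitting (hM : IsCoatom M) (hX : X ≤ F[M]) (hX1 : X ≠ ⊥)
    (hs : IsPiSubgroup (sigma M)ᶜ X) : N[X] = M :=
  mmax_normal hM (hX.trans (fittingOf_le M)) (PG.le_norm_of_isCyclic (sigma'_Fitting_cyclic hM)
    (nil_le_piCoreOf (fittingOf_nilpotent M) hX hs)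
    (le_norm_piCoreOf (self_le_norm_fittingOf M))) hX1

omit [MFT G] in
theorem s15_card_dvd_of_reg (hq : q.Prime) (hZ : Nat.card V = q) (hn : A ≤ N[V])
    (h : Semiregular V A) : Nat.card A ∣ q - 1 := by
  have h1 := PG.relIndex_cent_dvd_of_card_prime hq hZ hn
  have h2 := card_inf_mul_relIndex C[V] A
  rw [inf_comm, h.symm.inf_cent le_rfl (ne_bot_of_card_prime (hZ ▸ hq)), card_bot, one_mul] at h2
  rwa [h2] at h1

/-- the nonabelian case of 15.7(e) -/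
private theorem s15_nonTI_nonab (hM : IsCoatom M) (hF : IsMF M ∨ IsMP1 M) (eH : MF[M] = Mσ[M])
    (hX : X ≤ Mσ[M]) (hX1 : X ≠ ⊥) (hXc : IsCyclic X)
    (hC : ∀ (p : ℕ) (X₁ : Subgroup G), p.Prime → PnElem p 1 X X₁ → ¬ C[X₁] ≤ M)
    (hc : ¬ IsMulCommutative Mσ[M]) :
    ∃ p : ℕ, p.Prime ∧ Nat.card X = p ∧
      ¬ IsMulCommutative O[{p}](Mσ[M]) ∧ IsCyclic O[{p}ᶜ](Mσ[M]) ∧
      ((∀ q : ℕ, q.Prime → q ∣ Nat.card Mσ[M] → Monoid.exponent (quo M Mσ[M]) ∣ q - 1) ∨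
       (Nat.card O[{p}](Mσ[M]) = p ^ 3 ∧ IsMP1 M ∧ Mσ[M].relIndex M ∣ p + 1)) := by
  have hn := (Fcore_eq_Msigma hM).1 eH
  have hnu : ∀ (p : ℕ) (X₁ Y : Subgroup G), p.Prime → PnElem p 1 X X₁ → Y ≤ Mσ[M] → Y ≤ C[X₁] →
      ¬ InUniqueMaximal Y := fun p X₁ Y hp h1 h2 h3 h => hC p X₁ hp h1
    ((h.umax hM (h2.trans (sigmaCore_le M))).le_of_le h3 (mFT_cent_proper (h1.ne_bot hp)))
  -- `O_q(H)` is abelian if `q ≠ p`, so `O_p(H)` is not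
  have hab : ∀ p q : ℕ, p.Prime → p ∣ Nat.card X → q.Prime → q ≠ p →
      IsMulCommutative O[{q}](Mσ[M]) := fun p q hp hd hq hqp => by
    obtain ⟨X₁, h1⟩ := exists_pnElem_one hp hd
    by_contra h
    refine hnu p X₁ _ hp h1 (piCoreOf_le _ _) (le_cent_symm (nil_le_cent_piCoreOf hn
      (h1.le.trans hX) (isPi_of_isPGroup_mem hp h1.isPGroup hqp.symm)))
      (nonabelian_Uniqueness hq (piCoreOf_isPGroup hq _) h)
  have hnab : ∀ p : ℕ, p.Prime → p ∣ Nat.card X → ¬ IsMulCommutative O[{p}](Mσ[M]) := by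
    intro p hp hd h
    have h' : ∀ q : ℕ, q.Prime → O[{q}](Mσ[M]) ≤ C[O[{q}](Mσ[M])] := fun q hq =>
      comm_iff_le_cent.1 (by by_cases e : q = p; exacts [e ▸ h, hab p q hp hd hq e])
    refine hc (comm_iff_le_cent.2 (nil_le_of_forall_piCoreOf_le hn fun q hq _ => le_cent_symm ?_))
    conv_lhs => rw [← nil_piCoreOf_sup_compl hn {q}]
    exact sup_le (h' q hq) piCoreOf_compl_le_cent
  obtain ⟨p, hp, hd⟩ := exists_prime_dvd_card hX1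
  have := Fact.mk hp
  have hp2 : p ≠ 2 := mFT_prime_ne_two hd
  have hXp : IsPGroup p X := IsPiSubgroup.isPGroup (fun q hq hqd => by
    by_contra e
    exact hnab q hq hqd (hab p q hp hd hq e)) hp
  obtain ⟨X₁, h1⟩ := exists_pnElem_one hp hd
  have hPc := hnab p hp hd
  have sP : IsPiHallOf {p} O[{p}](Mσ[M]) Mσ[M] := nil_isPiHallOf_piCoreOf hn _
  have hMP : M ≤ N[O[{p}](Mσ[M])] := le_norm_piCoreOf (le_norm_sigmaCore M)
  have hO : O[{p}ᶜ](Mσ[M]) ≤ C[O[{p}](Mσ[M])] := piCoreOf_compl_le_cent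
  have eMs := nil_piCoreOf_sup_compl hn {p}
  have hXP : X ≤ O[{p}](Mσ[M]) := nil_le_piCoreOf hn hX (isPi_of_isPGroup hp hXp)
  generalize O[{p}](Mσ[M]) = P at hPc sP hMP hO eMs hXP ⊢
  have hPp := syl_isPGroup hp sP
  have hPu := nonabelian_Uniqueness hp hPp hPc
  have hX₁P := h1.le.trans hXP
  have hOc : IsCyclic O[{p}ᶜ](Mσ[M]) := by
    refine mFT_nil_rank1_cyclic (nil_of_le hn (piCoreOf_le _ _)) ?_
    by_contra h
    exact hnu p X₁ _ hp h1 (piCoreOf_le _ _) (hO.trans (cent_anti hX₁P))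
      (cent_uniq_Uniqueness hPu hO h)
  have hr : PRankLE p 2 ↥(P ⊓ C[X₁]) := by
    by_contra h
    exact hnu p X₁ _ hp h1 (inf_le_left.trans sP.le) inf_le_right
      (prank3_pgroup_uniq hp (hPp.to_le inf_le_left) h)
  have hXZ : X₁ ⊓ C[P] = ⊥ := (le_or_inf_eq_bot_of_card_prime (h1.card_prime hp) _).resolve_left
    fun h => hnu p X₁ P hp h1 sP.le (le_cent_symm h) hPu
  have hZ1 : P ⊓ C[P] ≠ ⊥ := PG.center_ne_bot hPp (ne_bot_of_le hX1 hXP)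
  have hZr : PRankLE p 1 ↥(P ⊓ C[P]) := PG.pRankLE_one_of_dprod
    (dprod_sup (le_cent_symm (inf_le_right.trans (cent_anti hX₁P)))
      (le_bot_iff.1 (hXZ ▸ inf_le_inf_left _ inf_le_right))) h1.card_one
    (GT.pRankLE_of_le hr (sup_le (le_inf hX₁P h1.le_cent)
      (inf_le_inf_left _ (cent_anti hX₁P))))
  have hZc := mFT_rank1_cyclic hp (hPp.to_le inf_le_left) hZr
  have hZ₀ := PG.card_omegaOne_of_isCyclic hZc (hPp.to_le inf_le_left) hZ1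
  have hZ₀le := PG.omegaOne_le p (P ⊓ C[P])
  have hMZ : M ≤ N[P ⊓ C[P]] := le_norm_inf hMP (le_norm_cent hMP)
  have hMZ₀ : M ≤ N[omegaOne p (P ⊓ C[P])] := PG.le_norm_omegaOne hMZ
  generalize eZ : omegaOne p (P ⊓ C[P]) = Z₀ at hZ₀ hZ₀le hMZ₀
  have hZ₀e : PnElem p 1 P Z₀ := (pnElem_one_iff hp).2 ⟨hZ₀le.trans inf_le_left, hZ₀⟩
  have hne : X₁ ≠ Z₀ := fun h => h1.ne_bot hp
    (by rw [← hXZ, inf_eq_left.2 (h ▸ hZ₀le.trans inf_le_right)])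
  have hpσ : p ∈ sigma M := sigmaCore_isPi M p hp (hd.trans (card_dvd_of_le hX))
  -- `X = X₁`
  have eX : Nat.card X = p := by
    have hB := PG.pnElem_two_sup hp (h1.of_le hX₁P) hZ₀e hne
      (le_cent_symm (hZ₀le.trans (inf_le_right.trans (cent_anti hX₁P))))
    have eB : P ⊓ C[X₁ ⊔ Z₀] = P ⊓ C[X₁] := by
      rw [cent_sup, inf_comm C[X₁], ← inf_assoc,
        inf_eq_left.2 (le_cent_symm (hZ₀le.trans inf_le_right))]
    have hBm : PmaxElem p ⊤ (X₁ ⊔ Z₀) := by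
      by_contra h
      exact hnu p X₁ _ hp h1 (hB.le.trans sP.le) (hB.le_cent.trans (cent_anti le_sup_left))
        (nonmaxElem2_Uniqueness hp hB.top h)
    obtain ⟨-, ⟨Y, -, -, hY⟩, -⟩ := basic_p2maxElem_structure hp hB.top hBm hPp hB.le hPc
    have dY := hY X₁ (h1.of_le le_sup_left) (eZ ▸ hne)
    rw [eB] at dY
    have hXC : X ≤ P ⊓ C[X₁] := le_inf hXP
      ((comm_iff_le_cent.1 (isMulCommutative_of_isCyclic hXc)).trans (cent_anti h1.le))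
    have h2 : ∀ x ∈ X, x ^ p = 1 := fun x hx => by
      by_contra h
      obtain ⟨a, ha, b, hb, rfl⟩ := dY.exists_mul (hXC hx)
      have e : (a * b) ^ p = b ^ p := by
        rw [Commute.mul_pow (le_cent_iff.1 dY.cent a ha b hb).symm, PG.elemAb_pow h1.elem ha,
          one_mul]
      have h3 := PG.omegaOne_le_of_isCyclic hXc hXp (A := X ⊓ Y) inf_le_left
        (ne_bot_of_mem ⟨pow_mem hx p, e ▸ pow_mem hb p⟩ h)
      exact h1.ne_bot hp (by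
        rw [← dY.inf_eq, inf_eq_left.2 ((PG.elemAb_le_omegaOne h1.elem h1.le).trans
          (h3.trans inf_le_right))])
    exact Nat.dvd_antisymm (PG.card_dvd_of_isCyclic_of_forall_pow hXc h2) hd
  refine ⟨p, hp, eX, ?_⟩
  have eP : O[{p}](Mσ[M]) = P := (nil_hall_eq_piCoreOf hn sP).symm
  rw [eP]
  refine ⟨hPc, hOc, ?_⟩
  -- normal subgroups of prime order
  have hZq : ∀ q : ℕ, q.Prime → q ∣ Nat.card Mσ[M] → q ≠ p →
      ∃ Z : Subgroup G, Z ≤ O[{p}ᶜ](Mσ[M]) ∧ Nat.card Z = q ∧ M ≤ N[Z] := fun q hq hd hqp =>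
    ⟨_, PG.omegaOne_le q _, PG.card_omegaOne_of_isCyclic_of_dvd hq hOc
      ((nil_isPiHallOf_piCoreOf hn _).prime_dvd hq hqp hd),
      PG.le_norm_omegaOne (le_norm_piCoreOf (le_norm_sigmaCore M))⟩
  have hZ₀Ms : Z₀ ≤ Mσ[M] := hZ₀e.le.trans sP.le
  obtain ⟨K, hK⟩ := exists_hall (kappa M) (mmax_sol hM)
  rcases hF with hF | hP1
  · obtain ⟨U, hU⟩ := ex_kappa_compl hM hK
    obtain rfl := (trivg_kappa hM hK).2 hF
    have hU1 : U ≠ ⊥ := fun h => s15_F_not_P hF ((trivg_kappa_compl hM hU).1 h).1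
    obtain ⟨-, U₀, hU₀, e, hFr⟩ := kappa_compl_typeF hM hU hU1
    obtain ⟨-, -, dM, -⟩ := kappa_compl_context hM hU
    rw [sup_bot_eq] at dM
    obtain ⟨φ⟩ := dM.nonempty_equiv_quo
    refine Or.inl fun q hq hd => ?_
    rw [← Monoid.exponent_eq_of_mulEquiv φ, ← e]
    refine Group.exponent_dvd_nat_card.trans ?_
    by_cases hqp : q = p
    · subst hqp
      exact s15_card_dvd_of_reg hq hZ₀ (hU₀.trans (dM.right_le.trans hMZ₀))
        (hFr.reg.mono hZ₀Ms le_rfl)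
    · obtain ⟨Z, a, b, c⟩ := hZq q hq hd hqp
      exact s15_card_dvd_of_reg hq b (hU₀.trans (dM.right_le.trans c))
        (hFr.reg.mono (a.trans (piCoreOf_le _ _)) le_rfl)
  obtain ⟨hK1, hE, dM, eM', hpr, hKsp⟩ := P1type_structure hP1 hK
  obtain ⟨-, hKsc, hKs2, -⟩ := Ptype_cyclics hP1.1 hK
  have hKc := kappa_cyclic hM hK
  have hKsP : Mσ[M] ⊓ C[K] ≤ P := by
    rw [← eM'] at hKs2
    refine hKs2.trans ((PG.commutator_le_sup_of_le_sup ((sigmaCore_le M).trans hMP) sP.le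
      (piCoreOf_le _ _) eMs.ge).trans ?_)
    rw [le_cent_iff_commutator_eq_bot.1 (comm_iff_le_cent.1 (isMulCommutative_of_isCyclic hOc)),
      sup_bot_eq]
  have hreg : ∀ Z : Subgroup G, Z ≤ Mσ[M] → Z ⊓ C[K] = ⊥ → Semiregular Z K := fun Z a b =>
    (hpr.mono a le_rfl).semiregular b
  by_cases hKp : Nat.card K ∣ p - 1
  · refine Or.inl fun q hq hd => Group.exponent_dvd_nat_card.trans ?_
    rw [card_quo dM.norm, dM.relIndex]
    by_cases hqp : q = p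
    · exact hqp ▸ hKp
    obtain ⟨Z, a, b, c⟩ := hZq q hq hd hqp
    refine s15_card_dvd_of_reg hq b (hK.le.trans c) (hreg Z (a.trans (piCoreOf_le _ _)) ?_)
    exact eq_bot_of_le_of_coprime ((inf_le_inf_right _ (a.trans (piCoreOf_le _ _))).trans hKsP)
      (inf_le_left.trans a) (IsPiSubgroup.coprime sP.isPi (piCoreOf_isPi _ _))
  have hcK : (Nat.card K).Coprime p :=
    (isPiSubgroup_single_compl_iff_coprime hp).1 (IsPiSubgroup.single_compl_mono hE.isPi hpσ)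
  have hZK : Z₀ ≤ C[K] := (le_or_inf_eq_bot_of_card_prime (hZ₀ ▸ hp) _).resolve_right fun h =>
    hKp (s15_card_dvd_of_reg hp hZ₀ (hK.le.trans hMZ₀) (hreg Z₀ hZ₀Ms h))
  have eKs : Z₀ = Mσ[M] ⊓ C[K] := (eq_bot_or_eq_of_card_prime hKsp
    (le_inf hZ₀Ms hZK)).resolve_left (hZ₀e.ne_bot hp)
  have eZP : P ⊓ C[P] = Z₀ := le_antisymm (eKs ▸ le_inf (inf_le_left.trans sP.le) (le_cent_symm
    (coprime_comm_le_cent_of_omegaOne hp (isMulCommutative_inf_cent P) (hPp.to_le inf_le_left)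
      (hK.le.trans hMZ) (PG.coprime_card_of_coprime (hPp.to_le inf_le_left) hcK).symm
      (eZ ▸ hZK)))) hZ₀le
  have hr2 : PRankLE p 2 P := by
    by_contra h
    obtain ⟨a, rfl⟩ := PG.isCyclic_iff_exists.1 hKc
    have h2 := PG.pow_sub_one_mem_cent_of_narrow hp2 hPp h
      (PG.narrow_of_pRankLE_cent hPp h1.elem hX₁P hr) ((hK.le.trans hMP) (mem_zpowers a))
      (by rwa [Nat.card_zpowers] at hcK)
    by_cases h3 : a ^ (p - 1) = 1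
    · exact hKp (by rw [Nat.card_zpowers]; exact orderOf_dvd_of_pow_eq_one h3)
    refine hPc (isMulCommutative_of_isCyclic (cyc_of_le hKsc ?_))
    rw [← hpr _ (pow_mem (mem_zpowers a) _) h3]
    exact le_inf sP.le (mem_cent_iff_le_cent1.1 h2)
  obtain ⟨S, C, e1, h2, h3, h4, -, h7, h5⟩ :=
    mFT_rank2_Sylow_cprod hp (Msigma_syl_G hM hpσ sP) hr2 hPc
  have hSP : S ≤ P := e1 ▸ le_sup_left
  have hP3 : Nat.card P = p ^ 3 := by
    have h6 : C ≤ Z₀ := by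
      rw [← eZP]
      refine le_inf (e1 ▸ le_sup_right) ?_
      rw [← e1, cent_sup]
      exact le_inf (le_cent_symm h2) (comm_iff_le_cent.1 (isMulCommutative_of_isCyclic h7))
    have h8 : S ⊓ C[S] = Z₀ := (eq_bot_or_eq_of_card_prime (hZ₀ ▸ hp)
      (h5 ▸ (PG.omegaOne_le p C).trans h6)).resolve_left
      (PG.center_ne_bot (hPp.to_le hSP) (by rintro rfl; exact h3 inferInstance))
    rw [← e1, sup_eq_left.2 (h6.trans (h8 ▸ inf_le_left)), h4]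
  refine Or.inr ⟨hP3, hP1, ?_⟩
  rw [dM.relIndex]
  have := extraspecial_prime_sdprod_cycle (n := 1) hp hPp (eZP ▸ hZ₀)
    (PG.commutator_eq_center_of_card_cube hP3 hPc) hP3 (hK.le.trans hMP) hKc hcK fun x hx hx1 => by
      rw [eZP, eKs, ← hpr x hx hx1]
      exact le_antisymm (inf_le_inf_right _ sP.le)
        (le_inf (hpr x hx hx1 ▸ hKsP) inf_le_right)
  rw [pow_one] at this
  exact this.resolve_right hKp

/-- 15.7 -/
theorem nonTI_Fitting_structure (hM : IsCoatom M) (hg : g ∉ M) (hX : X = F[M] ⊓ cj[g] F[M])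
    (hX1 : X ≠ ⊥) :
    ((IsMF M ∨ IsMP1 M) ∧ MF[M] = Mσ[M]) ∧ (X ≤ MF[M] ∧ IsCyclic X) ∧
    (⁅M, M⁆ ≤ F[M] ∧ Dprod Mσ[M] O[(sigma M)ᶜ](F[M]) F[M]) ∧
    (∀ E E₁ E₂ E₃, SigmaCompl M E E₁ E₂ E₃ → E₃ = ⊥ ∧ Sdprod E₂ E₁ E ∧ IsCyclic E₁) ∧
    ((IsMF M ∧ IsMulCommutative MF[M] ∧ RankLE 2 MF[M] ∧ ¬ RankLE 1 MF[M]) ∨
     ∃ p : ℕ, p.Prime ∧ Nat.card X = p ∧ p ∈ sigma M ∧ p ∉ beta M ∧
      ¬ IsMulCommutative O[{p}](MF[M]) ∧ IsCyclic O[{p}ᶜ](MF[M]) ∧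
      ((∀ q : ℕ, q.Prime → q ∣ Nat.card MF[M] → Monoid.exponent (quo M MF[M]) ∣ q - 1) ∨
       (Nat.card O[{p}](MF[M]) = p ^ 3 ∧ IsMP1 M ∧ MF[M].relIndex M ∣ p + 1))) := by
  have hXF : X ≤ F[M] := hX ▸ inf_le_left
  have hXF' : X ≤ F[cj[g] M] := by rw [hX, ← conj_fittingOf]; exact inf_le_right
  have hXM : X ≤ M := hXF.trans (fittingOf_le M)
  have hXg : X ≤ cj[g] M := hXF'.trans (fittingOf_le _)
  have hXσ : IsPiSubgroup (sigma M) X := fun p hp hd => by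
    by_contra h
    obtain ⟨Y, hY⟩ := exists_pnElem_one hp hd
    have hs : IsPiSubgroup (sigma M)ᶜ Y := isPi_of_isPGroup_mem hp hY.isPGroup h
    refine hg (mem_of_conj_mmax_eq hM ?_)
    rw [← s15_norm_sigma'_Fitting (isCoatom_conj g hM) (hY.le.trans hXF') (hY.ne_bot hp)
      (by rwa [sigma_conj]), s15_norm_sigma'_Fitting hM (hY.le.trans hXF) (hY.ne_bot hp) hs]
  have hXMs : X ≤ Mσ[M] := le_Msigma hM hXM hXσ
  have hC : ∀ (p : ℕ) (X₁ : Subgroup G), p.Prime → PnElem p 1 X X₁ → ¬ C[X₁] ≤ M :=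
    fun p X₁ hp h1 h => hg (sigma_group_trans_cent hM (hXσ p hp h1.dvd_card) h1.isPGroup
      (h1.le.trans hXM) h (h1.le.trans hXg))
  obtain ⟨p, hp, hd⟩ := exists_prime_dvd_card hX1
  obtain ⟨X₁, h1⟩ := exists_pnElem_one hp hd
  have hr : RankLE 2 ↥(F[M] ⊓ C[X₁]) := by
    by_contra h
    have h2 : F[M] ⊓ C[X₁] ≤ M := inf_le_left.trans (fittingOf_le M)
    exact hC p X₁ hp h1 (((rank3_Uniqueness (sub_mmax_proper hM h2) h).umax hM h2).le_of_le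
      inf_le_right (mFT_cent_proper (h1.ne_bot hp)))
  have hM'F : ⁅M, M⁆ ≤ F[M] := PG.commutator_le_fittingOf_of_rank_cent hp (mmax_sol hM)
    (mFT_odd M) (h1.le.trans hXF) h1.elem hr
  have hn := nilpotent_of_le_fittingOf ((Msigma_der1 hM).trans hM'F)
  have eH := (Fcore_eq_Msigma hM).2 hn
  obtain ⟨K, hK⟩ := exists_hall (kappa M) (mmax_sol hM)
  have hF : IsMF M ∨ IsMP1 M := by
    rcases mmax_type_cases hM with h | h | h
    · exact Or.inl h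
    · exact Or.inr h
    obtain ⟨-, -, -, -, -, h2⟩ := Ptype_structure h.1 hK
    obtain ⟨x, hx, hx1⟩ := exists_ne_one_of_ne_bot (h1.ne_bot hp)
    refine absurd ((cent_le_cent1 hx).trans ?_) (hC p X₁ hp h1)
    simpa using (h2 h).2.2.2.cent1_le (mem_sharp.2 ⟨hXMs (h1.le hx), hx1⟩)
  obtain ⟨E, hE⟩ := exists_hall (sigma M)ᶜ (mmax_sol hM)
  obtain ⟨hc, hβ, -⟩ := (sigma_compl_embedding hM hE).2.2 g hg
  have hXc : IsCyclic X := cyc_of_le hc (le_inf hXMs hXg)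
  obtain ⟨⟨-, hY⟩, ⟨-, -, dF⟩, -⟩ := Fitting_structure hM
  rw [fittingOf_eq_self hn] at dF
  refine ⟨⟨hF, eH⟩, ⟨eH ▸ hXMs, hXc⟩, ⟨hM'F, dF⟩, fun E E₁ E₂ E₃ hE => ?_, ?_⟩
  · obtain ⟨⟨h2, -⟩, -, ⟨h3, -⟩, ⟨-, -, -, h4⟩, -⟩ := sigma_compl_context hM hE
    obtain rfl : E₃ = ⊥ := IsPiSubgroup.eq_bot (IsPiSubgroup.of_le hY
      (nil_le_piCoreOf (fittingOf_nilpotent M) (h2.trans ((commutator_mono hE.1.le hE.1.le).trans
        hM'F)) (IsPiSubgroup.of_le hE.1.isPi hE.2.2.2.1.le)))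
      (IsPiSubgroup.mono hE.2.2.2.1.isPi fun _ h => tau3_not_tau2 h)
    rw [bot_sup_eq] at h4
    exact ⟨rfl, h4, h3⟩
  rw [eH]
  by_cases hab : IsMulCommutative Mσ[M]
  · refine Or.inl ⟨hF.resolve_right fun h => ?_, hab, GT.rankLE_of_le hr (le_inf dF.left_le
      ((comm_iff_le_cent.1 hab).trans (cent_anti (h1.le.trans hXMs)))), fun h => ?_⟩
    · obtain ⟨h2, -, h3, -⟩ := Ptype_cyclics h.1 hK
      rw [← (P1type_structure h hK).2.2.2.1,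
        le_cent_iff_commutator_eq_bot.1 (comm_iff_le_cent.1 hab)] at h3
      exact h2 (le_bot_iff.1 h3)
    · exact hC p X₁ hp h1 (mmax_normal_cent_le hM (h1.le.trans hXM) (PG.le_norm_of_isCyclic
        (mFT_nil_rank1_cyclic hn h) (h1.le.trans hXMs) (le_norm_sigmaCore M)) (h1.ne_bot hp))
  · obtain ⟨q, hq, e, h2⟩ := s15_nonTI_nonab hM hF eH hXMs hX1 hXc hC hab
    exact Or.inr ⟨q, hq, e, hXσ q hq e.symm.dvd,
      IsPiSubgroup.of_le hβ (le_inf hXMs hXg) q hq e.symm.dvd, h2⟩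

theorem s15_nonTI_exists (hM : IsCoatom M) (hH : H ≤ M) (hn : M ≤ N[H]) (h1 : H ≠ ⊥)
    (h : ¬ NormedTI (sharp H) ⊤ M) : ∃ g, g ∉ M ∧ H ⊓ cj[g] H ≠ ⊥ := by
  have e := mmax_normal hM hH hn h1
  rw [normedTI_sharp_iff, isTISubset_iff_inf_conj, e] at h
  by_contra h'
  push Not at h'
  exact h ⟨h1, h', rfl⟩

theorem nonTI_Fitting_exists (hM : IsCoatom M) (h : ¬ NormedTI (sharp F[M]) ⊤ M) :
    ∃ g, g ∉ M ∧ F[M] ⊓ cj[g] F[M] ≠ ⊥ :=
  s15_nonTI_exists hM (fittingOf_le M) (self_le_norm_fittingOf M)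
    (fittingOf_ne_bot (mmax_sol hM) (mmax_neq1 hM)) h

theorem nonTI_Fitting_facts (hM : IsCoatom M) (h : ¬ NormedTI (sharp F[M]) ⊤ M) :
    (IsMF M ∨ IsMP1 M) ∧ MF[M] = Mσ[M] ∧ ⁅M, M⁆ ≤ F[M] ∧
    ∀ E E₁ E₂ E₃, SigmaCompl M E E₁ E₂ E₃ → E₃ = ⊥ ∧ Sdprod E₂ E₁ E ∧ IsCyclic E₁ := by
  obtain ⟨g, hg, h1⟩ := nonTI_Fitting_exists hM h
  obtain ⟨⟨a, b⟩, -, ⟨c, -⟩, d, -⟩ := nonTI_Fitting_structure hM hg rfl h1
  exact ⟨a, b, c, d⟩

/-- 15.8 -/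
theorem tau2_P2type_signalizer (hU : KappaCompl M U K) (hM : IsMP2 M) (hMs : IsCoatom Ms)
    (hKMs : C[K] ≤ Ms) (hr : r.Prime) (hR : IsPiHallOf {r} R U) (hH : IsCoatom H) (hn : N[R] ≤ H)
    (hq : q ∈ tau2 H) :
    (Nat.card K).Prime ∧ tau2 H = {Nat.card K} ∧ IsPiSubgroup (tau2 M)ᶜ M := by
  have hM' := hM.1.1
  have hK := hU.hallK
  have hp : (Nat.card K).Prime := ((Ptype_structure hM.1 hK).2.2.2.2.2 hM).2.1
  have hqp := tau2_prime hq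
  obtain ⟨L, hL, -, hum, ⟨hKs, -⟩, ⟨eK, -⟩, -⟩ := Ptype_embedding hM.1 hK rfl
  obtain rfl := (hum K le_rfl hp).eq hMs hKMs
  obtain ⟨hHF, hUH, -, -, hKF, hD⟩ := P2type_signalizer hU hM hMs hKMs hr hR hH hn
  obtain ⟨A, hA⟩ := ex_tau2Elem hD hq
  obtain ⟨⟨hDA, hAmax⟩, -⟩ := tau2_compl_context hH hD hq hA
  have hKD : K ≤ H ⊓ Ms := hKF.trans (fittingOf_le _)
  have hKq : Nat.card K = q → K ≤ A := fun h => hAmax K ((pnElem_one_iff hqp).2 ⟨hKD, h⟩)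
  have hcop : ∀ Y : Subgroup G, IsPGroup (Nat.card K) Y → Nat.card K ≠ q →
      (Nat.card A).Coprime (Nat.card Y) := fun Y hY h => IsPiSubgroup.coprime
    (isPi_of_isPGroup hqp hA.isPGroup) (isPi_of_isPGroup_mem hp hY h)
  have hAK : A ≤ C[K] := by
    by_cases h : Nat.card K = q
    · exact hA.le_cent.trans (cent_anti (hKq h))
    · exact le_cent_of_nilpotent_of_coprime (fittingOf_nilpotent _)
        (comm_le_fittingOf hA.le hDA hA.comm) hKF (hcop K (isPGroup_of_card_eq_prime rfl) h)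
  have hAL : PnElem q 2 Ms A := hA.mono inf_le_right
  have hKL : K ≤ Mσ[Ms] := eK ▸ inf_le_left
  have hqσ : q ∈ sigma Ms := by
    by_contra h
    obtain ⟨-, -, h2, -⟩ := tau2_context hMs ⟨hqp, h, pRankLE_of_not_sigma hMs hqp h,
      PG.pnElem_not_pRankLE hqp hAL⟩ hAL
    exact ne_bot_of_card_prime hp (le_bot_iff.1 (h2 ▸ le_inf hKL (le_cent_symm hAK)))
  have hAMs : A ≤ Mσ[Ms] := pgroup_le_Msigma hMs hqσ hA.isPGroup hAL.le
  have hni := (tau2_not_beta hH hq).1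
  have hP1 : IsMP1 Ms := ⟨hL, by
    by_contra h
    exact hni (beta_ideal (((Ptype_structure hL hKs).2.2.2.2.2 ⟨hL, h⟩).1 ▸ hqσ))⟩
  have hAnu : ¬ InUniqueMaximal A := fun h => s15_F_not_P hHF
    (h.eq hMs hAL.le hH (hA.le.trans inf_le_left) ▸ hL)
  obtain ⟨-, -, hK2, hKF', -⟩ := Ptype_cyclics hL hKs
  rw [eK] at hK2 hKF'
  rw [← (P1type_structure hP1 hKs).2.2.2.1] at hK2
  have hPp := piCoreOf_isPGroup hp Ms
  have key : A ≤ F[Ms] → InUniqueMaximal O[{Nat.card K}](Ms) → Nat.card K = q := fun h1 h2 => by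
    by_contra h
    exact hAnu (cent_uniq_Uniqueness h2 (le_cent_of_nilpotent_of_coprime (fittingOf_nilpotent _)
      h1 (piCoreOf_single_le_fittingOf hp) (hcop _ hPp h)) (PG.pnElem_not_rankLE_self hqp hA))
  have hnil : Group.IsNilpotent Mσ[Ms] := by
    by_contra h
    have hne : MF[Ms] ≠ Mσ[Ms] := fun e => h ((Fcore_eq_Msigma hMs).1 e)
    obtain ⟨D, hD⟩ := exists_hall {Nat.card K}ᶜ (sub_mmax_sol hMs (sigmaCore_le Ms))
    obtain ⟨-, ⟨-, -, -, hβ⟩, ⟨sQ, -⟩, ⟨hch, -⟩, -, -, -, eF, -⟩ :=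
      Fcore_structure hMs hKs hne rfl eK.symm rfl rfl hD rfl
    refine hni (key (eF ▸ le_inf hAMs (PG.le_centMod_iff.2 ⟨hAL.le.trans hch.norm_bot,
      (le_cent_iff_commutator_eq_bot.1 hAK).le.trans bot_le⟩))
      (alpha_syl_umax hMs (beta_sub_alpha _ hβ) sQ).uniq ▸ beta_ideal hβ)
  have hPc : ¬ IsMulCommutative O[{Nat.card K}](Ms) := fun h => by
    have hσ : Nat.card K ∈ sigma Ms := sigmaCore_isPi Ms _ hp (card_dvd_of_le hKL)
    have h1 := PG.commutator_le_sup_of_le_sup (self_le_norm_piCoreOf {Nat.card K}ᶜ Mσ[Ms])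
      (piCoreOf_le _ _) (piCoreOf_le {Nat.card K} _)
      ((nil_piCoreOf_sup_compl hnil _).ge.trans (sup_comm _ _).le)
    rw [show O[{Nat.card K}](Mσ[Ms]) = O[{Nat.card K}](Ms) from piCoreOf_piCoreOf_of_mem hσ,
      le_cent_iff_commutator_eq_bot.1 (comm_iff_le_cent.1 h), sup_bot_eq] at h1
    exact piCoreOf_isPi _ _ _ hp (card_dvd_of_le (hK2.trans h1)) rfl
  have e := key (hAMs.trans (le_fittingOf (sigmaCore_le _) (le_norm_sigmaCore _) hnil))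
    (nonabelian_Uniqueness hp hPp hPc)
  obtain ⟨h1, ⟨h2, -⟩, -⟩ := nonabelian_tau2 hH hD hq hA (e ▸ hPp) hPc
  refine ⟨hp, e ▸ h1, fun s hs hd hτ => ?_⟩
  obtain ⟨hE, dE, -, -, hreg, -⟩ := kappa_compl_context hM' hU
  obtain ⟨B, hB⟩ := ex_tau2Elem hE hτ
  have hBU : B ≤ U := (hU.hallU.of_le le_sup_left hE.le).le_of_normal dE.norm hB.le
    (s15_tau2_sk' (isPi_of_isPGroup_mem hs hB.isPGroup hτ))
  obtain ⟨-, ⟨h3, -⟩, -⟩ := tau2_compl_context hM' hE hτ hB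
  have hU1 : U ≠ ⊥ := fun h => s15_P1_not_P2 ((trivg_kappa_compl hM' hU).1 h) hM
  have hA₀ : A ⊓ C[Mσ[H]] ≤ C[U] := inf_le_right.trans (cent_anti hUH)
  have hne : A ⊓ C[Mσ[H]] ≠ K := fun h => hU1 (by
    rw [← hreg.inf_cent le_rfl (ne_bot_of_card_prime hp), inf_eq_left.2 (le_cent_symm (h ▸ hA₀))])
  have dA := PG.pnElem_two_dprod hqp hA ((pnElem_one_iff hqp).2 ⟨inf_le_left, h2⟩)
    ((pnElem_one_iff hqp).2 ⟨hKq e, e⟩) hne
  exact PG.pnElem_not_pRankLE hqp (hA.of_le (dA.sup_eq ▸ sup_le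
    (hA₀.trans ((cent_anti hBU).trans (h3.trans hE.le))) hK.le))
    (s15_kappa_pRank (hK.isPi q hqp e.symm.dvd))

/-- a group of type `F` with `τ₂ = ∅` is a Frobenius group -/
theorem s15_Ftype_Frob (hM : IsMF M) (hτ : IsPiSubgroup (tau2 M)ᶜ M) :
    ∃ E, IsPiHallOf (sigma M)ᶜ E M ∧ Frob Mσ[M] E M := by
  have hM' := hM.1
  obtain ⟨E, hE⟩ := ex_kappa_compl hM' (isPiHallOf_bot hM.2)
  obtain ⟨h1, -, dM, -⟩ := kappa_compl_context hM' hE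
  rw [sup_bot_eq] at h1 dM
  refine ⟨E, h1, dM, Msigma_neq1 hM', fun h => s15_F_not_P hM ((trivg_kappa_compl hM' hE).1 h).1,
    semiregular_of_card_prime fun X hX hp => ?_⟩
  by_contra h
  exact hτ _ hp (card_dvd_of_le (hX.trans h1.le))
    ((kappa_compl_nreg hM' hE hX (ne_bot_of_card_prime hp) h).2.2 _ hp dvd_rfl)

/-- 15.9(a,b) -/
theorem nonFtype_signalizer_base (hM : IsCoatom M) (hx : x ∈ Mσ[M]) (hx1 : x ≠ 1)
    (hC : ¬ C1[x] ≤ M) (hN : ¬ IsMF (sigN x)) :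
    IsMF M ∧ IsPiSubgroup (tau2 M)ᶜ M ∧ IsMP2 (sigN x) ∧
    (∃ E, IsPiHallOf (sigma M)ᶜ E M ∧ IsCyclic E ∧ Frob Mσ[M] E M) ∧
    ¬ NormedTI (sharp MF[M]) ⊤ M := by
  obtain ⟨hum, -, hτ, hP, h⟩ := FT_signalizer_context (Msigma_ell1 hM hx hx1)
    ((sigMany_iff hx1 ⟨hM, hx⟩).2 hC)
  obtain ⟨-, hτσ, -, hD⟩ := h M ⟨hM, hx⟩
  have hP2 := hP.resolve_left hN
  generalize sigN x = N at hum hτ hτσ hD hP2
  have hN' := hum.coatom
  obtain ⟨K₀, hK₀⟩ := exists_hall (kappa N) (mmax_sol hN')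
  obtain ⟨U₀, hU₀⟩ := ex_kappa_compl hN' hK₀
  obtain ⟨g, hg, e⟩ := (kappa_compl_context hN' hU₀).1.exists_conj (mmax_sol hN') hD
  have hU := hU₀.conj_of_mem hg
  rw [conj_sup] at e
  generalize cj[g] U₀ = U at hU e
  generalize cj[g] K₀ = K at hU e
  obtain ⟨r, hr, hrd⟩ := Nat.exists_prime_and_dvd (mt orderOf_eq_one_iff.1 hx1)
  have hrτ := hτ r hr hrd
  obtain ⟨R, hR⟩ := exists_syl hr U
  have hR' : IsPiHallOf {r} R N := hR.trans_single hU.hallU fun h =>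
    h.elim (tau2_not_sigma hrτ) (s15_tau2_not_kappa hrτ)
  have hn : N[R] ≤ M := norm_noncyclic_sigma hM (hτσ hrτ) (syl_isPGroup hr hR)
    (hR.le.trans (le_sup_left.trans (e.ge.trans inf_le_left))) fun h =>
      hrτ.2.2.2 ((syl_pRankLE_iff hr hR').1 (PG.pRankLE_one_of_isCyclic hr h))
  obtain ⟨L, hL, hKL⟩ := mmax_exists (mFT_cent_proper ((trivgPmax hN' hU.hallK).1 hP2.1))
  have hF := (P2type_signalizer hU hP2 hL hKL hr hR hM hn).1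
  have ht : IsPiSubgroup (tau2 M)ᶜ M := fun q _ _ hq =>
    (tau2_P2type_signalizer hU hP2 hL hKL hr hR hM hn hq).2.2 r hr
      (hrd.trans (orderOf_dvd_card_of_mem (hum.le (self_mem_cent1 x)))) hrτ
  have eH := (Fcore_eq_Msigma hM).2 (notP1type_Msigma_nil (Or.inl hF))
  have hTI : ∀ H : Subgroup G, x ∈ H → ¬ NormedTI (sharp H) ⊤ M := fun H hx h =>
    hC (by simpa using h.cent1_le (mem_sharp.2 ⟨hx, hx1⟩))
  obtain ⟨E, hE, hFr⟩ := s15_Ftype_Frob hF ht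
  refine ⟨hF, ht, hP2, ⟨E, hE, ?_, hFr⟩, hTI _ (eH ▸ hx)⟩
  obtain ⟨E₁, E₂, E₃, hc⟩ := ex_sigmaCompl hM hE
  obtain ⟨-, d, h1⟩ := (nonTI_Fitting_facts hM
    (hTI _ (fittingHallOf_le_fittingOf M (eH ▸ hx)))).2.2.2 _ _ _ _ hc
  rwa [← d.eq_right_iff.2 (hc.2.2.1.eq_bot (IsPiSubgroup.of_le ht hE.le))]

end Cfsg.Agent.BG
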