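import Cfsg.Agent.BG.S14

/-! Bender–Glauberman 15.1 and 15.2. -/

set_option autoImplicit false
set_option linter.unusedSectionVars false
set_option linter.unusedVariables false

namespace Cfsg.Agent.BG

open Subgroup Cfsg.Agent.GT

universe u

variable {G : Type u} [Group G] [Finite G] [MFT G]
variable {A A₀ B D E E₁ E₂ E₃ H K L M Ms N P Q R S U V W W₁ W₂ X Y : Subgroup G} {p q r : ℕ}
  {g x y : G} {π : Set ℕ}

theorem Fcore_sub_Msigma (hM : IsCoatom M) : MF[M] ≤ Mσ[M] := by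
  refine le_Msigma hM (fittingHallOf_le M) fun p hp hd => ?_
  exact mem_sigma_of_normal_syl hM hp (hd.trans (card_dvd_of_le (fittingHallOf_le M)))
    (syl_piCoreOf_of_dvd_fittingHallOf hp hd) (self_le_norm_piCoreOf _ M)

theorem Fcore_eq_Msigma (hM : IsCoatom M) : MF[M] = Mσ[M] ↔ Group.IsNilpotent Mσ[M] :=
  ⟨fun h => h ▸ fittingHallOf_nilpotent M, fun h => le_antisymm (Fcore_sub_Msigma hM)
    (le_fittingHallOf (Msigma_Hall hM) (le_norm_sigmaCore M) h)⟩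

omit [Finite G] [MFT G] in
theorem KappaCompl.hallK (h : KappaCompl M U K) : IsPiHallOf (kappa M) K M := h.1
omit [Finite G] [MFT G] in
theorem KappaCompl.hallU (h : KappaCompl M U K) : IsPiHallOf (sigma M ∪ kappa M)ᶜ U M := h.2.1

omit [Finite G] [MFT G] in
theorem KappaCompl.sigma' (h : KappaCompl M U K) : IsPiSubgroup (sigma M)ᶜ U :=
  IsPiSubgroup.mono h.hallU.isPi fun _ h h' => h (Or.inl h')

omit [Finite G] [MFT G] in
theorem KappaCompl.kappa' (h : KappaCompl M U K) : IsPiSubgroup (kappa M)ᶜ U :=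
  IsPiSubgroup.mono h.hallU.isPi fun _ h h' => h (Or.inr h')

theorem KappaCompl.conj_of_mem (h : KappaCompl M U K) (hg : g ∈ M) :
    KappaCompl M (cj[g] U) (cj[g] K) := by
  refine ⟨h.hallK.conj_of_mem hg, h.hallU.conj_of_mem hg, fun x hx => ?_⟩
  rw [← conj_sup, mem_conj] at hx
  obtain ⟨a, ha, b, hb, e⟩ := h.2.2 _ hx
  refine ⟨_, conj_mem_conj.2 ha, _, conj_mem_conj.2 hb, ?_⟩
  calc x = g * (g⁻¹ * x * g) * g⁻¹ := by group
    _ = _ := by rw [e]; group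

omit [Finite G] [MFT G] in
theorem s15_kappa_sigma' (h : IsPiSubgroup (kappa M) K) : IsPiSubgroup (sigma M)ᶜ K :=
  IsPiSubgroup.mono h fun _ h => kappa_not_sigma h

omit [MFT G] in
theorem s15_Msigma_kappa' (M : Subgroup G) : IsPiSubgroup (kappa M)ᶜ Mσ[M] :=
  IsPiSubgroup.mono (sigmaCore_isPi M) fun _ h h' => kappa_not_sigma h' h

theorem s15_tau2_not_kappa (h : p ∈ tau2 M) : p ∉ kappa M := fun h' =>
  (kappa_tau13 h').elim (fun h1 => tau1_not_tau2 h1 h) (fun h1 => tau3_not_tau2 h1 h)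

theorem s15_tau2_sk' (h : IsPiSubgroup (tau2 M) X) : IsPiSubgroup (sigma M ∪ kappa M)ᶜ X :=
  IsPiSubgroup.mono h fun _ h h' => h'.elim (tau2_not_sigma h) (s15_tau2_not_kappa h)

theorem s15_kappa_pRank (h : p ∈ kappa M) : PRankLE p 1 M :=
  (kappa_tau13 h).elim (fun h => h.2.2.2.2) (fun h => h.2.2.2)

omit [Finite G] [MFT G] in
theorem s15_P1_not_P2 (h : IsMP1 M) : ¬ IsMP2 M := fun h' => h'.2 h.2
omit [Finite G] [MFT G] in
theorem s15_F_not_P (h : IsMF M) : ¬ IsMP M := fun h' => h'.2 h.2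

theorem kappa_cyclic (hM : IsCoatom M) (hK : IsPiHallOf (kappa M) K M) : IsCyclic K := by
  by_cases h1 : K = ⊥
  · subst h1; infer_instance
  obtain ⟨Ms, -, -, -, -, -, ⟨hc, -⟩, -⟩ := Ptype_embedding ((trivgPmax hM hK).2 h1) hK rfl
  exact cyc_of_le hc le_sup_left

theorem der2_le_Msigma (hM : IsCoatom M) : ⁅⁅M, M⁆, ⁅M, M⁆⁆ ≤ Mσ[M] := by
  obtain ⟨E, hE⟩ := exists_hall (sigma M)ᶜ (mmax_sol hM)
  have h1 : ⁅M, M⁆ ≤ Mσ[M] ⊔ ⁅E, E⁆ :=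
    PG.commutator_le_sup_of_le_sup (le_norm_sigmaCore M) (sigmaCore_le M) hE.le
      (sdprod_sigma hM hE).sup_eq.ge
  have h2 := PG.commutator_le_sup_of_le_sup (M := Mσ[M] ⊔ ⁅E, E⁆) (K := Mσ[M]) (A := ⁅E, E⁆)
    ((sup_le (sigmaCore_le M) ((der1_le E).trans hE.le)).trans (le_norm_sigmaCore M))
    le_sup_left le_sup_right le_rfl
  rw [le_cent_iff_commutator_eq_bot.1 (comm_iff_le_cent.1 (der_mmax_compl_abelian hM hE)),
    sup_bot_eq] at h2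
  exact (commutator_mono h1 h1).trans h2

/-- 15.1(c) -/
theorem kappa_compl_nreg (hM : IsCoatom M) (hU : KappaCompl M U K) (hX : X ≤ U) (hX1 : X ≠ ⊥)
    (hC : Mσ[M] ⊓ C[X] ≠ ⊥) : UMax C[X] M ∧ IsCyclic X ∧ IsPiSubgroup (tau2 M) X := by
  obtain ⟨hE, -⟩ := kappa_compl_context hM hU
  have hXM : X ≤ M := hX.trans hU.hallU.le
  obtain ⟨y, ⟨hy, hyC⟩, hy1⟩ := exists_ne_one_of_ne_bot hC
  have ht : IsPiSubgroup (tau2 M) X := by
    rw [isPiSubgroup_iff_orderOf]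
    intro x hx
    by_cases hx1 : x = 1
    · subst hx1; rw [orderOf_one]; exact PiNat.one
    rcases pi_of_cent_sigma hM hy hy1 (x' := x) ⟨hXM hx, mem_cent_iff_le_cent1.1 hyC hx⟩ hx1
      (IsPiSubgroup.orderOf hU.sigma' (hX hx)) with h | h
    · exact absurd (eq_one_of_piNat_orderOf h.1 (IsPiSubgroup.orderOf hU.kappa' (hX hx))) hx1
    · exact h.1
  have hc : IsCyclic X := by
    obtain ⟨E₂, h₂, hXE⟩ := exists_hall_ge (sub_mmax_sol hM hE.le) (hX.trans le_sup_left) ht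
    refine mFT_nil_rank1_cyclic (nilpotent_of_comm' (comm_of_le (tau2_compl_abelian hM hE h₂) hXE)) ?_
    by_contra hr
    obtain ⟨p, A, hp, hA⟩ := PG.exists_pnElem_of_not_rankLE hr
    obtain ⟨-, -, h, -⟩ := tau2_context hM (ht p hp hA.dvd_card) (hA.mono hXM)
    exact hC (le_bot_iff.1 (h ▸ inf_le_inf_left _ (cent_anti hA.le)))
  refine ⟨?_, hc, ht⟩
  obtain ⟨x, rfl⟩ := PG.isCyclic_iff_exists.1 hc
  rw [cent_zpowers] at hC ⊢
  exact cent1_nreg_sigma_uniq hM (hXM (mem_zpowers x)) (zpowers_ne_bot.1 hX1)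
    (isPiSubgroup_zpowers_iff.1 ht) hC

theorem kappa_compl_sdprod (hM : IsCoatom M) (hU : KappaCompl M U K) :
    Sdprod Mσ[M] U (Mσ[M] ⊔ U) ∧ Sdprod (Mσ[M] ⊔ U) K M := by
  obtain ⟨hE, dE, dM, -⟩ := kappa_compl_context hM hU
  refine ⟨dM.subr le_sup_left, sdprod_mk ?_ ?_ ?_⟩
  · exact le_norm_sup (hU.hallK.le.trans (le_norm_sigmaCore M)) dE.right_norm
  · exact IsPiSubgroup.inf_eq_bot' (IsPiSubgroup.sup (s15_Msigma_kappa' M) hU.kappa'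
      (Or.inr (hU.hallU.le.trans (le_norm_sigmaCore M)))) hU.hallK.isPi
  · rw [sup_assoc, dM.sup_eq]

theorem kappa_compl_der1 (hM : IsCoatom M) (hU : KappaCompl M U K) (hK : K ≠ ⊥) :
    Mσ[M] ⊔ U = ⁅M, M⁆ := by
  obtain ⟨-, d⟩ := kappa_compl_sdprod hM hU
  obtain ⟨Ms, -, -, -, -, -, -, -, -, -, d'⟩ :=
    Ptype_embedding ((trivgPmax hM hU.hallK).2 hK) hU.hallK rfl
  refine (eq_of_le_of_card_ge (d.commutator_le (isMulCommutative_of_isCyclic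
    (kappa_cyclic hM hU.hallK))) (le_of_eq ?_)).symm
  exact Nat.eq_of_mul_eq_mul_right (card_pos' K) (d.card_mul.trans d'.card_mul.symm)

/-- 15.1(d,e) -/
theorem kappa_compl_typeF (hM : IsCoatom M) (hU : KappaCompl M U K) (hU1 : U ≠ ⊥) :
    (∃ A₀ : Subgroup G, A₀ ≤ U ∧ U ≤ N[A₀] ∧ IsMulCommutative A₀ ∧
      ∀ x ∈ Mσ[M], x ≠ 1 → U ⊓ C1[x] ≤ A₀) ∧
    ∃ E₀ : Subgroup G, E₀ ≤ U ∧ Monoid.exponent E₀ = Monoid.exponent U ∧
      Frob Mσ[M] E₀ (Mσ[M] ⊔ E₀) := by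
  obtain ⟨hE, dE, -⟩ := kappa_compl_context hM hU
  refine FTtypeF_complement hM hE (hU.hallU.of_le le_sup_left hE.le) dE.norm hU1 ?_
  intro e he he1 hτ
  by_contra hC
  rw [← cent_zpowers] at hC
  obtain ⟨-, -, h⟩ := kappa_compl_nreg hM hU (zpowers_le.2 he) (zpowers_ne_bot.2 he1) hC
  refine he1 (eq_one_of_piNat_orderOf (isPiSubgroup_zpowers_iff.1 h) (hτ.mono ?_))
  rintro p (h | h)
  exacts [tau1_not_tau2 h, tau3_not_tau2 h]

/-- 15.1 -/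
theorem kappa_structure (hM : IsCoatom M) (hU : KappaCompl M U K) :
    (Sdprod Mσ[M] U (Mσ[M] ⊔ U) ∧ Sdprod (Mσ[M] ⊔ U) K M ∧ IsCyclic K ∧
      ⁅⁅M, M⁆, ⁅M, M⁆⁆ ≤ Mσ[M]) ∧
    (K ≠ ⊥ → Sdprod Mσ[M] U ⁅M, M⁆ ∧ IsMulCommutative U) ∧
    (∀ X : Subgroup G, X ≤ U → X ≠ ⊥ → Mσ[M] ⊓ C[X] ≠ ⊥ →
      UMax C[X] M ∧ IsCyclic X ∧ IsPiSubgroup (tau2 M) X) ∧
    IsMulCommutative (closure ((U : Set G) ∩ sigmaHat M)) ∧
    (U ≠ ⊥ → ∃ U₀ : Subgroup G, U₀ ≤ U ∧ Monoid.exponent U₀ = Monoid.exponent U ∧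
      Frob Mσ[M] U₀ (Mσ[M] ⊔ U₀)) := by
  obtain ⟨d1, d2⟩ := kappa_compl_sdprod hM hU
  refine ⟨⟨d1, d2, kappa_cyclic hM hU.hallK, der2_le_Msigma hM⟩,
    fun h => ⟨kappa_compl_der1 hM hU h ▸ d1, (kappa_compl_context hM hU).2.2.2.2.2 h⟩,
    fun X => kappa_compl_nreg hM hU, ?_, fun h => (kappa_compl_typeF hM hU h).2⟩
  by_cases h : U = ⊥
  · subst h
    exact comm_of_le (K := ⊥) (comm_iff_le_cent.2 bot_le) ((closure_le _).2 fun x hx => hx.1)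
  obtain ⟨⟨A₀, -, -, hc, hA⟩, -⟩ := kappa_compl_typeF hM hU h
  refine comm_of_le hc ((closure_le _).2 ?_)
  rintro a ⟨ha, -, y, hy, hy1, e⟩
  exact hA y hy hy1 ⟨ha, mem_cent1.2 e⟩

/-- structure of groups of type `P1` -/
theorem P1type_structure (hM : IsMP1 M) (hK : IsPiHallOf (kappa M) K M) :
    K ≠ ⊥ ∧ IsPiHallOf (sigma M)ᶜ K M ∧ Sdprod Mσ[M] K M ∧ Mσ[M] = ⁅M, M⁆ ∧ Semiprime Mσ[M] K ∧
    (Nat.card ↥(Mσ[M] ⊓ C[K])).Prime := by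
  have hM' := hM.1.1
  obtain ⟨U, hU⟩ := ex_kappa_compl hM' hK
  obtain rfl := (trivg_kappa_compl hM' hU).2 hM
  have hK1 := (trivgPmax hM' hK).1 hM.1
  obtain ⟨hE, -, dM, hp, -⟩ := kappa_compl_context hM' hU
  have h := kappa_compl_der1 hM' hU hK1
  rw [bot_sup_eq] at hE dM
  rw [sup_bot_eq] at h
  obtain ⟨Ms, -, -, -, -, -, -, -, h', -⟩ := Ptype_embedding hM.1 hK rfl
  exact ⟨hK1, hE, dM, h, hp, (h'.resolve_left fun h => s15_P1_not_P2 hM h.1).2⟩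

theorem P1_of_Fcore_ne (hM : IsCoatom M) (hne : MF[M] ≠ Mσ[M]) : IsMP1 M := by
  by_contra h
  exact hne ((Fcore_eq_Msigma hM).2 (notP1type_Msigma_nil ((notP1type_iff hM).1 h)))

omit [MFT G] in
/-- `R` regular on `DW/V` makes `D` act trivially on `W/V` -/
theorem s15_reg_section (hs : Group.IsSolvable ↥(W ⊔ D)) (hVW : V ≤ W) (hWV : W ≤ N[V])
    (hDV : D ≤ N[V]) (hRV : R ≤ N[V]) (hDW : D ≤ N[W]) (hRW : R ≤ N[W]) (hRD : R ≤ N[D])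
    (hR : (Nat.card R).Prime) (hc : (Nat.card W).Coprime (Nat.card D))
    (hcR : (Nat.card ↥(W ⊔ D)).Coprime (Nat.card R)) (h : (W ⊔ D) ⊓ C[R] ≤ V) :
    V ⊔ (W ⊓ C[D]) = W := by
  have hT : W ⊔ D ≤ N[V] := sup_le hWV hDV
  have hRT : R ≤ N[W ⊔ D] := le_norm_sup hRW hRD
  have hn : Group.IsNilpotent (quo (W ⊔ D) V) := by
    refine prime_regular_sol_nil (R := quo R V) (im_norm hRT) (solvable_im hs) ?_ ?_
    · rwa [card_im_of_inf_eq_bot hRV]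
      rw [kr_coset]
      exact GT.inf_eq_bot_of_coprime (coprime_card_of_le hcR (hVW.trans le_sup_left) le_rfl).symm
    · rw [← im_inf_cent_of_coprime' hT hRV hRT (Or.inl hs) hcR]
      exact im_eq_bot_of_le (by rwa [kr_coset])
  have h2 : quo W V ≤ C[quo D V] := le_cent_of_nilpotent_of_coprime hn (im_mono le_sup_left)
    (im_mono le_sup_right) (coprime_im hc)
  rw [im_le_cent_iff hWV hDV, kr_coset] at h2
  exact coprime_sup_cent_of_commutator_le (Or.inl (solv_of_le hs (hVW.trans le_sup_left))) hDV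
    (coprime_card_of_le hc hVW le_rfl) hVW h2

/-- 15.2, first half -/
theorem s15_Fcore_syl (hM : IsCoatom M) (hK : IsPiHallOf (kappa M) K M) (hne : MF[M] ≠ Mσ[M])
    (hq : q = Nat.card ↥(Mσ[M] ⊓ C[K])) :
    Mσ[M] ⊓ C[K] ≤ O[{q}](M) ∧ IsPiHallOf {q} O[{q}](M) Mσ[M] ∧
    ∀ D, IsPiHallOf {q}ᶜ D Mσ[M] → Group.IsNilpotent D := by
  obtain ⟨hK1, hE, dM, hd, hp, hqp⟩ := P1type_structure (P1_of_Fcore_ne hM hne) hK
  rw [← hq] at hqp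
  have hs := mmax_sol hM
  have hsMs := solv_of_le hs (sigmaCore_le M)
  have hc : (Nat.card Mσ[M]).Coprime (Nat.card K) :=
    IsPiSubgroup.coprime (sigmaCore_isPi M) hE.isPi
  have hqσ : q ∈ sigma M := sigmaCore_isPi M q hqp (hq ▸ card_dvd_of_le inf_le_left)
  have hKs : Mσ[M] ⊓ C[K] ≤ O[{q}](M) := by
    have h1 : F[Mσ[M]] ⊓ C[K] ≠ ⊥ := fun h => hne ((Fcore_eq_Msigma hM).2 (by
      have := odd_sdprod_primact_commg_sub_Fitting dM (mFT_odd M) hs hc hp h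
      rw [Msigma_commutator_compl hM hE] at this
      exact nilpotent_of_le_fittingOf this))
    have h2 : Mσ[M] ⊓ C[K] ≤ F[Mσ[M]] := by
      refine (le_or_inf_eq_bot_of_card_prime (hq ▸ hqp) _).resolve_right fun h => h1 ?_
      rw [eq_bot_iff, ← h]
      exact le_inf (inf_le_inf_right _ (fittingOf_le _)) inf_le_left
    exact le_piCoreOf_of_le_fittingOf
      (h2.trans (fittingOf_le_of_normal (sigmaCore_le M) (le_norm_sigmaCore M)))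
      (isPi_of_isPGroup hqp (isPGroup_of_card_eq_prime hq.symm))
  have eQ : O[{q}](Mσ[M]) = O[{q}](M) := piCoreOf_piCoreOf_of_mem hqσ
  have hQ : O[{q}](M) ≤ Mσ[M] := eQ ▸ piCoreOf_le _ _
  have hMQ : M ≤ N[O[{q}](M)] := self_le_norm_piCoreOf _ M
  have hMsQ := (sigmaCore_le M).trans hMQ
  obtain ⟨X, hX, hXp⟩ := exists_le_card_prime hK1
  have hcX := coprime_card_of_le hc le_rfl hX
  have hXM : X ≤ M := hX.trans hK.le
  have hn : Group.IsNilpotent (quo Mσ[M] O[{q}](M)) := by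
    refine prime_regular_sol_nil (R := quo X O[{q}](M))
      (im_norm (hXM.trans (le_norm_sigmaCore M))) (solvable_im hsMs) ?_ ?_
    · rwa [card_im_of_inf_eq_bot (hXM.trans hMQ)]
      rw [kr_coset]
      exact GT.inf_eq_bot_of_coprime (coprime_card_of_le hcX hQ le_rfl).symm
    · rw [← im_inf_cent_of_coprime' hMsQ (hXM.trans hMQ) (hXM.trans (le_norm_sigmaCore M))
        (Or.inl hsMs) hcX, hp.inf_cent hX (ne_bot_of_card_prime hXp)]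
      exact im_eq_bot_of_le (by rwa [kr_coset])
  refine ⟨hKs, isPiHallOf_mk hQ (piCoreOf_isPi _ M) ?_, fun D hD => ?_⟩
  · have h1 := nil_isPiHallOf_piCoreOf hn {q}
    rw [piCoreOf_im_eq_bot hMsQ (by rw [kr_coset, eQ])] at h1
    have h2 := h1.isPi_compl_of_eq_bot
    rwa [isPiSubgroup_iff, card_quo hMsQ] at h2
  · obtain ⟨e⟩ := nonempty_equiv_quo_of_inf_eq_bot (hD.le.trans hMsQ)
      (IsPiSubgroup.inf_eq_bot' hD.isPi (piCoreOf_isPi {q} M))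
    exact isNilpotent_of_equiv e.symm (nil_of_le hn (im_mono hD.le))

private theorem s15_Fcore_main (hM : IsCoatom M) (hK : IsPiHallOf (kappa M) K M)
    (hne : MF[M] ≠ Mσ[M]) {Ks Q₀ : Subgroup G} (hKs : Ks = Mσ[M] ⊓ C[K])
    (hq : q = Nat.card Ks) (hQ : Q = O[{q}](M)) (hD : IsPiHallOf {q}ᶜ D Mσ[M])
    (hQ₀ : Q₀ = Q ⊓ C[D]) (hKD : K ≤ N[D]) :
    (Nat.card K).Prime ∧ q ∈ beta M ∧
    (ChiefFactor M Q₀ Q ∧ IsElementaryAbelian q (quo Q Q₀) ∧ Q₀.relIndex Q = q ^ Nat.card K) ∧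
    (⁅⁅M, M⁆, ⁅M, M⁆⁆ ≤ F[M] ∧ Q ⊔ (M ⊓ C[Q]) = F[M] ∧ M ⊓ PG.centMod Q Q₀ = F[M] ∧
      Mσ[M] ⊓ PG.centMod Ks Q₀ = F[M] ∧ F[M] < Mσ[M]) := by
  obtain ⟨hK1, hE, dM, hd, hp, hqp⟩ := P1type_structure (P1_of_Fcore_ne hM hne) hK
  obtain ⟨hKsQ, sQ, hDn⟩ := s15_Fcore_syl hM hK hne (hKs ▸ hq)
  have hKsp : (Nat.card Ks).Prime := hKs ▸ hqp
  rw [← hKs, ← hQ] at hKsQ
  rw [← hQ] at sQ
  rw [← hKs, ← hq] at hqp
  specialize hDn D hD
  have hnn : ¬ Group.IsNilpotent Mσ[M] := fun h => hne ((Fcore_eq_Msigma hM).2 h)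
  have hs := mmax_sol hM
  have hsMs := solv_of_le hs (sigmaCore_le M)
  have hc : (Nat.card Mσ[M]).Coprime (Nat.card K) :=
    IsPiSubgroup.coprime (sigmaCore_isPi M) hE.isPi
  have hQp : IsPGroup q Q := syl_isPGroup hqp sQ
  have hQn := nilpotent_of_isPGroup hqp hQp
  have hMQ : M ≤ N[Q] := hQ ▸ self_le_norm_piCoreOf _ M
  have hQM : Q ≤ M := sQ.le.trans (sigmaCore_le M)
  have hDM : D ≤ M := hD.le.trans (sigmaCore_le M)
  have hcQD : (Nat.card Q).Coprime (Nat.card D) := IsPiSubgroup.coprime sQ.isPi hD.isPi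
  have eMs : Q ⊔ D = Mσ[M] := sQ.sup_eq hD
  have eM : Q ⊔ (D ⊔ K) = M := by rw [← sup_assoc, eMs, dM.sup_eq]
  have hLM : D ⊔ K ≤ M := sup_le hDM hK.le
  have hQ₀Q : Q₀ ≤ Q := hQ₀ ▸ inf_le_left
  have hL₀ : D ⊔ K ≤ N[Q₀] := hQ₀ ▸ le_norm_inf (hLM.trans hMQ)
    (le_norm_cent (sup_le le_normalizer hKD))
  have hDQ : ¬ D ≤ C[Q] := fun h => hnn (eMs ▸ nilpotent_sup_of_le_cent hQn hDn (le_cent_symm h))
  have hlt : Q₀ < Q := lt_of_le_of_ne hQ₀Q fun h => hDQ (le_cent_symm (h ▸ hQ₀ ▸ inf_le_right))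
  obtain ⟨X, hX, hXp⟩ := exists_le_card_prime hK1
  have key : ∀ V W : Subgroup G, Q₀ ≤ V → V ≤ W → W ≤ Q → W ≤ N[V] → D ⊔ K ≤ N[V] →
      D ⊔ K ≤ N[W] → W ⊓ Ks ≤ V → W ≤ V := by
    intro V W h0 h1 h2 h3 h4 h5 h6
    have hT : W ⊔ D ≤ Mσ[M] := sup_le (h2.trans sQ.le) hD.le
    have := s15_reg_section (R := X) (solv_of_le hsMs hT) h1 h3 (le_sup_left.trans h4)
      (hX.trans (le_sup_right.trans h4)) (le_sup_left.trans h5) (hX.trans (le_sup_right.trans h5))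
      (hX.trans hKD) hXp (coprime_card_of_le hcQD h2 le_rfl) (coprime_card_of_le hc hT hX) ?_
    · rw [← this]
      exact sup_le le_rfl (le_trans (hQ₀ ▸ inf_le_inf_right _ h2) h0)
    refine le_trans (le_inf ?_ ?_) h6
    · have h7 : (W ⊔ D) ⊓ Q = W := by
        rw [dedekind (Or.inr (le_sup_left.trans h5)) h2, GT.inf_eq_bot_of_coprime hcQD.symm,
          sup_bot_eq]
      refine le_trans (le_inf inf_le_left (le_trans ?_ hKsQ)) h7.le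
      rw [hKs, ← hp.inf_cent hX (ne_bot_of_card_prime hXp)]
      exact inf_le_inf_right _ hT
    · rw [hKs, ← hp.inf_cent hX (ne_bot_of_card_prime hXp)]
      exact inf_le_inf_right _ hT
  obtain ⟨Q₁, ⟨h₁, h₂, h₃⟩, -, hmin⟩ := exists_minimal_le
    (S := {W | Q₀ < W ∧ W ≤ Q ⊓ N[Q₀] ∧ D ⊔ K ≤ N[W]}) (H := Q ⊓ N[Q₀])
    ⟨GT.lt_inf_norm_of_nilpotent hQn hlt, le_rfl, le_norm_inf (hLM.trans hMQ) (le_norm_norm hL₀)⟩
  have h₄ : ¬ Q₁ ⊓ Ks ≤ Q₀ := fun h => h₁.not_ge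
    (key Q₀ Q₁ le_rfl h₁.le (h₂.trans inf_le_left) (h₂.trans inf_le_right) hL₀ h₃ h)
  have hKs₀ : ¬ Ks ≤ Q₀ := fun h => h₄ (inf_le_right.trans h)
  have hKs₁ : Ks ≤ Q₁ := (le_or_inf_eq_bot_of_card_prime hKsp Q₁).resolve_right fun h =>
    h₄ (by rw [inf_comm, h]; exact bot_le)
  obtain rfl : Q₁ = Q := by
    by_contra h
    exact (GT.lt_inf_norm_of_nilpotent hQn (lt_of_le_of_ne (h₂.trans inf_le_left) h)).not_ge
      (key Q₁ _ h₁.le (le_inf (h₂.trans inf_le_left) le_normalizer) inf_le_left inf_le_right h₃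
        (le_norm_inf (hLM.trans hMQ) (le_norm_norm h₃)) (inf_le_right.trans hKs₁))
  have hM₀ : M ≤ N[Q₀] := eM ▸ sup_le (h₂.trans inf_le_right) hL₀
  have hch : ChiefFactor M Q₀ Q₁ := ⟨hlt, hQM, hM₀, hMQ, fun W a b c => by
    rcases a.eq_or_lt with h | h
    · exact Or.inl h.symm
    · exact Or.inr (hmin W ⟨h, b.trans h₂, hLM.trans c⟩ b)⟩
  have hel : IsElementaryAbelian q (quo Q₁ Q₀) :=
    (hch.minNormal_im hM₀ (kr_coset Q₀)).elementary_of_isPGroup hqp (isPGroup_im hQp)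
  -- the Frobenius group `DK` acting on `Q/Q₀`
  have hcQK := coprime_card_of_le hc sQ.le le_rfl
  have hsQ := solv_of_le hs hQM
  have hKN := hK.le.trans hM₀
  have hDN := hDM.trans hM₀
  have hQN := hQM.trans hM₀
  have iK : K ⊓ kr (coset Q₀) = ⊥ := by
    rw [kr_coset]; exact GT.inf_eq_bot_of_coprime (coprime_card_of_le hcQK hQ₀Q le_rfl).symm
  have iD : D ⊓ kr (coset Q₀) = ⊥ := by
    rw [kr_coset]; exact GT.inf_eq_bot_of_coprime (coprime_card_of_le hcQD hQ₀Q le_rfl).symm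
  have iKs : Ks ⊓ kr (coset Q₀) = ⊥ := by
    rw [kr_coset]; exact (le_or_inf_eq_bot_of_card_prime hKsp Q₀).resolve_left hKs₀
  have hreg : Semiregular D K := fun x hx hx1 => by
    have : D ⊓ C1[x] ≤ Ks := by
      rw [hKs, ← hp x hx hx1]; exact inf_le_inf_right _ hD.le
    exact eq_bot_of_le_of_coprime (this.trans hKsQ) inf_le_left hcQD
  have eQK : Q₁ ⊓ C[K] = Ks :=
    le_antisymm (hKs ▸ inf_le_inf_right _ sQ.le) (le_inf hKsQ (hKs ▸ inf_le_right))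
  have eC : quo Q₁ Q₀ ⊓ C[quo K Q₀] = quo Ks Q₀ := by
    rw [← im_inf_cent_of_coprime' hQN hKN (hK.le.trans hMQ) (Or.inl hsQ) hcQK, eQK]
  have hD1 : D ≠ ⊥ := fun h => hDQ (h ▸ bot_le)
  have hF : Frob (quo D Q₀) (quo K Q₀) (quo D Q₀ ⊔ quo K Q₀) :=
    frob_sup (im_norm hKD) (fun h => hD1 (by rw [← iD, inf_eq_left.2 ((im_eq_bot_iff hDN).1 h)]))
      (fun h => hK1 (by rw [← iK, inf_eq_left.2 ((im_eq_bot_iff hKN).1 h)]))
      (semiregular_im hreg hKD hDN hKN)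
  obtain ⟨hKp, hcard, hcyc⟩ := Frobenius_primact (M := quo Q₁ Q₀) hF
    (by rw [← im_sup hDN hKN]; exact solvable_im (solv_of_le hs hLM))
    (by rw [← im_sup hDN hKN]; exact im_norm (hLM.trans hMQ))
    (by
      rw [← im_sup hDN hKN]
      exact coprime_im (Nat.Coprime.coprime_dvd_right (card_sup_dvd (Or.inr hKD))
        (Nat.Coprime.mul_right hcQD hcQK)))
    (solvable_im hsQ) (fun h => hlt.not_ge ((quo_eq_bot_iff hQN).1 h))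
    (fun y hy hy1 => by
      obtain ⟨x, hxN, hx, rfl⟩ := mem_im.1 hy
      have hx1 : x ≠ 1 := fun h => hy1 (by subst h; exact map_one _)
      rw [eC, ← im_inf_cent1_of_coprime hQN hxN (hK.le.trans hMQ hx)
        (Nat.Coprime.coprime_dvd_right (orderOf_dvd_card_of_mem hx)
          (coprime_card_of_le hcQK inf_le_left le_rfl)), ← eQK]
      congr 1
      exact (hp.mono sQ.le le_rfl) x hx hx1)
    (by
      rw [← im_inf_cent_of_coprime' hQN hDN (hDM.trans hMQ) (Or.inl hsQ) hcQD, ← hQ₀]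
      exact quo_self Q₀)
  rw [eC] at hcard hcyc
  rw [card_im_of_inf_eq_bot hKN iK] at hKp hcard
  rw [card_im_of_inf_eq_bot (hKsQ.trans hQN) iKs, ← hq, card_quo hQN] at hcard
  specialize hcyc (cyclic_im (isCyclic_of_card_prime hKsp))
  rw [← im_commutator hDN hDN, im_le_cent_iff ((der1_le D).trans hDN) hQN, kr_coset] at hcyc
  -- the Fitting subgroup
  have hCn : M ≤ N[M ⊓ PG.centMod Q₁ Q₀] := le_norm_inf le_normalizer (PG.le_norm_centMod hMQ hM₀)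
  have hFC : F[M] ≤ M ⊓ PG.centMod Q₁ Q₀ := le_inf (fittingOf_le M) (PG.le_centMod_iff.2
    ⟨(fittingOf_le M).trans hM₀, by
      rw [commutator_comm]; exact hch.commutator_fittingOf_le hsQ le_rfl le_normalizer⟩)
  have hQF : Q₁ ≤ F[M] := le_fittingOf hQM hMQ hQn
  have hcent : ∀ Y : Subgroup G, Y ≤ D → Y ≤ PG.centMod Q₁ Q₀ → Y ≤ C[Q₁] := fun Y h1 h2 =>
    le_cent_symm (coprime_le_cent_of_commutator_le_cent (h1.trans (hDM.trans hMQ))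
      (coprime_card_of_le hcQD le_rfl h1) (by
        rw [commutator_comm]
        exact (PG.le_centMod_iff.1 h2).2.trans (hQ₀ ▸ inf_le_right.trans (cent_anti h1))))
  have hCMs : M ⊓ PG.centMod Q₁ Q₀ ≤ Mσ[M] := by
    have h1 := (hE.inf_normal inf_le_left hCn)
    rcases eq_bot_or_eq_of_card_prime hKp (K := K ⊓ (M ⊓ PG.centMod Q₁ Q₀)) inf_le_left with h | h
    · rw [h] at h1
      refine le_Msigma hM inf_le_left ?_
      simpa using h1.isPi_compl_of_eq_bot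
    · refine absurd (hcent D le_rfl (hD.le.trans ?_)) hDQ
      rw [← Msigma_commutator_compl hM hE]
      refine le_trans (commutator_mono le_rfl (h.symm.le.trans inf_le_right)) ?_
      exact (commutator_le_of_le_norm_right ((sigmaCore_le M).trans hCn)).trans inf_le_right
  have eC2 : M ⊓ PG.centMod Q₁ Q₀ = Q₁ ⊔ (D ⊓ (M ⊓ PG.centMod Q₁ Q₀)) := by
    rw [← dedekind (Or.inr (hDM.trans hMQ)) (hQF.trans hFC), eMs, inf_eq_right.2 hCMs]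
  have hc1 := hcent (D ⊓ (M ⊓ PG.centMod Q₁ Q₀)) inf_le_left (inf_le_right.trans inf_le_right)
  have eF : M ⊓ PG.centMod Q₁ Q₀ = F[M] := le_antisymm (le_fittingOf inf_le_left hCn (by
    rw [eC2]
    exact nilpotent_sup_of_le_cent hQn (nil_of_le hDn inf_le_left) (le_cent_symm hc1))) hFC
  have hM2 : ⁅Mσ[M], Mσ[M]⁆ ≤ F[M] :=
    (PG.commutator_le_sup_of_le_sup ((sigmaCore_le M).trans hMQ) sQ.le hD.le eMs.ge).trans
      (sup_le hQF (eF ▸ le_inf ((der1_le D).trans hDM)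
        (PG.le_centMod_iff.2 ⟨(der1_le D).trans hDN, hcyc⟩)))
  have hFMs : F[M] ≤ Mσ[M] := hFC.trans hCMs
  refine ⟨hKp, ?_, ⟨hch, hel, hcard⟩, hd ▸ hM2, ?_, eF, ?_, lt_of_le_of_ne hFMs fun h =>
    hnn (h ▸ fittingOf_nilpotent M)⟩
  · by_contra hβ
    have := Fact.mk hqp
    have hqσ : q ∈ sigma M := sigmaCore_isPi M q hqp (hq ▸ card_dvd_of_le (hKsQ.trans sQ.le))
    exact hDQ (PG.le_cent_of_le_commutator_of_narrow (mFT_prime_ne_two (sigma_dvd hqσ)) hQp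
      (narrow_of_not_beta hM hqp hβ (Msigma_syl hM hqσ sQ)) hMQ hs (mFT_odd M)
      (hd ▸ hD.le) ((isPiSubgroup_single_compl_iff_coprime hqp).1 hD.isPi))
  · refine le_antisymm (sup_le hQF (eF ▸ inf_le_inf_left _ ?_)) ?_
    · exact PG.le_centMod_iff.2 ⟨le_norm_of_cent (cent_anti hQ₀Q),
        (le_cent_iff_commutator_eq_bot.1 le_rfl).le.trans bot_le⟩
    · rw [← eF, eC2]
      exact sup_le_sup_left (le_inf (inf_le_left.trans hDM) hc1) _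
  · have h1 : F[M] ≤ Mσ[M] ⊓ PG.centMod Ks Q₀ := le_inf hFMs (PG.le_centMod_iff.2
      ⟨(fittingOf_le M).trans hM₀, (commutator_mono le_rfl hKsQ).trans
        (PG.le_centMod_iff.1 (hFC.trans inf_le_right)).2⟩)
    refine le_antisymm ?_ h1
    have h2 : M ≤ N[Mσ[M] ⊓ PG.centMod Ks Q₀] := by
      conv_lhs => rw [← dM.sup_eq]
      refine sup_le (le_norm_of_commutator_le_of_le inf_le_left (hM2.trans h1))
        (le_norm_inf dM.right_norm (PG.le_norm_centMod (le_norm_of_cent ?_) hKN))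
      exact le_cent_symm (hKs ▸ inf_le_right)
    have hY : Mσ[M] ⊓ PG.centMod Ks Q₀ ≤ M := inf_le_left.trans (sigmaCore_le M)
    have h3 := hch.eq_or_eq (W := Q₁ ⊓ PG.centMod (Mσ[M] ⊓ PG.centMod Ks Q₀) Q₀)
      (le_inf hQ₀Q (PG.le_centMod_self (hY.trans hM₀))) inf_le_left
      (le_norm_inf hMQ (PG.le_norm_centMod h2 hM₀))
    have h4 : Ks ≤ Q₁ ⊓ PG.centMod (Mσ[M] ⊓ PG.centMod Ks Q₀) Q₀ :=
      le_inf hKsQ (PG.le_centMod_iff.2 ⟨hKsQ.trans hQN, by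
        rw [commutator_comm]; exact (PG.le_centMod_iff.1 inf_le_right).2⟩)
    have h5 := h3.resolve_left fun h => hKs₀ (h ▸ h4)
    rw [← eF]
    refine le_inf hY (PG.le_centMod_iff.2 ⟨hY.trans hM₀, ?_⟩)
    rw [commutator_comm]
    exact (PG.le_centMod_iff.1 (h5.ge.trans inf_le_right)).2

/-- 15.2, second part -/
theorem Fcore_structure (hM : IsCoatom M) (hK : IsPiHallOf (kappa M) K M) (hne : MF[M] ≠ Mσ[M])
    {Ks Q₀ : Subgroup G} (hp : p = Nat.card K) (hKs : Ks = Mσ[M] ⊓ C[K]) (hq : q = Nat.card Ks)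
    (hQ : Q = O[{q}](M)) (hD : IsPiHallOf {q}ᶜ D Mσ[M]) (hQ₀ : Q₀ = Q ⊓ C[D]) :
    (IsMP1 M ∧ Sdprod Mσ[M] K M ∧ Mσ[M] = ⁅M, M⁆) ∧
    (p.Prime ∧ q.Prime ∧ q ∣ Nat.card MF[M] ∧ q ∈ beta M) ∧
    (IsPiHallOf {q} Q M ∧ Group.IsNilpotent D ∧ M ≤ N[Q₀]) ∧
    (ChiefFactor M Q₀ Q ∧ IsElementaryAbelian q (quo Q Q₀) ∧ Q₀.relIndex Q = q ^ p) ∧
    (⁅⁅M, M⁆, ⁅M, M⁆⁆ ≤ F[M] ∧ Q ⊔ (M ⊓ C[Q]) = F[M] ∧ M ⊓ PG.centMod Q Q₀ = F[M] ∧
      Mσ[M] ⊓ PG.centMod Ks Q₀ = F[M] ∧ F[M] < Mσ[M]) := by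
  have hP1 := P1_of_Fcore_ne hM hne
  obtain ⟨hK1, hE, dM, hd, -, hqp⟩ := P1type_structure hP1 hK
  obtain ⟨hKsQ, sQ, hDn⟩ := s15_Fcore_syl hM hK hne (hKs ▸ hq)
  rw [← hKs, ← hq] at hqp
  rw [← hKs, ← hQ] at hKsQ
  rw [← hQ] at sQ
  have hsMs := sub_mmax_sol hM (sigmaCore_le M)
  obtain ⟨D₁, hD₁, hKD⟩ := coprime_exists_hall {q}ᶜ hsMs dM.right_norm
    (IsPiSubgroup.coprime (sigmaCore_isPi M) hE.isPi)
  obtain ⟨h1, h2, h3, h4⟩ := s15_Fcore_main hM hK hne hKs hq hQ hD₁ rfl hKD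
  have hMQ : M ≤ N[Q] := h3.1.norm_top
  obtain rfl : Q₀ = Q ⊓ C[D₁] := by
    obtain ⟨g, hg, rfl⟩ := hD₁.exists_conj hsMs hD
    rw [hQ₀, ← conj_centralizer, ← conj_eq_self (h3.1.norm_bot (sigmaCore_le M hg)), conj_inf,
      conj_eq_self (hMQ (sigmaCore_le M hg))]
  have sQ' := Msigma_syl hM (beta_sub_sigma hM h2) sQ
  subst hp
  exact ⟨⟨hP1, dM, hd⟩, ⟨h1, hqp, hq ▸ card_dvd_of_le (hKsQ.trans
    (syl_le_fittingHallOf hqp sQ' hMQ)), h2⟩, ⟨sQ', hDn D hD, h3.1.norm_bot⟩, h3, h4⟩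

/-- data for 15.2 -/
theorem s15_Fcore_data (hM : IsCoatom M) (hne : MF[M] ≠ Mσ[M]) :
    ∃ (q : ℕ) (Q : Subgroup G), q.Prime ∧ q ∈ beta M ∧ IsPiHallOf {q} Q M ∧ M ≤ N[Q] ∧
      Q ≤ MF[M] ∧ Q ≠ ⊥ ∧ (∀ D, IsPiHallOf {q}ᶜ D Mσ[M] → Group.IsNilpotent D) ∧
      Mσ[M] = ⁅M, M⁆ ∧ ⁅⁅M, M⁆, ⁅M, M⁆⁆ ≤ F[M] ∧ M ⊓ C[Q] ≤ F[M] ∧ F[M] < Mσ[M] := by
  obtain ⟨K, hK⟩ := exists_hall (kappa M) (mmax_sol hM)
  obtain ⟨D, hD⟩ := exists_hall {Nat.card ↥(Mσ[M] ⊓ C[K])}ᶜ (sub_mmax_sol hM (sigmaCore_le M))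
  obtain ⟨⟨-, -, h1⟩, ⟨-, hq, h2, h3⟩, ⟨h4, -⟩, -, h5, h6, -, -, h7⟩ :=
    Fcore_structure hM hK hne rfl rfl rfl rfl hD rfl
  exact ⟨_, _, hq, h3, h4, self_le_norm_piCoreOf _ M,
    syl_le_fittingHallOf hq h4 (self_le_norm_piCoreOf _ M),
    (syl_ne_bot_iff hq h4).2 (h2.trans (card_dvd_of_le (fittingHallOf_le M))),
    (s15_Fcore_syl hM hK hne rfl).2.2, h1, h5, h6 ▸ le_sup_right, h7⟩

/-- 15.2, first part -/
theorem Fcore_facts (hM : IsCoatom M) :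
    MF[M] ≠ ⊥ ∧ MF[M] ≤ Mσ[M] ∧ Mσ[M] ≤ ⁅M, M⁆ ∧ ⁅M, M⁆ < M := by
  refine ⟨?_, Fcore_sub_Msigma hM, Msigma_der1 hM, mmax_der1_lt hM⟩
  by_cases h : MF[M] = Mσ[M]
  · exact h ▸ Msigma_neq1 hM
  obtain ⟨q, Q, -, -, -, -, h1, h2, -⟩ := s15_Fcore_data hM h
  exact ne_bot_of_le h2 h1

end Cfsg.Agent.BG
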