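import Cfsg.Agent.BG.S15

/-! Bender–Glauberman §16: the types, the summaries, Theorems I and II. -/

set_option autoImplicit false
set_option linter.unusedSectionVars false
set_option linter.unusedVariables false

namespace Cfsg.Agent.BG

open Subgroup Cfsg.Agent.GT

universe u

variable {G : Type u} [Group G] [Finite G] [MFT G]
variable {A A₀ B D E E₁ E₂ E₃ H K L M Ms N P Q R S U V W W₁ W₂ X Y : Subgroup G} {p q r : ℕ}
  {g x y : G} {π : Set ℕ}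

omit [MFT G] in
/-- elements of a coset `k r` of a regular `r` are conjugate to `r` -/
theorem exists_conj_eq_mul_of_reg {k r : G} (hr : r ∈ N[K]) (h : K ⊓ C1[r] = ⊥) (hk : k ∈ K) :
    ∃ y ∈ K, k * r = y * r * y⁻¹ := by
  let f : K → K := fun y => ⟨y * (r * (y : G)⁻¹ * r⁻¹),
    mul_mem y.2 (conj_mem_of_mem_norm hr (inv_mem y.2))⟩
  have hf : Function.Injective f := fun a b e => by
    have e' : (a : G) * (r * (a : G)⁻¹ * r⁻¹) = b * (r * (b : G)⁻¹ * r⁻¹) := congrArg Subtype.val e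
    have : (b : G)⁻¹ * a ∈ K ⊓ C1[r] := mem_inf.2 ⟨mul_mem (inv_mem b.2) a.2, mem_cent1.2 (by
      calc (b : G)⁻¹ * a * r = (b : G)⁻¹ * (a * (r * (a : G)⁻¹ * r⁻¹)) * r * a := by group
        _ = _ := by rw [e']; group)⟩
    rw [h, mem_bot, inv_mul_eq_one] at this
    exact Subtype.ext this.symm
  obtain ⟨y, e⟩ := Finite.injective_iff_surjective.1 hf ⟨k, hk⟩
  have e' : (y : G) * (r * (y : G)⁻¹ * r⁻¹) = k := congrArg Subtype.val e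
  exact ⟨y, y.2, by rw [← e']; group⟩

omit [MFT G] in
theorem frob_exists_conj (h : Frob K R M) (hg : g ∈ M) (hK : g ∉ K) :
    ∃ y ∈ K, ∃ r ∈ R, r ≠ 1 ∧ g = y * r * y⁻¹ := by
  obtain ⟨k, hk, r, hr, rfl⟩ := h.sdprod.exists_mul hg
  have hr1 : r ≠ 1 := fun e => hK (by rwa [e, mul_one])
  obtain ⟨y, hy, e⟩ := exists_conj_eq_mul_of_reg (h.sdprod.right_norm hr) (h.reg r hr hr1) hk
  exact ⟨y, hy, r, hr, hr1, e⟩

omit [MFT G] in
/-- centralizers of kernel elements of a Frobenius group -/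
theorem frob_cent1_le (h : Frob K R M) (hx : x ∈ K) (hx1 : x ≠ 1) : M ⊓ C1[x] ≤ K := by
  rintro g ⟨hg, hc⟩
  by_contra hK
  obtain ⟨y, hy, r, hr, hr1, rfl⟩ := frob_exists_conj h hg hK
  have e := mem_cent1.1 hc
  have := semiregular_iff.1 h.reg r hr hr1 (y⁻¹ * x * y) (mul_mem (mul_mem (inv_mem hy) hx) hy) (by
    calc y⁻¹ * x * y * r = y⁻¹ * (x * (y * r * y⁻¹)) * y := by group
      _ = _ := by rw [← e]; group)
  exact hx1 (by simpa [mul_assoc, inv_mul_eq_iff_eq_mul] using this)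

omit [Finite G] [MFT G] in
theorem s16_conj_ne_one : g * x * g⁻¹ ≠ 1 ↔ x ≠ 1 := by simp

/-! ### types -/

theorem FTtype_conj (g : G) (M : Subgroup G) : FTtype (cj[g] M) = FTtype M := by
  classical
  unfold FTtype
  rw [kappa_conj, ← conj_sigmaCore, ← conj_commutator, ← conj_commutator, ← conj_fittingHallOf]
  exact if_congr isPiSubgroup_cj rfl (if_congr conj_inj.not rfl (if_congr conj_inj rfl
    (if_congr conj_le_conj_iff rfl rfl)))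

theorem FTcore_conj (g : G) (M : Subgroup G) : FTcore (cj[g] M) = cj[g] (FTcore M) := by
  unfold FTcore
  rw [FTtype_conj]
  split_ifs
  exacts [(conj_fittingHallOf g).symm, (conj_commutator g M M).symm]

theorem FTder_conj (g : G) (M : Subgroup G) : FTder (cj[g] M) = cj[g] (FTder M) := by
  unfold FTder
  rw [FTtype_conj]
  split_ifs
  exacts [rfl, (conj_commutator g M M).symm]

theorem FTsupp1_conj : g * x * g⁻¹ ∈ FTsupp1 (cj[g] M) ↔ x ∈ FTsupp1 M := by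
  simp only [FTsupp1, mem_sharp, FTcore_conj, conj_mem_conj, s16_conj_ne_one]

theorem FTsupp_conj : g * x * g⁻¹ ∈ FTsupp (cj[g] M) ↔ x ∈ FTsupp M := by
  have key : ∀ (g x : G) (M : Subgroup G), x ∈ FTsupp M → g * x * g⁻¹ ∈ FTsupp (cj[g] M) := by
    rintro g x M ⟨h1, h2, y, h3, h4, h5⟩
    refine ⟨FTder_conj g M ▸ conj_mem_conj.2 h1, s16_conj_ne_one.2 h2, g * y * g⁻¹,
      FTcore_conj g M ▸ conj_mem_conj.2 h3, s16_conj_ne_one.2 h4, ?_⟩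
    rw [← conj_cent1]; exact conj_mem_conj.2 h5
  exact ⟨fun h => by simpa [mul_assoc] using key g⁻¹ _ _ h, key g x M⟩

theorem FTsupp0_conj : g * x * g⁻¹ ∈ FTsupp0 (cj[g] M) ↔ x ∈ FTsupp0 M := by
  simp only [FTsupp0, Set.mem_union, FTsupp_conj, Set.mem_setOf_eq, conj_mem_conj, FTder_conj,
    card_conj, orderOf_conj]

theorem FTtype_Fmax (hM : IsCoatom M) : IsMF M ↔ FTtype M = 1 := by
  unfold FTtype IsMF
  split_ifs <;> simp [*]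

theorem FTtype_Pmax (hM : IsCoatom M) : IsMP M ↔ FTtype M ≠ 1 := by
  rw [Ne, ← FTtype_Fmax hM]
  simp only [IsMP, IsMF, hM, true_and]

theorem P1type_iff (hM : IsMP M) : IsMP1 M ↔ Mσ[M] = ⁅M, M⁆ := by
  obtain ⟨K, hK⟩ := exists_hall (kappa M) (mmax_sol hM.1)
  refine ⟨fun h => (P1type_structure h hK).2.2.2.1, fun h => ?_⟩
  obtain ⟨U, hU⟩ := ex_kappa_compl hM.1 hK
  have := kappa_compl_der1 hM.1 hU ((trivgPmax hM.1 hK).1 hM)
  exact (trivg_kappa_compl hM.1 hU).1 (IsPiSubgroup.eq_bot (IsPiSubgroup.of_le (sigmaCore_isPi M)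
    (le_sup_right.trans (this.trans h.symm).le)) hU.sigma')

theorem FTtype_P1max (hM : IsCoatom M) : IsMP1 M ↔ 2 < FTtype M := by
  by_cases h : IsPiSubgroup (kappa M)ᶜ M
  · simp [FTtype, IsMP1, IsMP, h]
  rw [P1type_iff ⟨hM, h⟩]
  unfold FTtype
  split_ifs <;> simp_all

theorem FTtype_P2max (hM : IsCoatom M) : IsMP2 M ↔ FTtype M = 2 := by
  have h1 := FTtype_P1max hM
  have h2 := FTtype_Fmax hM
  have h3 := FTtype_Pmax hM
  have h4 := FTtype_range M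
  refine ⟨fun h => ?_, fun h => ?_⟩
  · have := h3.1 h.1
    have := mt h1.2 fun h' => s15_P1_not_P2 h' h
    omega
  · rcases mmax_type_cases hM with h' | h' | h'
    · have := h2.1 h'; omega
    · have := h1.1 h'; omega
    · exact h'

theorem FTcore_type12 (h : FTtype M ≤ 2) : FTcore M = MF[M] := if_pos h
theorem FTcore_type_gt2 (h : 2 < FTtype M) : FTcore M = ⁅M, M⁆ := if_neg h.not_ge

theorem Fcore_eq_Msigma_of_not_P1 (hM : IsCoatom M) (h : ¬ IsMP1 M) : MF[M] = Mσ[M] :=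
  (Fcore_eq_Msigma hM).2 (notP1type_Msigma_nil ((notP1type_iff hM).1 h))

theorem def_FTcore (hM : IsCoatom M) : FTcore M = Mσ[M] := by
  by_cases h : 2 < FTtype M
  · have h' := (FTtype_P1max hM).2 h
    rw [FTcore_type_gt2 h, (P1type_iff h'.1).1 h']
  · rw [FTcore_type12 (not_lt.1 h), Fcore_eq_Msigma_of_not_P1 hM (mt (FTtype_P1max hM).1 h)]

theorem Fcore_sub_FTcore (hM : IsCoatom M) : MF[M] ≤ FTcore M :=
  def_FTcore hM ▸ Fcore_sub_Msigma hM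
theorem FTder_le (M : Subgroup G) : FTder M ≤ M := by
  unfold FTder; split_ifs; exacts [le_rfl, der1_le M]
theorem der1_le_FTder (M : Subgroup G) : ⁅M, M⁆ ≤ FTder M := by
  unfold FTder; split_ifs; exacts [der1_le M, le_rfl]
theorem FTcore_sub_FTder (hM : IsCoatom M) : FTcore M ≤ FTder M :=
  def_FTcore hM ▸ (Msigma_der1 hM).trans (der1_le_FTder M)
theorem FTder_type1 (h : FTtype M = 1) : FTder M = M := if_pos h
theorem FTder_typeP (h : FTtype M ≠ 1) : FTder M = ⁅M, M⁆ := if_neg h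
theorem mmax_Fcore_neq1 (hM : IsCoatom M) : MF[M] ≠ ⊥ := (Fcore_facts hM).1
theorem mmax_Fitting_neq1 (hM : IsCoatom M) : F[M] ≠ ⊥ :=
  fittingOf_ne_bot (mmax_sol hM) (mmax_neq1 hM)
theorem FTcore_neq1 (hM : IsCoatom M) : FTcore M ≠ ⊥ := def_FTcore hM ▸ Msigma_neq1 hM
theorem norm_Fcore (hM : IsCoatom M) : N[MF[M]] = M :=
  mmax_normal hM (fittingHallOf_le M) (self_le_norm_fittingHallOf M) (mmax_Fcore_neq1 hM)
theorem norm_FTcore (hM : IsCoatom M) : N[FTcore M] = M := def_FTcore hM ▸ norm_Msigma hM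

theorem FTsupp1_sub (hM : IsCoatom M) : FTsupp1 M ⊆ FTsupp M := fun x hx =>
  ⟨FTcore_sub_FTder hM hx.1, hx.2, x, hx.1, hx.2, self_mem_cent1 x⟩
theorem FTsupp_sub0 (M : Subgroup G) : FTsupp M ⊆ FTsupp0 M := Set.subset_union_left
theorem FTsupp0_sub (M : Subgroup G) : FTsupp0 M ⊆ sharp M := by
  rintro x (h | h)
  · exact ⟨FTder_le M h.1, h.2.1⟩
  · exact ⟨h.1, fun e => h.2.1 (by rw [e, orderOf_one]; exact PiNat.one)⟩
theorem FTsupp_sub_der (M : Subgroup G) : FTsupp M ⊆ sharp (FTder M) := fun _ h => ⟨h.1, h.2.1⟩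
theorem Fcore_sub_FTsupp1 (hM : IsCoatom M) : sharp MF[M] ⊆ FTsupp1 M := fun _ h =>
  ⟨Fcore_sub_FTcore hM h.1, h.2⟩
theorem Fitting_le_FTder (hM : IsCoatom M) : F[M] ≤ FTder M := by
  by_cases h : FTtype M = 1
  · rw [FTder_type1 h]; exact fittingOf_le M
  · rw [FTder_typeP h]; exact (Fitting_structure hM).2.2.2 ((FTtype_Pmax hM).2 h)
theorem Fitting_sub_FTsupp (hM : IsCoatom M) : sharp F[M] ⊆ FTsupp M := fun x hx => by
  obtain ⟨y, ⟨hy, hc⟩, hy1⟩ := exists_ne_one_of_ne_bot (inf_cent_ne_bot_of_nilpotent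
    (fittingOf_nilpotent M) (fittingHallOf_le_fittingOf M)
    ((fittingOf_le M).trans (self_le_norm_fittingHallOf M)) (mmax_Fcore_neq1 hM))
  exact ⟨Fitting_le_FTder hM hx.1, hx.2, y, Fcore_sub_FTcore hM hy, hy1,
    mem_cent_iff_le_cent1.1 hc hx.1⟩
theorem FTsupp0_type1 (h : FTtype M = 1) : FTsupp0 M = FTsupp M := by
  refine Set.union_eq_left.2 fun x hx => (hx.2.1 ?_).elim
  rw [FTder_type1 h]
  exact IsPiSubgroup.orderOf (isPiSubgroup_piOf M) hx.1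
theorem FTsupp_eq1 (hM : IsCoatom M) (h : 2 < FTtype M) : FTsupp M = FTsupp1 M := by
  refine Set.Subset.antisymm (fun x hx => ⟨?_, hx.2.1⟩) (FTsupp1_sub hM)
  rw [FTcore_type_gt2 h, ← FTder_typeP (by omega)]
  exact hx.1
theorem FTsupp1_norm (hx : x ∈ FTsupp1 M) (hg : g ∈ M) : g * x * g⁻¹ ∈ FTsupp1 M := by
  have := (FTsupp1_conj (g := g)).2 hx
  rwa [conj_eq_self_of_mem hg] at this
theorem FTsupp_norm (hx : x ∈ FTsupp M) (hg : g ∈ M) : g * x * g⁻¹ ∈ FTsupp M := by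
  have := (FTsupp_conj (g := g)).2 hx
  rwa [conj_eq_self_of_mem hg] at this
theorem FTsupp0_norm (hx : x ∈ FTsupp0 M) (hg : g ∈ M) : g * x * g⁻¹ ∈ FTsupp0 M := by
  have := (FTsupp0_conj (g := g)).2 hx
  rwa [conj_eq_self_of_mem hg] at this
theorem norm_FTsupp1 (hM : IsCoatom M) : Subgroup.normalizer (FTsupp1 M) = M := by
  obtain ⟨x, hx, hx1⟩ := exists_ne_one_of_ne_bot (FTcore_neq1 hM)
  exact mmax_set_norm hM (fun _ h => (FTsupp0_sub M (FTsupp_sub0 M (FTsupp1_sub hM h))).1)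
    (x := x) ⟨hx, hx1⟩ hx1 fun _ ha _ hm => FTsupp1_norm ha hm
theorem norm_FTsupp (hM : IsCoatom M) : Subgroup.normalizer (FTsupp M) = M := by
  obtain ⟨x, hx, hx1⟩ := exists_ne_one_of_ne_bot (FTcore_neq1 hM)
  exact mmax_set_norm hM (fun _ h => (FTsupp0_sub M (FTsupp_sub0 M h)).1)
    (FTsupp1_sub hM ⟨hx, hx1⟩) hx1 fun _ ha _ hm => FTsupp_norm ha hm
theorem norm_FTsupp0 (hM : IsCoatom M) : Subgroup.normalizer (FTsupp0 M) = M := by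
  obtain ⟨x, hx, hx1⟩ := exists_ne_one_of_ne_bot (FTcore_neq1 hM)
  exact mmax_set_norm hM (fun _ h => (FTsupp0_sub M h).1)
    (FTsupp_sub0 M (FTsupp1_sub hM ⟨hx, hx1⟩)) hx1 fun _ ha _ hm => FTsupp0_norm ha hm

theorem mem_FTsupp0_diff : x ∈ FTsupp0 M \ FTsupp M ↔ x ∈ M ∧
    ¬ PiNat (piOf (Nat.card (FTder M))) (orderOf x) ∧
    ¬ PiNat (piOf (Nat.card (FTder M)))ᶜ (orderOf x) :=
  ⟨fun h => h.1.resolve_left h.2, fun h => ⟨Or.inr h, fun h' =>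
    h.2.1 (IsPiSubgroup.orderOf (isPiSubgroup_piOf _) h'.1)⟩⟩

omit [MFT G] in
theorem s16_typeP_sdprod (hP : IsTypePWith M W₁ U W₂) : Sdprod ⁅M, M⁆ W₁ M :=
  ⟨hP.W₁_compl, self_le_norm_der1 M⟩

omit [MFT G] in
theorem s16_typeP_coprime (hP : IsTypePWith M W₁ U W₂) :
    (Nat.card ↥⁅M, M⁆).Coprime (Nat.card W₁) :=
  (hP.W₁_compl.relIndex_right ▸ hP.W₁_hall).symm

omit [Finite G] [MFT G] in
theorem s16_typeP_W₂_le_der1 (hP : IsTypePWith M W₁ U W₂) : W₂ ≤ ⁅M, M⁆ :=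
  hP.W₂_le.trans (inf_le_right.trans (der1_le _))

omit [Finite G] [MFT G] in
theorem s16_typeP_der1_cent (hP : IsTypePWith M W₁ U W₂) : ⁅M, M⁆ ⊓ C[W₁] = W₂ := by
  obtain ⟨x, hx, hx1⟩ := exists_ne_one_of_ne_bot hP.W₁_ne
  exact le_antisymm (hP.W₂_centralizer x hx hx1 ▸ inf_le_inf_left _ (cent_le_cent1 hx))
    (le_inf (s16_typeP_W₂_le_der1 hP)
      (le_cent_iff.2 fun b hb a ha => hP.selfNormalizing.2.2.2.1 a ha b hb))

/-- `A₀(M) ∖ A(M) = V^M` -/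
theorem FTsupp0_typeP (hP : IsTypePWith M W₁ U W₂) (h : FTtype M ≠ 1) :
    FTsupp0 M \ FTsupp M = classSupp (cycTI W₁ W₂) M := by
  have d := s16_typeP_sdprod hP
  have hc := s16_typeP_coprime hP
  have h1 : IsPiHallOf (piOf (Nat.card ↥⁅M, M⁆)) ⁅M, M⁆ M := isPiHallOf_piOf_of_isComplIn d.compl hc
  have h2 := h1.compl d.compl
  have hW₂ := s16_typeP_W₂_le_der1 hP
  have hWC : W₂ ≤ C[W₁] := s16_typeP_der1_cent hP ▸ inf_le_right
  ext x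
  rw [mem_FTsupp0_diff, FTder_typeP h, mem_classSupp]
  generalize piOf (Nat.card ↥⁅M, M⁆) = π at h1 h2
  constructor
  · rintro ⟨hx, ha, hb⟩
    obtain ⟨n, hn, hle⟩ := sz_le_conj_or (B := zpowers (constt πᶜ x))
      (Or.inr (solvable_of_comm (isMulCommutative_of_isCyclic hP.W₁_cyclic))) d.right_norm hc
      ((zpowers_le.2 (constt_mem _ hx)).trans d.sup_eq.ge)
      (IsPiSubgroup.coprime h1.isPi (isPiSubgroup_zpowers_iff.2 (piNat_constt _ x)))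
    have hnM := der1_le M hn
    have hy : n⁻¹ * x * n⁻¹⁻¹ ∈ M := mul_mem (mul_mem (inv_mem hnM) hx) (inv_mem (inv_mem hnM))
    have hy' : constt πᶜ (n⁻¹ * x * n⁻¹⁻¹) ∈ W₁ := by
      rw [constt_conj, inv_inv]; exact mem_conj.1 (hle (mem_zpowers _))
    rw [← orderOf_conj n⁻¹ x] at ha hb
    refine ⟨n⁻¹ * x * n⁻¹⁻¹, ⟨?_, fun h => hb (IsPiSubgroup.orderOf h2.isPi h),
      fun h => ha (IsPiSubgroup.orderOf h1.isPi (hW₂ h))⟩, n, hnM, by group⟩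
    generalize n⁻¹ * x * n⁻¹⁻¹ = y at hy hy' ha hb
    rw [← constt_compl_mul_constt π y]
    refine mul_mem_sup hy' ?_
    rw [← hP.W₂_centralizer _ hy' fun e => ha (by simpa using constt_eq_one_iff.1 e)]
    exact ⟨h1.constt_mem d.norm hy, mem_cent1.2 (commute_constt_constt _ _ y)⟩
  · rintro ⟨w, ⟨hw, ha, hb⟩, m, hm, rfl⟩
    have hwM : w ∈ M := sup_le d.right_le (hW₂.trans d.left_le) hw
    rw [orderOf_conj]
    refine ⟨mul_mem (mul_mem hm hwM) (inv_mem hm), fun h => hb ?_, fun h => ha ?_⟩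
    · have := dedekind' (C := ⁅M, M⁆) (Or.inr (le_norm_of_cent hWC)) hW₂
      rw [inf_comm W₁, d.inf_eq, bot_sup_eq] at this
      exact this ▸ mem_inf.2 ⟨hw, h1.mem_of_normal d.norm hwM h⟩
    · exact h2.mem_of_mem_norm hwM (sup_le le_normalizer (le_norm_of_cent hWC) hw) h

theorem FTder_eq_kappa_compl (hM : IsCoatom M) (hU : KappaCompl M U K) :
    FTder M = Mσ[M] ⊔ U := by
  by_cases h : FTtype M = 1
  · obtain rfl := (trivg_kappa hM hU.hallK).2 ((FTtype_Fmax hM).2 h)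
    rw [FTder_type1 h]
    exact ((kappa_compl_sdprod hM hU).2.eq_left_iff.2 rfl).symm
  · rw [FTder_typeP h,
      kappa_compl_der1 hM hU ((trivgPmax hM hU.hallK).1 ((FTtype_Pmax hM).2 h))]

theorem FTder_hall (hM : IsCoatom M) : IsPiHallOf (kappa M)ᶜ (FTder M) M ∧ M ≤ N[FTder M] := by
  obtain ⟨K, hK⟩ := exists_hall (kappa M) (mmax_sol hM)
  obtain ⟨U, hU⟩ := ex_kappa_compl hM hK
  have d := (kappa_compl_sdprod hM hU).2
  rw [FTder_eq_kappa_compl hM hU]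
  exact ⟨hK.compl d.compl.symm, d.norm⟩

/-! ### the summaries (A is spread over §15: `Msigma_Hall`, `kappa_structure`,
`kappa_compl_context`, `Fcore_facts`, `Fitting_structure`) -/

/-- A(5) -/
theorem BGsummaryA5 (hM : IsCoatom M) (hK : IsPiHallOf (kappa M) K M) :
    Mσ[M] ⊓ C[K] ≠ ⊥ ∧ ∀ k ∈ K, k ≠ 1 → M ⊓ C1[k] = K ⊔ (Mσ[M] ⊓ C[K]) := by
  by_cases h : K = ⊥
  · subst h
    exact ⟨by simpa using Msigma_neq1 hM, fun k hk hk1 => absurd (mem_bot.1 hk) hk1⟩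
  have hP := (trivgPmax hM hK).2 h
  obtain ⟨Ms, -, -, -, -, -, ⟨-, -, h1, -⟩, -⟩ := Ptype_embedding hP hK rfl
  exact ⟨(Ptype_cyclics hP hK).1, h1⟩

/-- A(8) -/
theorem BGsummaryA8 (hM : IsCoatom M) (hU : KappaCompl M U K) (hne : MF[M] ≠ Mσ[M]) :
    U = ⊥ ∧ NormedTI (sharp F[M]) ⊤ M ∧ (Nat.card K).Prime := by
  obtain ⟨D, hD⟩ := exists_hall {Nat.card ↥(Mσ[M] ⊓ C[K])}ᶜ (sub_mmax_sol hM (sigmaCore_le M))
  obtain ⟨⟨h1, -⟩, ⟨h2, -⟩, -⟩ := Fcore_structure hM hU.hallK hne rfl rfl rfl rfl hD rfl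
  exact ⟨(trivg_kappa_compl hM hU).2 h1, not_not.1 fun h => hne (nonTI_Fitting_facts hM h).2.1, h2⟩

/-- B(1) -/
theorem BGsummaryB1 (hM : IsCoatom M) (hU : KappaCompl M U K) (hp : p.Prime) (hS : S ≤ U)
    (hSp : IsPGroup p S) : IsMulCommutative S ∧ PRankLE p 2 S :=
  ⟨sigma'_nil_abelian hM (hS.trans hU.hallU.le) (IsPiSubgroup.of_le hU.sigma' hS)
    (nilpotent_of_isPGroup hp hSp),
    sigma'_rankLE_two hM (hS.trans hU.hallU.le) (IsPiSubgroup.of_le hU.sigma' hS) p hp⟩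

theorem s16_FTsupp_umax (hM : IsCoatom M) (hx : x ∈ FTsupp M) (hs : x ∉ Mσ[M]) :
    UMax C1[constt (sigma M)ᶜ x] M := by
  obtain ⟨h1, -, y, hy, hy1, hc⟩ := hx
  rw [def_FTcore hM] at hy
  have hxM := FTder_le M h1
  have h2 : constt (sigma M)ᶜ x ≠ 1 := fun e => hs ((Msigma_Hall hM).mem_of_normal
    (le_norm_sigmaCore M) hxM (by simpa using constt_eq_one_iff.1 e))
  rcases pi_of_cent_sigma hM hy hy1 (constt_mem _ (mem_inf.2 ⟨hxM, hc⟩)) h2 (piNat_constt _ x)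
    with h | h
  · exact absurd (eq_one_of_piNat_orderOf h.1
      (IsPiSubgroup.orderOf (FTder_hall hM).1.isPi (constt_mem _ h1))) h2
  · exact h.2.2

/-- B(5) -/
theorem BGsummaryB5 (hM : IsCoatom M) (hne : (FTsupp M \ (Mσ[M] : Set G)).Nonempty) :
    NormedTI (FTsupp M \ (Mσ[M] : Set G)) ⊤ M := by
  refine ⟨hne, le_top, fun a ha g _ => ⟨fun h => ?_, fun hg => ⟨FTsupp_norm ha.1 hg, fun h => ha.2 ?_⟩⟩⟩
  · have h1 := (s16_FTsupp_umax hM ha.1 ha.2).conj g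
    have h2 := s16_FTsupp_umax hM h.1 h.2
    rw [constt_conj, ← conj_cent1] at h2
    exact h2.mem_of_le_conj h1.le
  · simpa [mul_assoc] using conj_mem_of_le_norm' (le_norm_sigmaCore M) hg h

theorem P2_of_kappa_compl (hM : IsCoatom M) (hU : KappaCompl M U K) (hK : K ≠ ⊥) (hU1 : U ≠ ⊥) :
    IsMP2 M :=
  ⟨(trivgPmax hM hU.hallK).2 hK, fun h =>
    hU1 ((trivg_kappa_compl hM hU).2 ⟨(trivgPmax hM hU.hallK).2 hK, h⟩)⟩

/-- C(1) -/
theorem BGsummaryC1 (hM : IsCoatom M) (hU : KappaCompl M U K) (hK : K ≠ ⊥) :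
    IsMulCommutative U ∧ ¬ N[U] ≤ M := by
  refine ⟨(kappa_compl_context hM hU).2.2.2.2.2 hK, fun h => ?_⟩
  have hU1 := ne_bot_of_norm_le_mmax hM h
  obtain ⟨r, hr, hd⟩ := exists_prime_dvd_card hU1
  obtain ⟨R, hR⟩ := exists_syl hr U
  obtain ⟨L, hL, hKL⟩ := mmax_exists (mFT_cent_proper hK)
  obtain ⟨H, hH, hn⟩ := mmax_exists
    (mFT_norm_pgroup_proper hr (syl_isPGroup hr hR) ((syl_ne_bot_iff hr hR).2 hd))
  exact (P2type_signalizer hU (P2_of_kappa_compl hM hU hK hU1) hL hKL hr hR hH hn).2.2.2.1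
    (inf_le_right.trans h)

omit [Finite G] [MFT G] in
theorem selfNormalizing_of_normedTI (h1 : W₁ ≠ ⊥) (h2 : W₂ ≠ ⊥) (h : W₁ ⊓ W₂ = ⊥)
    (hc : IsCyclic ↥(W₁ ⊔ W₂)) (hT : NormedTI (cycTI W₁ W₂) ⊤ (W₁ ⊔ W₂)) :
    IsSelfNormalizingCyclic W₁ W₂ := by
  have hab := isMulCommutative_iff_forall.1 (isMulCommutative_of_isCyclic hc)
  refine ⟨h1, h2, h, fun a ha b hb => hab a (mem_sup_left ha) b (mem_sup_right hb), hc,
    fun X hX hne => ?_⟩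
  rw [← cycTI_eq] at hX
  refine (hT.subset hne hX fun b hb g hg => ?_).normalizer_eq
  rwa [hab g hg b (hX hb).1, mul_inv_cancel_right]

/-- every Hall `κ`-subgroup of a type `P` group is part of type `P` data -/
theorem exists_typeP (hM : IsMP M) (hK : IsPiHallOf (kappa M) K M) :
    ∃ U, IsTypePWith M K U (Mσ[M] ⊓ C[K]) := by
  have hM' := hM.1
  have hK1 := (trivgPmax hM' hK).1 hM
  obtain ⟨Ms, -, -, -, -, -, ⟨hc, -, h1, -⟩, ⟨hT, -⟩, -, -, d⟩ := Ptype_embedding hM hK rfl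
  obtain ⟨-, ⟨h2, eF, -⟩, ⟨h3, h4⟩, h5⟩ := Fitting_structure hM'
  obtain ⟨h6, -, h7, h8, h9⟩ := Ptype_cyclics hM hK
  obtain ⟨U, hU, hn⟩ := coprime_exists_isComplIn (sub_mmax_sol hM' (der1_le M)) d.right_norm
    (IsPiSubgroup.coprime' (Ptype_der1_coprime hM hK) hK.isPi)
    ((isPiHallOf_fittingHallOf M).of_le h3 (der1_le M))
  have hKs : Mσ[M] ⊓ C[K] ≤ ⁅M, M⁆ := inf_le_left.trans (Msigma_der1 hM')
  refine ⟨U, hK1, kappa_cyclic hM' hK, hK.coprime, d.compl, ?_, hn, hU, h9, eF ▸ h2, eF, h5 hM,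
    le_inf h8 h7, fun x hx hx1 => ?_, selfNormalizing_of_normedTI hK1 h6 ?_ hc hT⟩
  · obtain ⟨e⟩ := Sdprod.nonempty_equiv_quo
      ⟨hU, (der1_le M).trans (self_le_norm_fittingHallOf M)⟩
    exact isNilpotent_of_equiv e.symm h4
  · rw [← inf_eq_left.2 (der1_le M), inf_assoc, h1 x hx hx1, inf_comm,
      dedekind' (Or.inr (le_norm_of_cent inf_le_right)) hKs, inf_comm K, d.inf_eq, bot_sup_eq]
  · exact le_bot_iff.1 (d.inf_eq ▸ le_inf (inf_le_right.trans hKs) inf_le_left)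

/-- C(9) -/
theorem BGsummaryC9 (hM : IsMP M) (hK : IsPiHallOf (kappa M) K M) :
    classSupp (cycTI K (Mσ[M] ⊓ C[K])) M = FTsupp0 M \ FTsupp M ∧
    NormedTI (FTsupp0 M \ FTsupp M) ⊤ M := by
  obtain ⟨U, hP⟩ := exists_typeP hM hK
  obtain ⟨Ms, -, -, -, -, -, -, ⟨hT, -⟩, -⟩ := Ptype_embedding hM hK rfl
  rw [FTsupp0_typeP hP ((FTtype_Pmax hM.1).1 hM)]
  refine ⟨rfl, hT.nonempty.mono (subset_classSupp _ _), le_top, fun a ha g _ =>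
    ⟨fun h => ?_, fun hg => conj_mem_classSupp hg ha⟩⟩
  obtain ⟨z, hz, m, hm, rfl⟩ := ha
  obtain ⟨z', hz', m', hm', e⟩ := h
  have h1 := hT.mem_of_conj_mem hz (mem_top (m'⁻¹ * g * m)) (by
    rwa [show m'⁻¹ * g * m * z * (m'⁻¹ * g * m)⁻¹ = m'⁻¹ * (g * (m * z * m⁻¹) * g⁻¹) * m' by group,
      e, show m'⁻¹ * (m' * z' * m'⁻¹) * m' = z' by group])
  have h2 := sup_le hK.le (inf_le_left.trans (sigmaCore_le M)) h1
  rwa [mul_mem_cancel_right hm, mul_mem_cancel_left (inv_mem hm')] at h2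

/-- C(10) -/
theorem BGsummaryC10 (hM : IsCoatom M) (hU : KappaCompl M U K) (hK : K ≠ ⊥) (hU1 : U ≠ ⊥) :
    (Nat.card K).Prime ∧ NormedTI (sharp F[M]) ⊤ M ∧ Mσ[M] ≤ F[M] := by
  have h := P2_of_kappa_compl hM hU hK hU1
  obtain ⟨-, h1, h2, -⟩ := (Ptype_structure h.1 hU.hallK).2.2.2.2.2 h
  exact ⟨h1, not_not.1 fun h' => (nonTI_Fitting_facts hM h').1.elim
    (fun h' => s15_F_not_P h' h.1) (fun h' => s15_P1_not_P2 h' h),
    le_fittingOf (sigmaCore_le M) (le_norm_sigmaCore M) h2⟩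

/-- C(11) -/
theorem BGsummaryC11 (hM : IsMP1 M) (hK : IsPiHallOf (kappa M) K M) :
    (Nat.card ↥(Mσ[M] ⊓ C[K])).Prime := (P1type_structure hM hK).2.2.2.2.2

theorem s16_le_conj_Msigma (hM : IsCoatom M) (hX : X ≤ Mσ[M]) (hg : X ≤ cj[g] M) :
    X ≤ Mσ[cj[g] M] :=
  le_Msigma (isCoatom_conj g hM) hg (sigma_conj g M ▸ IsPiSubgroup.of_le (sigmaCore_isPi M) hX)

/-- D(2) -/
theorem BGsummaryD2 (hM : IsCoatom M) (hg : g ∉ M) :
    Mσ[M] ⊓ cj[g] M = Mσ[M] ⊓ cj[g] Mσ[M] ∧ IsCyclic ↥(Mσ[M] ⊓ cj[g] M) := by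
  obtain ⟨E, hE⟩ := exists_hall (sigma M)ᶜ (mmax_sol hM)
  exact ⟨le_antisymm (le_inf inf_le_left (conj_sigmaCore g M ▸
    s16_le_conj_Msigma hM inf_le_left inf_le_right))
    (inf_le_inf_left _ (conj_mono g (sigmaCore_le M))),
    ((sigma_compl_embedding hM hE).2.2 g hg).1⟩

/-- D(3) -/
theorem BGsummaryD3 (hM : IsCoatom M) (hx : x ∈ Mσ[M]) (hx1 : x ≠ 1) :
    (Nat.card ↥(M ⊓ C1[x])).Coprime (Nat.card (sigR x)) ∧ Sdprod (sigR x) (M ⊓ C1[x]) C1[x] ∧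
    ∀ g, x ∈ cj[g] M → ∃! z, z ∈ sigR x ∧ cj[z] M = cj[g] M := by
  have h1 := Msigma_ell1 hM hx hx1
  obtain ⟨ht, -, -, hc⟩ := FT_signalizer_trans h1
  have d : Sdprod (sigR x) (M ⊓ C1[x]) C1[x] := by
    by_cases h : SigMany x
    · obtain ⟨hu, -, -, -, h2⟩ := FT_signalizer_context h1 h
      have := (h2 M ⟨hM, hx⟩).1
      rwa [inf_assoc, inf_eq_right.2 hu.le] at this
    · rw [sigR_eq_bot h, inf_eq_right.2 (cent1_sub_uniq_sigma_mmax ⟨hM, hx⟩ h)]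
      exact sdprod_bot_left _
  refine ⟨(d.relIndex ▸ hc).symm, d, fun g hg => ?_⟩
  simpa only [eq_comm] using ht M _ ⟨hM, hx⟩ ⟨isCoatom_conj g hM,
    zpowers_le.1 (s16_le_conj_Msigma hM (zpowers_le.2 hx) (zpowers_le.2 hg))⟩

/-- D(4) -/
theorem BGsummaryD4 (hM : IsCoatom M) (hx : x ∈ Mσ[M]) (hx1 : x ≠ 1) (hC : ¬ C1[x] ≤ M) :
    (UMax C1[x] (sigN x) ∧ MF[sigN x] = Mσ[sigN x]) ∧
    (x ∈ FTsupp (sigN x) ∧ x ∉ Mσ[sigN x] ∧ (IsMF (sigN x) ∨ IsMP2 (sigN x))) ∧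
    IsPiHallOf (sigma (sigN x))ᶜ (M ⊓ sigN x) (sigN x) ∧
    (IsMP2 (sigN x) → IsMF M ∧ (∃ E, Frob Mσ[M] E M ∧ IsCyclic E) ∧
      ¬ NormedTI (sharp MF[M]) ⊤ M) := by
  obtain ⟨hu, hR, hτ, hP, h⟩ := FT_signalizer_context (Msigma_ell1 hM hx hx1)
    ((sigMany_iff hx1 ⟨hM, hx⟩).2 hC)
  have hN := hu.coatom
  obtain ⟨y, hy, hy1⟩ := exists_ne_one_of_ne_bot hR
  refine ⟨⟨hu, (Fcore_eq_Msigma hN).2 (notP1type_Msigma_nil hP)⟩, ⟨⟨?_, hx1, y,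
    def_FTcore hN ▸ hy.1, hy1, mem_cent1_comm.1 hy.2⟩, fun h => hx1 ?_, hP⟩,
    (h M ⟨hM, hx⟩).2.2.2, fun h => ?_⟩
  · exact (FTder_hall hN).1.mem_of_normal (FTder_hall hN).2 (hu.le (self_mem_cent1 x))
      (hτ.mono fun _ h => s15_tau2_not_kappa h)
  · exact eq_one_of_piNat_orderOf (IsPiSubgroup.orderOf (sigmaCore_isPi _) h)
      (hτ.mono fun _ h => tau2_not_sigma h)
  · obtain ⟨a, -, -, ⟨E, -, b, c⟩, d⟩ :=
      nonFtype_signalizer_base hM hx hx1 hC fun h' => s15_F_not_P h' h.1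
    exact ⟨a, ⟨E, c, b⟩, d⟩

/-- E(2), first part -/
theorem exists_mmax_sigma (hp : p.Prime) (hd : p ∣ Nat.card G) :
    ∃ M : Subgroup G, IsCoatom M ∧ p ∈ sigma M := by
  obtain ⟨P, hP⟩ := exists_syl hp (⊤ : Subgroup G)
  obtain ⟨M, h1, -, -, h2⟩ := exists_mmax_norm_syl hp hP
    ((syl_ne_bot_iff hp hP).2 (by rwa [card_top]))
  exact ⟨M, h1, h2⟩

theorem FTsignalizer_eq_sigR (hM : IsCoatom M) (hx : x ∈ Mσ[M]) (hx1 : x ≠ 1) :
    FTsignalizer M x = sigR x := by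
  unfold FTsignalizer
  split_ifs with h
  · exact (sigR_eq_bot fun h' => (sigMany_iff hx1 ⟨hM, hx⟩).1 h' h).symm
  · rw [(BGsummaryD4 hM hx hx1 h).1.2]; rfl

theorem FTDadeSupp1_eq (hM : IsCoatom M) :
    FTDadeSupp M (FTsupp1 M) = classSupp (sigCover M) ⊤ := by
  ext g
  rw [FTsupp1, def_FTcore hM]
  constructor
  · rintro ⟨a, ha, r, hr, y, rfl⟩
    exact ⟨_, ⟨a, ha.1, ha.2, r, FTsignalizer_eq_sigR hM ha.1 ha.2 ▸ hr, rfl⟩, y, mem_top y, rfl⟩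
  · rintro ⟨_, ⟨a, ha, ha1, r, hr, rfl⟩, y, -, rfl⟩
    exact ⟨a, ⟨ha, ha1⟩, r, (FTsignalizer_eq_sigR hM ha ha1).symm ▸ hr, y, rfl⟩

/-! ### Proposition 16.1, Theorems I and II -/

theorem typePfacts (hM : IsCoatom M) (hP : IsTypePWith M W₁ U W₂) :
    IsMP M ∧ IsPiHallOf (kappa M) W₁ M ∧ MF[M] ⊓ C[W₁] = W₂ ∧ Mσ[M] ⊓ C[W₁] = W₂ ∧
    (IsMP1 M ↔ U = ⊥ ∨ N[U] ≤ M) ∧
    (Mσ[M] = ⁅M, M⁆ ∨ (MF[M] = Mσ[M] ∧ KappaCompl M U W₁)) := by
  have d := s16_typeP_sdprod hP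
  have hc := s16_typeP_coprime hP
  have e := s16_typeP_der1_cent hP
  have key : ∀ H : Subgroup G, MF[M] ≤ H → H ≤ ⁅M, M⁆ → H ⊓ C[W₁] = W₂ := fun H h1 h2 =>
    le_antisymm (e ▸ inf_le_inf_right _ h2)
      (le_inf (hP.W₂_le.trans (inf_le_left.trans h1)) (e ▸ inf_le_right))
  obtain ⟨-, h1, h2, -⟩ := Fcore_facts hM
  have eMs := key _ h1 h2
  have hk : IsPiSubgroup (kappa M) W₁ := fun p hp hd => by
    have := Fact.mk hp
    obtain ⟨X, hX⟩ := exists_pnElem_one hp hd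
    refine mem_kappa_iff.2 ⟨Or.inl ⟨hp, der1_quo_sigma' hM (d.relIndex ▸ hd),
      hd.trans (card_dvd_of_le d.right_le), not_dvd_of_coprime hc.symm hp hd,
      (PG.pRankLE_iff_of_isPiHallOf (isPiHallOf_piOf d.right_le hP.W₁_hall) ⟨hp, hd⟩).1
        (PG.pRankLE_one_of_isCyclic hp hP.W₁_cyclic)⟩, X, hX.mono d.right_le,
      ne_bot_of_le hP.selfNormalizing.2.1 (eMs ▸ inf_le_inf_left _ (cent_anti hX.le))⟩
  obtain ⟨K, hK, hWK⟩ := exists_hall_ge (mmax_sol hM) d.right_le hk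
  have hPM := (trivgPmax hM hK).2 (ne_bot_of_le hP.W₁_ne hWK)
  obtain ⟨Ms, -, -, -, -, -, -, -, -, -, d'⟩ := Ptype_embedding hPM hK rfl
  obtain rfl : W₁ = K := eq_of_le_of_card_ge hWK (d'.relIndex.symm.trans d.relIndex).le
  have hnP1 : ¬ IsMP1 M → MF[M] = Mσ[M] ∧ KappaCompl M U W₁ := fun h => by
    have e1 := Fcore_eq_Msigma_of_not_P1 hM h
    obtain ⟨U₀, h₀⟩ := ex_kappa_compl hM hK
    have d₀ := ((kappa_structure hM h₀).2.1 hP.W₁_ne).1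
    refine ⟨e1, hK, h₀.hallU.of_card_eq (hP.U_compl.right_le.trans (der1_le M)) ?_,
      ProdGroup.of_norm (Or.inr hP.U_normal)⟩
    rw [← d₀.relIndex, ← e1, hP.U_compl.relIndex_left]
  refine ⟨hPM, hK, key _ le_rfl (h1.trans h2), eMs, ⟨fun h => ?_, fun h => ?_⟩, ?_⟩
  · rw [or_iff_not_imp_left]
    intro hU1
    obtain ⟨p, hp, hd⟩ := exists_prime_dvd_card hU1
    have h3 := ((isPiHallOf_fittingHallOf M).of_le (h1.trans h2) (der1_le M)).compl hP.U_compl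
    rw [← (P1type_iff hPM).1 h] at h3
    have hσ := sigmaCore_isPi M p hp (hd.trans (card_dvd_of_le h3.le))
    exact (norm_le_norm_piCoreOf {p} U).trans (norm_sigma_Sylow hσ (Msigma_syl hM hσ
      ((nil_isPiHallOf_piCoreOf hP.U_nilpotent {p}).trans_single h3 (h3.isPi p hp hd))))
  · by_contra h'
    have hU := (hnP1 h').2
    exact h.elim (fun h => h' ((trivg_kappa_compl hM hU).1 h)) (BGsummaryC1 hM hU hP.W₁_ne).2
  · by_cases h : IsMP1 M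
    exacts [Or.inl ((P1type_iff hPM).1 h), Or.inr (hnP1 h)]

theorem typeF_Fmax (hM : IsCoatom M) (h : OfTypeF M U) : IsMF M := by
  obtain ⟨⟨-, -, d⟩, -, U₀, hU₀, e, hF⟩ := h
  obtain ⟨K, hK⟩ := exists_hall (kappa M) (mmax_sol hM)
  by_contra hn
  have hK1 : K ≠ ⊥ := mt (trivg_kappa hM hK).1 hn
  obtain ⟨h1, -, -, h2, -⟩ := Ptype_cyclics ((trivgPmax hM hK).2 hK1) hK
  obtain ⟨p, hp, hd⟩ := exists_prime_dvd_card hK1
  have hκ := hK.isPi p hp hd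
  have h3 : p ∣ Nat.card U := ((Nat.Prime.dvd_mul hp).1 (d.card_mul ▸ hd.trans
    (card_dvd_of_le hK.le))).resolve_left fun h => kappa_not_sigma hκ
      (sigmaCore_isPi M p hp (h.trans (card_dvd_of_le (Fcore_sub_Msigma hM))))
  obtain ⟨x, hx, ho⟩ := exists_mem_orderOf_eq hp h3
  have h4 : p ∣ Nat.card U₀ := by
    refine dvd_trans ?_ Group.exponent_dvd_nat_card
    rw [e, ← ho, ← Subgroup.orderOf_mk x hx]
    exact Monoid.order_dvd_exponent _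
  obtain ⟨X, hX⟩ := exists_pnElem_one hp h4
  obtain ⟨g, hg, hle⟩ := hK.exists_le_conj (mmax_sol hM) (hX.le.trans (hU₀.trans d.right_le))
    (isPi_of_isPGroup_mem hp hX.isPGroup hκ)
  have h5 := hF.reg.inf_cent hX.le (hX.ne_bot hp)
  refine h1 ((conj_eq_bot_iff (g := g)).1 (le_bot_iff.1 ((le_inf ?_ ?_).trans h5.le)))
  · rw [← conj_eq_self (self_le_norm_fittingHallOf M hg)]
    exact conj_mono g h2
  · refine le_trans (conj_mono g inf_le_right) ?_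
    rw [conj_centralizer]
    exact cent_anti hle

omit [MFT G] in
theorem typeP_der2_iff (hP : IsTypePWith M W₁ U W₂) :
    ⁅⁅M, M⁆, ⁅M, M⁆⁆ ≤ MF[M] ↔ IsMulCommutative U := by
  have d : Sdprod MF[M] U ⁅M, M⁆ :=
    ⟨hP.U_compl, (der1_le M).trans (self_le_norm_fittingHallOf M)⟩
  refine ⟨fun h => comm_iff_le_cent.2 (le_cent_iff_commutator_eq_bot.2 (le_bot_iff.1 ?_)),
    d.commutator_le⟩
  rw [← d.inf_eq]
  exact le_inf ((commutator_mono d.right_le d.right_le).trans h) (der1_le U)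

omit [MFT G] in
theorem typeP_U_eq_bot_iff (hP : IsTypePWith M W₁ U W₂) : U = ⊥ ↔ MF[M] = ⁅M, M⁆ :=
  (Sdprod.eq_left_iff ⟨hP.U_compl, (der1_le M).trans (self_le_norm_fittingHallOf M)⟩).symm

theorem s16_nonTI_Fcore (hM : IsCoatom M) (h : ¬ NormedTI (sharp MF[M]) ⊤ M) :
    ∃ g, g ∉ M ∧ F[M] ⊓ cj[g] F[M] ≠ ⊥ := by
  obtain ⟨g, hg, h1⟩ := s15_nonTI_exists hM (fittingHallOf_le M) (self_le_norm_fittingHallOf M)
    (mmax_Fcore_neq1 hM) h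
  exact ⟨g, hg, ne_bot_of_le h1 (inf_le_inf (fittingHallOf_le_fittingOf M)
    (conj_mono g (fittingHallOf_le_fittingOf M)))⟩

open scoped Classical in
private theorem s16_P1_type (hM : IsMP1 M) : FTtype M =
    if MF[M] = Mσ[M] then 5 else if ⁅⁅M, M⁆, ⁅M, M⁆⁆ ≤ MF[M] then 3 else 4 := by
  unfold FTtype
  rw [if_neg hM.1.2, if_neg (not_not.2 ((P1type_iff hM.1).1 hM))]

private theorem s16_spec (hM : IsCoatom M) : FTtypeSpec (FTtype M) M := by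
  obtain ⟨K, hK⟩ := exists_hall (kappa M) (mmax_sol hM)
  rcases mmax_type_cases hM with h | h | h
  · rw [(FTtype_Fmax hM).1 h]
    obtain ⟨U, hU⟩ := ex_kappa_compl hM hK
    obtain rfl := (trivg_kappa hM hK).2 h
    have hU1 : U ≠ ⊥ := fun h' => s15_F_not_P h ((trivg_kappa_compl hM hU).1 h').1
    have e := Fcore_eq_Msigma_of_not_P1 hM fun h' => s15_F_not_P h h'.1
    obtain ⟨-, -, dM, -⟩ := kappa_compl_context hM hU
    rw [sup_bot_eq, ← e] at dM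
    refine ⟨U, ⟨⟨mmax_Fcore_neq1 hM, hU1, dM⟩, e ▸ kappa_compl_typeF hM hU hU1⟩, ?_⟩
    rw [or_iff_not_imp_left]
    intro hT
    obtain ⟨g, hg, h1⟩ := s16_nonTI_Fcore hM hT
    obtain ⟨φ⟩ := dM.nonempty_equiv_quo
    rcases (nonTI_Fitting_structure hM hg rfl h1).2.2.2.2 with h2 | ⟨p, hp, -, hσ, -, -, h2, h3⟩
    · exact Or.inl h2.2
    · exact Or.inr ⟨Monoid.exponent_eq_of_mulEquiv φ ▸
        h3.resolve_right fun h' => s15_F_not_P h h'.2.1.1, p, hp, e ▸ (pi_Msigma hM hp).2 hσ, h2⟩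
  · obtain ⟨U, hP⟩ := exists_typeP h.1 hK
    have e := (P1type_iff h.1).1 h
    have hn := (typePfacts hM hP).2.2.2.2.1.1 h
    rw [s16_P1_type h]
    by_cases h1 : MF[M] = Mσ[M]
    · rw [if_pos h1]
      refine ⟨_, _, _, hP, (typeP_U_eq_bot_iff hP).2 (h1.trans e), ?_⟩
      rw [or_iff_not_imp_left]
      intro hT
      obtain ⟨g, hg, h2⟩ := s16_nonTI_Fcore hM hT
      have d := s16_typeP_sdprod hP
      rw [← e, ← h1] at d
      obtain ⟨φ⟩ := d.nonempty_equiv_quo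
      rcases (nonTI_Fitting_structure hM hg rfl h2).2.2.2.2 with
        h2 | ⟨p, hp, -, hσ, -, -, h2, h3 | h3⟩
      · exact absurd h.1 (s15_F_not_P h2.1)
      · have hd := h1 ▸ (pi_Msigma hM hp).2 hσ
        have := hP.W₁_cyclic
        exact Or.inl ⟨p, hp, hd, by
          rw [← IsCyclic.exponent_eq_card, Monoid.exponent_eq_of_mulEquiv φ]; exact h3 p hp hd, h2⟩
      · exact Or.inr ⟨p, hp, h1 ▸ (pi_Msigma hM hp).2 hσ, h3.1, d.relIndex ▸ h3.2.2, h2⟩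
    obtain ⟨U₀, h₀⟩ := ex_kappa_compl hM hK
    obtain ⟨-, h2, h3⟩ := BGsummaryA8 hM h₀ h1
    have hU1 : U ≠ ⊥ := fun h' => h1 (((typeP_U_eq_bot_iff hP).1 h').trans e.symm)
    rw [if_neg h1, typeP_der2_iff hP]
    split_ifs with h4
    · exact ⟨_, _, _, ⟨hP, hU1, h3, h2⟩, h4, hn.resolve_left hU1⟩
    · exact ⟨_, _, _, ⟨hP, hU1, h3, h2⟩, h4, hn.resolve_left hU1⟩
  · rw [(FTtype_P2max hM).1 h]
    obtain ⟨U, hP⟩ := exists_typeP h.1 hK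
    have hn : ¬ IsMP1 M := fun h' => s15_P1_not_P2 h' h
    obtain ⟨e, hU⟩ := (typePfacts hM hP).2.2.2.2.2.resolve_left (mt (P1type_iff h.1).2 hn)
    have hU1 : U ≠ ⊥ := mt (trivg_kappa_compl hM hU).1 hn
    obtain ⟨h1, h2, -⟩ := BGsummaryC10 hM hU hP.W₁_ne hU1
    obtain ⟨h3, h4⟩ := BGsummaryC1 hM hU hP.W₁_ne
    have e' : MF[⁅M, M⁆] = MF[M] := le_antisymm
      (fittingHallOf_le_of_normal_hall (hK.compl hP.W₁_compl.symm) (self_le_norm_der1 M))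
      ((le_inf le_rfl hP.U_compl.left_le).trans (fittingHallOf_inf_le (der1_le M)))
    refine ⟨_, _, _, ⟨hP, hU1, h1, h2⟩, h3, h4, ?_, e'⟩
    unfold OfTypeF
    rw [e']
    exact ⟨⟨mmax_Fcore_neq1 hM, hU1, hP.U_compl,
      (der1_le M).trans (self_le_norm_fittingHallOf M)⟩, e ▸ kappa_compl_typeF hM hU hU1⟩

/-- Proposition 16.1 -/
theorem FTtypeP (hM : IsCoatom M) (i : ℕ) : FTtype M = i ↔ FTtypeSpec i M := by
  classical
  refine ⟨fun h => h ▸ s16_spec hM, fun h => ?_⟩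
  have key : ∀ W₁ U W₂, OfTypeII_IV M W₁ U W₂ → N[U] ≤ M →
      FTtype M = if IsMulCommutative U then 3 else 4 := fun W₁ U W₂ h hn => by
    have h1 := (typePfacts hM h.1).2.2.2.2.1.2 (Or.inr hn)
    rw [s16_P1_type h1, if_neg fun e => h.2.1 ((typeP_U_eq_bot_iff h.1).2
      (e.trans ((P1type_iff h1.1).1 h1))), typeP_der2_iff h.1]
  match i, h with
  | 1, ⟨U, h⟩ => exact (FTtype_Fmax hM).1 (typeF_Fmax hM h.1)
  | 2, ⟨W₁, U, W₂, h, _, hn, _⟩ =>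
    obtain ⟨h1, -, -, -, h2, -⟩ := typePfacts hM h.1
    exact (FTtype_P2max hM).1 ⟨h1, fun h' => (h2.1 ⟨h1, h'⟩).elim h.2.1 hn⟩
  | 3, ⟨W₁, U, W₂, h, hc, hn⟩ => rw [key _ _ _ h hn, if_pos hc]
  | 4, ⟨W₁, U, W₂, h, hc, hn⟩ => rw [key _ _ _ h hn, if_neg hc]
  | 5, ⟨W₁, U, W₂, h, hU, _⟩ =>
    have h1 := (typePfacts hM h).2.2.2.2.1.2 (Or.inl hU)
    rw [s16_P1_type h1,
      if_pos (((typeP_U_eq_bot_iff h).1 hU).trans ((P1type_iff h1.1).1 h1).symm)]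
  | 0, h => exact h.elim
  | _ + 6, h => exact h.elim

/-- Theorem I(a) -/
theorem BGsummaryI_fusion (hH : IsPiHallOf π H ⊤) (hn : Group.IsNilpotent H) (hx : x ∈ H)
    (hg : g * x * g⁻¹ ∈ H) : ∃ y ∈ N[H], y * x * y⁻¹ = g * x * g⁻¹ := by
  obtain ⟨M, hM, h⟩ := nilpotent_Hall_sigma hn hH
  obtain ⟨b, hb, e⟩ := sigma_Hall_tame hM (hH.of_le h le_top) hx hg
  exact ⟨b, hb.2, e⟩

/-- Theorem I -/
theorem BGsummaryI : (∀ M : Subgroup G, IsCoatom M → FTtype M = 1) ∨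
    ∃ S T W₁ W₂ U V : Subgroup G, IsCoatom S ∧ IsCoatom T ∧
      IsTypePWith S W₁ U W₂ ∧ IsTypePWith T W₂ V W₁ ∧ S ⊓ T = W₁ ⊔ W₂ ∧
      (∀ M : Subgroup G, IsCoatom M → FTtype M ≠ 1 → Conjg S M ∨ Conjg T M) ∧
      (FTtype S = 2 ∨ FTtype T = 2) ∧ FTtype S ≠ 1 ∧ FTtype T ≠ 1 := by
  rw [or_iff_not_imp_left]
  intro h
  push Not at h
  obtain ⟨S, hS, h⟩ := h
  have hP := (FTtype_Pmax hS).2 h
  obtain ⟨K, hK⟩ := exists_hall (kappa S) (mmax_sol hS)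
  obtain ⟨T, hT, -, -, ⟨hKs, -⟩, ⟨e, -⟩, ⟨-, h1, -⟩, -, h2, h3, -⟩ := Ptype_embedding hP hK rfl
  obtain ⟨U, hU⟩ := exists_typeP hP hK
  obtain ⟨V, hV⟩ := exists_typeP hT hKs
  rw [e] at hV
  exact ⟨S, T, K, _, U, V, hS, hT.1, hU, hV, h1, fun M hM h => h3 M ((FTtype_Pmax hM).2 h),
    h2.imp (fun h => (FTtype_P2max hS).1 h.1) (fun h => (FTtype_P2max hT.1).1 h.1), h,
    (FTtype_Pmax hT.1).1 hT⟩

theorem s16_tiA0A (hM : IsCoatom M) (hx : x ∈ FTsupp0 M \ FTsupp M)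
    (h : g * x * g⁻¹ ∈ FTsupp0 M) : g ∈ M := by
  have hP : IsMP M := (FTtype_Pmax hM).2 fun e => hx.2 (FTsupp0_type1 e ▸ hx.1)
  obtain ⟨K, hK⟩ := exists_hall (kappa M) (mmax_sol hM)
  refine (BGsummaryC9 hP hK).2.mem_of_conj_mem hx (mem_top g) ⟨h, fun h' => ?_⟩
  exact (mem_FTsupp0_diff.1 hx).2.1
    (orderOf_conj g x ▸ IsPiSubgroup.orderOf (isPiSubgroup_piOf _) h'.1)

theorem s16_tiA0 (hM : IsCoatom M) (hx : x ∈ FTsupp0 M) (hx' : x ∉ Mσ[M])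
    (h : g * x * g⁻¹ ∈ FTsupp0 M) : g ∈ M := by
  by_cases h1 : x ∈ FTsupp M
  swap
  · exact s16_tiA0A hM ⟨hx, h1⟩ h
  by_cases h2 : g * x * g⁻¹ ∈ FTsupp M
  swap
  · exact inv_mem_iff.1 (s16_tiA0A (g := g⁻¹) hM ⟨h, h2⟩ (by simpa [mul_assoc] using hx))
  refine (BGsummaryB5 hM ⟨x, h1, hx'⟩).mem_of_conj_mem ⟨h1, hx'⟩ (mem_top g) ⟨h2, fun h3 => hx' ?_⟩
  exact (Msigma_Hall hM).mem_of_normal (le_norm_sigmaCore M) (FTsupp0_sub M hx).1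
    (orderOf_conj g x ▸ IsPiSubgroup.orderOf (sigmaCore_isPi M) h3)

/-- Theorem II -/
theorem BGsummaryII (hM : IsCoatom M) {Z : Set G} (hZ : Z = FTsupp M ∨ Z = FTsupp0 M) :
    (∀ x ∈ Z, ¬ C1[x] ≤ M → x ∈ FTsupp1 M) ∧
    (∀ x ∈ Z, ∀ a, a * x * a⁻¹ ∈ Z → ∃ y ∈ M, y * x * y⁻¹ = a * x * a⁻¹) ∧
    ∀ x ∈ Z, ¬ C1[x] ≤ M →
      UMax C1[x] (sigN x) ∧ (FTtype (sigN x) = 1 ∨ FTtype (sigN x) = 2) ∧
      (Sdprod MF[sigN x] (M ⊓ sigN x) (sigN x) ∧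
        (∀ y ∈ Z, (Nat.card MF[sigN x]).Coprime (Nat.card ↥(M ⊓ C1[y]))) ∧
        (x ∈ FTsupp (sigN x) ∧ x ∉ FTsupp1 (sigN x)) ∧
        Sdprod (MF[sigN x] ⊓ C1[x]) (M ⊓ C1[x]) C1[x]) ∧
      (FTtype (sigN x) = 2 → ∃ E, Frob MF[M] E M ∧ IsCyclic E ∧
        ¬ NormedTI (sharp MF[M]) ⊤ M) := by
  have hZ0 : Z ⊆ FTsupp0 M := by
    rcases hZ with rfl | rfl
    exacts [FTsupp_sub0 M, le_rfl]
  have h1 : ∀ x ∈ Z, ¬ C1[x] ≤ M → x ∈ Mσ[M] := fun x hx hC => by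
    by_contra h
    refine hC fun g hg => s16_tiA0 hM (hZ0 hx) h ?_
    rw [mem_cent1.1 hg, mul_inv_cancel_right]
    exact hZ0 hx
  refine ⟨fun x hx hC => ⟨def_FTcore hM ▸ h1 x hx hC, (FTsupp0_sub M (hZ0 hx)).2⟩,
    fun x hx a ha => ?_, fun x hxZ hC => ?_⟩
  · by_cases h : x ∈ Mσ[M]
    · obtain ⟨b, hb, e⟩ := sigma_Hall_tame hM (isPiHallOf_self (sigmaCore_isPi M)) h
        ((Msigma_Hall hM).mem_of_normal (le_norm_sigmaCore M) (FTsupp0_sub M (hZ0 ha)).1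
          (orderOf_conj a x ▸ IsPiSubgroup.orderOf (sigmaCore_isPi M) h))
      exact ⟨b, hb.1, e⟩
    · exact ⟨a, s16_tiA0 hM (hZ0 hx) h (hZ0 ha), rfl⟩
  have hx := h1 x hxZ hC
  have hx1 := (FTsupp0_sub M (hZ0 hxZ)).2
  obtain ⟨⟨hu, e⟩, ⟨h2, h3, h4⟩, h5, h6⟩ := BGsummaryD4 hM hx hx1 hC
  have hN := hu.coatom
  refine ⟨hu, h4.imp (FTtype_Fmax hN).1 (FTtype_P2max hN).1, ⟨e ▸ sdprod_sigma hN h5,
    fun y hy => ?_, ⟨h2, fun h => h3 (def_FTcore hN ▸ h.1)⟩, e ▸ (BGsummaryD3 hM hx hx1).2.1⟩,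
    fun h => ?_⟩
  · rw [e]
    refine IsPiSubgroup.coprime (sigmaCore_isPi _) fun p hp hd hσ => ?_
    obtain ⟨hF, -, E, hFr⟩ := non_disjoint_signalizer_Frobenius (Msigma_ell1 hM hx hx1)
      ((sigMany_iff hx1 ⟨hM, hx⟩).2 hC) ⟨hM, hx⟩
      fun h => h p hp (hd.trans (card_dvd_of_le inf_le_left)) hσ
    obtain ⟨a, b, z, hz, hz1, hc⟩ := FTsupp0_type1 ((FTtype_Fmax hM).1 hF) ▸ hZ0 hy
    have hy' : y ∈ Mσ[M] := frob_cent1_le hFr (def_FTcore hM ▸ hz) hz1 ⟨FTder_le M a, hc⟩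
    have hc : ¬ Conjg M (sigN x) := fun ⟨g, eg⟩ => h3 ((Msigma_Hall hN).mem_of_normal
      (le_norm_sigmaCore _) (hu.le (self_mem_cent1 x))
      (by rw [eg, sigma_conj]; exact IsPiSubgroup.orderOf (sigmaCore_isPi M) hx))
    exact Set.disjoint_left.1 (sigma_partition hM hN hc)
      (sigmaCore_isPi M p hp (hd.trans (card_dvd_of_le (frob_cent1_le hFr hy' b)))) hσ
  · obtain ⟨hF, ⟨E, a, b⟩, c⟩ := h6 ((FTtype_P2max hN).2 h)
    exact ⟨E, Fcore_eq_Msigma_of_not_P1 hM (fun h => s15_F_not_P hF h.1) ▸ a, b, c⟩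

end Cfsg.Agent.BG
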